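import Mathlib
import Groth.Prelude.Def_RedSub

/-!
# (TQ-QU) for helper43's S16615 squad: uniqueness of fppf quotients `G/H`
-/

set_option autoImplicit false
universe u
open CategoryTheory Limits MonoidalCategory CartesianMonoidalCategory MonObj GrpObj AlgebraicGeometry

namespace Groth.Agent.H33.TQ_QU

/-- a morphism of `Over S` whose underlying morphism is fppf is an epimorphism. -/
lemma epi_of_fppf {S : Scheme.{u}} {X Y : Over S} (f : X ⟶ Y) (h₁ : Surjective f.left)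
    (h₂ : Flat f.left) (h₃ : LocallyOfFinitePresentation f.left) : Epi f := by
  haveI : EffectiveEpi f.left := inferInstance
  haveI : Epi f.left := inferInstance
  exact Over.epi_of_epi_left f

/-- the tensor square of an fppf morphism of `Over S` is an epimorphism. -/
lemma epi_tensorHom {S : Scheme.{u}} {X Y : Over S} (f : X ⟶ Y) (h₁ : Surjective f.left)
    (h₂ : Flat f.left) (h₃ : LocallyOfFinitePresentation f.left) : Epi (f ⊗ₘ f) := by
  haveI : MorphismProperty.IsStableUnderComposition @Surjective.{u} :=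
    ⟨fun f g hf hg => by
      haveI := hf
      haveI := hg
      infer_instance⟩
  apply epi_of_fppf
  · rw [Over.tensorHom_left]
    exact MorphismProperty.pullbackMap (P := @Surjective.{u}) h₁ h₁ (Over.w f).symm (Over.w f).symm
  · rw [Over.tensorHom_left]
    exact MorphismProperty.pullbackMap (P := @Flat) h₂ h₂ (Over.w f).symm (Over.w f).symm
  · rw [Over.tensorHom_left]
    exact MorphismProperty.pullbackMap (P := @LocallyOfFinitePresentation) h₃ h₃
      (Over.w f).symm (Over.w f).symm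

/-- a quotient map factors through any other quotient map. -/
lemma exists_desc {S : Scheme.{u}} {G H Q Q' : Over S} [GrpObj G] [GrpObj H]
    (i : H ⟶ G) (q : G ⟶ Q) (q' : G ⟶ Q')
    (hq : RedSub.IsQuotient i q) (hq' : RedSub.IsQuotient i q') :
    ∃ e : Q ⟶ Q', q ≫ e = q' := by
  obtain ⟨hs, hf, hp, sq⟩ := hq
  haveI := hs
  haveI := hf
  haveI := hp
  haveI : EffectiveEpi q.left := inferInstance
  haveI : Epi q.left := inferInstance
  have sqL : IsPullback (fst G H).left ((G ◁ i) ≫ μ[G]).left q.left q.left :=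
    sq.map (Over.forget S)
  have w' : (fst G H).left ≫ q'.left = ((G ◁ i) ≫ μ[G]).left ≫ q'.left :=
    congrArg (fun f => f.left) hq'.2.2.2.w
  let e₁ : Q.left ⟶ Q'.left := EffectiveEpi.desc q.left q'.left (by
    intro Z g₁ g₂ h
    calc g₁ ≫ q'.left = (sqL.lift g₁ g₂ h ≫ (fst G H).left) ≫ q'.left := by
          rw [sqL.lift_fst]
      _ = sqL.lift g₁ g₂ h ≫ ((G ◁ i) ≫ μ[G]).left ≫ q'.left := by
          rw [Category.assoc, w']
      _ = g₂ ≫ q'.left := by rw [← Category.assoc, sqL.lift_snd])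
  have he₁ : q.left ≫ e₁ = q'.left := EffectiveEpi.fac _ _ _
  refine ⟨Over.homMk e₁ ?_, ?_⟩
  · rw [← cancel_epi q.left, ← Category.assoc, he₁, Over.w, Over.w]
  · ext
    exact he₁

theorem quotient_unique {S : Scheme.{u}} {G H Q Q' : Over S} [GrpObj G] [GrpObj H] [GrpObj Q]
    [GrpObj Q'] (i : H ⟶ G) (q : G ⟶ Q) (q' : G ⟶ Q') [IsMonHom q] [IsMonHom q']
    (hq : RedSub.IsQuotient i q) (hq' : RedSub.IsQuotient i q') :
    ∃ e : Q ≅ Q', IsMonHom e.hom ∧ q ≫ e.hom = q' := by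
  obtain ⟨e, he⟩ := exists_desc i q q' hq hq'
  obtain ⟨e', he'⟩ := exists_desc i q' q hq' hq
  haveI : Epi q := epi_of_fppf q hq.1 hq.2.1 hq.2.2.1
  haveI : Epi q' := epi_of_fppf q' hq'.1 hq'.2.1 hq'.2.2.1
  haveI : Epi (q ⊗ₘ q) := epi_tensorHom q hq.1 hq.2.1 hq.2.2.1
  have h1 : e ≫ e' = 𝟙 Q := by
    rw [← cancel_epi q, ← Category.assoc, he, he', Category.comp_id]
  have h2 : e' ≫ e = 𝟙 Q' := by
    rw [← cancel_epi q', ← Category.assoc, he', he, Category.comp_id]
  refine ⟨⟨e, e', h1, h2⟩, ?_, he⟩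
  constructor
  · show η[Q] ≫ e = η[Q']
    rw [← IsMonHom.one_hom q, Category.assoc, he, IsMonHom.one_hom q']
  · show μ[Q] ≫ e = (e ⊗ₘ e) ≫ μ[Q']
    rw [← cancel_epi (q ⊗ₘ q)]
    calc (q ⊗ₘ q) ≫ μ[Q] ≫ e = μ[G] ≫ q ≫ e := by
          rw [← Category.assoc, ← IsMonHom.mul_hom q, Category.assoc]
      _ = μ[G] ≫ q' := by rw [he]
      _ = (q' ⊗ₘ q') ≫ μ[Q'] := IsMonHom.mul_hom q'
      _ = ((q ≫ e) ⊗ₘ (q ≫ e)) ≫ μ[Q'] := by rw [he]
      _ = (q ⊗ₘ q) ≫ (e ⊗ₘ e) ≫ μ[Q'] := by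
          rw [← tensorHom_comp_tensorHom, Category.assoc]

end Groth.Agent.H33.TQ_QU
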