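import Groth.Agent.H33.RightRes
import Mathlib.Algebra.Homology.HomologySequenceLemmas
import Mathlib.Algebra.Homology.HomologicalComplexAbelian
import Mathlib.Algebra.Homology.Opposite
import Mathlib.CategoryTheory.Abelian.Opposite

/-! Left resolutions of bounded above complexes with terms in a class of objects,
obtained from `RightRes` by passing to the opposite category (helper33). -/

set_option autoImplicit false
universe v u

namespace Groth.Agent.H33.LeftRes

open CategoryTheory CategoryTheory.Limits HomologicalComplex Opposite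

variable {A : Type u} [Category.{v} A] [Abelian A]

section OpNeg

/-- the cochain complex in the opposite category, reindexed by negation -/
noncomputable def opNeg (K : CochainComplex A ℤ) : CochainComplex Aᵒᵖ ℤ where
  X i := op (K.X (-i))
  d i j := (K.d (-j) (-i)).op
  shape i j h := by
    rw [K.shape (-j) (-i) (by
      simp only [ComplexShape.up_Rel] at h ⊢
      omega)]
    rfl
  d_comp_d' i j k _ _ := by rw [← op_comp, K.d_comp_d, op_zero]

/-- the cochain complex in the original category, reindexed by negation -/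
noncomputable def unopNeg (K : CochainComplex Aᵒᵖ ℤ) : CochainComplex A ℤ where
  X i := unop (K.X (-i))
  d i j := (K.d (-j) (-i)).unop
  shape i j h := by
    rw [K.shape (-j) (-i) (by
      simp only [ComplexShape.up_Rel] at h ⊢
      omega)]
    rfl
  d_comp_d' i j k _ _ := by rw [← unop_comp, K.d_comp_d, unop_zero]

noncomputable def unopNegMap {K L : CochainComplex Aᵒᵖ ℤ} (f : K ⟶ L) :
    unopNeg L ⟶ unopNeg K where
  f i := (f.f (-i)).unop
  comm' i j _ := by
    change (f.f (-i)).unop ≫ (K.d (-j) (-i)).unop = (L.d (-j) (-i)).unop ≫ (f.f (-j)).unop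
    rw [← unop_comp, ← unop_comp, f.comm]

lemma unopNegMap_f {K L : CochainComplex Aᵒᵖ ℤ} (f : K ⟶ L) (i : ℤ) :
    (unopNegMap f).f i = (f.f (-i)).unop := rfl

noncomputable def unopOpIso (K : CochainComplex A ℤ) : unopNeg (opNeg K) ≅ K :=
  HomologicalComplex.Hom.isoOfComponents (fun i => K.XIsoOfEq (neg_neg i)) (fun i j _ => by
    change (K.XIsoOfEq (neg_neg i)).hom ≫ K.d i j =
      K.d (- -i) (- -j) ≫ (K.XIsoOfEq (neg_neg j)).hom
    rw [K.XIsoOfEq_hom_comp_d, K.d_comp_XIsoOfEq_hom])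

lemma unopOpIso_hom_f (K : CochainComplex A ℤ) (i : ℤ) :
    (unopOpIso K).hom.f i = (K.XIsoOfEq (neg_neg i)).hom := rfl

lemma quasiIsoAt_unopNegMap {K L : CochainComplex Aᵒᵖ ℤ} (f : K ⟶ L) (i : ℤ)
    (hf : QuasiIsoAt f (-i)) : QuasiIsoAt (unopNegMap f) i := by
  rw [quasiIsoAt_iff' _ (i - 1) i (i + 1) (by simp) (by simp)]
  have h : ShortComplex.QuasiIso
      ((shortComplexFunctor' Aᵒᵖ (ComplexShape.up ℤ) (-(i + 1)) (-i) (-(i - 1))).map f) := by
    rw [← quasiIsoAt_iff' _ _ _ _ (by simp; omega) (by simp; omega)]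
    exact hf
  exact (ShortComplex.quasiIso_unopMap
    ((shortComplexFunctor' Aᵒᵖ (ComplexShape.up ℤ) (-(i + 1)) (-i) (-(i - 1))).map f))

lemma quasiIso_unopNegMap {K L : CochainComplex Aᵒᵖ ℤ} (f : K ⟶ L) (hf : QuasiIso f) :
    QuasiIso (unopNegMap f) := by
  rw [quasiIso_iff]
  intro i
  exact quasiIsoAt_unopNegMap f i inferInstance

lemma isStrictlyGE_opNeg (K : CochainComplex A ℤ) (a : ℤ) [K.IsStrictlyLE a] :
    (opNeg K).IsStrictlyGE (-a) := by
  rw [CochainComplex.isStrictlyGE_iff]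
  intro i hi
  exact (K.isZero_of_isStrictlyLE a (-i) (by omega)).op

lemma isStrictlyLE_unopNeg (K : CochainComplex Aᵒᵖ ℤ) (a : ℤ) [K.IsStrictlyGE (-a)] :
    (unopNeg K).IsStrictlyLE a := by
  rw [CochainComplex.isStrictlyLE_iff]
  intro i hi
  exact (K.isZero_of_isStrictlyGE (-a) (-i) (by omega)).unop

end OpNeg

section Main

variable {P : A → Prop} (hP : ∀ X : A, ∃ (Y : A) (π : Y ⟶ X), P Y ∧ Epi π)

include hP in
/-- bounded above complexes admit degreewise epimorphic quasi-isomorphisms from bounded above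
complexes with terms in a class `P` with enough `P`-quotients -/
theorem exists_resolution_int (hP0 : ∃ Z : A, IsZero Z ∧ P Z) (K : CochainComplex A ℤ) (a : ℤ)
    [K.IsStrictlyLE a] :
    ∃ (L : CochainComplex A ℤ) (α : L ⟶ K), L.IsStrictlyLE a ∧ (∀ n, P (L.X n)) ∧
      (∀ n, Epi (α.f n)) ∧ QuasiIso α := by
  have hI : ∀ X : Aᵒᵖ, ∃ (Y : Aᵒᵖ) (ι : X ⟶ Y), (fun Z : Aᵒᵖ => P (unop Z)) Y ∧ Mono ι := by
    intro X
    obtain ⟨Y, π, hY, hπ⟩ := hP (unop X)
    exact ⟨op Y, π.op, hY, inferInstance⟩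
  have hI0 : ∃ Z : Aᵒᵖ, IsZero Z ∧ (fun Z : Aᵒᵖ => P (unop Z)) Z := by
    obtain ⟨Z, hZ, hPZ⟩ := hP0
    exact ⟨op Z, hZ.op, hPZ⟩
  have : (opNeg K).IsStrictlyGE (-a) := isStrictlyGE_opNeg K a
  obtain ⟨L', α', hL', hPL', hmono, hq⟩ :=
    RightRes.exists_resolution_int (I := fun Z : Aᵒᵖ => P (unop Z)) hI hI0 (opNeg K) (-a)
  refine ⟨unopNeg L', unopNegMap α' ≫ (unopOpIso K).hom, isStrictlyLE_unopNeg L' a,
    fun n => hPL' (-n), ?_, ?_⟩
  · intro n
    have := hmono (-n)
    rw [HomologicalComplex.comp_f, unopNegMap_f, unopOpIso_hom_f]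
    have h1 : Epi (α'.f (-n)).unop := inferInstance
    exact epi_comp' h1 inferInstance
  · have := quasiIso_unopNegMap α' hq
    infer_instance

end Main

section Lemmas

/-- pushing out a short exact sequence `0 → X → I → coker → 0` along `f : X ⟶ Y` -/
lemma pushout_shortExact {𝒞 : Type*} [Category 𝒞] [Abelian 𝒞] {X Y I : 𝒞} (f : X ⟶ Y)
    (α : X ⟶ I) [Mono α] :
    (ShortComplex.mk (pushout.inl f α)
      (pushout.desc (0 : Y ⟶ cokernel α) (cokernel.π α)
        (by rw [comp_zero, cokernel.condition])) (pushout.inl_desc _ _ _)).ShortExact := by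
  refine ShortComplex.ShortExact.mk' ?_ (by dsimp; infer_instance) ?_
  · apply ShortComplex.exact_of_g_is_cokernel
    refine CokernelCofork.IsColimit.ofπ _ _
      (fun {W} t ht => cokernel.desc α (pushout.inr f α ≫ t) (by
        rw [← pushout.condition_assoc, ht, comp_zero])) ?_ ?_
    · intro W t ht
      dsimp
      apply pushout.hom_ext
      · rw [pushout.inl_desc_assoc, zero_comp, ht]
      · rw [pushout.inr_desc_assoc, cokernel.π_desc]
    · intro W t ht m hm
      dsimp at hm ⊢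
      rw [← cancel_epi (cokernel.π α), cokernel.π_desc, ← hm, pushout.inr_desc_assoc]
  · dsimp
    exact epi_of_epi_fac (pushout.inr_desc _ _ _)

/-- pulling back a short exact sequence `0 → ker → P → Z → 0` along `g : Y ⟶ Z` -/
lemma pullback_shortExact {𝒞 : Type*} [Category 𝒞] [Abelian 𝒞] {Y Z P : 𝒞} (g : Y ⟶ Z)
    (γ : P ⟶ Z) [Epi γ] :
    (ShortComplex.mk (pullback.lift (0 : kernel γ ⟶ Y) (kernel.ι γ)
        (by rw [zero_comp, kernel.condition]))
      (pullback.fst g γ) (pullback.lift_fst _ _ _)).ShortExact := by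
  refine ShortComplex.ShortExact.mk' ?_ ?_ (by dsimp; infer_instance)
  · apply ShortComplex.exact_of_f_is_kernel
    refine KernelFork.IsLimit.ofι _ _
      (fun {W} t ht => kernel.lift γ (t ≫ pullback.snd g γ) (by
        rw [Category.assoc, ← pullback.condition, ← Category.assoc, ht, zero_comp])) ?_ ?_
    · intro W t ht
      dsimp
      apply pullback.hom_ext
      · rw [Category.assoc, pullback.lift_fst, comp_zero, ht]
      · rw [Category.assoc, pullback.lift_snd, kernel.lift_ι]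
    · intro W t ht m hm
      dsimp at hm ⊢
      rw [← cancel_mono (kernel.ι γ), kernel.lift_ι, ← hm, Category.assoc, pullback.lift_snd]
  · dsimp
    exact mono_of_mono_fac (pullback.lift_snd _ _ _)

lemma quasiIso_f_of_acyclic {S : ShortComplex (CochainComplex A ℤ)} (hS : S.ShortExact)
    (h : S.X₃.Acyclic) : QuasiIso S.f := by
  rw [quasiIso_iff]
  intro i
  rw [quasiIsoAt_iff_isIso_homologyMap]
  have hz : ∀ j, IsZero (S.X₃.homology j) := fun j => (h j).isZero_homology
  have : Epi (HomologicalComplex.homologyMap S.f i) :=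
    (hS.homology_exact₂ i).epi_f ((hz i).eq_of_tgt _ _)
  have : Mono (HomologicalComplex.homologyMap S.f i) :=
    (hS.homology_exact₁ (i - 1) i (by simp)).mono_g ((hz (i - 1)).eq_of_src _ _)
  exact isIso_of_mono_of_epi _

lemma quasiIso_g_of_acyclic {S : ShortComplex (CochainComplex A ℤ)} (hS : S.ShortExact)
    (h : S.X₁.Acyclic) : QuasiIso S.g := by
  rw [quasiIso_iff]
  intro i
  rw [quasiIsoAt_iff_isIso_homologyMap]
  have hz : ∀ j, IsZero (S.X₁.homology j) := fun j => (h j).isZero_homology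
  have : Mono (HomologicalComplex.homologyMap S.g i) :=
    (hS.homology_exact₂ i).mono_g ((hz i).eq_of_src _ _)
  have : Epi (HomologicalComplex.homologyMap S.g i) :=
    (hS.homology_exact₃ i (i + 1) (by simp)).epi_f ((hz (i + 1)).eq_of_tgt _ _)
  exact isIso_of_mono_of_epi _

open HomologicalComplex.HomologySequence ComposableArrows in
lemma quasiIso_τ₁ {S₁ S₂ : ShortComplex (CochainComplex A ℤ)} (φ : S₁ ⟶ S₂)
    (hS₁ : S₁.ShortExact) (hS₂ : S₂.ShortExact) (h₂ : QuasiIso φ.τ₂) (h₃ : QuasiIso φ.τ₃) :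
    QuasiIso φ.τ₁ := by
  rw [quasiIso_iff]
  intro j
  rw [quasiIsoAt_iff_isIso_homologyMap]
  have hij : (ComplexShape.up ℤ).Rel (j - 1) j := by simp
  have := Abelian.isIso_of_epi_of_isIso_of_isIso_of_mono
    (composableArrows₅_exact hS₁ (j - 1) j hij).δ₀ (composableArrows₅_exact hS₂ (j - 1) j hij).δ₀
    (δ₀Functor.map (mapComposableArrows₅ φ hS₁ hS₂ (j - 1) j hij))
    (inferInstance : Epi (homologyMap φ.τ₂ (j - 1)))
    (inferInstance : IsIso (homologyMap φ.τ₃ (j - 1)))
    (inferInstance : IsIso (homologyMap φ.τ₂ j))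
    (inferInstance : Mono (homologyMap φ.τ₃ j))
  exact this

lemma isStrictlyGE_of_epi {K L : CochainComplex A ℤ} (p : K ⟶ L) [Epi p] (n : ℤ)
    [K.IsStrictlyGE n] : L.IsStrictlyGE n := by
  rw [CochainComplex.isStrictlyGE_iff]
  intro i hi
  rw [IsZero.iff_id_eq_zero, ← cancel_epi (p.f i)]
  exact (K.isZero_of_isStrictlyGE n i hi).eq_of_src _ _

lemma isStrictlyLE_of_mono {K L : CochainComplex A ℤ} (p : K ⟶ L) [Mono p] (n : ℤ)
    [L.IsStrictlyLE n] : K.IsStrictlyLE n := by
  rw [CochainComplex.isStrictlyLE_iff]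
  intro i hi
  rw [IsZero.iff_id_eq_zero, ← cancel_mono (p.f i)]
  exact (L.isZero_of_isStrictlyLE n i hi).eq_of_tgt _ _

lemma isStrictlyLE_pullback {Y Z P : CochainComplex A ℤ} (g : Y ⟶ Z) (γ : P ⟶ Z) (n : ℤ)
    [Y.IsStrictlyLE n] [P.IsStrictlyLE n] : (pullback g γ).IsStrictlyLE n := by
  rw [CochainComplex.isStrictlyLE_iff]
  intro i hi
  have sq := (IsPullback.of_hasPullback g γ).map (HomologicalComplex.eval A (ComplexShape.up ℤ) i)
  rw [IsZero.iff_id_eq_zero]
  apply sq.hom_ext
  · exact (Y.isZero_of_isStrictlyLE n i hi).eq_of_tgt _ _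
  · exact (P.isZero_of_isStrictlyLE n i hi).eq_of_tgt _ _

lemma projective_X₁ {T : ShortComplex (CochainComplex A ℤ)} (hT : T.ShortExact) (k : ℤ)
    (h₂ : Projective (T.X₂.X k)) (h₃ : Projective (T.X₃.X k)) : Projective (T.X₁.X k) := by
  have hk : (T.map (HomologicalComplex.eval A (ComplexShape.up ℤ) k)).ShortExact :=
    hT.map_of_exact _
  have : Projective (T.map (HomologicalComplex.eval A (ComplexShape.up ℤ) k)).X₃ := h₃
  have : Projective (T.X₂.X k) := h₂
  exact Retract.projective (Y := T.X₂.X k)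
    { i := _, r := _, retract := hk.splittingOfProjective.f_r }

end Lemmas

end Groth.Agent.H33.LeftRes
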