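import Groth.Agent.H33.HomQis

/-!
# Duals of bounded complexes of finite projective modules (helper33)

* `sgEquiv P M n m : Cochain P M[0] n ≃ₗ (P^m →ₗ M)` for `m + n = 0`.
* `dual_vanishesOutside`, `dual_termwiseFP`: `Hom•(P, A[0])` is bounded with finite projective
  terms when `P` is.
* `bidual P L : P ⟶ Hom•(Hom•(P, L), L)`, `uval_bidual`.
* `isIso_bidual`: for `P` with finite projective terms, `bidual P A[0]` is an isomorphism.
-/

set_option autoImplicit false
set_option linter.unusedSectionVars false
universe u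
open CategoryTheory CategoryTheory.Limits MonoidalCategory HomologicalComplex CochainComplex
open CochainComplex.HomComplex
attribute [local instance] HasDerivedCategory.standard

namespace Groth.Agent.H33.Bidual
open Groth.Agent.H33.TensorHom Groth.Agent.H33.RHomCxKInj

variable {A : Type u} [CommRing A]

/-- `M[0]`. -/
noncomputable abbrev sg (M : ModuleCat.{u} A) : DRing.Cx A :=
  (HomologicalComplex.single (ModuleCat.{u} A) (ComplexShape.up ℤ) 0).obj M

/-- `M[0]^0 ≅ M`. -/
noncomputable abbrev sgX (M : ModuleCat.{u} A) : (sg M).X 0 ≅ M :=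
  HomologicalComplex.singleObjXSelf (ComplexShape.up ℤ) 0 M

lemma isZero_sg_X (M : ModuleCat.{u} A) (q : ℤ) (hq : q ≠ 0) : IsZero ((sg M).X q) :=
  HomologicalComplex.isZero_single_obj_X _ _ _ _ hq

/-- cochains of degree `n` into a module placed in degree `0` are the linear maps out of the
term of degree `-n`. -/
noncomputable def sgEquiv (P : DRing.Cx A) (M : ModuleCat.{u} A) (n m : ℤ) (h : m + n = 0) :
    Cochain P (sg M) n ≃ₗ[A] (P.X m →ₗ[A] M) where
  toFun z := (z.v m 0 h ≫ (sgX M).hom).hom
  map_add' z z' := by rw [Cochain.add_v, Preadditive.add_comp]; rfl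
  map_smul' a z := by rw [Cochain.smul_v, Linear.smul_comp]; rfl
  invFun g := Cochain.single (ModuleCat.ofHom g ≫ (sgX M).inv) n
  left_inv z := by
    refine Cochain.ext _ _ (fun p q hpq => ?_)
    by_cases hq : q = 0
    · subst hq
      obtain rfl : p = m := by omega
      rw [Cochain.single_v]
      show ModuleCat.ofHom (z.v p 0 h ≫ (sgX M).hom).hom ≫ (sgX M).inv = _
      rw [ModuleCat.ofHom_hom, Category.assoc, Iso.hom_inv_id, Category.comp_id]
    · exact (isZero_sg_X M q hq).eq_of_tgt _ _
  right_inv g := by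
    show ((Cochain.single (ModuleCat.ofHom g ≫ (sgX M).inv) n).v m 0 h ≫ (sgX M).hom).hom = g
    rw [Cochain.single_v, Category.assoc, Iso.inv_hom_id, Category.comp_id]
    rfl

lemma sgEquiv_apply (P : DRing.Cx A) (M : ModuleCat.{u} A) (n m : ℤ) (h : m + n = 0)
    (z : Cochain P (sg M) n) (x : P.X m) :
    sgEquiv P M n m h z x = (sgX M).hom.hom (evc z m 0 h x) := rfl

lemma dual_vanishesOutside (P : DRing.Cx A) (a b : ℤ) (hP : DRing.VanishesOutside P a b)
    (M : ModuleCat.{u} A) : DRing.VanishesOutside (DRing.homCx P (sg M)) (-b) (-a) := by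
  intro n hn
  have hz : IsZero (P.X (-n)) := hP (-n) (by omega)
  have hs : Subsingleton (P.X (-n)) := ModuleCat.subsingleton_of_isZero hz
  have : Subsingleton (P.X (-n) →ₗ[A] M) :=
    ⟨fun f g => LinearMap.ext fun x => by rw [Subsingleton.elim x 0, map_zero, map_zero]⟩
  have : Subsingleton (Cochain P (sg M) n) :=
    (sgEquiv P M n (-n) (by omega)).toEquiv.subsingleton
  exact ModuleCat.isZero_of_iff_subsingleton.2 this

lemma dual_termwiseFP (P : DRing.Cx A) (hfp : DRing.TermwiseFiniteProjective P) :
    DRing.TermwiseFiniteProjective (DRing.homCx P (sg (ModuleCat.of A A))) := by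
  intro n
  haveI := (hfp (-n)).1
  haveI := (hfp (-n)).2
  let e := sgEquiv P (ModuleCat.of A A) n (-n) (by omega)
  haveI : Module.Finite A (P.X (-n) →ₗ[A] (ModuleCat.of A A)) :=
    inferInstanceAs (Module.Finite A (Module.Dual A (P.X (-n))))
  haveI : Module.Projective A (P.X (-n) →ₗ[A] (ModuleCat.of A A)) :=
    inferInstanceAs (Module.Projective A (Module.Dual A (P.X (-n))))
  exact ⟨Module.Finite.equiv e.symm, Module.Projective.of_equiv e.symm⟩

/-- the biduality map `P ⟶ Hom•(Hom•(P, L), L)`. -/
noncomputable def bidual (P L : DRing.Cx A) : P ⟶ DRing.homCx (DRing.homCx P L) L :=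
  cur ((DTen.braidCx P (DRing.homCx P L)).hom ≫ unc (𝟙 (DRing.homCx P L)))

lemma uval_bidual (P L : DRing.Cx A) (n p q : ℤ) (h : n + p = q) (x : P.X n)
    (z : (DRing.homCx P L).X p) :
    uval (bidual P L) n p q h x z = (n * p).negOnePow • evc (toC z) n q (by omega) x := by
  show val ((DTen.braidCx P (DRing.homCx P L)).hom ≫ unc (𝟙 (DRing.homCx P L))) n p q h x z = _
  unfold val comp₂
  rw [HomologicalComplex.comp_f, DTen.ι_braidCx_hom_assoc, Linear.units_smul_comp]
  show (n * p).negOnePow • (((β_ (P.X n) ((DRing.homCx P L).X p)).hom ≫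
    ιTensorObj (DRing.homCx P L) P p n q (by omega) ≫
      (unc (𝟙 (DRing.homCx P L))).f q).hom (x ⊗ₜ[A] z)) = _
  congr 1
  show (ιTensorObj (DRing.homCx P L) P p n q (by omega) ≫
      (unc (𝟙 (DRing.homCx P L))).f q).hom
    ((β_ (P.X n) ((DRing.homCx P L).X p)).hom.hom (x ⊗ₜ[A] z)) = _
  rw [ModuleCat.MonoidalCategory.braiding_hom_apply]
  exact (val_unc (𝟙 (DRing.homCx P L)) p n q (by omega) z x).trans
    (uval_id p n q (by omega) z x)

/-- abstract bijectivity criterion: a map which is the double-dual evaluation up to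
equivalences and a sign is bijective. -/
lemma bijective_of_key {X D W : Type u} [AddCommGroup X] [Module A X] [AddCommGroup D]
    [Module A D] [AddCommGroup W] [Module A W] [Module.Finite A X] [Module.Projective A X]
    (b : X → W) (e1 : D ≃ₗ[A] Module.Dual A X) (e2 : W ≃ₗ[A] Module.Dual A D) (u : ℤˣ)
    (key : ∀ x z, e2 (b x) z = u • e1 z x) : Function.Bijective b := by
  have hsq : u * u = 1 := Int.units_mul_self u
  have hev := Module.bijective_dual_eval A X
  constructor
  · intro x x' hxx
    apply hev.1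
    refine LinearMap.ext (fun ζ => ?_)
    show ζ x = ζ x'
    have h1 := key x (e1.symm ζ)
    have h2 := key x' (e1.symm ζ)
    rw [hxx, h2, LinearEquiv.apply_symm_apply] at h1
    have h3 := congrArg (fun t => u • t) h1
    simp only [smul_smul, hsq, one_smul] at h3
    exact h3.symm
  · intro w
    let Λ : Module.Dual A (Module.Dual A X) := u • ((e2 w).comp e1.symm.toLinearMap)
    obtain ⟨x, hx⟩ := hev.2 Λ
    refine ⟨x, e2.injective (LinearMap.ext (fun z => ?_))⟩
    rw [key x z]
    have h3 : (e1 z) x = Λ (e1 z) := by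
      rw [← hx]
      rfl
    rw [h3]
    show u • (u • (e2 w) (e1.symm (e1 z))) = _
    rw [smul_smul, hsq, one_smul, LinearEquiv.symm_apply_apply]

section Iso

variable (P : DRing.Cx A) (n : ℤ)

/-- the key formula for the biduality map with values in `A[0]`. -/
lemma sgEquiv_bidual (x : P.X n) (z : Cochain P (sg (ModuleCat.of A A)) (-n)) :
    sgEquiv (DRing.homCx P (sg (ModuleCat.of A A))) (ModuleCat.of A A) n (-n) (by omega)
        (toC (((bidual P (sg (ModuleCat.of A A))).f n).hom x)) z =
      (n * -n).negOnePow •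
        sgEquiv P (ModuleCat.of A A) (-n) n (by omega) z x := by
  have h1 : evc (toC (((bidual P (sg (ModuleCat.of A A))).f n).hom x)) (-n) 0 (by omega) z =
      (n * -n).negOnePow • evc z n 0 (by omega) x :=
    uval_bidual P (sg (ModuleCat.of A A)) n (-n) 0 (by omega) x z
  show (sgX (ModuleCat.of A A)).hom.hom
      (evc (toC (((bidual P (sg (ModuleCat.of A A))).f n).hom x)) (-n) 0 (by omega) z) =
    (n * -n).negOnePow • (sgX (ModuleCat.of A A)).hom.hom (evc z n 0 (by omega) x)
  rw [h1, Units.smul_def, map_zsmul, ← Units.smul_def]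

lemma bijective_bidual_f [Module.Finite A (P.X n)] [Module.Projective A (P.X n)] :
    Function.Bijective ((bidual P (sg (ModuleCat.of A A))).f n).hom :=
  bijective_of_key (A := A) (X := P.X n) (D := Cochain P (sg (ModuleCat.of A A)) (-n))
    (W := Cochain (DRing.homCx P (sg (ModuleCat.of A A))) (sg (ModuleCat.of A A)) n)
    (fun x => toC (((bidual P (sg (ModuleCat.of A A))).f n).hom x))
    (sgEquiv P (ModuleCat.of A A) (-n) n (by omega))
    (sgEquiv (DRing.homCx P (sg (ModuleCat.of A A))) (ModuleCat.of A A) n (-n) (by omega))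
    (n * -n).negOnePow (fun x z => sgEquiv_bidual P n x z)

end Iso

/-- the biduality map into `A[0]` is an isomorphism for complexes with finite projective
terms. -/
theorem isIso_bidual (P : DRing.Cx A) (hfp : DRing.TermwiseFiniteProjective P) :
    IsIso (bidual P (sg (ModuleCat.of A A))) := by
  haveI : ∀ n, IsIso ((bidual P (sg (ModuleCat.of A A))).f n) := fun n => by
    haveI := (hfp n).1
    haveI := (hfp n).2
    exact (ConcreteCategory.isIso_iff_bijective _).2 (bijective_bidual_f P n)
  exact HomologicalComplex.Hom.isIso_of_components _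

end Groth.Agent.H33.Bidual
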