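import Mathlib

set_option autoImplicit false
universe u

namespace Groth.Agent.H33.SN_NI

theorem isFractionRing_integralClosure (A : Type u) [CommRing A] :
    IsFractionRing (integralClosure A (FractionRing A)) (FractionRing A) := by
  set Q := FractionRing A
  set B := integralClosure A Q
  have hAQ : Function.Injective (algebraMap A Q) := IsFractionRing.injective A Q
  have hunitA : ∀ s : A, s ∈ nonZeroDivisors A → IsUnit (algebraMap A Q s) := fun s hs =>
    IsLocalization.map_units Q (⟨s, hs⟩ : nonZeroDivisors A)
  have hcoe : ∀ b : B, algebraMap B Q b = (b : Q) := fun _ => rfl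
  have hAB : ∀ a : A, ((algebraMap A B a : B) : Q) = algebraMap A Q a := fun _ => rfl
  -- s nzd in A ⇒ algebraMap s nzd in B
  have hnzdB : ∀ s : A, s ∈ nonZeroDivisors A → algebraMap A B s ∈ nonZeroDivisors B := by
    intro s hs
    rw [mem_nonZeroDivisors_iff_right]
    intro b hb
    have h1 : (b : Q) * algebraMap A Q s = 0 := by
      have := congrArg (fun t : B => (t : Q)) hb
      simpa using this
    have h2 : (b : Q) = 0 := (hunitA s hs).mul_left_eq_zero.mp h1
    exact Subtype.ext h2
  refine ⟨?_, ?_, ?_⟩
  · -- map_units
    rintro ⟨β, hβ⟩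
    obtain ⟨⟨a, s⟩, has⟩ := IsLocalization.surj (nonZeroDivisors A) (β : Q)
    -- has : β * algebraMap s = algebraMap a
    have ha : a ∈ nonZeroDivisors A := by
      rw [mem_nonZeroDivisors_iff_right]
      intro c hc
      -- c * a = 0
      have h1 : (algebraMap A B (s * c)) * β = 0 := by
        apply Subtype.ext
        show algebraMap A Q (s * c) * (β : Q) = 0
        have : (β : Q) * algebraMap A Q (s : A) = algebraMap A Q a := has
        calc algebraMap A Q (s * c) * (β : Q)
            = algebraMap A Q c * ((β : Q) * algebraMap A Q (s : A)) := by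
              rw [map_mul]; ring
          _ = algebraMap A Q (c * a) := by rw [this, map_mul]
          _ = 0 := by rw [hc, map_zero]
      have h2 : algebraMap A B (s * c) = 0 := (mem_nonZeroDivisors_iff_right.mp hβ) _ h1
      have h3 : algebraMap A Q ((s : A) * c) = 0 := by
        have := congrArg (fun t : B => (t : Q)) h2
        simpa using this
      have h4 : (s : A) * c = 0 := hAQ (by rw [h3, map_zero])
      have h5 : c * (s : A) = 0 := by rw [mul_comm]; exact h4
      exact (mem_nonZeroDivisors_iff_right.mp s.2) c h5
    have hu : IsUnit ((β : Q) * algebraMap A Q (s : A)) := by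
      have : (β : Q) * algebraMap A Q (s : A) = algebraMap A Q a := has
      rw [this]; exact hunitA a ha
    exact isUnit_of_mul_isUnit_left hu
  · -- surj
    intro z
    obtain ⟨⟨a, s⟩, has⟩ := IsLocalization.surj (nonZeroDivisors A) z
    exact ⟨(algebraMap A B a, ⟨algebraMap A B s, hnzdB s s.2⟩), has⟩
  · -- exists_of_eq
    intro x y hxy
    exact ⟨1, by rw [Subtype.ext hxy]⟩

theorem normalization_props (A : Type u) [CommRing A] [IsReduced A] [IsNoetherianRing A]
    (hfin : Module.Finite A (integralClosure A (FractionRing A))) :
    IsReduced (integralClosure A (FractionRing A)) ∧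
      IsNoetherianRing (integralClosure A (FractionRing A)) ∧
      IsIntegrallyClosed (integralClosure A (FractionRing A)) := by
  refine ⟨?_, ?_, ?_⟩
  · exact isReduced_of_injective (integralClosure A (FractionRing A)).val Subtype.val_injective
  · exact IsNoetherianRing.of_finite A _
  · haveI := isFractionRing_integralClosure A
    rw [isIntegrallyClosed_iff_isIntegrallyClosedIn (FractionRing A)]
    infer_instance

end Groth.Agent.H33.SN_NI
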