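import Mathlib
import Groth.Prelude.Def_HTop2

set_option autoImplicit false
universe u

namespace Groth.Agent.H33.SN_T1

theorem mem_range_of_sq_cube {A C : Type u} [CommRing A] [CommRing C] [IsReduced C] [Algebra A C]
    (hinj : Function.Injective (algebraMap A C)) (hA : HTop.IsSeminormalRing A) (z : C)
    (h2 : z ^ 2 ∈ (algebraMap A C).range) (h3 : z ^ 3 ∈ (algebraMap A C).range) :
    z ∈ (algebraMap A C).range := by
  obtain ⟨x, hx⟩ := h2
  obtain ⟨y, hy⟩ := h3
  have hxy : x ^ 3 = y ^ 2 := by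
    apply hinj
    rw [map_pow, map_pow, hx, hy]; ring
  obtain ⟨a, ⟨hxa, hya⟩, -⟩ := hA x y hxy
  refine ⟨a, ?_⟩
  have hw2 : (algebraMap A C a) ^ 2 = z ^ 2 := by rw [← map_pow, ← hxa, hx]
  have hw3 : (algebraMap A C a) ^ 3 = z ^ 3 := by rw [← map_pow, ← hya, hy]
  have hnil : (algebraMap A C a - z) ^ 3 = 0 := by
    linear_combination 4 * hw3 + (-3 * z - 3 * algebraMap A C a) * hw2
  have h0 : algebraMap A C a - z = 0 := IsReduced.eq_zero _ ⟨3, hnil⟩
  exact sub_eq_zero.mp h0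

end Groth.Agent.H33.SN_T1
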