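import Groth.Agent.H33.RlimSite

/-!
# `E ≅ R lim τ_{≥ -n} E` under cohomological-dimension hypotheses (Stacks 0D64-type results)
-/

set_option autoImplicit false
universe w' w v u

namespace Groth.Agent.H33.RlimTrunc

open CategoryTheory Limits Opposite DerivedCategory
open Groth.Agent.H5.HDULib

section Tri

open Pretriangulated

variable {D : Type u} [Category.{v} D] [Preadditive D] [HasZeroObject D] [HasShift D ℤ]
  [∀ n : ℤ, (CategoryTheory.shiftFunctor D n).Additive] [Pretriangulated D]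

theorem exists_isRlimVia (K : ℕ → D) (t : ∀ n, K (n + 1) ⟶ K n) [HasProduct K] :
    ∃ (L : D) (a : ∀ n, L ⟶ K n), CohCx.IsRlimVia K t L a := by
  obtain ⟨L, α, c, hT⟩ := distinguished_cocone_triangle₁
    (Pi.lift fun n => Pi.π K n - Pi.π K (n + 1) ≫ t n)
  refine ⟨L, fun n => α ≫ Pi.π K n, ?_⟩
  have hα : Pi.lift (fun n => α ≫ Pi.π K n) = α := by
    apply Pi.hom_ext
    intro n
    rw [Pi.lift_π]
  unfold CohCx.IsRlimVia
  rw [hα]
  exact ⟨c, hT⟩

theorem isRlimVia_of_iso (K : ℕ → D) (t : ∀ n, K (n + 1) ⟶ K n) [HasProduct K] (L : D)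
    (a : ∀ n, L ⟶ K n) (hL : CohCx.IsRlimVia K t L a) (E : D) (φ : E ⟶ L) [IsIso φ] :
    CohCx.IsRlimVia K t E (fun n => φ ≫ a n) := by
  obtain ⟨c, hT⟩ := hL
  unfold CohCx.IsRlimVia
  refine ⟨c ≫ (inv φ)⟦(1 : ℤ)⟧', ?_⟩
  obtain ⟨e1, he1⟩ : ∃ e1 : E ≅ L, e1.hom = φ := ⟨asIso φ, rfl⟩
  refine isomorphic_distinguished _ hT _
    (Triangle.isoMk _ _ e1 (Iso.refl _) (Iso.refl _) ?_ ?_ ?_)
  · change Pi.lift (fun n => φ ≫ a n) ≫ 𝟙 _ = e1.hom ≫ Pi.lift a
    rw [Category.comp_id, he1]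
    exact Pi.hom_ext _ _ (fun n => by rw [Pi.lift_π, Category.assoc, Pi.lift_π])
  · change (Pi.lift fun n => Pi.π K n - Pi.π K (n + 1) ≫ t n) ≫ 𝟙 _ =
      𝟙 _ ≫ (Pi.lift fun n => Pi.π K n - Pi.π K (n + 1) ≫ t n)
    rw [Category.comp_id, Category.id_comp]
  · change (c ≫ (inv φ)⟦(1 : ℤ)⟧') ≫ (e1.hom)⟦(1 : ℤ)⟧' = 𝟙 _ ≫ c
    rw [he1, Category.assoc, ← Functor.map_comp, IsIso.inv_hom_id, CategoryTheory.Functor.map_id,
      Category.comp_id, Category.id_comp]

theorem exists_lift (K : ℕ → D) (t : ∀ n, K (n + 1) ⟶ K n) [HasProduct K] (L : D)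
    (a : ∀ n, L ⟶ K n) (hL : CohCx.IsRlimVia K t L a) (E : D) (p : ∀ n, E ⟶ K n)
    (hp : ∀ n, p (n + 1) ≫ t n = p n) : ∃ φ : E ⟶ L, ∀ n, φ ≫ a n = p n := by
  obtain ⟨c, hT⟩ := hL
  have h0 : Pi.lift p ≫ (Pi.lift fun n => Pi.π K n - Pi.π K (n + 1) ≫ t n) = 0 := by
    apply Pi.hom_ext
    intro n
    rw [Category.assoc, Pi.lift_π, Preadditive.comp_sub, Pi.lift_π, ← Category.assoc, Pi.lift_π,
      hp, sub_self, zero_comp]
  obtain ⟨(φ : E ⟶ L), hφ⟩ := Triangle.coyoneda_exact₂ _ hT (Pi.lift p) h0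
  refine ⟨φ, fun n => ?_⟩
  have hφ' : Pi.lift p = φ ≫ Pi.lift a := hφ
  have h1 : Pi.lift p ≫ Pi.π K n = (φ ≫ Pi.lift a) ≫ Pi.π K n := by rw [hφ']
  rw [Pi.lift_π, Category.assoc, Pi.lift_π] at h1
  exact h1.symm

/-- Hom exact sequence consequences of the vanishing of `Hom(P, Z[m-1])`. -/
theorem hom_inj_surj (T : Triangle D) (hT : T ∈ distTriang D) (P : D) (m : ℤ)
    (hs : Subsingleton (P ⟶ T.obj₃⟦m - 1⟧)) :
    Function.Injective (Preadditive.rightComp P (T.mor₁⟦m⟧')) ∧
      Function.Surjective (Preadditive.rightComp P (T.mor₁⟦m - 1⟧')) := by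
  haveI := hs
  let F := preadditiveCoyoneda.obj (op P)
  constructor
  · refine (injective_iff_map_eq_zero _).2 ?_
    intro y hy
    have hy' : y ≫ T.mor₁⟦m⟧' = 0 := hy
    have ex := F.homologySequence_exact₁ T hT (m - 1) m (by omega)
    rw [ShortComplex.ab_exact_iff] at ex
    obtain ⟨(w : P ⟶ T.obj₃⟦m - 1⟧), hw⟩ := ex y hy'
    have hw0 : w = 0 := Subsingleton.elim _ _
    have hw' : F.homologySequenceδ T (m - 1) m (by omega) w = y := hw
    rw [← hw', hw0]
    exact (F.homologySequenceδ T (m - 1) m (by omega)).hom.map_zero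
  · intro x
    have ex := F.homologySequence_exact₂ T hT (m - 1)
    rw [ShortComplex.ab_exact_iff] at ex
    have hx : x ≫ T.mor₂⟦m - 1⟧' = 0 := Subsingleton.elim _ _
    obtain ⟨(y : P ⟶ T.obj₁⟦m - 1⟧), hy⟩ := ex x hx
    exact ⟨y, hy⟩

theorem transition_injective (K : ℕ → D) (t : ∀ n, K (n + 1) ⟶ K n) (P : D) (m : ℤ) (nV : ℕ)
    (h : ∀ n, nV ≤ n → Function.Injective (Preadditive.rightComp P ((t n)⟦m⟧'))) (k : ℕ) :
    Function.Injective (Preadditive.rightComp P ((CohCx.transition K t nV k)⟦m⟧')) := by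
  induction k with
  | zero =>
    intro x y hxy
    have e : ∀ z : P ⟶ (K (nV + 0))⟦m⟧, z ≫ (𝟙 (K nV))⟦m⟧' = z := fun z =>
      (congrArg (fun g => z ≫ g) ((CategoryTheory.shiftFunctor D m).map_id (K nV))).trans
        (Category.comp_id z)
    have hxy' : x ≫ (𝟙 (K nV))⟦m⟧' = y ≫ (𝟙 (K nV))⟦m⟧' := hxy
    exact (e x).symm.trans (hxy'.trans (e y))
  | succ k ih =>
    intro x y hxy
    have hxy0 : x ≫ (t (nV + k) ≫ CohCx.transition K t nV k)⟦m⟧' =
        y ≫ (t (nV + k) ≫ CohCx.transition K t nV k)⟦m⟧' := hxy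
    have hxy' : (x ≫ (t (nV + k))⟦m⟧') ≫ (CohCx.transition K t nV k)⟦m⟧' =
        (y ≫ (t (nV + k))⟦m⟧') ≫ (CohCx.transition K t nV k)⟦m⟧' := by
      rw [Category.assoc, Category.assoc, ← Functor.map_comp]
      exact hxy0
    exact h (nV + k) (Nat.le_add_right _ _) (ih hxy')

end Tri

section ML

theorem limOneIsZero_of_surjective (A : ℕ → Type u) [∀ n, AddCommGroup (A n)]
    (t : ∀ n, A (n + 1) →+ A n) (hs : ∀ n, Function.Surjective (t n)) :
    CohCx.LimOneIsZero A t := by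
  intro x
  let a : ∀ n, A n := fun n =>
    Nat.rec (motive := A) 0 (fun n an => Classical.choose (hs n (an - x n))) n
  refine ⟨a, funext fun n => ?_⟩
  have h1 : t n (a (n + 1)) = a n - x n := Classical.choose_spec (hs n (a n - x n))
  change a n - t n (a (n + 1)) = x n
  rw [h1, sub_sub_cancel]

theorem limOneIsZero_of_eventually_surjective : ∀ (n0 : ℕ) (A : ℕ → Type u)
    [∀ n, AddCommGroup (A n)] (t : ∀ n, A (n + 1) →+ A n)
    (_ : ∀ n, n0 ≤ n → Function.Surjective (t n)), CohCx.LimOneIsZero A t := by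
  intro n0
  induction n0 with
  | zero => intro A _ t hs; exact limOneIsZero_of_surjective A t (fun n => hs n (Nat.zero_le n))
  | succ n0 ih =>
    intro A _ t hs x
    obtain ⟨a', ha'⟩ := ih (fun n => A (n + 1)) (fun n => t (n + 1))
      (fun n hn => hs (n + 1) (by omega)) (fun n => x (n + 1))
    refine ⟨fun n => match n with
      | 0 => x 0 + t 0 (a' 0)
      | n + 1 => a' n, funext fun n => ?_⟩
    cases n with
    | zero =>
      change x 0 + t 0 (a' 0) - t 0 (a' 0) = x 0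
      rw [add_sub_cancel_right]
    | succ n => exact congrFun ha' n

end ML

section Trunc

variable {A : Type u} [Category.{v} A] [Abelian A] [HasDerivedCategory.{w} A]
  (E : DerivedCategory A)

theorem isIso_homology_truncGEπ (a j : ℤ) (hj : a ≤ j) :
    IsIso ((homologyFunctor A j).map ((TStructure.t.truncGEπ a).app E)) := by
  have hT : Pretriangulated.Triangle.mk ((TStructure.t.truncLTι a).app E)
      ((TStructure.t.truncGEπ a).app E) ((TStructure.t.truncGEδLT a).app E) ∈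
      Pretriangulated.distinguishedTriangles := TStructure.t.triangleLTGE_distinguished a E
  have h1 : IsZero ((homologyFunctor A j).obj ((TStructure.t.truncLT a).obj E)) :=
    isZero_of_isLE _ (a - 1) j (by omega)
  have h2 : IsZero ((homologyFunctor A (j + 1)).obj ((TStructure.t.truncLT a).obj E)) :=
    isZero_of_isLE _ (a - 1) (j + 1) (by omega)
  have hm : Mono ((homologyFunctor A j).map ((TStructure.t.truncGEπ a).app E)) :=
    (HomologySequence.mono_homologyMap_mor₂_iff _ hT j).2 (h1.eq_of_src _ _)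
  have he : Epi ((homologyFunctor A j).map ((TStructure.t.truncGEπ a).app E)) :=
    (HomologySequence.epi_homologyMap_mor₂_iff _ hT j (j + 1) rfl).2 (h2.eq_of_tgt _ _)
  exact isIso_of_mono_of_epi _

theorem isZero_homology_truncGE (a j : ℤ) (hj : j < a) :
    IsZero ((homologyFunctor A j).obj ((TStructure.t.truncGE a).obj E)) :=
  isZero_of_isGE _ a j hj

theorem isIso_homology_natTransTruncGEOfLE (a b j : ℤ) (h : a ≤ b) (hj : b ≤ j) :
    IsIso ((homologyFunctor A j).map ((TStructure.t.natTransTruncGEOfLE a b h).app E)) := by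
  have h1 := isIso_homology_truncGEπ E a j (by omega)
  have h2 := isIso_homology_truncGEπ E b j hj
  have h3 : (homologyFunctor A j).map ((TStructure.t.truncGEπ a).app E) ≫
      (homologyFunctor A j).map ((TStructure.t.natTransTruncGEOfLE a b h).app E) =
      (homologyFunctor A j).map ((TStructure.t.truncGEπ b).app E) := by
    rw [← Functor.map_comp, TStructure.t.π_natTransTruncGEOfLE_app]
  rw [← h3] at h2
  exact IsIso.of_isIso_comp_left ((homologyFunctor A j).map ((TStructure.t.truncGEπ a).app E)) _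

theorem cone_truncGE (a b : ℤ) (hab : a + 1 = b) (Z : DerivedCategory A)
    (u : (TStructure.t.truncGE b).obj E ⟶ Z)
    (v : Z ⟶ ((TStructure.t.truncGE a).obj E)⟦(1 : ℤ)⟧)
    (hT : Pretriangulated.Triangle.mk ((TStructure.t.natTransTruncGEOfLE a b (by omega)).app E) u v ∈
      Pretriangulated.distinguishedTriangles) :
    Z.IsGE (a - 1) ∧ Z.IsLE (a - 1) ∧
      Nonempty ((homologyFunctor A (a - 1)).obj Z ≅ (homologyFunctor A a).obj E) := by
  have hab' : a ≤ b := by omega
  have h1a : a - 1 + 1 = a := by omega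
  have hu0 : ∀ j, a ≤ j → (homologyFunctor A j).map u = 0 := by
    intro j hj
    by_cases hjb : b ≤ j
    · have h1 := isIso_homology_natTransTruncGEOfLE E a b j hab' hjb
      have h2 : Epi ((homologyFunctor A j).map
        ((TStructure.t.natTransTruncGEOfLE a b hab').app E)) := inferInstance
      exact (HomologySequence.epi_homologyMap_mor₁_iff _ hT j).1 h2
    · exact (isZero_homology_truncGE E b j (by omega)).eq_of_src _ _
  have hδ0 : ∀ j, a ≤ j → HomologySequence.δ (Pretriangulated.Triangle.mk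
      ((TStructure.t.natTransTruncGEOfLE a b hab').app E) u v) j (j + 1) rfl = 0 := by
    intro j hj
    have h1 := isIso_homology_natTransTruncGEOfLE E a b (j + 1) hab' (by omega)
    have h2 : Mono ((homologyFunctor A (j + 1)).map
      ((TStructure.t.natTransTruncGEOfLE a b hab').app E)) := inferInstance
    exact (HomologySequence.mono_homologyMap_mor₁_iff _ hT j (j + 1) rfl).1 h2
  have hLE : Z.IsLE (a - 1) := by
    rw [isLE_iff]
    intro j hj
    exact (HomologySequence.exact₃ _ hT j (j + 1) rfl).isZero_of_both_zeros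
      (hu0 j (by omega)) (hδ0 j (by omega))
  have hGE : Z.IsGE (a - 1) := by
    rw [isGE_iff]
    intro j hj
    exact (HomologySequence.exact₃ _ hT j (j + 1) rfl).isZero_of_both_zeros
      ((isZero_homology_truncGE E b j (by omega)).eq_of_src _ _)
      ((isZero_homology_truncGE E a (j + 1) (by omega)).eq_of_tgt _ _)
  refine ⟨hGE, hLE, ?_⟩
  have hm : Mono (HomologySequence.δ (Pretriangulated.Triangle.mk
      ((TStructure.t.natTransTruncGEOfLE a b hab').app E) u v) (a - 1) a h1a) :=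
    (HomologySequence.exact₃ _ hT (a - 1) a h1a).mono_g
      ((isZero_homology_truncGE E b (a - 1) (by omega)).eq_of_src _ _)
  have he : Epi (HomologySequence.δ (Pretriangulated.Triangle.mk
      ((TStructure.t.natTransTruncGEOfLE a b hab').app E) u v) (a - 1) a h1a) :=
    (HomologySequence.exact₁ _ hT (a - 1) a h1a).epi_f
      ((isZero_homology_truncGE E b a (by omega)).eq_of_tgt _ _)
  have hi := isIso_of_mono_of_epi (HomologySequence.δ (Pretriangulated.Triangle.mk
      ((TStructure.t.natTransTruncGEOfLE a b hab').app E) u v) (a - 1) a h1a)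
  have hi2 := isIso_homology_truncGEπ E a a le_rfl
  exact ⟨(@asIso _ _ _ _ _ hi) ≪≫ (@asIso _ _ _ _ _ hi2).symm⟩

variable [HasExt.{w'} A]

/-- If `Z` is concentrated in degree `q` with cohomology `Y0`, then `Hom(P[0], Z[j])` is
`Ext^{j-q}(P, Y0)`; in particular it vanishes when the latter does. -/
theorem subsingleton_hom_shift (Z : DerivedCategory A) (q : ℤ) (hGE : Z.IsGE q) (hLE : Z.IsLE q)
    (Y0 : A) (e0 : (homologyFunctor A q).obj Z ≅ Y0) (P : A) (j : ℤ) (k : ℕ) (hk : q + k = j)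
    (hs : Subsingleton (Abelian.Ext.{w'} P Y0 k)) :
    Subsingleton ((singleFunctor A 0).obj P ⟶ Z⟦j⟧) := by
  haveI := hGE
  haveI := hLE
  obtain ⟨Y, ⟨e⟩⟩ := exists_iso_singleFunctor_obj_of_isGE_of_isLE Z q
  let eY : Y ≅ Y0 := ((singleFunctorCompHomologyFunctorIso A q).app Y).symm ≪≫
    (homologyFunctor A q).mapIso e.symm ≪≫ e0
  let e' : Z ≅ (singleFunctor A q).obj Y0 := e ≪≫ (singleFunctor A q).mapIso eY
  let s1 : ((singleFunctor A q).obj Y0)⟦j⟧ ≅ (singleFunctor A (q - j)).obj Y0 :=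
    ((singleFunctors A).shiftIso j (q - j) q (by omega)).app Y0
  let s2 : ((singleFunctor A 0).obj Y0)⟦(k : ℤ)⟧ ≅ (singleFunctor A (q - j)).obj Y0 :=
    ((singleFunctors A).shiftIso (k : ℤ) (q - j) 0 (by omega)).app Y0
  let eZ : Z⟦j⟧ ≅ ((singleFunctor A 0).obj Y0)⟦(k : ℤ)⟧ :=
    (CategoryTheory.shiftFunctor _ j).mapIso e' ≪≫ s1 ≪≫ s2.symm
  haveI : Subsingleton ((singleFunctor A 0).obj P ⟶ ((singleFunctor A 0).obj Y0)⟦(k : ℤ)⟧) :=
    (Abelian.Ext.homEquiv (X := P) (Y := Y0) (n := k)).symm.subsingleton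
  exact ⟨fun f g => by
    rw [← cancel_mono eZ.hom]
    exact Subsingleton.elim _ _⟩

end Trunc

section Site

variable {C : Type u} [SmallCategory C] {J : GrothendieckTopology C}
  [HasDerivedCategory.{u} (Sheaf J AddCommGrpCat.{u})]
  (E : DerivedCategory (Sheaf J AddCommGrpCat.{u}))

theorem toTruncTower_comp (n : ℕ) :
    CohCx.toTruncTower E (n + 1) ≫ CohCx.truncTowerMap E n = CohCx.toTruncTower E n :=
  TStructure.t.π_natTransTruncGEOfLE_app _ _ _ E

theorem step (n : ℕ) (m : ℤ) (W : C) (k : ℕ) (hk : (k : ℤ) = n + 1 + m)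
    (hs : Subsingleton (CohSite.HU (CohCx.HD E (-((n + 1 : ℕ) : ℤ))) k W)) :
    Function.Injective (Preadditive.rightComp
        ((DerivedCategory.singleFunctor (Sheaf J AddCommGrpCat.{u}) 0).obj (CohCx.freeSheaf J W))
        ((CategoryTheory.shiftFunctor _ m).map (CohCx.truncTowerMap E n))) ∧
      Function.Surjective (Preadditive.rightComp
        ((DerivedCategory.singleFunctor (Sheaf J AddCommGrpCat.{u}) 0).obj (CohCx.freeSheaf J W))
        ((CategoryTheory.shiftFunctor _ (m - 1)).map (CohCx.truncTowerMap E n))) := by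
  obtain ⟨Z, u', v', hT⟩ := Pretriangulated.distinguished_cocone_triangle (CohCx.truncTowerMap E n)
  obtain ⟨hGE, hLE, ⟨e0⟩⟩ := cone_truncGE E (-((n + 1 : ℕ) : ℤ)) (-(n : ℤ))
    (by push_cast; ring) Z u' v' hT
  have hs' : Subsingleton (Abelian.Ext.{u} (CohCx.freeSheaf J W)
      (CohCx.HD E (-((n + 1 : ℕ) : ℤ))) k) := hs
  have hsZ := subsingleton_hom_shift Z (-((n + 1 : ℕ) : ℤ) - 1) hGE hLE
    (CohCx.HD E (-((n + 1 : ℕ) : ℤ))) e0 (CohCx.freeSheaf J W) (m - 1) k
    (by rw [hk]; push_cast; ring) hs'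
  exact hom_inj_surj _ hT _ m hsZ

theorem milnor_conditions (m : ℤ) (W : C) (p : ℤ → ℤ) (nV : ℕ) (h1 : -m ≤ nV)
    (h2 : p m - m ≤ nV)
    (hW : ∀ k : ℕ, p m < k → Subsingleton (CohSite.HU (CohCx.HD E (m - k)) k W)) :
    CohCx.LimOneIsZero (fun n => CohCx.HDU (CohCx.truncTower E n) (m - 1) W)
        (fun n => Preadditive.rightComp _
          ((CategoryTheory.shiftFunctor _ (m - 1)).map (CohCx.truncTowerMap E n))) ∧
      ∀ k : ℕ, Function.Injective
        (Preadditive.rightComp _ ((CategoryTheory.shiftFunctor _ m).map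
          (CohCx.transition (CohCx.truncTower E) (CohCx.truncTowerMap E) nV k)) :
          CohCx.HDU (CohCx.truncTower E (nV + k)) m W → CohCx.HDU (CohCx.truncTower E nV) m W) := by
  have hstep : ∀ n : ℕ, nV ≤ n →
      Function.Injective (Preadditive.rightComp
        ((DerivedCategory.singleFunctor (Sheaf J AddCommGrpCat.{u}) 0).obj (CohCx.freeSheaf J W))
        ((CategoryTheory.shiftFunctor _ m).map (CohCx.truncTowerMap E n))) ∧
      Function.Surjective (Preadditive.rightComp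
        ((DerivedCategory.singleFunctor (Sheaf J AddCommGrpCat.{u}) 0).obj (CohCx.freeSheaf J W))
        ((CategoryTheory.shiftFunctor _ (m - 1)).map (CohCx.truncTowerMap E n))) := by
    intro n hn
    have hk : (((n : ℤ) + 1 + m).toNat : ℤ) = n + 1 + m := Int.toNat_of_nonneg (by omega)
    have hs := hW ((n : ℤ) + 1 + m).toNat (by rw [hk]; omega)
    have e : m - (((n : ℤ) + 1 + m).toNat : ℤ) = -((n + 1 : ℕ) : ℤ) := by
      rw [hk]; push_cast; ring
    rw [e] at hs
    exact step E n m W _ hk hs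
  exact ⟨limOneIsZero_of_eventually_surjective nV _ _ (fun n hn => (hstep n hn).2),
    transition_injective _ _ _ m nV (fun n hn => (hstep n hn).1)⟩

theorem surj_of_inj {F G H : Sheaf J AddCommGrpCat.{u}} (Φ : F ⟶ G) (α : G ⟶ H) (π : F ⟶ H)
    (hfac : Φ ≫ α = π) [IsIso π] (V : C) (hinj : Function.Injective (sec J α V)) :
    Function.Surjective (sec J Φ V) := by
  intro γ
  refine ⟨sec J (inv π) V (sec J α V γ), hinj ?_⟩
  rw [← sec_comp J Φ α, hfac, ← sec_comp J (inv π) π, IsIso.inv_hom_id, sec_id]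

theorem surj_of_inj_ab {A' B' C' : AddCommGrpCat.{u}} (f : A' ⟶ B') (g : B' ⟶ C') (h : A' ⟶ C')
    (hfac : f ≫ g = h) [IsIso h] (hinj : Function.Injective g) : Function.Surjective f := by
  intro y
  refine ⟨(inv h) (g y), hinj ?_⟩
  rw [← ConcreteCategory.comp_apply, hfac, ← ConcreteCategory.comp_apply, IsIso.inv_hom_id]
  rfl

end Site

end Groth.Agent.H33.RlimTrunc
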