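import Mathlib
import Groth.Prelude.Def_CohDer
import Groth.Agent.S0476
import Groth.Agent.S0477
import Groth.Agent.H6.CompactPerf1
import Groth.Agent.H56.InjAmp2

/-!
# Brown representability for `D(A)`, `A` Grothendieck abelian: auxiliary results

* `hasDerivedCategorySmall`: `D(A)` is locally `v`-small (via K-injective resolutions), hence there
  is a `HasDerivedCategory.{v} A`.
* `isCompactlyGenerated R`: `D(Mod R)` is compactly generated (by the shifts of `R`).
* `isRepresentable_of_bousfield`: Brown representability passes to a Bousfield localization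
  `LF ⊣ RG`, `RG` fully faithful.
-/

set_option autoImplicit false
universe w v u u₁ u₂
open CategoryTheory CategoryTheory.Limits

namespace Groth.Agent.H33.BrownD

open DerivedCategory

section Small

variable {A : Type u} [Category.{v} A] [Abelian A]

lemma exists_Q_map_eq_of_isKInjective [HasDerivedCategory.{w} A] (K I : CochainComplex A ℤ)
    [I.IsKInjective] (g : Q.obj K ⟶ Q.obj I) : ∃ φ : K ⟶ I, Q.map φ = g := by
  obtain ⟨ψ, hψ⟩ := (CochainComplex.IsKInjective.Qh_map_bijective
    ((HomotopyCategory.quotient A (ComplexShape.up ℤ)).obj K) I).surjective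
    ((quotientCompQhIso A).hom.app K ≫ g ≫ (quotientCompQhIso A).inv.app I)
  obtain ⟨φ, rfl⟩ := (HomotopyCategory.quotient A (ComplexShape.up ℤ)).map_surjective ψ
  refine ⟨φ, ?_⟩
  have nat := (quotientCompQhIso A).hom.naturality φ
  have h1 : (HomotopyCategory.quotient A (ComplexShape.up ℤ) ⋙ Qh).map φ =
      Qh.map ((HomotopyCategory.quotient A (ComplexShape.up ℤ)).map φ) := rfl
  rw [← cancel_epi ((quotientCompQhIso A).hom.app K), ← nat, h1, hψ,
    Category.assoc, Category.assoc, Iso.inv_hom_id_app, Category.comp_id]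

lemma exists_Q_map_eq_of_isKProjective [HasDerivedCategory.{w} A] (P L : CochainComplex A ℤ)
    [P.IsKProjective] (g : Q.obj P ⟶ Q.obj L) : ∃ φ : P ⟶ L, Q.map φ = g := by
  obtain ⟨ψ, hψ⟩ := (CochainComplex.IsKProjective.Qh_map_bijective P
    ((HomotopyCategory.quotient A (ComplexShape.up ℤ)).obj L)).surjective
    ((quotientCompQhIso A).hom.app P ≫ g ≫ (quotientCompQhIso A).inv.app L)
  obtain ⟨φ, rfl⟩ := (HomotopyCategory.quotient A (ComplexShape.up ℤ)).map_surjective ψ
  refine ⟨φ, ?_⟩
  have nat := (quotientCompQhIso A).hom.naturality φ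
  have h1 : (HomotopyCategory.quotient A (ComplexShape.up ℤ) ⋙ Qh).map φ =
      Qh.map ((HomotopyCategory.quotient A (ComplexShape.up ℤ)).map φ) := rfl
  rw [← cancel_epi ((quotientCompQhIso A).hom.app P), ← nat, h1, hψ,
    Category.assoc, Category.assoc, Iso.inv_hom_id_app, Category.comp_id]

lemma isZero_Q_obj_of_exactAt [HasDerivedCategory.{w} A] (L : CochainComplex A ℤ)
    (h : ∀ i, L.ExactAt i) : IsZero (Q.obj L) := by
  haveI : L.IsLE 0 := by
    rw [CochainComplex.isLE_iff]
    intro i _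
    exact h i
  haveI : L.IsGE 1 := by
    rw [CochainComplex.isGE_iff]
    intro i _
    exact h i
  exact DerivedCategory.TStructure.t.isZero (Q.obj L) 0 1 (by omega)

theorem locallySmall_derivedCategory [HasDerivedCategory.{w} A] [IsGrothendieckAbelian.{v} A] :
    LocallySmall.{v} (DerivedCategory A) where
  hom_small X Y := by
    let K := Q.objPreimage X
    let L := Q.objPreimage Y
    let eX : Q.obj K ≅ X := Q.objObjPreimageIso X
    let eY : Q.obj L ≅ Y := Q.objObjPreimageIso Y
    obtain ⟨I, f, hI, hf, -, -⟩ := Groth.Agent.S0476.result L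
    haveI := hI
    haveI := hf
    haveI : IsIso (Q.map f) := by
      rw [isIso_Q_map_iff_quasiIso]
      exact hf
    let Φ : (K ⟶ I) → (X ⟶ Y) := fun φ => eX.inv ≫ Q.map φ ≫ inv (Q.map f) ≫ eY.hom
    have hΦ : Function.Surjective Φ := by
      intro g
      obtain ⟨φ, hφ⟩ := exists_Q_map_eq_of_isKInjective K I (eX.hom ≫ g ≫ eY.inv ≫ Q.map f)
      refine ⟨φ, ?_⟩
      simp only [Φ, hφ, Category.assoc, IsIso.hom_inv_id_assoc, Iso.inv_hom_id, Category.comp_id,
        Iso.inv_hom_id_assoc]
    exact small_of_surjective hΦ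

/-- The derived category of a Grothendieck abelian category is locally small. -/
noncomputable def hasDerivedCategorySmall (A : Type u) [Category.{v} A] [Abelian A]
    [IsGrothendieckAbelian.{v} A] : HasDerivedCategory.{v} A := by
  letI : HasDerivedCategory.{max u v} A := HasDerivedCategory.standard A
  haveI : LocallySmall.{v} (DerivedCategory A) := locallySmall_derivedCategory
  exact MorphismProperty.hasLocalizationOfLocallySmall.{v}
    (HomologicalComplex.quasiIso A (ComplexShape.up ℤ)) (DerivedCategory.Q (C := A))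

end Small

section Ring

variable {R : Type v} [Ring R]

lemma hom_apply_of_comp_eq {M N P : ModuleCat.{v} R} (f : M ⟶ N) (g : N ⟶ P) (h : M ⟶ P)
    (w : f ≫ g = h) (x : M) : g.hom (f.hom x) = h.hom x := by
  subst w; rfl

lemma hom_apply_of_comp_eq_zero {M N P : ModuleCat.{v} R} (f : M ⟶ N) (g : N ⟶ P)
    (w : f ≫ g = 0) (x : M) : g.hom (f.hom x) = 0 := by
  rw [hom_apply_of_comp_eq f g 0 w x]; rfl

variable (R) in
/-- `R` in degree `n`. -/
noncomputable abbrev sR (n : ℤ) : CochainComplex (ModuleCat.{v} R) ℤ :=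
  (HomologicalComplex.single (ModuleCat.{v} R) (ComplexShape.up ℤ) n).obj (ModuleCat.of R R)

variable [HasDerivedCategory.{v} (ModuleCat.{v} R)]

/-- a complex of modules is exact at `i` if `Hom_D(R[-i], L) = 0`. -/
lemma exactAt_of_single_hom_eq_zero (L : CochainComplex (ModuleCat.{v} R) ℤ) (i : ℤ)
    (hv : ∀ ψ : Q.obj (sR R i) ⟶ Q.obj L, ψ = 0) :
    L.ExactAt i := by
  haveI : Projective (ModuleCat.of R R) := (IsProjective.iff_projective _).mp inferInstance
  rw [HomologicalComplex.exactAt_iff_isZero_homology]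
  apply IsZero.of_epi_eq_zero (L.homologyπ i)
  have key : ∀ c : L.cycles i, (L.homologyπ i).hom c = 0 := by
    intro c
    have hcd : (L.d i (i + 1)).hom ((L.iCycles i).hom c) = 0 :=
      hom_apply_of_comp_eq_zero _ _ (L.iCycles_d i (i + 1)) c
    obtain ⟨z, hz1⟩ : ∃ z : ModuleCat.of R R ⟶ L.X i, z.hom (1 : R) = (L.iCycles i).hom c :=
      ⟨ModuleCat.ofHom (LinearMap.toSpanSingleton R _ ((L.iCycles i).hom c)), by simp⟩
    have hz : z ≫ L.d i (i + 1) = 0 := by
      apply ModuleCat.hom_ext
      apply LinearMap.ext_ring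
      simp [hz1, hcd]
    obtain ⟨ψ, hψ⟩ := Groth.Agent.H56.exists_lift_of_single_hom_eq_zero' L (ModuleCat.of R R)
      (i - 1) i (i + 1) (by omega) rfl (fun ψ => hv ψ) z hz
    have h1 : (L.d (i - 1) i).hom (ψ.hom (1 : R)) = (L.iCycles i).hom c :=
      (hom_apply_of_comp_eq ψ (L.d (i - 1) i) z hψ (1 : R)).trans hz1
    have h2 : (L.toCycles (i - 1) i).hom (ψ.hom (1 : R)) = c := by
      apply (ModuleCat.mono_iff_injective (L.iCycles i)).1 inferInstance
      exact (hom_apply_of_comp_eq _ _ _ (L.toCycles_i (i - 1) i) (ψ.hom (1 : R))).trans h1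
    have h3 : (L.homologyπ i).hom ((L.toCycles (i - 1) i).hom (ψ.hom (1 : R))) = 0 :=
      hom_apply_of_comp_eq_zero _ _ (L.toCycles_comp_homologyπ (i - 1) i) (ψ.hom (1 : R))
    rw [h2] at h3
    exact h3
  apply ModuleCat.hom_ext
  apply LinearMap.ext
  intro c
  exact key c

open Groth.Agent.H6 in
/-- Maps from `R[-n]` to a coproduct of complexes are finite sums. -/
lemma finFac_sR (n : ℤ) {I : Type v} (Y : I → CochainComplex (ModuleCat.{v} R) ℤ) :
    DSum.FinFac (Q.obj (sR R n)) (Cofan.mk (Q.obj (∐ Y)) (fun i => Q.map (Sigma.ι Y i)) :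
      Cofan (fun i => Q.obj (Y i))) := by
  classical
  haveI : Projective (ModuleCat.of R R) := (IsProjective.iff_projective _).mp inferInstance
  haveI : (sR R n).IsKProjective := Groth.Agent.H56.isKProjective_single (ModuleCat.of R R) n
  intro g
  obtain ⟨γ, rfl⟩ := exists_Q_map_eq_of_isKProjective (sR R n) (∐ Y) g
  have h1 : ∀ (i : ℤ) (j : I), (Sigma.ι Y j).f i ≫ (Sigma.π Y j).f i = 𝟙 _ := fun i j => by
    rw [← HomologicalComplex.comp_f, Sigma.ι_π_eq_id, HomologicalComplex.id_f]
  have h2 : ∀ (i : ℤ) (j k : I), j ≠ k → (Sigma.ι Y j).f i ≫ (Sigma.π Y k).f i = 0 :=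
    fun i j k h => by
      rw [← HomologicalComplex.comp_f, Sigma.ι_π_of_ne _ h, HomologicalComplex.zero_f]
  let σ : ModuleCat.of R R ≅ (sR R n).X n :=
    (HomologicalComplex.singleObjXSelf (ComplexShape.up ℤ) n (ModuleCat.of R R)).symm
  haveI : Module.Finite R (ModuleCat.of R R) := inferInstanceAs (Module.Finite R R)
  obtain ⟨s, hs⟩ := ModCoprod.exists_finset_of_fg
    (Cofan.mk ((∐ Y).X n) (fun j => (Sigma.ι Y j).f n))
    (Groth.Agent.S0477.xIsColimit Y n) (fun j => (Sigma.π Y j).f n) (h1 n) (h2 n)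
    (ModuleCat.of R R) (σ.hom ≫ γ.f n)
  have hS : ∀ j, j ∉ s → γ ≫ Sigma.π Y j = 0 := by
    intro j hj
    refine HomologicalComplex.hom_ext _ _ (fun i => ?_)
    by_cases hi : i = n
    · subst hi
      have h := hs j hj
      rw [HomologicalComplex.comp_f, HomologicalComplex.zero_f, ← cancel_epi σ.hom, comp_zero,
        ← Category.assoc]
      exact h
    · exact (HomologicalComplex.isZero_single_obj_X (ComplexShape.up ℤ) n _ i hi).eq_of_src _ _
  have hsum : γ = ∑ j ∈ s, (γ ≫ Sigma.π Y j) ≫ Sigma.ι Y j := by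
    rw [← sub_eq_zero]
    refine HomologicalComplex.hom_ext _ _ (fun i => ?_)
    rw [HomologicalComplex.zero_f]
    apply ModCoprod.hom_eq_zero_of_prj
      (Cofan.mk ((∐ Y).X i) (fun j => (Sigma.ι Y j).f i))
      (Groth.Agent.S0477.xIsColimit Y i) (fun j => (Sigma.π Y j).f i) (h1 i) (h2 i)
    intro k
    rw [← HomologicalComplex.comp_f, Preadditive.sub_comp,
      Telescope.sum_comp_prj (Sigma.ι Y) (Sigma.π Y) (fun j => Sigma.ι_π_eq_id Y j)
        (fun j k h => Sigma.ι_π_of_ne Y h) _ (fun j => γ ≫ Sigma.π Y j) k]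
    by_cases hk : k ∈ s
    · rw [if_pos hk, sub_self, HomologicalComplex.zero_f]
    · rw [if_neg hk, sub_zero, hS k hk, HomologicalComplex.zero_f]
  refine ⟨s, fun j => Q.map (γ ≫ Sigma.π Y j), ?_⟩
  conv_lhs => rw [hsum]
  rw [Functor.map_sum]
  refine Finset.sum_congr rfl (fun j _ => ?_)
  rw [Functor.map_comp]
  rfl

open Groth.Agent.H6 in
theorem isCompactObject_sR [HasCoproducts.{v} (DerivedCategory (ModuleCat.{v} R))] (n : ℤ) :
    CohDer.IsCompactObject (Q.obj (sR R n)) := by
  intro ι X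
  apply CompactPerf.bijective_of_finFac
  have hc' := CompactPerf.isColimitOfFamilyIso (Cofan.mk (∐ X) (Sigma.ι X))
    (fun i => Q.objObjPreimageIso (X i)) (coproductIsCoproduct X)
  have hQ := DSum.isColimitQ' (fun i => Q.objPreimage (X i)) (fun i : ι => i)
    Function.bijective_id
  have h1 := finFac_sR (R := R) n (fun i => Q.objPreimage (X i))
  have h2 := CompactPerf.finFac_of_isColimit _ _ hQ hc' h1
  exact CompactPerf.finFac_of_familyIso _ _ h2

theorem generates_sR :
    CohDer.Generates (fun n : ULift.{v} ℤ => Q.obj (sR R n.down)) := by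
  intro K hK
  have hL : ∀ i, (Q.objPreimage K).ExactAt i := fun i =>
    exactAt_of_single_hom_eq_zero _ i (fun ψ => by
      have h := hK ⟨i⟩ 0 (ψ ≫ (Q.objObjPreimageIso K).hom ≫
        (shiftFunctorZero (DerivedCategory (ModuleCat.{v} R)) ℤ).inv.app K)
      rw [← cancel_mono ((Q.objObjPreimageIso K).hom ≫
        (shiftFunctorZero (DerivedCategory (ModuleCat.{v} R)) ℤ).inv.app K), zero_comp]
      exact h)
  exact (isZero_Q_obj_of_exactAt _ hL).of_iso (Q.objObjPreimageIso K).symm

variable (R) in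
theorem isCompactlyGenerated [HasCoproducts.{v} (DerivedCategory (ModuleCat.{v} R))] :
    CohDer.IsCompactlyGenerated (DerivedCategory (ModuleCat.{v} R)) :=
  ⟨ULift.{v} ℤ, fun n => Q.obj (sR R n.down), fun n => isCompactObject_sR n.down, generates_sR⟩

end Ring

section Bousfield

open Pretriangulated Pretriangulated.Opposite Opposite

variable {D₁ : Type u₁} {D₂ : Type u₂} [Category.{v} D₁] [Category.{v} D₂]
  [Preadditive D₁] [HasZeroObject D₁] [HasShift D₁ ℤ] [∀ n : ℤ, (shiftFunctor D₁ n).Additive]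
  [Pretriangulated D₁]
  [Preadditive D₂] [HasZeroObject D₂] [HasShift D₂ ℤ] [∀ n : ℤ, (shiftFunctor D₂ n).Additive]
  [Pretriangulated D₂]
  (LF : D₁ ⥤ D₂) (RG : D₂ ⥤ D₁) (adj : LF ⊣ RG)

include adj in
lemma hom_eq_zero_of_isZero (N : D₁) (hN : IsZero (LF.obj N)) (Z : D₂) (g : N ⟶ RG.obj Z) :
    g = 0 := by
  apply (adj.homEquiv N Z).symm.injective
  exact hN.eq_of_src _ _

variable [LF.CommShift ℤ] [LF.IsTriangulated] [RG.Full] [RG.Faithful]
  (H : D₂ᵒᵖ ⥤ AddCommGrpCat.{v}) [H.IsHomological]

include adj in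
theorem isRepresentable_of_adjunction
    (L : D₁) (rep : (LF.op ⋙ H ⋙ forget AddCommGrpCat.{v}).RepresentableBy L) :
    (H ⋙ forget AddCommGrpCat.{v}).IsRepresentable := by
  let ξ : H.obj (op (LF.obj L)) := rep.homEquiv (𝟙 L)
  have hA : ∀ {Y : D₁} (b : Y ⟶ L), rep.homEquiv b = (H.map (LF.map b).op).hom ξ := by
    intro Y b
    have h := rep.homEquiv_comp b (𝟙 L)
    rw [Category.comp_id] at h
    exact h
  have hAbij : ∀ Y : D₁, Function.Bijective (fun b : Y ⟶ L => (H.map (LF.map b).op).hom ξ) := by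
    intro Y
    have : (fun b : Y ⟶ L => (H.map (LF.map b).op).hom ξ) = rep.homEquiv := by
      funext b
      exact (hA b).symm
    rw [this]
    exact rep.homEquiv.bijective
  have h1 : ∀ (N : D₁), IsZero (LF.obj N) → ∀ g : N ⟶ L, g = 0 := by
    intro N hN g
    haveI : Subsingleton (H.obj (op (LF.obj N))) :=
      AddCommGrpCat.subsingleton_of_isZero (H.map_isZero hN.op)
    exact (hAbij N).1 (Subsingleton.elim _ _)
  haveI hcounit : IsIso adj.counit := inferInstance
  let η : L ⟶ RG.obj (LF.obj L) := adj.unit.app L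
  have htri : LF.map η ≫ adj.counit.app (LF.obj L) = 𝟙 (LF.obj L) :=
    adj.left_triangle_components L
  have hLFη : IsIso (LF.map η) := by
    have h : LF.map η = inv (adj.counit.app (LF.obj L)) := IsIso.eq_inv_of_inv_hom_id htri
    rw [h]
    infer_instance
  haveI hη : IsIso η := by
    obtain ⟨C, b, c, hT⟩ := distinguished_cocone_triangle η
    have hLFC : IsZero (LF.obj C) := by
      have hT' := LF.map_distinguished _ hT
      exact (Triangle.isZero₃_iff_isIso₁ _ hT').2 hLFη
    have hc : c = 0 := by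
      have hN : IsZero (LF.obj (C⟦(-1 : ℤ)⟧)) :=
        IsZero.of_iso ((shiftFunctor D₂ (-1 : ℤ)).map_isZero hLFC)
          ((LF.commShiftIso (-1 : ℤ)).app C)
      have h0 := h1 _ hN ((shiftFunctor D₁ (-1 : ℤ)).map c ≫
        (shiftFunctorCompIsoId D₁ (1 : ℤ) (-1) (by omega)).hom.app L)
      have h0' : (shiftFunctor D₁ (-1 : ℤ)).map c = 0 := by
        rw [← cancel_mono ((shiftFunctorCompIsoId D₁ (1 : ℤ) (-1) (by omega)).hom.app L), h0,
          zero_comp]
      exact (shiftFunctor D₁ (-1 : ℤ)).map_injective (by rw [h0', Functor.map_zero])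
    obtain ⟨g, hg⟩ : ∃ g : C ⟶ RG.obj (LF.obj L), 𝟙 C = g ≫ b :=
        Triangle.coyoneda_exact₃ _ hT (𝟙 C) (by
      show 𝟙 C ≫ c = 0
      rw [hc, comp_zero])
    have hg0 : g = 0 := hom_eq_zero_of_isZero LF RG adj C hLFC (LF.obj L) g
    have hC : IsZero C := by
      rw [IsZero.iff_id_eq_zero]
      rw [hg, hg0, zero_comp]
    exact (Triangle.isZero₃_iff_isIso₁ _ hT).1 hC
  have hbij : ∀ X : D₂, Function.Bijective (fun a : X ⟶ LF.obj L => (H.map a.op).hom ξ) := by
    intro X
    let ε := adj.counit.app X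
    have hK : ∀ a : X ⟶ LF.obj L, inv ε ≫ LF.map (RG.map a ≫ inv η) = a := by
      intro a
      rw [IsIso.inv_comp_eq]
      have h2 : LF.map (inv η) = adj.counit.app (LF.obj L) := by
        rw [← cancel_epi (LF.map η), ← LF.map_comp, IsIso.hom_inv_id, LF.map_id]
        exact htri.symm
      rw [LF.map_comp, h2]
      exact adj.counit.naturality a
    have e : (fun a : X ⟶ LF.obj L => (H.map a.op).hom ξ) =
        (fun y => (H.map (inv ε).op).hom y) ∘
          (fun b : RG.obj X ⟶ L => (H.map (LF.map b).op).hom ξ) ∘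
            (fun a : X ⟶ LF.obj L => RG.map a ≫ inv η) := by
      funext a
      simp only [Function.comp_apply]
      have h3 : (H.map a.op).hom ξ = (H.map (inv ε ≫ LF.map (RG.map a ≫ inv η)).op).hom ξ := by
        rw [hK a]
      rw [h3, op_comp, H.map_comp]
      rfl
    rw [e]
    refine Function.Bijective.comp ?_ (Function.Bijective.comp (hAbij _) ?_)
    · exact ConcreteCategory.bijective_of_isIso (H.map (inv ε).op)
    · constructor
      · intro a a' h
        exact RG.map_injective ((cancel_mono (inv η)).1 h)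
      · intro b
        refine ⟨RG.preimage (b ≫ η), ?_⟩
        simp only [Functor.map_preimage, Category.assoc, IsIso.hom_inv_id, Category.comp_id]
  exact ⟨LF.obj L, ⟨{ homEquiv := fun {X} => Equiv.ofBijective _ (hbij X)
                      homEquiv_comp := fun {X X'} f g => by
                        simp only [Equiv.ofBijective_apply]
                        show (H.map (f ≫ g).op).hom ξ = (H.map f.op).hom ((H.map g.op).hom ξ)
                        rw [op_comp, H.map_comp]
                        rfl }⟩⟩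

include adj in
theorem isRepresentable_of_bousfield
    (hBrown : ∀ (H' : D₁ᵒᵖ ⥤ AddCommGrpCat.{v}) [H'.IsHomological]
      [∀ ι : Type v, PreservesLimitsOfShape (Discrete ι) H'],
      (H' ⋙ forget AddCommGrpCat.{v}).IsRepresentable)
    [∀ ι : Type v, PreservesLimitsOfShape (Discrete ι) H] :
    (H ⋙ forget AddCommGrpCat.{v}).IsRepresentable := by
  haveI : ∀ ι : Type v, PreservesLimitsOfShape (Discrete ι) LF.op := fun ι => by
    haveI : PreservesColimitsOfSize.{v, v} LF := adj.leftAdjoint_preservesColimits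
    exact preservesLimitsOfShape_op (Discrete ι) LF
  haveI : (LF.op ⋙ H ⋙ forget AddCommGrpCat.{v}).IsRepresentable := hBrown (LF.op ⋙ H)
  exact isRepresentable_of_adjunction LF RG adj H _
    (Functor.representableBy (LF.op ⋙ H ⋙ forget AddCommGrpCat.{v}))

end Bousfield

end Groth.Agent.H33.BrownD
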