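import Groth.Prelude.Def_CohCx
import Groth.Agent.H5.HDU.Site
import Groth.Agent.S0943
import Groth.Agent.S0476
import Groth.Agent.H33.BrownD

/-!
# Derived limits on a site: injectivity of `H^m(R lim K_n) → H^m(K_n)` on sections

Tools for Stacks, Cohomology on Sites 21.23 (and its topological-space twin).
-/

set_option autoImplicit false
universe w v u

namespace Groth.Agent.H33.RlimSite

open CategoryTheory Limits Opposite DerivedCategory CochainComplex HomComplex
open Groth.Agent.H5.HDULib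

section Cls

variable {A : Type u} [Category.{v} A] [Abelian A] [HasDerivedCategory.{w} A]

theorem cls_postcomp (P : A) (M N : CochainComplex A ℤ) [M.IsKInjective] [N.IsKInjective]
    (n : ℤ) (f : M ⟶ N) (a : P ⟶ M.X n) (ha : a ≫ M.d n (n + 1) = 0) :
    cls P M n a ha ≫ (Q.map f)⟦n⟧' = cls P N n (a ≫ f.f n)
      (by rw [Category.assoc, f.comm, ← Category.assoc, ha, zero_comp]) := by
  have nat : Q.map (f⟦n⟧') ≫ (Q.commShiftIso n).hom.app N =
      (Q.commShiftIso n).hom.app M ≫ (Q.map f)⟦n⟧' := (Q.commShiftIso n).hom.naturality f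
  rw [cls, cls, Θ_mk, Θ_mk, Cocycle.fromSingleMk_postcomp a (zero_add n) (n + 1) rfl ha f,
    Cocycle.equivHomShift_symm_postcomp, Functor.map_comp, Category.assoc, Category.assoc, nat]

end Cls

section Models

variable {A : Type u} [Category.{v} A] [Abelian A] [IsGrothendieckAbelian.{v} A]
  [HasDerivedCategory.{w} A]

theorem exists_kinj_model (L : DerivedCategory A) :
    ∃ (M : CochainComplex A ℤ) (_ : M.IsKInjective), Nonempty (Q.obj M ≅ L) := by
  obtain ⟨M, g, hM, hg, -, -⟩ := Groth.Agent.S0476.result (Q.objPreimage L)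
  have : IsIso (Q.map g) := (isIso_Q_map_iff_quasiIso _ g).2 hg
  exact ⟨M, hM, ⟨(asIso (Q.map g)).symm ≪≫ Q.objObjPreimageIso L⟩⟩

theorem exists_models {L K' : DerivedCategory A} (a : L ⟶ K') (m : ℤ) :
    ∃ (M N : CochainComplex A ℤ) (_ : M.IsKInjective) (_ : N.IsKInjective)
      (eL : Q.obj M ≅ L) (eN : Q.obj N ≅ K') (f : M ⟶ N)
      (θL : (homologyFunctor A m).obj L ≅ M.homology m)
      (θN : (homologyFunctor A m).obj K' ≅ N.homology m),
      Q.map f = eL.hom ≫ a ≫ eN.inv ∧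
      θL.hom ≫ HomologicalComplex.homologyMap f m = (homologyFunctor A m).map a ≫ θN.hom := by
  obtain ⟨M, hM, ⟨eL⟩⟩ := exists_kinj_model L
  obtain ⟨N, hN, ⟨eN⟩⟩ := exists_kinj_model K'
  have := hM
  have := hN
  obtain ⟨f, hf⟩ := Groth.Agent.H33.BrownD.exists_Q_map_eq_of_isKInjective M N
    (eL.hom ≫ a ≫ eN.inv)
  obtain ⟨ΦM, ΦN, nat⟩ : ∃ (ΦM : (homologyFunctor A m).obj (Q.obj M) ≅ M.homology m)
      (ΦN : (homologyFunctor A m).obj (Q.obj N) ≅ N.homology m),
      (homologyFunctor A m).map (Q.map f) ≫ ΦN.hom =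
        ΦM.hom ≫ HomologicalComplex.homologyMap f m :=
    ⟨(homologyFunctorFactors A m).app M, (homologyFunctorFactors A m).app N,
      homologyFunctorFactors_hom_naturality f m⟩
  refine ⟨M, N, hM, hN, eL, eN, f, (homologyFunctor A m).mapIso eL.symm ≪≫ ΦM,
    (homologyFunctor A m).mapIso eN.symm ≪≫ ΦN, hf, ?_⟩
  rw [Iso.trans_hom, Iso.trans_hom, Functor.mapIso_hom, Functor.mapIso_hom, Iso.symm_hom,
    Iso.symm_hom, Category.assoc, ← nat, hf]
  simp only [Functor.map_comp, Category.assoc]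
  rw [← Functor.map_comp_assoc, Iso.inv_hom_id, CategoryTheory.Functor.map_id, Category.id_comp]

end Models

section Milnor

open Pretriangulated

variable {D : Type u} [Category.{v} D] [Preadditive D] [HasZeroObject D] [HasShift D ℤ]
  [∀ n : ℤ, (CategoryTheory.shiftFunctor D n).Additive] [Pretriangulated D]

theorem isRlimVia_comp (K : ℕ → D) (t : ∀ n, K (n + 1) ⟶ K n) [HasProduct K] (L : D)
    (a : ∀ n, L ⟶ K n) (hL : CohCx.IsRlimVia K t L a) (n : ℕ) : a (n + 1) ≫ t n = a n := by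
  obtain ⟨c, hT⟩ := hL
  have h0 : Pi.lift a ≫ Pi.lift (fun n => Pi.π K n - Pi.π K (n + 1) ≫ t n) = 0 :=
    comp_distTriang_mor_zero₁₂ _ hT
  have h1 : (Pi.lift a ≫ Pi.lift (fun n => Pi.π K n - Pi.π K (n + 1) ≫ t n)) ≫ Pi.π K n =
      a n - a (n + 1) ≫ t n := by
    rw [Category.assoc, Pi.lift_π, Preadditive.comp_sub, Pi.lift_π, ← Category.assoc, Pi.lift_π]
  rw [h0, zero_comp] at h1
  exact (sub_eq_zero.1 h1.symm).symm

theorem isRlimVia_transition (K : ℕ → D) (t : ∀ n, K (n + 1) ⟶ K n) [HasProduct K] (L : D)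
    (a : ∀ n, L ⟶ K n) (hL : CohCx.IsRlimVia K t L a) (n k : ℕ) :
    a (n + k) ≫ CohCx.transition K t n k = a n := by
  induction k with
  | zero => exact Category.comp_id _
  | succ k ih =>
    change a (n + k + 1) ≫ t (n + k) ≫ CohCx.transition K t n k = a n
    rw [← Category.assoc, isRlimVia_comp K t L a hL, ih]

theorem milnor_kill (K : ℕ → D) (t : ∀ n, K (n + 1) ⟶ K n) [HasProduct K] (L : D)
    (a : ∀ n, L ⟶ K n) (hL : CohCx.IsRlimVia K t L a) (Z : D) (m : ℤ) (nV : ℕ)
    (h1 : CohCx.LimOneIsZero (fun n => Z ⟶ (K n)⟦m - 1⟧)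
      (fun n => Preadditive.rightComp _ ((t n)⟦m - 1⟧')))
    (h2 : ∀ k : ℕ, Function.Injective
      (Preadditive.rightComp _ ((CohCx.transition K t nV k)⟦m⟧') :
        (Z ⟶ (K (nV + k))⟦m⟧) → (Z ⟶ (K nV)⟦m⟧)))
    (y : Z ⟶ L⟦m⟧) (hy : y ≫ (a nV)⟦m⟧' = 0) : y = 0 := by
  have hdown : ∀ n, y ≫ (a (n + 1))⟦m⟧' = 0 → y ≫ (a n)⟦m⟧' = 0 := by
    intro n hn
    rw [← isRlimVia_comp K t L a hL n, Functor.map_comp, ← Category.assoc, hn, zero_comp]
  have hup : ∀ k, y ≫ (a (nV + k))⟦m⟧' = 0 := by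
    intro k
    apply h2 k
    change (y ≫ (a (nV + k))⟦m⟧') ≫ (CohCx.transition K t nV k)⟦m⟧' =
      0 ≫ (CohCx.transition K t nV k)⟦m⟧'
    rw [Category.assoc, ← Functor.map_comp, isRlimVia_transition K t L a hL, hy, zero_comp]
  have hlow : ∀ d n, n + d = nV → y ≫ (a n)⟦m⟧' = 0 := by
    intro d
    induction d with
    | zero => intro n hn; rw [Nat.add_zero] at hn; subst hn; exact hy
    | succ d ih => intro n hn; exact hdown n (ih (n + 1) (by omega))
  have hall : ∀ n, y ≫ (a n)⟦m⟧' = 0 := by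
    intro n
    by_cases hn : nV ≤ n
    · obtain ⟨k, rfl⟩ := Nat.exists_eq_add_of_le hn
      exact hup k
    · exact hlow (nV - n) n (by omega)
  exact (Groth.Agent.S0943.rlim_hom_lifts K t L a hL Z m).2 h1 y hall

end Milnor

section Site

variable {C : Type u} [SmallCategory C] (J : GrothendieckTopology C)

/-- In an exact short complex of abelian sheaves, sections killed by `g` are locally in the image
of `f`. -/
theorem locally_of_exact (S : ShortComplex (Sheaf J AddCommGrpCat.{u})) (hS : S.Exact) (U : C)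
    (t : S.X₂.obj.obj (op U)) (ht : sec J S.g U t = 0) :
    ∃ R ∈ J U, ∀ (V : C) (i : V ⟶ U), R i →
      ∃ r : S.X₁.obj.obj (op V), sec J S.f V r = (S.X₂.obj.map i.op).hom t := by
  rw [S.exact_iff_epi_kernel_lift, ← Sheaf.isLocallySurjective_iff_epi'] at hS
  obtain ⟨s, hs⟩ := exists_sec_kernel J S.g U t ht
  refine ⟨Presheaf.imageSieve (kernel.lift S.g S.f S.zero).hom s, hS.imageSieve_mem s, ?_⟩
  rintro V i ⟨r, hr⟩
  refine ⟨r, ?_⟩
  have h1 : sec J S.f V r =
      sec J (kernel.ι S.g) V (sec J (kernel.lift S.g S.f S.zero) V r) := by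
    rw [← sec_comp, kernel.lift_ι]
  have hr' : sec J (kernel.lift S.g S.f S.zero) V r = ((kernel S.g).obj.map i.op).hom s := hr
  rw [h1, hr', sec_map, hs]

/-- Local representation of a homology section killed by `H^m(f)`. -/
theorem local_cycle (M N : CochainComplex (Sheaf J AddCommGrpCat.{u}) ℤ) (f : M ⟶ N) (m : ℤ)
    (V : C) (γ : (M.homology m).obj.obj (op V))
    (hγ : sec J (HomologicalComplex.homologyMap f m) V γ = 0) :
    ∃ T ∈ J V, ∀ (W : C) (i : W ⟶ V), T i →
      ∃ (z : (M.X m).obj.obj (op W)) (b : (N.X (m - 1)).obj.obj (op W)),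
        sec J (M.d m (m + 1)) W z = 0 ∧
        sec J (f.f m) W z = sec J (N.d (m - 1) m) W b ∧
        ∀ r : (M.X (m - 1)).obj.obj (op W), sec J (M.d (m - 1) m) W r = z →
          ((M.homology m).obj.map i.op).hom γ = 0 := by
  have hls : Sheaf.IsLocallySurjective (M.homologyπ m) :=
    (Sheaf.isLocallySurjective_iff_epi' _ (M.homologyπ m)).2 inferInstance
  have h1 : ∀ (W : C) (i : W ⟶ V), (Presheaf.imageSieve (M.homologyπ m).hom γ) i →
      ∃ ζ : (M.cycles m).obj.obj (op W),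
        sec J (M.homologyπ m) W ζ = ((M.homology m).obj.map i.op).hom γ := fun W i hi => hi
  choose ζ hζ using h1
  have hex : (ShortComplex.mk (N.toCycles (m - 1) m) (N.homologyπ m)
      (N.toCycles_comp_homologyπ _ _)).Exact :=
    ShortComplex.exact_of_g_is_cokernel _ (N.homologyIsCokernel (m - 1) m (by simp))
  have h2 : ∀ (W : C) (i : W ⟶ V) (hi : (Presheaf.imageSieve (M.homologyπ m).hom γ) i),
      ∃ R ∈ J W, ∀ (W' : C) (j : W' ⟶ W), R j →
        ∃ b : (N.X (m - 1)).obj.obj (op W'), sec J (N.toCycles (m - 1) m) W' b =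
          ((N.cycles m).obj.map j.op).hom
            (sec J (HomologicalComplex.cyclesMap f m) W (ζ W i hi)) := by
    intro W i hi
    apply locally_of_exact J _ hex W (sec J (HomologicalComplex.cyclesMap f m) W (ζ W i hi))
    change sec J (N.homologyπ m) W (sec J (HomologicalComplex.cyclesMap f m) W (ζ W i hi)) = 0
    rw [← sec_comp, ← HomologicalComplex.homologyπ_naturality, sec_comp, hζ, sec_map, hγ,
      map_zero]
  choose R hR hR' using h2
  refine ⟨Sieve.bind (Presheaf.imageSieve (M.homologyπ m).hom γ).arrows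
      (fun W i hi => R W i hi),
    J.bind_covering (hls.imageSieve_mem γ) (fun W i hi => hR W i hi), ?_⟩
  rintro W' k ⟨W, j, i, hi, hj, rfl⟩
  obtain ⟨b, hb⟩ := hR' W i hi W' j hj
  refine ⟨sec J (M.iCycles m) W' (((M.cycles m).obj.map j.op).hom (ζ W i hi)), b, ?_, ?_, ?_⟩
  · rw [← sec_comp, M.iCycles_d, sec_zero]
  · rw [← sec_comp, ← HomologicalComplex.cyclesMap_i, sec_comp, sec_map, ← hb, ← sec_comp,
      N.toCycles_i]
  · intro r hr
    have h3 : sec J (M.toCycles (m - 1) m) W' r = ((M.cycles m).obj.map j.op).hom (ζ W i hi) := by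
      apply sec_injective_of_mono J (M.iCycles m) W'
      rw [← sec_comp, M.toCycles_i, hr]
    rw [op_comp, Functor.map_comp]
    change ((M.homology m).obj.map j.op).hom (((M.homology m).obj.map i.op).hom γ) = 0
    rw [← hζ W i hi, ← sec_map, ← h3, ← sec_comp, M.toCycles_comp_homologyπ, sec_zero]

variable {J}
variable [HasDerivedCategory.{u} (Sheaf J AddCommGrpCat.{u})]

/-- The core local statement: a section of `H^m(L)` over `V` killed by `H^m(a_{nV})` restricts to
zero on every member `W` of a suitable covering sieve for which the Milnor conditions hold. -/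
theorem core (K : ℕ → DerivedCategory (Sheaf J AddCommGrpCat.{u})) (t : ∀ n, K (n + 1) ⟶ K n)
    [HasProduct K] (L : DerivedCategory (Sheaf J AddCommGrpCat.{u})) (a : ∀ n, L ⟶ K n)
    (hL : CohCx.IsRlimVia K t L a) (V : C) (m : ℤ) (nV : ℕ)
    (γ : (CohCx.HD L m).obj.obj (op V))
    (hγ : sec J ((DerivedCategory.homologyFunctor _ m).map (a nV)) V γ = 0) :
    ∃ T ∈ J V, ∀ (W : C) (i : W ⟶ V), T i →
      CohCx.LimOneIsZero (fun n => CohCx.HDU (K n) (m - 1) W)
        (fun n => Preadditive.rightComp _ ((CategoryTheory.shiftFunctor _ (m - 1)).map (t n))) →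
      (∀ k : ℕ, Function.Injective
        (Preadditive.rightComp _ ((CategoryTheory.shiftFunctor _ m).map (CohCx.transition K t nV k)) :
          CohCx.HDU (K (nV + k)) m W → CohCx.HDU (K nV) m W)) →
      ((CohCx.HD L m).obj.map i.op).hom γ = 0 := by
  obtain ⟨M, N, hM, hN, eL, eN, f, θL, θN, hf, sq⟩ := exists_models (a nV) m
  have := hM
  have := hN
  have hγ' : sec J (HomologicalComplex.homologyMap f m) V (sec J θL.hom V γ) = 0 := by
    rw [← sec_comp, sq, sec_comp, hγ, map_zero]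
  obtain ⟨T, hT, hT'⟩ := local_cycle J M N f m V _ hγ'
  refine ⟨T, hT, fun W i hi hlim hinj => ?_⟩
  obtain ⟨z, b, hz, hzb, hfin⟩ := hT' W i hi
  have ha0 : CohFree.ofSect J W _ z ≫ M.d m (m + 1) = 0 := by
    rw [← ofSect_comp, hz, ofSect_zero]
  have hy1 : cls (CohCx.freeSheaf J W) M m (CohFree.ofSect J W _ z) ha0 ≫ (Q.map f)⟦m⟧' = 0 := by
    rw [cls_postcomp, cls_eq_zero_iff _ N m _ _ (m - 1) (by simp)]
    exact ⟨CohFree.ofSect J W _ b, by rw [← ofSect_comp, ← hzb, ofSect_comp]⟩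
  have hfe : eL.hom ≫ a nV = Q.map f ≫ eN.hom := by
    rw [hf, Category.assoc, Category.assoc, Iso.inv_hom_id, Category.comp_id]
  have hy2 : (cls (CohCx.freeSheaf J W) M m (CohFree.ofSect J W _ z) ha0 ≫ (eL.hom)⟦m⟧') ≫
      (a nV)⟦m⟧' = 0 := by
    rw [Category.assoc, ← Functor.map_comp, hfe, Functor.map_comp, ← Category.assoc, hy1,
      zero_comp]
  have hy3 := milnor_kill K t L a hL
    ((DerivedCategory.singleFunctor (Sheaf J AddCommGrpCat.{u}) 0).obj (CohCx.freeSheaf J W))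
    m nV hlim hinj (cls (CohCx.freeSheaf J W) M m (CohFree.ofSect J W _ z) ha0 ≫ (eL.hom)⟦m⟧') hy2
  have hy4 : cls (CohCx.freeSheaf J W) M m (CohFree.ofSect J W _ z) ha0 = 0 := by
    rw [← cancel_mono ((eL.hom)⟦m⟧'), zero_comp]
    exact hy3
  obtain ⟨b', hb'⟩ := (cls_eq_zero_iff _ M m _ ha0 (m - 1) (by simp)).1 hy4
  have hr : sec J (M.d (m - 1) m) W (CohFree.evalGen J W _ b') = z := by
    rw [← evalGen_comp, hb', CohFree.evalGen_ofSect]
  have h0 := hfin _ hr
  apply sec_injective_of_mono J θL.hom W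
  rw [sec_map, h0, map_zero]

end Site

end Groth.Agent.H33.RlimSite
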