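import Groth.Agent.H33.HMap
import Groth.Agent.H5.KInj.Products
import Groth.Agent.S0881

/-!
# `H^q(U, K) ≅ H^q(K)(U)` when the cohomology sheaves are acyclic on a covering class
-/

set_option autoImplicit false
universe u

namespace Groth.Agent.H33.HMapSite

open CategoryTheory Limits Opposite DerivedCategory
open Groth.Agent.H5.HDULib Groth.Agent.H33.RlimSite Groth.Agent.H33.RlimTrunc Groth.Agent.H33.HMap

variable {C : Type u} [SmallCategory C] {J : GrothendieckTopology C}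

section

variable [HasDerivedCategory.{u} (Sheaf J AddCommGrpCat.{u})]

theorem hasProduct_derived (X : ℕ → DerivedCategory (Sheaf J AddCommGrpCat.{u})) :
    HasProduct X := by
  have hm := fun n => exists_kinj_model (X n)
  choose M hM e using hm
  haveI : HasLimitsOfShape (Discrete ℕ) (Sheaf J AddCommGrpCat.{u}) :=
    hasLimitsOfShape_of_equivalence
      (Discrete.equivalence Equiv.ulift : Discrete (ULift.{u} ℕ) ≌ Discrete ℕ)
  haveI : HasProduct M := inferInstance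
  haveI := Groth.Agent.H5.KInj.hasProduct_Q_obj M hM
  exact hasLimit_of_iso (Discrete.natIso (fun ⟨n⟩ => (e n).some) :
    Discrete.functor (fun n => Q.obj (M n)) ≅ Discrete.functor X)

end

theorem refine_in_B (B : Set C)
    (hB : ∀ U : C, ∃ (ι : Type u) (Y : ι → C) (f : ∀ i, Y i ⟶ U),
      Sieve.ofArrows Y f ∈ J U ∧ ∀ i, Y i ∈ B)
    (V : C) (T : Sieve V) (hT : T ∈ J V) :
    ∃ (ι : Type u) (Y : ι → C) (f : ∀ i, Y i ⟶ V), (∀ i, T.arrows (f i)) ∧
      Sieve.ofArrows Y f ∈ J V ∧ ∀ i, Y i ∈ B := by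
  choose ι Y f hcov hYB using hB
  refine ⟨Σ (x : Σ W : C, {g : W ⟶ V // T g}), ι x.1, fun i => Y i.1.1 i.2,
    fun i => f i.1.1 i.2 ≫ i.1.2.1, fun i => T.downward_closed i.1.2.2 _, ?_, fun i => hYB _ _⟩
  refine J.transitive hT _ (fun W g hg => ?_)
  refine J.superset_covering ?_ (hcov W)
  intro W' k hk
  obtain ⟨i, k', rfl⟩ := (Sieve.mem_ofArrows_iff _ _ _).1 hk
  exact (Sieve.mem_ofArrows_iff _ _ _).2 ⟨⟨⟨W, g, hg⟩, i⟩, k', by simp⟩

theorem basis_cover {X : TopCat.{u}} (B : Set (TopologicalSpace.Opens X))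
    (hB : TopologicalSpace.Opens.IsBasis B) (U : TopologicalSpace.Opens X) :
    ∃ (ι : Type u) (Y : ι → TopologicalSpace.Opens X) (f : ∀ i, Y i ⟶ U),
      Sieve.ofArrows Y f ∈ Opens.grothendieckTopology X U ∧ ∀ i, Y i ∈ B := by
  refine ⟨{V : TopologicalSpace.Opens X // V ∈ B ∧ V ≤ U}, fun i => i.1,
    fun i => homOfLE i.2.2, ?_, fun i => i.2.1⟩
  intro x hx
  obtain ⟨U', hU'B, hxU', hU'U⟩ := TopologicalSpace.Opens.isBasis_iff_nbhd.1 hB hx
  exact ⟨U', homOfLE hU'U, Sieve.ofArrows_mk _ _ (⟨U', hU'B, hU'U⟩ :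
    {V : TopologicalSpace.Opens X // V ∈ B ∧ V ≤ U}), hxU'⟩

variable [HasDerivedCategory.{u} (Sheaf J AddCommGrpCat.{u})]
  (K : DerivedCategory (Sheaf J AddCommGrpCat.{u}))

theorem HA_of_HU (U : C)
    (h : ∀ (p : ℕ) (q : ℤ), Subsingleton (CohSite.HU (CohCx.HD K q) (p + 1) U)) :
    HA (CohCx.freeSheaf J U) K := by
  intro j k hk
  obtain ⟨k', rfl⟩ : ∃ k' : ℕ, k = ((k' + 1 : ℕ) : ℤ) :=
    ⟨(k - 1).toNat, by
      have := Int.toNat_of_nonneg (show 0 ≤ k - 1 by omega)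
      push_cast
      omega⟩
  haveI hs : Subsingleton (Abelian.Ext.{u} (CohCx.freeSheaf J U) (CohCx.HD K j) (k' + 1)) :=
    h k' j
  exact (Abelian.Ext.homEquiv (X := CohCx.freeSheaf J U) (Y := CohCx.HD K j)
    (n := k' + 1)).symm.subsingleton

theorem isRlimVia_truncTower (B : Set C)
    (hB : ∀ U : C, ∃ (ι : Type u) (Y : ι → C) (f : ∀ i, Y i ⟶ U),
      Sieve.ofArrows Y f ∈ J U ∧ ∀ i, Y i ∈ B)
    (h : ∀ U ∈ B, ∀ (p : ℕ) (q : ℤ), Subsingleton (CohSite.HU (CohCx.HD K q) (p + 1) U))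
    [HasProduct (CohCx.truncTower K)] :
    CohCx.IsRlimVia (CohCx.truncTower K) (CohCx.truncTowerMap K) K (CohCx.toTruncTower K) := by
  refine Groth.Agent.S0881.result K B hB (fun V _ => ⟨fun _ => 0, fun T hT => ?_⟩)
  obtain ⟨ι, Y, f, hfT, hcov, hYB⟩ := refine_in_B B hB V T hT
  refine ⟨ι, Y, f, hfT, hcov, fun i m k hk => ?_⟩
  obtain ⟨k', rfl⟩ : ∃ k' : ℕ, k = k' + 1 := ⟨k - 1, by
    have : (0 : ℤ) < k := hk
    omega⟩
  exact h (Y i) (hYB i) k' _

theorem postcomp_toTruncTower_bijective (B : Set C)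
    (hB : ∀ U : C, ∃ (ι : Type u) (Y : ι → C) (f : ∀ i, Y i ⟶ U),
      Sieve.ofArrows Y f ∈ J U ∧ ∀ i, Y i ∈ B)
    (h : ∀ U ∈ B, ∀ (p : ℕ) (q : ℤ), Subsingleton (CohSite.HU (CohCx.HD K q) (p + 1) U))
    (U : C) (hU : U ∈ B) (q : ℤ) (N : ℕ) (hN : -q ≤ N) :
    Function.Bijective (fun y : (DerivedCategory.singleFunctor (Sheaf J AddCommGrpCat.{u}) 0).obj
        (CohCx.freeSheaf J U) ⟶ K⟦q⟧ => y ≫ (CohCx.toTruncTower K N)⟦q⟧') := by
  haveI : HasProduct (CohCx.truncTower K) := hasProduct_derived _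
  have hR := isRlimVia_truncTower K B hB h
  have hWU : ∀ (m : ℤ) (k : ℕ), (fun _ : ℤ => (0 : ℤ)) m < k →
      Subsingleton (CohSite.HU (CohCx.HD K (m - k)) k U) := by
    intro m k hk
    obtain ⟨k', rfl⟩ : ∃ k' : ℕ, k = k' + 1 := ⟨k - 1, by
      have : (0 : ℤ) < k := hk
      omega⟩
    exact h U hU k' _
  obtain ⟨hlim, hinj⟩ := milnor_conditions K q U (fun _ => 0) N hN (by
    change (0 : ℤ) - q ≤ N
    omega) (fun k hk => hWU q k hk)
  constructor
  · intro y y' hyy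
    have hyy' : y ≫ (CohCx.toTruncTower K N)⟦q⟧' = y' ≫ (CohCx.toTruncTower K N)⟦q⟧' := hyy
    have h0 := milnor_kill _ _ K _ hR _ q N hlim hinj (y - y') (by
      rw [Preadditive.sub_comp, hyy', sub_self])
    exact sub_eq_zero.1 h0
  · intro x
    have hsurj : ∀ n : ℕ, N ≤ n → Function.Surjective
        (fun z : (DerivedCategory.singleFunctor (Sheaf J AddCommGrpCat.{u}) 0).obj
          (CohCx.freeSheaf J U) ⟶ (CohCx.truncTower K (n + 1))⟦q⟧ =>
          z ≫ (CohCx.truncTowerMap K n)⟦q⟧') := by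
      intro n hn
      have hk : ((((n : ℤ) + 1 + (q + 1)).toNat : ℕ) : ℤ) = n + 1 + (q + 1) :=
        Int.toNat_of_nonneg (by omega)
      have hs := hWU (q + 1) ((n : ℤ) + 1 + (q + 1)).toNat (by
        change (0 : ℤ) < _
        rw [hk]; omega)
      have e : q + 1 - ((((n : ℤ) + 1 + (q + 1)).toNat : ℕ) : ℤ) = -((n + 1 : ℕ) : ℤ) := by
        rw [hk]; push_cast; ring
      rw [e] at hs
      have h2 := (step K n (q + 1) U _ hk hs).2
      rw [add_sub_cancel_right] at h2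
      exact h2
    obtain ⟨f, hfN, hf⟩ := exists_compatible_family N
      (fun n => (DerivedCategory.singleFunctor (Sheaf J AddCommGrpCat.{u}) 0).obj
        (CohCx.freeSheaf J U) ⟶ (CohCx.truncTower K n)⟦q⟧)
      (fun n z => z ≫ (CohCx.truncTowerMap K n)⟦q⟧') hsurj x
    obtain ⟨y, hy⟩ := (Groth.Agent.S0943.rlim_hom_lifts _ _ K _ hR
      ((DerivedCategory.singleFunctor (Sheaf J AddCommGrpCat.{u}) 0).obj (CohCx.freeSheaf J U))
      q).1 f hf
    exact ⟨y, (hy N).trans hfN⟩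

theorem hmap_bijective_of_B (B : Set C)
    (hB : ∀ U : C, ∃ (ι : Type u) (Y : ι → C) (f : ∀ i, Y i ⟶ U),
      Sieve.ofArrows Y f ∈ J U ∧ ∀ i, Y i ∈ B)
    (h : ∀ U ∈ B, ∀ (p : ℕ) (q : ℤ), Subsingleton (CohSite.HU (CohCx.HD K q) (p + 1) U))
    (U : C) (hU : U ∈ B) (q : ℤ) :
    Function.Bijective (hmap (CohCx.freeSheaf J U) K q) := by
  have hN : -q ≤ ((-q).toNat : ℤ) := Int.self_le_toNat _
  have hAK : HA (CohCx.freeSheaf J U) K := HA_of_HU K U (h U hU)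
  have hAX : HA (CohCx.freeSheaf J U) (CohCx.truncTower K (-q).toNat) := by
    refine HA_of_iso_or_zero _ (fun i => ?_) hAK
    by_cases hi : -(((-q).toNat : ℕ) : ℤ) ≤ i
    · have hiso := isIso_homology_truncGEπ K (-(((-q).toNat : ℕ) : ℤ)) i hi
      exact Or.inr ⟨(@asIso _ _ _ _ _ hiso).symm⟩
    · exact Or.inl (isZero_homology_truncGE K _ i (by omega))
  exact hmap_bijective_of_postcomp (CohCx.toTruncTower K (-q).toNat) q _
    (postcomp_toTruncTower_bijective K B hB h U hU q _ hN)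
    (isIso_homology_truncGEπ K _ q (by omega))
    (hmap_bijective_of_isGE _ _ (-(((-q).toNat : ℕ) : ℤ)) inferInstance hAX q)

/-- `ρ : H^q(U, K) → H^q(K)(U)` as an additive map. -/
noncomputable def ρ (q : ℤ) (U : C) : CohCx.HDU K q U →+ (CohCx.HD K q).obj.obj (op U) :=
  (CohFree.homEquivSect J U (CohCx.HD K q)).toAddMonoidHom.comp
    (AddMonoidHom.mk' (hmap (CohCx.freeSheaf J U) K q) (hmap_add _ _ _))

theorem ρ_apply (q : ℤ) (U : C) (y : CohCx.HDU K q U) :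
    ρ K q U y = CohFree.evalGen J U _ (hmap (CohCx.freeSheaf J U) K q y) := rfl

theorem ρ_bijective_of_B (B : Set C)
    (hB : ∀ U : C, ∃ (ι : Type u) (Y : ι → C) (f : ∀ i, Y i ⟶ U),
      Sieve.ofArrows Y f ∈ J U ∧ ∀ i, Y i ∈ B)
    (h : ∀ U ∈ B, ∀ (p : ℕ) (q : ℤ), Subsingleton (CohSite.HU (CohCx.HD K q) (p + 1) U))
    (U : C) (hU : U ∈ B) (q : ℤ) : Function.Bijective (ρ K q U) :=
  (CohFree.homEquivSect J U (CohCx.HD K q)).bijective.comp (hmap_bijective_of_B K B hB h U hU q)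

end Groth.Agent.H33.HMapSite
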