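import Mathlib

/-!
# Squad lemma (A) for helper23 (S7295): `Lan` along a representably flat functor between large
categories preserves monomorphisms of abelian presheaves.
-/

set_option autoImplicit false
open CategoryTheory CategoryTheory.Limits Opposite
universe u

namespace Groth.Agent.H33.RestrInj_A

universe v₁ v₂ v₃ u₁ u₂ u₃

set_option backward.defeqAttrib.useBackward true in
set_option backward.isDefEq.respectTransparency false in
/-- Universe-generic copy of Mathlib's `lanEvaluationIsoColim`. -/
noncomputable def lanEvalIso {C : Type u₁} [Category.{v₁} C] {D : Type u₂} [Category.{v₂} D]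
    (E : Type u₃) [Category.{v₃} E] (F : C ⥤ D) (X : D)
    [∀ X : D, HasColimitsOfShape (CostructuredArrow F X) E] :
    F.lan ⋙ (evaluation D E).obj X ≅
      (Functor.whiskeringLeft _ _ E).obj (CostructuredArrow.proj F X) ⋙ colim :=
  NatIso.ofComponents (fun G =>
    IsColimit.coconePointUniqueUpToIso
    (Functor.isPointwiseLeftKanExtensionLeftKanExtensionUnit F G X)
    (colimit.isColimit _)) (fun {G₁ G₂} φ => by
      apply (Functor.isPointwiseLeftKanExtensionLeftKanExtensionUnit F G₁ X).hom_ext
      intro T
      have h₁ := fun (G : C ⥤ E) => IsColimit.comp_coconePointUniqueUpToIso_hom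
        (Functor.isPointwiseLeftKanExtensionLeftKanExtensionUnit F G X) (colimit.isColimit _) T
      have h₂ := congr_app (F.lanUnit.naturality φ) T.left
      dsimp at h₁ h₂ ⊢
      simp only [Category.assoc] at h₁ ⊢
      simp only [Functor.lan, Functor.lanUnit] at h₂ ⊢
      rw [reassoc_of% h₁, NatTrans.naturality_assoc, ← reassoc_of% h₂, h₁,
        ι_colimMap, Functor.whiskerLeft_app]
      rfl)

/-- (A) Lan along a representably flat functor between LARGE categories preserves monos of
abelian presheaves. -/
theorem lan_preservesMono_of_flat {C D : Type (u + 1)} [Category.{u} C] [Category.{u} D]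
    (G : C ⥤ D) [RepresentablyFlat G] :
    (G.op.lan : (Cᵒᵖ ⥤ AddCommGrpCat.{u + 1}) ⥤ (Dᵒᵖ ⥤ AddCommGrpCat.{u + 1})).PreservesMonomorphisms := by
  constructor
  intro P Q η hη
  rw [NatTrans.mono_iff_mono_app]
  intro K
  haveI : IsFiltered (CostructuredArrow G.op K) :=
    IsFiltered.of_equivalence (structuredArrowOpEquivalence G (unop K))
  haveI hAB5 : AB5OfSize.{u, u + 1} AddCommGrpCat.{u + 1} :=
    AB5OfSize_of_univLE.{u, u + 1, u + 1, u + 1} AddCommGrpCat.{u + 1}
  haveI hex : HasExactColimitsOfShape (CostructuredArrow G.op K) AddCommGrpCat.{u + 1} :=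
    hAB5.ofShape _
  haveI h1 : ((Functor.whiskeringLeft _ _ AddCommGrpCat.{u + 1}).obj
      (CostructuredArrow.proj G.op K)).PreservesMonomorphisms := by
    constructor
    intro P' Q' η' hη'
    rw [NatTrans.mono_iff_mono_app] at hη' ⊢
    intro T
    exact hη' _
  haveI h2 : (colim : (CostructuredArrow G.op K ⥤ AddCommGrpCat.{u + 1}) ⥤ _).PreservesMonomorphisms :=
    inferInstance
  haveI h3 : ((Functor.whiskeringLeft _ _ AddCommGrpCat.{u + 1}).obj
      (CostructuredArrow.proj G.op K) ⋙ colim).PreservesMonomorphisms := inferInstance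
  haveI h4 : (G.op.lan ⋙ (evaluation Dᵒᵖ AddCommGrpCat.{u + 1}).obj K).PreservesMonomorphisms :=
    Functor.PreservesMonomorphisms.of_iso (lanEvalIso AddCommGrpCat.{u + 1} G.op K).symm
  exact h4.preserves η

end Groth.Agent.H33.RestrInj_A
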