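import Groth.Agent.H88.Frame

/-!
# Helper library (helper33, for helper88's S7797 squad): (P2a) change of frame, (P2b) transition
matrix of two frames.
-/

set_option autoImplicit false
universe u
open CategoryTheory CategoryTheory.Limits AlgebraicGeometry Opposite TopologicalSpace
open Groth.Agent.H88.Frame

namespace Groth.Agent.H33.P1Frame

section Abstract

variable {R N : Type*} [CommRing R] [AddCommGroup N] [Module R N] {r : ℕ}

theorem sum_vecMul_smul (m : Fin r → N) (a : Fin r → R) (B : Matrix (Fin r) (Fin r) R) :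
    ∑ k, (Matrix.vecMul a B) k • m k = ∑ j, a j • ∑ k, B j k • m k := by
  have h1 : ∀ k, (Matrix.vecMul a B) k • m k = ∑ j, (a j * B j k) • m k := by
    intro k
    rw [← Finset.sum_smul]
    rfl
  simp_rw [h1, Finset.smul_sum, smul_smul]
  exact Finset.sum_comm

theorem bijective_vecMul (P : Matrix (Fin r) (Fin r) R) (hP : IsUnit P) :
    Function.Bijective (fun c : Fin r → R => Matrix.vecMul c P) := by
  obtain ⟨u, rfl⟩ := hP
  refine Function.bijective_iff_has_inverse.2 ⟨fun d => Matrix.vecMul d ((u⁻¹ : (Matrix (Fin r) (Fin r) R)ˣ) : Matrix (Fin r) (Fin r) R), ?_, ?_⟩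
  · intro c
    show Matrix.vecMul (Matrix.vecMul c ((u : (Matrix (Fin r) (Fin r) R)ˣ) : Matrix (Fin r) (Fin r) R)) ((u⁻¹ : (Matrix (Fin r) (Fin r) R)ˣ) : Matrix (Fin r) (Fin r) R) = c
    rw [Matrix.vecMul_vecMul, Units.mul_inv, Matrix.vecMul_one]
  · intro d
    show Matrix.vecMul (Matrix.vecMul d ((u⁻¹ : (Matrix (Fin r) (Fin r) R)ˣ) : Matrix (Fin r) (Fin r) R)) ((u : (Matrix (Fin r) (Fin r) R)ˣ) : Matrix (Fin r) (Fin r) R) = d
    rw [Matrix.vecMul_vecMul, Units.inv_mul, Matrix.vecMul_one]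

theorem sum_single_smul (m : Fin r → N) (i : Fin r) :
    ∑ k, (Pi.single i (1 : R) : Fin r → R) k • m k = m i := by
  rw [Finset.sum_eq_single i]
  · rw [Pi.single_eq_same, one_smul]
  · intro k _ hk
    rw [Pi.single_eq_of_ne hk, zero_smul]
  · intro h
    exact absurd (Finset.mem_univ i) h

/-- two families each expressible in the other, the second one free: the product of the
coefficient matrices is `1` -/
theorem mul_eq_one_of_expansions (μ ν : Fin r → N)
    (hν : Function.Injective (fun c : Fin r → R => ∑ i, c i • ν i))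
    (g g' : Matrix (Fin r) (Fin r) R)
    (hg : ∀ i, ν i = ∑ j, g i j • μ j) (hg' : ∀ i, μ i = ∑ j, g' i j • ν j) :
    g * g' = 1 := by
  ext i k
  have h1 : (fun c : Fin r → R => ∑ i, c i • ν i) (Matrix.vecMul (g i) g') =
      (fun c : Fin r → R => ∑ i, c i • ν i) (Pi.single i 1) := by
    show ∑ k, (Matrix.vecMul (g i) g') k • ν k = ∑ k, (Pi.single i (1 : R) : Fin r → R) k • ν k
    rw [sum_vecMul_smul, sum_single_smul]
    rw [hg i]
    refine Finset.sum_congr rfl (fun j _ => ?_)
    rw [← hg' j]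
  have h2 : Matrix.vecMul (g i) g' k = (Pi.single i 1 : Fin r → R) k := congrFun (hν h1) k
  calc (g * g') i k = Matrix.vecMul (g i) g' k := rfl
    _ = (Pi.single i 1 : Fin r → R) k := h2
    _ = (1 : Matrix (Fin r) (Fin r) R) i k := by
      rw [Matrix.one_apply, Pi.single_apply]
      simp only [eq_comm]

end Abstract

variable {X : Scheme.{u}}

/-- (P2a) change of frame by an invertible matrix -/
theorem isFrame_mulVec {M : X.Modules} {V : X.Opens} {r : ℕ}
    {μ : Fin r → Γ(M, V)} (hμ : IsFrame M V μ) (P : Matrix (Fin r) (Fin r) Γ(X, V))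
    (hP : IsUnit P) : IsFrame M V (fun i => ∑ j, P i j • μ j) := by
  intro V' h
  let ρ : Γ(X, V) →+* Γ(X, V') := (X.presheaf.map (homOfLE h).op).hom
  let P' : Matrix (Fin r) (Fin r) Γ(X, V') := ρ.mapMatrix P
  have hP' : IsUnit P' := hP.map ρ.mapMatrix
  have hcomp : (fun c : Fin r → Γ(X, V') => ∑ i, c i • M.presheaf.map (homOfLE h).op
      (∑ j, P i j • μ j)) =
      (fun c : Fin r → Γ(X, V') => ∑ i, c i • M.presheaf.map (homOfLE h).op (μ i)) ∘
        (fun c : Fin r → Γ(X, V') => Matrix.vecMul c P') := by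
    funext c
    show _ = ∑ k, (Matrix.vecMul c P') k • M.presheaf.map (homOfLE h).op (μ k)
    rw [sum_vecMul_smul]
    refine Finset.sum_congr rfl (fun i _ => ?_)
    congr 1
    rw [map_sum]
    refine Finset.sum_congr rfl (fun j _ => ?_)
    rw [Groth.Agent.H8.res_smul]
    rfl
  rw [hcomp]
  exact (hμ V' h).comp (bijective_vecMul P' hP')

/-- (P2b) transition matrix of two frames -/
theorem exists_transition {M : X.Modules} {V V' W : X.Opens} {r : ℕ}
    {μ : Fin r → Γ(M, V)} {ν : Fin r → Γ(M, V')} (hμ : IsFrame M V μ) (hν : IsFrame M V' ν)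
    (hW : W ≤ V) (hW' : W ≤ V') :
    ∃ g : Matrix (Fin r) (Fin r) Γ(X, W), IsUnit g ∧
      ∀ i, M.presheaf.map (homOfLE hW').op (ν i) =
        ∑ j, g i j • M.presheaf.map (homOfLE hW).op (μ j) := by
  have hbμ := hμ W hW
  have hbν := hν W hW'
  choose g hg using fun i => hbμ.2 (M.presheaf.map (homOfLE hW').op (ν i))
  choose g' hg' using fun i => hbν.2 (M.presheaf.map (homOfLE hW).op (μ i))
  have h1 : (Matrix.of g) * (Matrix.of g') = 1 :=
    mul_eq_one_of_expansions (fun i => M.presheaf.map (homOfLE hW).op (μ i))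
      (fun i => M.presheaf.map (homOfLE hW').op (ν i)) hbν.1 (Matrix.of g) (Matrix.of g')
      (fun i => (hg i).symm) (fun i => (hg' i).symm)
  have h2 : (Matrix.of g') * (Matrix.of g) = 1 :=
    mul_eq_one_of_expansions (fun i => M.presheaf.map (homOfLE hW').op (ν i))
      (fun i => M.presheaf.map (homOfLE hW).op (μ i)) hbμ.1 (Matrix.of g') (Matrix.of g)
      (fun i => (hg' i).symm) (fun i => (hg i).symm)
  exact ⟨Matrix.of g, ⟨⟨Matrix.of g, Matrix.of g', h1, h2⟩, rfl⟩, fun i => (hg i).symm⟩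

end Groth.Agent.H33.P1Frame
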