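import Mathlib.CategoryTheory.Localization.DerivabilityStructure.Derives
import Mathlib.CategoryTheory.Localization.DerivabilityStructure.Constructor
import Mathlib.CategoryTheory.Triangulated.LocalizingSubcategory
import Mathlib.CategoryTheory.Functor.Derived.RightDerived
import Mathlib.CategoryTheory.Functor.Derived.PointwiseRightDerived

/-!
# Computing right derived functors on adapted objects (helper33; dual of helper40's `H40/LeftDer`)

If `A`, `B` are triangulated subcategories of a triangulated category and every object maps by a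
`B.trW`-morphism to an object of `A`, then the inclusion of `A` is a right derivability structure.
Hence a functor `G` inverting the `B.trW`-morphisms between objects of `A` has a (pointwise) right
derived functor, and the unit is an isomorphism on the objects of `A`.
-/

set_option autoImplicit false

namespace Groth.Agent.H33.RightDer

open CategoryTheory Opposite Limits Pretriangulated ObjectProperty

variable {C : Type*} [Category C] [HasZeroObject C] [HasShift C ℤ] [Preadditive C]
  [∀ (n : ℤ), (shiftFunctor C n).Additive] [Pretriangulated C] [IsTriangulated C]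
  (A B : ObjectProperty C) [A.IsTriangulated] [B.IsTriangulated]
  [A.IsClosedUnderIsomorphisms] [B.IsClosedUnderIsomorphisms]

/-- Every object maps by a `B.trW`-morphism to an object of `A`. -/
def HasRightRes : Prop := ∀ X : C, ∃ (I : C) (s : X ⟶ I), A I ∧ B.trW s

variable {A B}

lemma inf_trW_of_trW {X Y : C} (f : X ⟶ Y) (hX : A X) (hY : A Y) (hf : B.trW f) :
    (A ⊓ B).trW f := by
  obtain ⟨Z, g, h, hT, hZ⟩ := hf
  exact ⟨Z, g, h, hT, A.ext_of_isTriangulatedClosed₃ _ hT hX hY, hZ⟩

lemma isVerdierRightLocalizing (hres : HasRightRes A B) : A.IsVerdierRightLocalizing B := by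
  rw [isVerdierRightLocalizing_iff]
  intro X Y s hX hs
  obtain ⟨Z, a, hZ, ha⟩ := hres Y
  exact ⟨Z, s ≫ a, a, hZ, inf_trW_of_trW _ hX hZ (B.trW.comp_mem _ _ hs ha), rfl⟩

/-- If every object has a right `A`-resolution, the inclusion of `A` is a right derivability
structure (with respect to the morphisms whose cone is in `B`). -/
theorem isRightDerivabilityStructure (hres : HasRightRes A B) :
    (A.triangulatedLocalizerMorphism B).IsRightDerivabilityStructure := by
  have := isVerdierRightLocalizing hres
  let Φ := A.triangulatedLocalizerMorphism B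
  have hRR : Φ.HasRightResolutions := fun X => by
    obtain ⟨I, s, hI, hs⟩ := hres X
    exact ⟨{ X₁ := ⟨I, hI⟩, w := s, hw := hs }⟩
  have hLE : Φ.IsLocalizedEquivalence := by
    let L₁ := (B.inverseImage A.ι).trW.Q
    let L₂ := B.trW.Q
    let G := Φ.localizedFunctor L₁ L₂
    have h1 : (Φ.functor ⋙ L₂).EssSurj := Φ.essSurj_of_hasRightResolutions L₂
    have h2 : (L₁ ⋙ G).EssSurj := Functor.essSurj_of_iso (CatCommSq.iso Φ.functor L₁ L₂ G)
    have h3 : G.EssSurj :=
      ⟨fun Y => ⟨L₁.obj ((L₁ ⋙ G).objPreimage Y), ⟨(L₁ ⋙ G).objObjPreimageIso Y⟩⟩⟩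
    have h4 : G.IsEquivalence := { }
    exact LocalizerMorphism.IsLocalizedEquivalence.mk' Φ L₁ L₂ G
  have hArr : Φ.arrow.HasRightResolutions := fun f => by
    obtain ⟨IX, wX, hIX, hwX⟩ := hres f.left
    obtain ⟨ψ, hψ⟩ :=
      (MorphismProperty.RightFraction.mk (W := B.trW) wX hwX f.hom).exists_leftFraction
    obtain ⟨IY, u, hIY, hu⟩ := hres ψ.Y'
    have hψ' : f.hom ≫ ψ.s = wX ≫ ψ.f := hψ
    exact ⟨{ X₁ := Arrow.mk (ObjectProperty.homMk (ψ.f ≫ u) :
                (⟨IX, hIX⟩ : A.FullSubcategory) ⟶ ⟨IY, hIY⟩)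
             w := Arrow.homMk wX (ψ.s ≫ u) (by
               change wX ≫ (ψ.f ≫ u) = f.hom ≫ (ψ.s ≫ u)
               rw [← Category.assoc, ← hψ', Category.assoc])
             hw := ⟨hwX, B.trW.comp_mem _ _ ψ.hs hu⟩ }⟩
  have hConn : ∀ X₂, IsConnected (Φ.RightResolution X₂) := fun X₂ => by
    have : Nonempty (Φ.RightResolution X₂) := hRR X₂
    have : IsPreconnected (Φ.RightResolution X₂) := zigzag_isPreconnected (fun R R' => by
      obtain ⟨ψ, hψ⟩ :=
        (MorphismProperty.RightFraction.mk (W := B.trW) R.w R.hw R'.w).exists_leftFraction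
      obtain ⟨I, u, hI, hu⟩ := hres ψ.Y'
      have hψ' : R'.w ≫ ψ.s = R.w ≫ ψ.f := hψ
      let R'' : Φ.RightResolution X₂ :=
        { X₁ := ⟨I, hI⟩
          w := R'.w ≫ ψ.s ≫ u
          hw := B.trW.comp_mem _ _ R'.hw (B.trW.comp_mem _ _ ψ.hs hu) }
      have h1 : Zigzag R R'' := Zigzag.of_hom
        { f := ObjectProperty.homMk (ψ.f ≫ u)
          comm := by
            change R.w ≫ (ψ.f ≫ u) = R'.w ≫ ψ.s ≫ u
            rw [← Category.assoc, ← hψ', Category.assoc] }
      have h2 : Zigzag R'' R' := Zigzag.of_inv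
        { f := ObjectProperty.homMk (ψ.s ≫ u)
          comm := rfl }
      exact h1.trans h2)
    constructor
  exact LocalizerMorphism.IsRightDerivabilityStructure.mk' Φ

section

variable (hres : HasRightRes A B) {H : Type*} [Category H] (G : C ⥤ H)
  (hG : ∀ ⦃X Y : C⦄ (f : X ⟶ Y), A X → A Y → B.trW f → IsIso (G.map f))

include hG in
lemma derives : (A.triangulatedLocalizerMorphism B).Derives G := by
  intro X Y f hf
  rw [trW_inverseImage_ι_iff] at hf
  obtain ⟨Z, g, k, hT, hZ⟩ := hf
  exact hG f.hom X.property Y.property ⟨Z, g, k, hT, hZ.2⟩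

include hres hG in
/-- existence of the right derived functor -/
theorem hasPointwiseRightDerivedFunctor_of_hasRightRes
    (W : MorphismProperty C) (hW : W = B.trW) : G.HasPointwiseRightDerivedFunctor W := by
  subst hW
  have := isRightDerivabilityStructure hres
  exact (derives G hG).hasPointwiseRightDerivedFunctor

include hres hG in
/-- the unit of any right derived functor is an isomorphism on objects of `A` -/
theorem isIso_app_of_hasRightRes (W : MorphismProperty C) (hW : W = B.trW)
    {D₂ : Type*} [Category D₂] {L₂ : C ⥤ D₂} [L₂.IsLocalization W] {RG : D₂ ⥤ H}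
    (α : G ⟶ L₂ ⋙ RG) [RG.IsRightDerivedFunctor α W] (I : C) (hI : A I) : IsIso (α.app I) := by
  subst hW
  have := isRightDerivabilityStructure hres
  exact (derives G hG).isIso_of_isRightDerivedFunctor α ⟨I, hI⟩

end

end Groth.Agent.H33.RightDer
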