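import Mathlib
import Groth.Agent.H33.LeftRes

/-! Unbounded resolutions by a class of objects of finite "dimension" (helper33). -/

set_option autoImplicit false
universe v u

namespace Groth.Agent.H33.UnbRes

open CategoryTheory CategoryTheory.Limits HomologicalComplex ZeroObject

variable {A : Type u} [Category.{v} A] [Abelian A]

/-! ## Generalities -/

section General

theorem quasiIso_iff_exactAt_cone {K L : CochainComplex A ℤ} (φ : K ⟶ L) :
    QuasiIso φ ↔ ∀ n, (CochainComplex.mappingCone φ).ExactAt n := by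
  have h1 : QuasiIso φ ↔ (HomotopyCategory.subcategoryAcyclic A).trW
      ((HomotopyCategory.quotient A (ComplexShape.up ℤ)).map φ) := by
    rw [← HomologicalComplex.mem_quasiIso_iff, ← HomotopyCategory.quotient_map_mem_quasiIso_iff,
      HomotopyCategory.quasiIso_eq_trW_subcategoryAcyclic]
  rw [h1, ← HomotopyCategory.quotient_obj_mem_subcategoryAcyclic_iff_exactAt]
  exact ObjectProperty.trW_iff_of_distinguished _ _
    (HomotopyCategory.mappingCone_triangleh_distinguished φ)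

lemma termwise {S : ShortComplex (CochainComplex A ℤ)} (hS : S.ShortExact) (m : ℤ) :
    (ShortComplex.mk (S.f.f m) (S.g.f m)
      (by rw [← HomologicalComplex.comp_f, S.zero, HomologicalComplex.zero_f])).ShortExact :=
  hS.map_of_exact (HomologicalComplex.eval A (ComplexShape.up ℤ) m)

lemma acyclic_of_isZero (Q : CochainComplex A ℤ) (hQ : IsZero Q) : Q.Acyclic := by
  intro i
  rw [HomologicalComplex.exactAt_iff]
  apply ShortComplex.exact_of_isZero_X₂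
  exact (HomologicalComplex.eval A (ComplexShape.up ℤ) i).map_isZero hQ

lemma acyclic_X₁ {S : ShortComplex (CochainComplex A ℤ)} (hS : S.ShortExact)
    (h₂ : S.X₂.Acyclic) (h₃ : S.X₃.Acyclic) : S.X₁.Acyclic := by
  intro i
  rw [HomologicalComplex.exactAt_iff_isZero_homology]
  have hz₂ : IsZero (S.X₂.homology i) := (h₂ i).isZero_homology
  have hz₃ : IsZero (S.X₃.homology (i - 1)) := (h₃ (i - 1)).isZero_homology
  exact (hS.homology_exact₁ (i - 1) i (by simp)).isZero_of_both_zeros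
    (hz₃.eq_of_src _ _) (hz₂.eq_of_tgt _ _)

/-- pulling back a short exact sequence `0 → K → C → Z → 0` along `g : Y ⟶ Z` -/
lemma pb_shortExact_fst {𝒞 : Type*} [Category 𝒞] [Abelian 𝒞] {Y Z K C : 𝒞} (g : Y ⟶ Z)
    (a : K ⟶ C) (γ : C ⟶ Z) (w : a ≫ γ = 0) (hS : (ShortComplex.mk a γ w).ShortExact) :
    (ShortComplex.mk (pullback.lift (0 : K ⟶ Y) a (by rw [zero_comp, w]))
      (pullback.fst g γ) (pullback.lift_fst _ _ _)).ShortExact := by
  haveI : Mono a := hS.mono_f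
  haveI : Epi γ := hS.epi_g
  refine ShortComplex.ShortExact.mk' ?_ ?_ ?_
  · rw [ShortComplex.exact_iff_exact_up_to_refinements]
    intro T x₂ hx₂
    have hx₂' : x₂ ≫ pullback.fst g γ = 0 := hx₂
    have h0 : (x₂ ≫ pullback.snd g γ) ≫ γ = 0 := by
      rw [Category.assoc, ← pullback.condition, ← Category.assoc, hx₂', zero_comp]
    obtain ⟨T', π, hπ, y, hy⟩ := hS.exact.exact_up_to_refinements (x₂ ≫ pullback.snd g γ) h0
    refine ⟨T', π, hπ, y, ?_⟩
    have hy' : π ≫ x₂ ≫ pullback.snd g γ = y ≫ a := hy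
    change π ≫ x₂ = y ≫ pullback.lift (0 : K ⟶ Y) a (by rw [zero_comp, w])
    apply pullback.hom_ext
    · rw [Category.assoc, Category.assoc, pullback.lift_fst, comp_zero, hx₂', comp_zero]
    · rw [Category.assoc, Category.assoc, pullback.lift_snd, hy']
  · exact mono_of_mono_fac (pullback.lift_snd (0 : K ⟶ Y) a (by rw [zero_comp, w]))
  · exact (inferInstance : Epi (pullback.fst g γ))

/-- pulling back a short exact sequence `0 → X → J → Z → 0` along `γ : C ⟶ Z`, other side -/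
lemma pb_shortExact_snd {𝒞 : Type*} [Category 𝒞] [Abelian 𝒞] {Z J C X : 𝒞} (γ : C ⟶ Z)
    (i : X ⟶ J) (p : J ⟶ Z) (w : i ≫ p = 0) (hS : (ShortComplex.mk i p w).ShortExact) :
    (ShortComplex.mk (pullback.lift i (0 : X ⟶ C) (by rw [zero_comp, w]))
      (pullback.snd p γ) (pullback.lift_snd _ _ _)).ShortExact := by
  haveI : Mono i := hS.mono_f
  haveI : Epi p := hS.epi_g
  refine ShortComplex.ShortExact.mk' ?_ ?_ ?_
  · rw [ShortComplex.exact_iff_exact_up_to_refinements]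
    intro T x₂ hx₂
    have hx₂' : x₂ ≫ pullback.snd p γ = 0 := hx₂
    have h0 : (x₂ ≫ pullback.fst p γ) ≫ p = 0 := by
      rw [Category.assoc, pullback.condition, ← Category.assoc, hx₂', zero_comp]
    obtain ⟨T', π, hπ, y, hy⟩ := hS.exact.exact_up_to_refinements (x₂ ≫ pullback.fst p γ) h0
    refine ⟨T', π, hπ, y, ?_⟩
    have hy' : π ≫ x₂ ≫ pullback.fst p γ = y ≫ i := hy
    change π ≫ x₂ = y ≫ pullback.lift i (0 : X ⟶ C) (by rw [zero_comp, w])
    apply pullback.hom_ext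
    · rw [Category.assoc, Category.assoc, pullback.lift_fst, hy']
    · rw [Category.assoc, Category.assoc, pullback.lift_snd, comp_zero, hx₂', comp_zero]
  · exact mono_of_mono_fac (pullback.lift_fst i (0 : X ⟶ C) (by rw [zero_comp, w]))
  · exact (inferInstance : Epi (pullback.snd p γ))

/-- a "path object": every complex is a quotient of an acyclic complex by its shift -/
lemma exists_path (W : CochainComplex A ℤ) :
    ∃ (N C : CochainComplex A ℤ) (a : N ⟶ C) (π : C ⟶ W) (w : a ≫ π = 0),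
      (ShortComplex.mk a π w).ShortExact ∧ C.Acyclic ∧
        ∀ Q : A → Prop, (∀ j, Q (W.X j)) → ∀ m, Q (N.X m) := by
  let V : CochainComplex A ℤ := (shiftFunctor (CochainComplex A ℤ) (-1 : ℤ)).obj W
  let S₀ := CochainComplex.mappingCone.triangleRotateShortComplex (𝟙 V)
  have hS₀ : S₀.ShortExact := HomologicalComplex.shortExact_of_degreewise_shortExact S₀
    (fun n => (CochainComplex.mappingCone.triangleRotateShortComplexSplitting (𝟙 V) n).shortExact)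
  let e : S₀.X₃ ≅ W :=
    (shiftFunctorCompIsoId (CochainComplex A ℤ) (-1 : ℤ) 1 (by norm_num)).app W
  have w : S₀.f ≫ S₀.g ≫ e.hom = 0 := by rw [← Category.assoc, S₀.zero, zero_comp]
  have iso : S₀ ≅ ShortComplex.mk S₀.f (S₀.g ≫ e.hom) w :=
    ShortComplex.isoMk (Iso.refl _) (Iso.refl _) e (by simp) (by simp)
  refine ⟨V, CochainComplex.mappingCone (𝟙 V), S₀.f, S₀.g ≫ e.hom, w,
    ShortComplex.shortExact_of_iso iso hS₀, ?_, ?_⟩
  · exact (quasiIso_iff_exactAt_cone (𝟙 V)).1 inferInstance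
  · intro Q hQ m
    exact hQ (m + -1)

end General

/-! ## The complex `I m ⊞ I (m+1)` -/

section JJ

noncomputable def JJ (I : ℤ → A) : CochainComplex A ℤ :=
  CochainComplex.of (fun m => I m ⊞ I (m + 1))
    (fun m => (biprod.snd : I m ⊞ I (m + 1) ⟶ I (m + 1)) ≫
      (biprod.inl : I (m + 1) ⟶ I (m + 1) ⊞ I (m + 1 + 1))) (fun m => by simp)

lemma JJ_d (I : ℤ → A) (m : ℤ) :
    (JJ I).d m (m + 1) = (biprod.snd : I m ⊞ I (m + 1) ⟶ I (m + 1)) ≫
      (biprod.inl : I (m + 1) ⟶ I (m + 1) ⊞ I (m + 1 + 1)) :=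
  CochainComplex.of_d (fun m => I m ⊞ I (m + 1))
    (fun m => (biprod.snd : I m ⊞ I (m + 1) ⟶ I (m + 1)) ≫
      (biprod.inl : I (m + 1) ⟶ I (m + 1) ⊞ I (m + 1 + 1))) m

lemma toJJ_comm {X₀ X₁ X₂ I₀ I₁ I₂ : A} (d₀ : X₀ ⟶ X₁) (d₁ : X₁ ⟶ X₂) (hd : d₀ ≫ d₁ = 0)
    (ι₀ : X₀ ⟶ I₀) (ι₁ : X₁ ⟶ I₁) (ι₂ : X₂ ⟶ I₂) :
    biprod.lift ι₀ (d₀ ≫ ι₁) ≫ (biprod.snd : I₀ ⊞ I₁ ⟶ I₁) ≫ (biprod.inl : I₁ ⟶ I₁ ⊞ I₂) =
      d₀ ≫ biprod.lift ι₁ (d₁ ≫ ι₂) := by
  apply biprod.hom_ext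
  · simp
  · simp [reassoc_of% hd]

noncomputable def toJJ (X : CochainComplex A ℤ) (I : ℤ → A) (ι : ∀ m, X.X m ⟶ I m) :
    X ⟶ JJ I where
  f m := (biprod.lift (ι m) (X.d m (m + 1) ≫ ι (m + 1)) : X.X m ⟶ I m ⊞ I (m + 1))
  comm' := by
    rintro i j (rfl : i + 1 = j)
    rw [JJ_d]
    exact toJJ_comm _ _ (X.d_comp_d _ _ _) _ _ _

lemma JJ_aux {T I₀ I₁ I₂ I₃ : A} (x₂ : T ⟶ I₁ ⊞ I₂)
    (hx₂ : x₂ ≫ (biprod.snd : I₁ ⊞ I₂ ⟶ I₂) ≫ (biprod.inl : I₂ ⟶ I₂ ⊞ I₃) = 0) :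
    𝟙 T ≫ x₂ = (x₂ ≫ biprod.fst ≫ (biprod.inr : I₁ ⟶ I₀ ⊞ I₁)) ≫
      (biprod.snd : I₀ ⊞ I₁ ⟶ I₁) ≫ (biprod.inl : I₁ ⟶ I₁ ⊞ I₂) := by
  have h : x₂ ≫ biprod.snd = 0 := by
    have := hx₂ =≫ (biprod.fst : I₂ ⊞ I₃ ⟶ I₂)
    simpa using this
  apply biprod.hom_ext
  · simp
  · simp [h]

lemma JJ_acyclic (I : ℤ → A) : (JJ I).Acyclic := by
  intro i
  obtain ⟨k, rfl⟩ : ∃ k, i = k + 1 := ⟨i - 1, by omega⟩
  rw [HomologicalComplex.exactAt_iff' _ k (k + 1) (k + 1 + 1) (by simp) (by simp),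
    ShortComplex.exact_iff_exact_up_to_refinements]
  intro T x₂ hx₂
  have hx₂' : x₂ ≫ (JJ I).d (k + 1) (k + 1 + 1) = 0 := hx₂
  rw [JJ_d] at hx₂'
  refine ⟨T, 𝟙 T, inferInstance,
    (x₂ : T ⟶ I (k + 1) ⊞ I (k + 1 + 1)) ≫ biprod.fst ≫
      (biprod.inr : I (k + 1) ⟶ I k ⊞ I (k + 1)), ?_⟩
  change _ = _ ≫ (JJ I).d k (k + 1)
  rw [JJ_d]
  exact JJ_aux x₂ hx₂'

end JJ

/-! ## The classes `C_k` -/

section Classes

variable (P : ObjectProperty A)

inductive Chain : ℕ → A → A → Prop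
  | nil (M : A) : Chain 0 M M
  | cons {k : ℕ} {N : A} (S : ShortComplex A) (hS : S.ShortExact) (hP : P S.X₂)
      (h : Chain k S.X₃ N) : Chain (k + 1) S.X₁ N

def Ck (k : ℕ) (M : A) : Prop := ∀ N, Chain P k M N → P N

lemma P_of_Ck_zero {M : A} (h : Ck P 0 M) : P M := h M (Chain.nil M)

lemma Ck_succ {k : ℕ} (S : ShortComplex A) (hS : S.ShortExact) (hP : P S.X₂)
    (h : Ck P (k + 1) S.X₁) : Ck P k S.X₃ := fun N hN => h N (Chain.cons S hS hP hN)

lemma exactAt_succ_iff (K : CochainComplex A ℕ) (i : ℕ) :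
    K.ExactAt (i + 1) ↔ (ShortComplex.mk (K.d i (i + 1)) (K.d (i + 1) (i + 1 + 1))
      (K.d_comp_d _ _ _)).Exact :=
  HomologicalComplex.exactAt_iff' K i (i + 1) (i + 1 + 1) (by simp) (by simp)

lemma refine_comp {T T' T'' X₂ X₃ K₀ : A} (π : T' ⟶ T) (π' : T'' ⟶ T') (x₂ : T ⟶ K₀)
    (y : T' ⟶ X₃) (e' : X₃ ⟶ K₀) (z : T'' ⟶ X₂) (g : X₂ ⟶ X₃) (hy : π ≫ x₂ = y ≫ e')
    (hz : π' ≫ y = z ≫ g) : (π' ≫ π) ≫ x₂ = z ≫ g ≫ e' := by
  rw [Category.assoc, hy, ← Category.assoc, hz, Category.assoc]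

lemma exists_complex_of_chain {k : ℕ} {M N : A} (h : Chain P k M N) :
    ∃ (K : CochainComplex A ℕ) (e : M ⟶ K.X 0), Mono e ∧ e ≫ K.d 0 1 = 0 ∧
      (∀ ⦃T : A⦄ (x : T ⟶ K.X 0), x ≫ K.d 0 1 = 0 →
        ∃ (T' : A) (π : T' ⟶ T) (_ : Epi π) (y : T' ⟶ M), π ≫ x = y ≫ e) ∧
      (∀ i : ℕ, 1 ≤ i → i ≤ k → K.ExactAt i) ∧ (∀ i : ℕ, k < i → IsZero (K.X i)) ∧
      (∀ i : ℕ, i < k → P (K.X i)) ∧ Nonempty (K.X k ≅ N) := by
  induction h with
  | nil M =>
    refine ⟨(HomologicalComplex.single A (ComplexShape.up ℕ) 0).obj M,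
      (HomologicalComplex.singleObjXSelf (ComplexShape.up ℕ) 0 M).inv, inferInstance, ?_, ?_, ?_,
      ?_, ?_, ⟨HomologicalComplex.singleObjXSelf (ComplexShape.up ℕ) 0 M⟩⟩
    · rw [HomologicalComplex.single_obj_d, comp_zero]
    · intro T x _
      refine ⟨T, 𝟙 T, inferInstance,
        x ≫ (HomologicalComplex.singleObjXSelf (ComplexShape.up ℕ) 0 M).hom, ?_⟩
      rw [Category.assoc, Iso.hom_inv_id, Category.comp_id, Category.id_comp]
    · intro i h1 h0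
      omega
    · intro i hi
      exact HomologicalComplex.isZero_single_obj_X (ComplexShape.up ℕ) 0 M i (by omega)
    · intro i hi
      omega
  | @cons k N S hS hP h ih =>
    obtain ⟨K', e', hmono, hw, hker, hex, hzero, hPt, ⟨eN⟩⟩ := ih
    haveI := hS.mono_f
    haveI := hS.epi_g
    have hw' : (S.g ≫ e') ≫ K'.d 0 1 = 0 := by rw [Category.assoc, hw, comp_zero]
    refine ⟨K'.augment (S.g ≫ e') hw', S.f, hS.mono_f, ?_, ?_, ?_, ?_, ?_, ⟨eN⟩⟩
    · change S.f ≫ S.g ≫ e' = 0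
      rw [← Category.assoc, S.zero, zero_comp]
    · intro T x hx
      have hx' : ((x : T ⟶ S.X₂) ≫ S.g) ≫ e' = 0 := by
        rw [Category.assoc]
        exact hx
      exact hS.exact.exact_up_to_refinements (x : T ⟶ S.X₂) (zero_of_comp_mono e' hx')
    · intro i hi1 hik
      obtain ⟨j, rfl⟩ : ∃ j, i = j + 1 := ⟨i - 1, by omega⟩
      cases j with
      | zero =>
        rw [exactAt_succ_iff, ShortComplex.exact_iff_exact_up_to_refinements]
        intro T x₂ hx₂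
        obtain ⟨T', π, hπ, y, hy⟩ := hker (x₂ : T ⟶ K'.X 0) hx₂
        obtain ⟨T'', π', hπ', z, hz⟩ := surjective_up_to_refinements_of_epi S.g y
        refine ⟨T'', π' ≫ π, epi_comp _ _, z, ?_⟩
        exact refine_comp π π' x₂ y e' z S.g hy hz
      | succ j' =>
        have h' := hex (j' + 1) (by omega) (by omega)
        rw [exactAt_succ_iff] at h' ⊢
        exact h'
    · intro i hi
      obtain ⟨j, rfl⟩ : ∃ j, i = j + 1 := ⟨i - 1, by omega⟩
      exact hzero j (by omega)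
    · intro i hi
      cases i with
      | zero => exact hP
      | succ j => exact hPt j (by omega)

end Classes

/-! ## Main construction -/

section Main

variable (P : ObjectProperty A)
  (h1 : ∀ X : A, ∃ (Y : A) (i : X ⟶ Y), P Y ∧ Mono i)
  (h2 : ∀ S : ShortComplex A, S.ShortExact → P S.X₁ → (P S.X₂ ↔ P S.X₃))

include h1 h2 in
lemma P_of_isZero {Z : A} (hZ : IsZero Z) : P Z := by
  obtain ⟨Y, _, hY, _⟩ := h1 Z
  have hS : (ShortComplex.mk (𝟙 Y) (0 : Y ⟶ Z) (by simp)).ShortExact :=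
    ShortComplex.Splitting.shortExact
      { r := 𝟙 Y, s := 0, f_r := by simp, s_g := hZ.eq_of_src _ _, id := by simp }
  exact (h2 _ hS hY).1 hY

include h1 h2 in
lemma P_of_iso {X Y : A} (e : X ≅ Y) (hX : P X) : P Y := by
  have h0 : P (0 : A) := P_of_isZero P h1 h2 (isZero_zero A)
  have hS : (ShortComplex.mk (0 : (0 : A) ⟶ X) e.hom (by simp)).ShortExact :=
    ShortComplex.Splitting.shortExact
      { r := 0, s := e.inv, f_r := (isZero_zero A).eq_of_src _ _, s_g := by simp, id := by simp }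
  exact (h2 _ hS h0).1 hX

include h2 in
lemma P_biprod {X Y : A} (hX : P X) (hY : P Y) : P (X ⊞ Y) := by
  have hS : (ShortComplex.mk (biprod.inl : X ⟶ X ⊞ Y) (biprod.snd : X ⊞ Y ⟶ Y)
      (by simp)).ShortExact :=
    ShortComplex.Splitting.shortExact
      { r := biprod.fst, s := biprod.inr, f_r := by simp, s_g := by simp, id := by simp }
  exact (h2 _ hS hX).2 hY

include h1 h2 in
lemma ck_all (n : ℕ) (hn : 1 ≤ n)
    (h3 : ∀ K : CochainComplex A ℕ, (∀ i : ℕ, 1 ≤ i → i ≤ n → K.ExactAt i) →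
      (∀ i : ℕ, n < i → IsZero (K.X i)) →
      Epi (K.d (n - 1) n) → (∀ i : ℕ, i < n → P (K.X i)) → P (K.X n)) (M : A) : Ck P n M := by
  intro N hch
  obtain ⟨K, e, -, -, -, hex, hzero, hPt, ⟨eN⟩⟩ := exists_complex_of_chain P hch
  refine P_of_iso P h1 h2 eN (h3 K hex hzero ?_ hPt)
  have hexn := hex n hn le_rfl
  rw [HomologicalComplex.exactAt_iff' K (n - 1) n (n + 1)
    ((ComplexShape.up ℕ).prev_eq' (by simp only [ComplexShape.up_Rel]; omega))
    ((ComplexShape.up ℕ).next_eq' (by simp))] at hexn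
  exact hexn.epi_f ((hzero (n + 1) (by omega)).eq_of_tgt _ _)

include h1 h2 in
lemma exists_embedding (X : CochainComplex A ℤ) :
    ∃ (J : CochainComplex A ℤ) (i : X ⟶ J), Mono i ∧ J.Acyclic ∧ ∀ m, P (J.X m) := by
  choose I ι hI hι using fun m : ℤ => h1 (X.X m)
  refine ⟨JJ I, toJJ X I ι, ?_, JJ_acyclic I, fun m => P_biprod P h2 (hI m) (hI (m + 1))⟩
  apply HomologicalComplex.mono_of_mono_f
  intro m
  haveI := hι m
  change Mono (biprod.lift (ι m) (X.d m (m + 1) ≫ ι (m + 1)))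
  exact mono_of_mono_fac (biprod.lift_fst (ι m) (X.d m (m + 1) ≫ ι (m + 1)))

include h1 h2 in
theorem claimA (k : ℕ) : ∀ X : CochainComplex A ℤ, (∀ m, Ck P k (X.X m)) →
    ∃ (Y Q : CochainComplex A ℤ) (f : X ⟶ Y) (q : Y ⟶ Q) (w : f ≫ q = 0),
      (ShortComplex.mk f q w).ShortExact ∧ Q.Acyclic ∧ ∀ m, P (Y.X m) := by
  induction k with
  | zero =>
    intro X hX
    refine ⟨X, 0, 𝟙 X, 0, comp_zero, ?_, acyclic_of_isZero _ (isZero_zero _),
      fun m => P_of_Ck_zero P (hX m)⟩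
    exact ShortComplex.Splitting.shortExact
      { r := 𝟙 X, s := 0, f_r := by simp, s_g := (isZero_zero _).eq_of_src _ _, id := by simp }
  | succ k ih =>
    intro X hX
    obtain ⟨J, i, hi, hJ, hPJ⟩ := exists_embedding P h1 h2 X
    have hS₁ : (ShortComplex.mk i (cokernel.π i) (cokernel.condition i)).ShortExact :=
      ShortComplex.ShortExact.mk' (ShortComplex.exact_cokernel i) hi
        (inferInstance : Epi (cokernel.π i))
    have hX' : ∀ m, Ck P k ((cokernel i).X m) := fun m =>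
      Ck_succ P _ (termwise hS₁ m) (hPJ m) (hX m)
    obtain ⟨Y', Q', g, q', w', hS', hQ', hPY'⟩ := ih (cokernel i) hX'
    obtain ⟨N₀, C₀, a₀, π₀, w₀, hS₀, hC₀, hN₀⟩ := exists_path Y'
    have hPN₀ : ∀ m, P (N₀.X m) := hN₀ P hPY'
    haveI : Mono g := hS'.mono_f
    haveI : Epi q' := hS'.epi_g
    haveI : Mono a₀ := hS₀.mono_f
    haveI : Epi π₀ := hS₀.epi_g
    have hS₂ := pb_shortExact_fst g a₀ π₀ w₀ hS₀
    have w₃ : pullback.snd g π₀ ≫ π₀ ≫ q' = 0 := by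
      rw [← pullback.condition_assoc, w', comp_zero]
    have hS₃ : (ShortComplex.mk (pullback.snd g π₀) (π₀ ≫ q') w₃).ShortExact := by
      refine ShortComplex.ShortExact.mk' ?_ (inferInstance : Mono (pullback.snd g π₀))
        (inferInstance : Epi (π₀ ≫ q'))
      rw [ShortComplex.exact_iff_exact_up_to_refinements]
      intro T x₂ hx₂
      have h0 : ((x₂ : T ⟶ C₀) ≫ π₀) ≫ q' = 0 := by
        rw [Category.assoc]
        exact hx₂
      haveI : Mono (ShortComplex.mk g q' w').f := hS'.mono_f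
      refine ⟨T, 𝟙 T, inferInstance,
        pullback.lift (hS'.exact.lift ((x₂ : T ⟶ C₀) ≫ π₀) h0) (x₂ : T ⟶ C₀)
          (hS'.exact.lift_f _ _), ?_⟩
      exact (Category.id_comp _).trans (pullback.lift_snd _ _ _).symm
    have hC' : (pullback g π₀).Acyclic := acyclic_X₁ hS₃ hC₀ hQ'
    have hS₄ := pb_shortExact_fst (cokernel.π i) _ (pullback.fst g π₀) _ hS₂
    have hS₅ := pb_shortExact_snd (pullback.fst g π₀) i (cokernel.π i) (cokernel.condition i) hS₁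
    refine ⟨pullback (cokernel.π i) (pullback.fst g π₀), pullback g π₀, _, _, _, hS₅, hC', ?_⟩
    intro m
    exact (h2 _ (termwise hS₄ m) (hPN₀ m)).2 (hPJ m)

include h1 h2 in
theorem main (n : ℕ) (hn : 1 ≤ n)
    (h3 : ∀ K : CochainComplex A ℕ, (∀ i : ℕ, 1 ≤ i → i ≤ n → K.ExactAt i) →
      (∀ i : ℕ, n < i → IsZero (K.X i)) →
      Epi (K.d (n - 1) n) → (∀ i : ℕ, i < n → P (K.X i)) → P (K.X n))
    (X : CochainComplex A ℤ) :
    ∃ (I : CochainComplex A ℤ) (f : X ⟶ I), QuasiIso f ∧ ∀ k : ℤ, P (I.X k) := by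
  obtain ⟨Y, Q, f, q, w, hS, hQ, hPY⟩ :=
    claimA P h1 h2 n X (fun m => ck_all P h1 h2 n hn h3 (X.X m))
  exact ⟨Y, f, LeftRes.quasiIso_f_of_acyclic hS hQ, hPY⟩

end Main

end Groth.Agent.H33.UnbRes
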