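import Mathlib
import Groth.Agent.H33.UnbRes
import Groth.Agent.H33.RightDer
import Groth.Agent.S16463

/-! Unbounded right derived functors of left exact functors of finite cohomological dimension
(helper33). -/

set_option autoImplicit false
universe w w' v v' u u'

namespace Groth.Agent.H33.UnbDer

open CategoryTheory CategoryTheory.Limits HomologicalComplex Pretriangulated ZeroObject

/-! ## Cycles of an acyclic complex -/

section Cycles

variable {A : Type u} [Category.{v} A] [Abelian A] (K : CochainComplex A ℤ)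

lemma iCycles_toCycles (i : ℤ) : K.iCycles i ≫ K.toCycles i (i + 1) = 0 := by
  rw [← cancel_mono (K.iCycles (i + 1)), Category.assoc, K.toCycles_i, K.iCycles_d, zero_comp]

lemma cycles_shortExact (hK : K.Acyclic) (i : ℤ) :
    (ShortComplex.mk (K.iCycles i) (K.toCycles i (i + 1)) (iCycles_toCycles K i)).ShortExact := by
  refine ShortComplex.ShortExact.mk' ?_ (inferInstance : Mono (K.iCycles i)) ?_
  · rw [ShortComplex.exact_iff_exact_up_to_refinements]
    intro T x₂ hx₂
    have hx₂' : x₂ ≫ K.toCycles i (i + 1) = 0 := hx₂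
    have h0 : x₂ ≫ K.d i (i + 1) = 0 := by
      rw [← K.toCycles_i i (i + 1), ← Category.assoc, hx₂', zero_comp]
    refine ⟨T, 𝟙 T, inferInstance, K.liftCycles x₂ (i + 1) (by simp) h0, ?_⟩
    exact (Category.id_comp _).trans (K.liftCycles_i _ _ _ _).symm
  · change Epi (K.toCycles i (i + 1))
    rw [epi_iff_surjective_up_to_refinements]
    intro T z
    have hex := hK (i + 1)
    rw [HomologicalComplex.exactAt_iff' K i (i + 1) (i + 1 + 1) (by simp) (by simp),
      ShortComplex.exact_iff_exact_up_to_refinements] at hex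
    have hz0 : (z ≫ K.iCycles (i + 1)) ≫ K.d (i + 1) (i + 1 + 1) = 0 := by
      rw [Category.assoc, K.iCycles_d, comp_zero]
    obtain ⟨T', π, hπ, y, hy⟩ := hex (z ≫ K.iCycles (i + 1)) hz0
    refine ⟨T', π, hπ, y, ?_⟩
    have hy' : π ≫ z ≫ K.iCycles (i + 1) = y ≫ K.d i (i + 1) := hy
    rw [← cancel_mono (K.iCycles (i + 1)), Category.assoc, Category.assoc, K.toCycles_i]
    exact hy'

lemma chain_cycles (P : ObjectProperty A) (hK : K.Acyclic) (hP : ∀ m, P (K.X m)) :
    ∀ (k : ℕ) (i j : ℤ), i + k = j → UnbRes.Chain P k (K.cycles i) (K.cycles j) := by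
  intro k
  induction k with
  | zero =>
    intro i j h
    obtain rfl : i = j := by simpa using h
    exact UnbRes.Chain.nil _
  | succ k ih =>
    intro i j h
    exact UnbRes.Chain.cons _ (cycles_shortExact K hK i) (hP i)
      (ih (i + 1) j (by push_cast at h; omega))

end Cycles

/-! ## The subcategory of complexes with terms in `P` -/

section LL

variable {A : Type u} [Category.{v} A] [Abelian A] (P : ObjectProperty A)

/-- complexes whose terms are all in `P`, in the homotopy category (not closed under iso) -/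
def LL : ObjectProperty (HomotopyCategory A (ComplexShape.up ℤ)) :=
  (ObjectProperty.strictMap (fun K : CochainComplex A ℤ => ∀ m, P (K.X m))
    (HomotopyCategory.quotient A (ComplexShape.up ℤ)))

lemma LL_quotient_obj_iff (K : CochainComplex A ℤ) :
    LL P ((HomotopyCategory.quotient _ _).obj K) ↔ ∀ m, P (K.X m) := by
  refine ⟨?_, fun h => ⟨_, h⟩⟩
  simp only [LL, ObjectProperty.strictMap_iff]
  rintro ⟨L, h, hL⟩
  obtain rfl : L = K := congr_arg Quotient.as hL
  exact h

variable (hP0 : ∀ Z : A, IsZero Z → P Z) (hPiso : ∀ X Y : A, (X ≅ Y) → P X → P Y)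
  (hPbi : ∀ X Y : A, P X → P Y → P (X ⊞ Y))

include hP0 in
lemma LL_containsZero : (LL P).ContainsZero where
  exists_zero :=
    ⟨(HomotopyCategory.quotient _ _).obj 0, Functor.map_isZero _ (isZero_zero _),
      (LL_quotient_obj_iff P _).2 (fun m => hP0 _
        ((HomologicalComplex.eval A (ComplexShape.up ℤ) m).map_isZero (isZero_zero _)))⟩

lemma LL_shift : (LL P).IsStableUnderShift ℤ where
  isStableUnderShiftBy n :=
    { le_shift K hK := by
        obtain ⟨K : CochainComplex _ _, rfl⟩ := K.quotient_obj_surjective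
        rw [LL_quotient_obj_iff] at hK
        rw [ObjectProperty.prop_shift_iff, HomotopyCategory.shift_quotient_obj,
          LL_quotient_obj_iff]
        intro m
        exact hK (m + n) }

set_option backward.defeqAttrib.useBackward true in
set_option backward.isDefEq.respectTransparency false in
include hPiso hPbi in
lemma LL_closed₃ : (LL P).IsTriangulatedClosed₃ where
  ext₃' T hT h₁ h₂ := by
    have h₁' : ∀ m, P (T.obj₁.as.X m) := (LL_quotient_obj_iff P T.obj₁.as).1 h₁
    have h₂' : ∀ m, P (T.obj₂.as.X m) := (LL_quotient_obj_iff P T.obj₂.as).1 h₂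
    obtain ⟨f : T.obj₁.as ⟶ T.obj₂.as, hf⟩ :=
      (HomotopyCategory.quotient _ _).map_surjective T.mor₁
    refine ⟨_, ?_,
      ⟨Triangle.π₃.mapIso (isoTriangleOfIso₁₂ T _ hT
        (HomotopyCategory.mappingCone_triangleh_distinguished f)
        (Iso.refl _) (Iso.refl _) ?_)⟩⟩
    · change LL P ((HomotopyCategory.quotient _ _).obj (CochainComplex.mappingCone f))
      rw [LL_quotient_obj_iff]
      intro m
      exact hPiso _ _ (HomologicalComplex.homotopyCofiber.XIsoBiprod f m (m + 1) rfl).symm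
        (hPbi _ _ (h₁' (m + 1)) (h₂' m))
    · simp [hf]

include hP0 hPiso hPbi in
lemma LL_isTriangulated : (LL P).IsTriangulated := by
  haveI := LL_containsZero P hP0
  haveI := LL_shift P
  haveI : (LL P).IsTriangulatedClosed₃ := LL_closed₃ P hPiso hPbi
  exact { toIsTriangulatedClosed₂ := .of_isTriangulatedClosed₃ }

end LL

/-! ## Abstract form -/

section Abstract

variable {A : Type u} [Category.{v} A] [Abelian A] (P : ObjectProperty A)
  (h1 : ∀ X : A, ∃ (Y : A) (i : X ⟶ Y), P Y ∧ Mono i)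
  (h2 : ∀ S : ShortComplex A, S.ShortExact → P S.X₁ → (P S.X₂ ↔ P S.X₃))
  (n : ℕ) (hCk : ∀ M : A, UnbRes.Ck P n M)

include h1 h2 hCk in
lemma hasRightRes [(LL P).IsTriangulated] :
    RightDer.HasRightRes (LL P).isoClosure (HomotopyCategory.subcategoryAcyclic A) := by
  intro X
  obtain ⟨K, rfl⟩ := X.quotient_obj_surjective
  obtain ⟨Y, Q, f, q, w, hS, hQ, hPY⟩ := UnbRes.claimA P h1 h2 n K (fun m => hCk (K.X m))
  refine ⟨(HomotopyCategory.quotient _ _).obj Y, (HomotopyCategory.quotient _ _).map f,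
    ObjectProperty.le_isoClosure _ _ ((LL_quotient_obj_iff P Y).2 hPY), ?_⟩
  rw [← HomotopyCategory.quasiIso_eq_trW_subcategoryAcyclic,
    HomotopyCategory.quotient_map_mem_quasiIso_iff, HomologicalComplex.mem_quasiIso_iff]
  exact LeftRes.quasiIso_f_of_acyclic hS hQ

variable {B' : Type u'} [Category.{v'} B'] [Abelian B'] [HasDerivedCategory.{w'} B']
  (F : A ⥤ B') [F.Additive]
  (hF : ∀ K : CochainComplex A ℤ, K.Acyclic → (∀ m, P (K.X m)) →
    ((F.mapHomologicalComplex (ComplexShape.up ℤ)).obj K).Acyclic)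

include hF in
lemma inverts [(LL P).IsTriangulated] ⦃X Y : HomotopyCategory A (ComplexShape.up ℤ)⦄ (f : X ⟶ Y)
    (hX : (LL P).isoClosure X) (hY : (LL P).isoClosure Y)
    (hf : (HomotopyCategory.subcategoryAcyclic A).trW f) :
    IsIso ((F.mapHomotopyCategory (ComplexShape.up ℤ) ⋙ DerivedCategory.Qh).map f) := by
  obtain ⟨Z, g, k, hT, hZ⟩ := hf
  have hZL : (LL P).isoClosure Z :=
    (LL P).isoClosure.ext_of_isTriangulatedClosed₃ _ hT hX hY
  obtain ⟨Z', hZ', ⟨e⟩⟩ := hZL
  obtain ⟨C, hC⟩ := hZ'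
  have hCacyc : C.Acyclic :=
    (HomotopyCategory.quotient_obj_mem_subcategoryAcyclic_iff_exactAt C).1
      ((HomotopyCategory.subcategoryAcyclic A).prop_of_iso e hZ)
  have hFC := hF C hCacyc hC
  have e' : (F.mapHomotopyCategory (ComplexShape.up ℤ)).obj Z ≅
      (HomotopyCategory.quotient B' (ComplexShape.up ℤ)).obj
        ((F.mapHomologicalComplex (ComplexShape.up ℤ)).obj C) :=
    (F.mapHomotopyCategory _).mapIso e ≪≫
      (F.mapHomotopyCategoryFactors (ComplexShape.up ℤ)).app C
  have hZ'' : HomotopyCategory.subcategoryAcyclic B'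
      ((F.mapHomotopyCategory (ComplexShape.up ℤ)).obj Z) :=
    (HomotopyCategory.subcategoryAcyclic B').prop_of_iso e'.symm
      ((HomotopyCategory.quotient_obj_mem_subcategoryAcyclic_iff_exactAt _).2 hFC)
  have hq : HomotopyCategory.quasiIso B' (ComplexShape.up ℤ)
      ((F.mapHomotopyCategory (ComplexShape.up ℤ)).map f) := by
    rw [HomotopyCategory.quasiIso_eq_trW_subcategoryAcyclic]
    exact ⟨_, _, _, (F.mapHomotopyCategory (ComplexShape.up ℤ)).map_distinguished _ hT, hZ''⟩
  exact Localization.inverts DerivedCategory.Qh (HomotopyCategory.quasiIso B' _) _ hq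

end Abstract

/-! ## Left exact functors of finite cohomological dimension -/

section Concrete

variable {A : Type u} [Category.{v} A] [Abelian A] [HasInjectiveResolutions A]
  {B' : Type u'} [Category.{v'} B'] [Abelian B'] (F : A ⥤ B') [F.Additive]

/-- F-acyclic objects -/
def FAcyc : ObjectProperty A := fun X => ∀ i : ℕ, 0 < i → IsZero ((F.rightDerived i).obj X)

lemma enoughInjectives : EnoughInjectives A where
  presentation X := by
    obtain ⟨I⟩ := (inferInstance : HasInjectiveResolution X).out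
    exact ⟨{ J := I.cocomplex.X 0
             f := (HomologicalComplex.singleObjXSelf (ComplexShape.up ℕ) 0 X).inv ≫ I.ι.f 0 }⟩

lemma FAcyc_h1 (X : A) : ∃ (Y : A) (i : X ⟶ Y), FAcyc F Y ∧ Mono i := by
  haveI := enoughInjectives (A := A)
  refine ⟨Injective.under X, Injective.ι X, ?_, inferInstance⟩
  intro i hi
  obtain ⟨j, rfl⟩ : ∃ j, i = j + 1 := ⟨i - 1, by omega⟩
  exact F.isZero_rightDerived_obj_injective_succ j _

variable (Δ : RDer.DerivedLES F)

include Δ in
lemma isZero_succ (m : ℕ) (hm : ∀ X : A, IsZero ((F.rightDerived m).obj X)) (X : A) :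
    IsZero ((F.rightDerived (m + 1)).obj X) := by
  haveI := enoughInjectives (A := A)
  have hS : (ShortComplex.mk (Injective.ι X) (cokernel.π (Injective.ι X))
      (cokernel.condition _)).ShortExact :=
    ShortComplex.ShortExact.mk' (ShortComplex.exact_cokernel _)
      (inferInstance : Mono (Injective.ι X)) (inferInstance : Epi (cokernel.π (Injective.ι X)))
  have hex := Δ.exact₁ _ hS m (m + 1) rfl
  exact hex.isZero_of_both_zeros ((hm _).eq_of_src _ _)
    ((F.isZero_rightDerived_obj_injective_succ m (Injective.under X)).eq_of_tgt _ _)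

include Δ in
lemma isZero_of_le (n : ℕ) (hn : ∀ X : A, IsZero ((F.rightDerived n).obj X)) (m : ℕ)
    (hm : n ≤ m) : ∀ X : A, IsZero ((F.rightDerived m).obj X) := by
  induction hm with
  | refl => exact hn
  | step _ ih => exact fun X => isZero_succ F Δ _ ih X

include Δ in
lemma FAcyc_h2 (S : ShortComplex A) (hS : S.ShortExact) (h₁ : FAcyc F S.X₁) :
    FAcyc F S.X₂ ↔ FAcyc F S.X₃ := by
  constructor
  · intro h₂ i hi
    exact (Δ.exact₃ S hS i (i + 1) rfl).isZero_of_both_zeros ((h₂ i hi).eq_of_src _ _)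
      ((h₁ (i + 1) (by omega)).eq_of_tgt _ _)
  · intro h₃ i hi
    exact (Δ.exact₂ S hS i).isZero_of_both_zeros ((h₁ i hi).eq_of_src _ _)
      ((h₃ i hi).eq_of_tgt _ _)

include Δ in
lemma chain_isZero {k : ℕ} {M N : A} (h : UnbRes.Chain (FAcyc F) k M N) :
    ∀ j : ℕ, 0 < j → IsZero ((F.rightDerived (j + k)).obj M) →
      IsZero ((F.rightDerived j).obj N) := by
  induction h with
  | nil M =>
    intro j _ h
    exact h
  | @cons k N S hS hP h ih =>
    intro j hj h0
    apply ih j hj
    exact (Δ.exact₃ S hS (j + k) (j + k + 1) rfl).isZero_of_both_zeros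
      ((hP (j + k) (by omega)).eq_of_src _ _) (h0.eq_of_tgt _ _)

include Δ in
lemma FAcyc_Ck (n : ℕ) (hn : ∀ X : A, IsZero ((F.rightDerived n).obj X)) (M : A) :
    UnbRes.Ck (FAcyc F) n M := by
  intro N hch j hj
  exact chain_isZero F Δ hch j hj (isZero_of_le F Δ n hn (j + n) (by omega) M)

variable [PreservesFiniteLimits F]

include Δ in
lemma epi_map_g (S : ShortComplex A) (hS : S.ShortExact)
    (h : IsZero ((F.rightDerived 1).obj S.X₁)) : Epi (F.map S.g) := by
  have hex := Δ.exact₃ S hS 0 1 rfl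
  haveI : Epi ((F.rightDerived 0).map S.g) := hex.epi_f (h.eq_of_tgt _ _)
  rw [← NatIso.naturality_1 F.rightDerivedZeroIsoSelf S.g]
  infer_instance

include Δ in
lemma map_acyclic (n : ℕ) (hn : ∀ X : A, IsZero ((F.rightDerived n).obj X))
    (K : CochainComplex A ℤ) (hK : K.Acyclic) (hP : ∀ m, FAcyc F (K.X m)) :
    ((F.mapHomologicalComplex (ComplexShape.up ℤ)).obj K).Acyclic := by
  have hZ : ∀ j, FAcyc F (K.cycles j) := fun j =>
    FAcyc_Ck F Δ n hn (K.cycles (j - n)) (K.cycles j)
      (chain_cycles K (FAcyc F) hK hP n (j - n) j (by omega))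
  intro j
  obtain ⟨i, rfl⟩ : ∃ i, j = i + 1 := ⟨j - 1, by omega⟩
  rw [HomologicalComplex.exactAt_iff' _ i (i + 1) (i + 1 + 1) (by simp) (by simp),
    ShortComplex.exact_iff_exact_up_to_refinements]
  intro T x₂ hx₂
  change T ⟶ F.obj (K.X (i + 1)) at x₂
  have hx₂' : x₂ ≫ F.map (K.d (i + 1) (i + 1 + 1)) = 0 := hx₂
  have hS₁ := cycles_shortExact K hK (i + 1)
  have hS₀ := cycles_shortExact K hK i
  haveI : Mono (F.map (K.iCycles (i + 1 + 1))) := inferInstance
  have h0 : x₂ ≫ F.map (K.toCycles (i + 1) (i + 1 + 1)) = 0 := by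
    rw [← cancel_mono (F.map (K.iCycles (i + 1 + 1))), Category.assoc, ← F.map_comp,
      K.toCycles_i, hx₂', zero_comp]
  have hex : (ShortComplex.mk (F.map (K.iCycles (i + 1)))
      (F.map (K.toCycles (i + 1) (i + 1 + 1)))
      (by rw [← F.map_comp, iCycles_toCycles, F.map_zero])).Exact :=
    hS₁.exact.map_of_mono_of_preservesKernel F hS₁.mono_f inferInstance
  obtain ⟨T', π, hπ, y, hy⟩ := hex.exact_up_to_refinements x₂ h0
  haveI : Epi (F.map (K.toCycles i (i + 1))) := epi_map_g F Δ _ hS₀ (hZ i 1 Nat.one_pos)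
  obtain ⟨T'', π', hπ', z, hz⟩ :=
    surjective_up_to_refinements_of_epi (F.map (K.toCycles i (i + 1))) y
  refine ⟨T'', π' ≫ π, epi_comp _ _, z, ?_⟩
  have key := UnbRes.refine_comp π π' x₂ y (F.map (K.iCycles (i + 1))) z
    (F.map (K.toCycles i (i + 1))) hy hz
  rw [← F.map_comp, K.toCycles_i] at key
  exact key

end Concrete

/-! ## Final statements -/

section Final

variable {A : Type u} [Category.{v} A] [Abelian A] [HasInjectiveResolutions A]
  {B' : Type u'} [Category.{v'} B'] [Abelian B'] [HasDerivedCategory.{w'} B']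
  (F : A ⥤ B') [F.Additive] [PreservesFiniteLimits F] (n : ℕ)
  (hn : ∀ X : A, IsZero ((F.rightDerived n).obj X))

include hn in
theorem hasRightDerived :
    (F.mapHomotopyCategory (ComplexShape.up ℤ) ⋙ DerivedCategory.Qh).HasRightDerivedFunctor
      (HomotopyCategory.quasiIso A (ComplexShape.up ℤ)) := by
  haveI := enoughInjectives (A := A)
  obtain ⟨Δ⟩ := Groth.Agent.S16463.result F
  have h1 := FAcyc_h1 F
  have h2 := FAcyc_h2 F Δ
  have hCk := FAcyc_Ck F Δ n hn
  haveI : (LL (FAcyc F)).IsTriangulated := LL_isTriangulated (FAcyc F)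
    (fun Z hZ => UnbRes.P_of_isZero (FAcyc F) h1 h2 hZ)
    (fun X Y e hX => UnbRes.P_of_iso (FAcyc F) h1 h2 e hX)
    (fun X Y hX hY => UnbRes.P_biprod (FAcyc F) h2 hX hY)
  have hres := hasRightRes (FAcyc F) h1 h2 n hCk
  have hG := inverts (FAcyc F) F (map_acyclic F Δ n hn)
  have := RightDer.hasPointwiseRightDerivedFunctor_of_hasRightRes hres _ hG
    (HomotopyCategory.quasiIso A (ComplexShape.up ℤ))
    (HomotopyCategory.quasiIso_eq_trW_subcategoryAcyclic A)
  infer_instance

include hn in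
theorem unit_isIso [HasDerivedCategory.{w} A]
    [(F.mapHomotopyCategory (ComplexShape.up ℤ) ⋙ DerivedCategory.Qh).HasRightDerivedFunctor
      (HomotopyCategory.quasiIso A (ComplexShape.up ℤ))]
    (K : CochainComplex A ℤ)
    (hK : ∀ (m : ℤ) (i : ℕ), 0 < i → IsZero ((F.rightDerived i).obj (K.X m))) :
    IsIso (((F.mapHomotopyCategory (ComplexShape.up ℤ) ⋙ DerivedCategory.Qh).totalRightDerivedUnit
      DerivedCategory.Qh (HomotopyCategory.quasiIso A (ComplexShape.up ℤ))).app
        ((HomotopyCategory.quotient A (ComplexShape.up ℤ)).obj K)) := by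
  haveI := enoughInjectives (A := A)
  obtain ⟨Δ⟩ := Groth.Agent.S16463.result F
  have h1 := FAcyc_h1 F
  have h2 := FAcyc_h2 F Δ
  have hCk := FAcyc_Ck F Δ n hn
  haveI : (LL (FAcyc F)).IsTriangulated := LL_isTriangulated (FAcyc F)
    (fun Z hZ => UnbRes.P_of_isZero (FAcyc F) h1 h2 hZ)
    (fun X Y e hX => UnbRes.P_of_iso (FAcyc F) h1 h2 e hX)
    (fun X Y hX hY => UnbRes.P_biprod (FAcyc F) h2 hX hY)
  have hres := hasRightRes (FAcyc F) h1 h2 n hCk
  have hG := inverts (FAcyc F) F (map_acyclic F Δ n hn)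
  exact RightDer.isIso_app_of_hasRightRes hres _ hG
    (HomotopyCategory.quasiIso A (ComplexShape.up ℤ))
    (HomotopyCategory.quasiIso_eq_trW_subcategoryAcyclic A)
    ((F.mapHomotopyCategory (ComplexShape.up ℤ) ⋙ DerivedCategory.Qh).totalRightDerivedUnit
      DerivedCategory.Qh (HomotopyCategory.quasiIso A (ComplexShape.up ℤ))) _
    (ObjectProperty.le_isoClosure _ _ ((LL_quotient_obj_iff (FAcyc F) K).2 hK))

end Final

end Groth.Agent.H33.UnbDer
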