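import Groth.Agent.H33.PCohBase
import Groth.Agent.S5602
import Groth.Prelude.Def_PCoh
import Mathlib.Algebra.Homology.Refinements
import Mathlib.Algebra.Homology.HomotopyCategory.HomComplexSingle
import Mathlib.Algebra.Homology.DerivedCategory.HomologySequence

/-! Pseudo-coherence over an abelian category (SGA 6 I): attaching a cell to kill the top
cohomology of a cone, and the descending induction producing a strictly perfect approximation
(helper33). -/

set_option autoImplicit false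
universe v u

namespace Groth.Agent.H33.PCoh

open CategoryTheory CategoryTheory.Limits HomologicalComplex CochainComplex
open CochainComplex.HomComplex
open ZeroObject

variable {C : Type u} [Category.{v} C] [Abelian C]

lemma up_prev (i j : ℤ) (h : i + 1 = j) : (ComplexShape.up ℤ).prev j = i :=
  (ComplexShape.up ℤ).prev_eq' h

lemma up_next (i j : ℤ) (h : i + 1 = j) : (ComplexShape.up ℤ).next i = j :=
  (ComplexShape.up ℤ).next_eq' h

/-- if `T → H^k(K)` (given by a cycle `z`) is epi, every cycle is, up to refinement, a multiple of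
`z` plus a boundary -/
lemma cycle_decomp (K : CochainComplex C ℤ) (k : ℤ) {T : C} (z : T ⟶ K.X k)
    (hz : z ≫ K.d k (k + 1) = 0)
    (hepi : Epi (K.liftCycles z (k + 1) (by simp) hz ≫ K.homologyπ k))
    {A : C} (w : A ⟶ K.X k) (hw : w ≫ K.d k (k + 1) = 0) :
    ∃ (A' : C) (π : A' ⟶ A) (_ : Epi π) (t : A' ⟶ T) (w₁ : A' ⟶ K.X (k - 1)),
      π ≫ w = t ≫ z + w₁ ≫ K.d (k - 1) k := by
  obtain ⟨A₁, π₁, hπ₁, t, ht⟩ := surjective_up_to_refinements_of_epi
    (K.liftCycles z (k + 1) (up_next k (k + 1) rfl) hz ≫ K.homologyπ k)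
    (K.liftCycles w (k + 1) (up_next k (k + 1) rfl) hw ≫ K.homologyπ k)
  rw [← Category.assoc, ← Category.assoc, K.comp_liftCycles, K.comp_liftCycles] at ht
  obtain ⟨A₂, π₂, hπ₂, x₁, hx₁⟩ :=
    (K.liftCycles_comp_homologyπ_eq_iff_up_to_refinements (k - 1) k (k + 1)
      (by simp) (by simp) (π₁ ≫ w) (t ≫ z) _ _).1 ht
  refine ⟨A₂, π₂ ≫ π₁, epi_comp _ _, π₂ ≫ t, x₁, ?_⟩
  rw [Category.assoc, hx₁, Category.assoc]

set_option backward.isDefEq.respectTransparency false in
/-- cone version of `cycle_decomp`, in components -/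
lemma cone_cycle_decomp {E F : CochainComplex C ℤ} (u : E ⟶ F) (k : ℤ) {T : C}
    (z : T ⟶ (mappingCone u).X k) (hz : z ≫ (mappingCone u).d k (k + 1) = 0)
    (hepi : Epi ((mappingCone u).liftCycles z (k + 1) (by simp) hz ≫
      (mappingCone u).homologyπ k))
    {A : C} (x : A ⟶ E.X (k + 1)) (y : A ⟶ F.X k) (hx : x ≫ E.d (k + 1) (k + 2) = 0)
    (hxy : x ≫ u.f (k + 1) + y ≫ F.d k (k + 1) = 0) :
    ∃ (A' : C) (π : A' ⟶ A) (_ : Epi π) (t : A' ⟶ T) (x₁ : A' ⟶ E.X k)
      (y₁ : A' ⟶ F.X (k - 1)),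
      π ≫ x = t ≫ z ≫ (mappingCone.fst u).1.v k (k + 1) rfl - x₁ ≫ E.d k (k + 1) ∧
      π ≫ y = t ≫ z ≫ (mappingCone.snd u).v k k (add_zero k) + x₁ ≫ u.f k +
        y₁ ≫ F.d (k - 1) k := by
  obtain ⟨w, hw⟩ : ∃ w : A ⟶ (mappingCone u).X k,
      w = x ≫ (mappingCone.inl u).v (k + 1) k (by omega) + y ≫ (mappingCone.inr u).f k :=
    ⟨_, rfl⟩
  have hwf : w ≫ (mappingCone.fst u).1.v k (k + 1) rfl = x := by
    rw [hw]; simp
  have hws : w ≫ (mappingCone.snd u).v k k (add_zero k) = y := by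
    rw [hw]; simp
  have hwd : w ≫ (mappingCone u).d k (k + 1) = 0 := by
    rw [mappingCone.ext_to_iff u (k + 1) (k + 2) (by omega)]
    constructor
    · rw [Category.assoc, mappingCone.d_fst_v u k (k + 1) (k + 2) rfl (by omega),
        Preadditive.comp_neg, ← Category.assoc, hwf, hx, neg_zero, zero_comp]
    · rw [Category.assoc, mappingCone.d_snd_v u k (k + 1) rfl, Preadditive.comp_add,
        ← Category.assoc, ← Category.assoc, hwf, hws, hxy, zero_comp]
  obtain ⟨A', π, hπ, t, w₁, hdec⟩ := cycle_decomp (mappingCone u) k z hz hepi w hwd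
  refine ⟨A', π, hπ, t, w₁ ≫ (mappingCone.fst u).1.v (k - 1) k (by omega),
    w₁ ≫ (mappingCone.snd u).v (k - 1) (k - 1) (add_zero _), ?_, ?_⟩
  · have h := hdec =≫ (mappingCone.fst u).1.v k (k + 1) rfl
    rw [Category.assoc, hwf, Preadditive.add_comp, Category.assoc, Category.assoc,
      mappingCone.d_fst_v u (k - 1) k (k + 1) (by omega) rfl, Preadditive.comp_neg,
      ← sub_eq_add_neg] at h
    rw [Category.assoc]
    exact h
  · have h := hdec =≫ (mappingCone.snd u).v k k (add_zero k)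
    rw [Category.assoc, hws, Preadditive.add_comp, Category.assoc, Category.assoc,
      mappingCone.d_snd_v u (k - 1) k (by omega), Preadditive.comp_add, ← add_assoc] at h
    rw [Category.assoc, Category.assoc]
    exact h

lemma isIso_homologyMap_of_isIso_f {K L : CochainComplex C ℤ} (f : K ⟶ L) (i : ℤ)
    (h1 : IsIso (f.f (i - 1))) (h2 : IsIso (f.f i)) (h3 : IsIso (f.f (i + 1))) :
    IsIso (HomologicalComplex.homologyMap f i) := by
  have hq : QuasiIsoAt f i := by
    rw [quasiIsoAt_iff' f (i - 1) i (i + 1) (by simp) (by simp)]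
    have e1 : IsIso ((HomologicalComplex.shortComplexFunctor' C (ComplexShape.up ℤ)
        (i - 1) i (i + 1)).map f).τ₁ := h1
    have e2 : IsIso ((HomologicalComplex.shortComplexFunctor' C (ComplexShape.up ℤ)
        (i - 1) i (i + 1)).map f).τ₂ := h2
    have e3 : IsIso ((HomologicalComplex.shortComplexFunctor' C (ComplexShape.up ℤ)
        (i - 1) i (i + 1)).map f).τ₃ := h3
    exact ShortComplex.quasiIso_of_epi_of_isIso_of_mono _
  exact (quasiIsoAt_iff_isIso_homologyMap f i).1 hq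

/-- the step lemma: attaching a cell along a cycle of the cone generating `H^k` of the cone turns
a `(k+1)`-quasi-isomorphism into a `k`-quasi-isomorphism -/
lemma step_nqi {E E' F : CochainComplex C ℤ} (k : ℤ) (u : E ⟶ F) (ι : E ⟶ E') (u' : E' ⟶ F)
    (hfac : ι ≫ u' = u) (hι : ∀ i : ℤ, i ≠ k → IsIso (ι.f i)) (hu : IsNQI (k + 1) u)
    {T : C} (z : T ⟶ (mappingCone u).X k) (hz : z ≫ (mappingCone u).d k (k + 1) = 0)
    (hepi : Epi ((mappingCone u).liftCycles z (k + 1) (by simp) hz ≫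
      (mappingCone u).homologyπ k))
    (τ : T ⟶ E'.X k)
    (hτd : τ ≫ E'.d k (k + 1) = z ≫ (mappingCone.fst u).1.v k (k + 1) rfl ≫ ι.f (k + 1))
    (hτu : τ ≫ u'.f k = -(z ≫ (mappingCone.snd u).v k k (add_zero k))) :
    IsNQI k u' := by
  obtain ⟨hu1, hu2⟩ := hu
  have hcomp : ∀ i, HomologicalComplex.homologyMap ι i ≫ HomologicalComplex.homologyMap u' i =
      HomologicalComplex.homologyMap u i := fun i => by
    rw [← HomologicalComplex.homologyMap_comp, hfac]
  have hfi : ∀ i, ι.f i ≫ u'.f i = u.f i := fun i => by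
    rw [← HomologicalComplex.comp_f, hfac]
  refine And.intro (fun i hi => ?_) ?_
  · rcases (show k + 1 < i ∨ i = k + 1 by omega) with hi' | rfl
    · have h1 : IsIso (HomologicalComplex.homologyMap ι i) :=
        isIso_homologyMap_of_isIso_f ι i (hι _ (by omega)) (hι _ (by omega)) (hι _ (by omega))
      have h2 : IsIso (HomologicalComplex.homologyMap u i) := hu1 i hi'
      rw [← hcomp i] at h2
      exact IsIso.of_isIso_comp_left (HomologicalComplex.homologyMap ι i)
        (HomologicalComplex.homologyMap u' i)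
    · have hepi' : Epi (HomologicalComplex.homologyMap u' (k + 1)) := by
        have : Epi (HomologicalComplex.homologyMap ι (k + 1) ≫
            HomologicalComplex.homologyMap u' (k + 1)) := by
          rw [hcomp]; exact hu2
        exact epi_of_epi (HomologicalComplex.homologyMap ι (k + 1)) _
      have hmono : Mono (HomologicalComplex.homologyMap u' (k + 1)) := by
        rw [HomologicalComplex.mono_homologyMap_iff_up_to_refinements u' k (k + 1) (k + 2)
          (up_prev _ _ rfl) (up_next _ _ (by omega))]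
        intro A x₂' hx₂' y₁ hy₁
        have hiso1 := hι (k + 1) (by omega)
        have hiso2 := hι (k + 2) (by omega)
        obtain ⟨x, hx⟩ : ∃ x : A ⟶ E.X (k + 1), x = x₂' ≫ inv (ι.f (k + 1)) := ⟨_, rfl⟩
        have hxι : x ≫ ι.f (k + 1) = x₂' := by
          rw [hx, Category.assoc, IsIso.inv_hom_id, Category.comp_id]
        have hxd : x ≫ E.d (k + 1) (k + 2) = 0 := by
          rw [← cancel_mono (ι.f (k + 2)), Category.assoc, ← ι.comm, ← Category.assoc, hxι,
            hx₂', zero_comp]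
        have hxu : x ≫ u.f (k + 1) = y₁ ≫ F.d k (k + 1) := by
          rw [← hfi (k + 1), ← Category.assoc, hxι, hy₁]
        obtain ⟨A', π, hπ, t, x₁, y₁', h1, -⟩ := cone_cycle_decomp u k z hz hepi x (-y₁) hxd
          (by rw [Preadditive.neg_comp, hxu, add_neg_cancel])
        refine ⟨A', π, hπ, t ≫ τ - x₁ ≫ ι.f k, ?_⟩
        rw [Preadditive.sub_comp, Category.assoc, Category.assoc, hτd, ι.comm k (k + 1), ← hxι,
          ← Category.assoc π, h1, Preadditive.sub_comp]
        simp only [Category.assoc]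
      exact isIso_of_mono_of_epi _
  · rw [HomologicalComplex.epi_homologyMap_iff_up_to_refinements u' (k - 1) k (k + 1)
      (up_prev _ _ (by omega)) (up_next _ _ rfl)]
    intro A y₂ hy₂
    obtain ⟨A', π, hπ, t, x₁, y₁, h1, h2⟩ := cone_cycle_decomp u k z hz hepi
      (0 : A ⟶ E.X (k + 1)) y₂ zero_comp (by rw [zero_comp, zero_add, hy₂])
    rw [comp_zero] at h1
    have h1' : t ≫ z ≫ (mappingCone.fst u).1.v k (k + 1) rfl = x₁ ≫ E.d k (k + 1) :=
      sub_eq_zero.1 h1.symm
    refine ⟨A', π, hπ, x₁ ≫ ι.f k - t ≫ τ, ?_, y₁, ?_⟩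
    · rw [Preadditive.sub_comp, Category.assoc, Category.assoc, hτd, ι.comm k (k + 1),
        ← Category.assoc x₁, ← h1', sub_eq_zero]
      simp only [Category.assoc]
    · rw [h2, Preadditive.sub_comp, Category.assoc, Category.assoc, hτu, hfi,
        Preadditive.comp_neg, sub_neg_eq_add]
      abel

set_option backward.isDefEq.respectTransparency false in
/-- attaching a cell `T` in degree `k` to `E` along the first component of a cycle `z` of the cone
of `u : E ⟶ F`, and extending `u` by (minus) the second component -/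
lemma exists_attach {E F : CochainComplex C ℤ} (u : E ⟶ F) (k : ℤ) {T : C}
    (z : T ⟶ (mappingCone u).X k) (hz : z ≫ (mappingCone u).d k (k + 1) = 0) :
    ∃ (E' : CochainComplex C ℤ) (ι : E ⟶ E') (u' : E' ⟶ F) (τ : T ⟶ E'.X k) (ρ : E'.X k ⟶ T)
      (σ : E'.X k ⟶ E.X k),
      ι ≫ u' = u ∧ (∀ i, Mono (ι.f i)) ∧ (∀ i, i ≠ k → IsIso (ι.f i)) ∧
      τ ≫ E'.d k (k + 1) = z ≫ (mappingCone.fst u).1.v k (k + 1) rfl ≫ ι.f (k + 1) ∧
      τ ≫ u'.f k = -(z ≫ (mappingCone.snd u).v k k (add_zero k)) ∧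
      τ ≫ ρ = 𝟙 T ∧ ι.f k ≫ ρ = 0 ∧ ι.f k ≫ σ = 𝟙 _ ∧ τ ≫ σ = 0 ∧
      ρ ≫ τ + σ ≫ ι.f k = 𝟙 _ := by
  obtain ⟨a, ha_def⟩ : ∃ a : T ⟶ E.X (k + 1), a = z ≫ (mappingCone.fst u).1.v k (k + 1) rfl :=
    ⟨_, rfl⟩
  obtain ⟨b, hb_def⟩ : ∃ b : T ⟶ F.X k, b = z ≫ (mappingCone.snd u).v k k (add_zero k) :=
    ⟨_, rfl⟩
  have ha : a ≫ E.d (k + 1) (k + 2) = 0 := by
    have h := hz =≫ (mappingCone.fst u).1.v (k + 1) (k + 2) (by omega)
    rw [Category.assoc, mappingCone.d_fst_v u k (k + 1) (k + 2) rfl (by omega), zero_comp,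
      Preadditive.comp_neg, neg_eq_zero, ← Category.assoc, ← ha_def] at h
    exact h
  have hab : a ≫ u.f (k + 1) + b ≫ F.d k (k + 1) = 0 := by
    have h := hz =≫ (mappingCone.snd u).v (k + 1) (k + 1) (add_zero _)
    rw [Category.assoc, mappingCone.d_snd_v u k (k + 1) rfl, zero_comp, Preadditive.comp_add,
      ← Category.assoc, ← Category.assoc, ← ha_def, ← hb_def] at h
    exact h
  have hβ : (-b) ≫ F.d k (k + 1) = a ≫ u.f (k + 1) := by
    rw [Preadditive.neg_comp, eq_comm, ← add_eq_zero_iff_eq_neg]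
    exact hab
  obtain ⟨φ, hφ_def⟩ : ∃ φ : (CochainComplex.singleFunctor C (k + 1)).obj T ⟶ E,
      φ = Cocycle.homOf (Cocycle.fromSingleMk a (add_zero (k + 1)) (k + 2) (by omega) ha) :=
    ⟨_, rfl⟩
  have hφ : Cochain.ofHom φ = Cochain.fromSingleMk a (add_zero (k + 1)) := by
    rw [hφ_def]; simp
  have hφf : φ.f (k + 1) =
      (HomologicalComplex.singleObjXSelf (ComplexShape.up ℤ) (k + 1) T).hom ≫ a := by
    have h := Cochain.congr_v hφ (k + 1) (k + 1) (add_zero _)
    rw [Cochain.ofHom_v, Cochain.fromSingleMk_v] at h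
    exact h
  obtain ⟨α, hα_def⟩ : ∃ α : Cochain ((CochainComplex.singleFunctor C (k + 1)).obj T) F (-1),
      α = Cochain.fromSingleMk (-b) (by omega : k + 1 + (-1) = k) := ⟨_, rfl⟩
  have eq : δ (-1) 0 α = Cochain.ofHom (φ ≫ u) := by
    rw [Cochain.ofHom_comp, hφ, ← Cochain.fromSingleMk_postcomp, ← hβ, hα_def]
    exact Cochain.δ_fromSingleMk (-b) _ 0 (k + 1) (add_zero _)
  have hαv : α.v (k + 1) k (by omega) =
      (HomologicalComplex.singleObjXSelf (ComplexShape.up ℤ) (k + 1) T).hom ≫ (-b) := by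
    rw [hα_def, Cochain.fromSingleMk_v]
  refine ⟨mappingCone φ, mappingCone.inr φ, mappingCone.desc φ α u eq,
    (HomologicalComplex.singleObjXSelf (ComplexShape.up ℤ) (k + 1) T).inv ≫
      (mappingCone.inl φ).v (k + 1) k (by omega),
    (mappingCone.fst φ).1.v k (k + 1) rfl ≫
      (HomologicalComplex.singleObjXSelf (ComplexShape.up ℤ) (k + 1) T).hom,
    (mappingCone.snd φ).v k k (add_zero k), ?_, ?_, ?_, ?_, ?_, ?_, ?_, ?_, ?_, ?_⟩
  · exact mappingCone.inr_desc φ α u eq
  · intro i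
    exact mono_of_mono_fac (mappingCone.inr_f_snd_v φ i)
  · intro i hi
    have hz0 : IsZero (((CochainComplex.singleFunctor C (k + 1)).obj T).X (i + 1)) :=
      HomologicalComplex.isZero_single_obj_X (ComplexShape.up ℤ) (k + 1) T (i + 1) (by omega)
    refine ⟨⟨(mappingCone.snd φ).v i i (add_zero i), mappingCone.inr_f_snd_v φ i, ?_⟩⟩
    have h := mappingCone.id_X φ i (i + 1) rfl
    rw [hz0.eq_of_tgt ((mappingCone.fst φ).1.v i (i + 1) rfl) 0, zero_comp, zero_add] at h
    exact h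
  · have h0 : ((CochainComplex.singleFunctor C (k + 1)).obj T).d (k + 1) (k + 2) = 0 := rfl
    rw [Category.assoc, mappingCone.inl_v_d φ (k + 1) k (k + 2) (by omega) (by omega), h0,
      zero_comp, sub_zero, hφf, ha_def]
    simp
  · rw [Category.assoc, mappingCone.inl_v_desc_f, hαv, ← hb_def]
    simp
  · simp
  · simp
  · exact mappingCone.inr_f_snd_v φ k
  · simp
  · have h := mappingCone.id_X φ k (k + 1) rfl
    simpa using h

/-- a finite type cohomology object is generated by a cycle from an object of `P` -/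
lemma exists_cycle_of_finiteType (P : ObjectProperty C) (hql : _root_.PCoh.IsQuasiLiftable P)
    (K : CochainComplex C ℤ) (k : ℤ) (hft : _root_.PCoh.IsOfFiniteType P (K.homology k)) :
    ∃ (T : C) (z : T ⟶ K.X k) (hz : z ≫ K.d k (k + 1) = 0), P T ∧
      Epi (K.liftCycles z (k + 1) (by simp) hz ≫ K.homologyπ k) := by
  obtain ⟨T₀, p₀, hT₀, hp₀⟩ := hft
  have hfst : Epi (pullback.fst p₀ (K.homologyπ k)) := inferInstance
  obtain ⟨T, q, hT, hq⟩ := hql _ _ (pullback.fst p₀ (K.homologyπ k)) hfst hT₀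
  have hz : (q ≫ pullback.snd p₀ (K.homologyπ k) ≫ K.iCycles k) ≫ K.d k (k + 1) = 0 := by
    simp
  refine ⟨T, q ≫ pullback.snd p₀ (K.homologyπ k) ≫ K.iCycles k, hz, hT, ?_⟩
  have h1 : K.liftCycles (q ≫ pullback.snd p₀ (K.homologyπ k) ≫ K.iCycles k) (k + 1) (by simp)
      hz = q ≫ pullback.snd p₀ (K.homologyπ k) := by
    rw [← cancel_mono (K.iCycles k), K.liftCycles_i, Category.assoc]
  rw [h1, Category.assoc, ← pullback.condition, ← Category.assoc]
  exact epi_comp' hq hp₀

/-- strong form of the cell attachment statement -/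
theorem attach_cell (P : ObjectProperty C) (hql : _root_.PCoh.IsQuasiLiftable P)
    (k : ℤ) {E F : CochainComplex C ℤ} (u : E ⟶ F) (hu : IsNQI (k + 1) u)
    (hcone : _root_.PCoh.IsOfFiniteType P ((mappingCone u).homology k)) :
    ∃ (E' : CochainComplex C ℤ) (ι : E ⟶ E') (u' : E' ⟶ F) (T : C) (τ : T ⟶ E'.X k)
      (ρ : E'.X k ⟶ T) (σ : E'.X k ⟶ E.X k),
      ι ≫ u' = u ∧ P T ∧ (∀ i, Mono (ι.f i)) ∧ (∀ i, i ≠ k → IsIso (ι.f i)) ∧
      τ ≫ ρ = 𝟙 T ∧ ι.f k ≫ ρ = 0 ∧ ι.f k ≫ σ = 𝟙 _ ∧ τ ≫ σ = 0 ∧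
      ρ ≫ τ + σ ≫ ι.f k = 𝟙 _ ∧ IsNQI k u' := by
  obtain ⟨T, z, hz, hT, hepi⟩ := exists_cycle_of_finiteType P hql (mappingCone u) k hcone
  obtain ⟨E', ι, u', τ, ρ, σ, hfac, hm, hiso, hτd, hτu, h1, h2, h3, h4, h5⟩ :=
    exists_attach u k z hz
  exact ⟨E', ι, u', T, τ, ρ, σ, hfac, hT, hm, hiso, h1, h2, h3, h4, h5,
    step_nqi k u ι u' hfac hiso hu z hz hepi τ hτd hτu⟩

lemma prop_of_split (P : ObjectProperty C) [P.IsClosedUnderIsomorphisms]
    (hsum : ∀ X Y : C, P X → P Y → P (X ⨯ Y)) {X Y Z : C} (i : X ⟶ Z) (τ : Y ⟶ Z) (ρ : Z ⟶ Y)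
    (σ : Z ⟶ X) (h1 : τ ≫ ρ = 𝟙 Y) (h2 : i ≫ ρ = 0) (h3 : i ≫ σ = 𝟙 X) (h4 : τ ≫ σ = 0)
    (h5 : ρ ≫ τ + σ ≫ i = 𝟙 Z) (hX : P X) (hY : P Y) : P Z := by
  have e : Z ≅ X ⨯ Y :=
    { hom := prod.lift σ ρ
      inv := prod.fst ≫ i + prod.snd ≫ τ
      hom_inv_id := by
        rw [Preadditive.comp_add, prod.lift_fst_assoc, prod.lift_snd_assoc, add_comm]
        exact h5
      inv_hom_id := by
        apply Limits.prod.hom_ext
        · rw [Category.assoc, prod.lift_fst, Category.id_comp, Preadditive.add_comp,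
            Category.assoc, Category.assoc, h3, h4, comp_zero, add_zero, Category.comp_id]
        · rw [Category.assoc, prod.lift_snd, Category.id_comp, Preadditive.add_comp,
            Category.assoc, Category.assoc, h2, h1, comp_zero, zero_add, Category.comp_id] }
  exact P.prop_of_iso e.symm (hsum X Y hX hY)

lemma cokernel_iso_of_split {X Y Z : C} (i : X ⟶ Z) (τ : Y ⟶ Z) (ρ : Z ⟶ Y) (σ : Z ⟶ X)
    (h1 : τ ≫ ρ = 𝟙 Y) (h2 : i ≫ ρ = 0) (h5 : ρ ≫ τ + σ ≫ i = 𝟙 Z) :
    Nonempty (cokernel i ≅ Y) :=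
  ⟨{ hom := cokernel.desc i ρ h2
     inv := τ ≫ cokernel.π i
     hom_inv_id := by
       have h : ρ ≫ τ = 𝟙 Z - σ ≫ i := eq_sub_of_add_eq h5
       rw [← cancel_epi (cokernel.π i), cokernel.π_desc_assoc, Category.comp_id,
         ← Category.assoc, h, Preadditive.sub_comp, Category.id_comp, Category.assoc,
         cokernel.condition, comp_zero, sub_zero]
     inv_hom_id := by rw [Category.assoc, cokernel.π_desc, h1] }⟩

set_option backward.isDefEq.respectTransparency false in
lemma prop_cone_X (P : ObjectProperty C) [P.IsClosedUnderIsomorphisms]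
    (hsum : ∀ X Y : C, P X → P Y → P (X ⨯ Y)) {G F : CochainComplex C ℤ} (w : G ⟶ F) (i : ℤ)
    (hG : P (G.X (i + 1))) (hF : P (F.X i)) : P ((mappingCone w).X i) :=
  prop_of_split P hsum ((mappingCone.inr w).f i) ((mappingCone.inl w).v (i + 1) i (by omega))
    ((mappingCone.fst w).1.v i (i + 1) rfl) ((mappingCone.snd w).v i i (add_zero i))
    (by simp) (by simp) (by simp) (by simp) (mappingCone.id_X w i (i + 1) rfl) hF hG

/-- `w` is an `m`-quasi-isomorphism iff its cone is acyclic in degrees `≥ m` -/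
lemma isNQI_iff_cone {E F : CochainComplex C ℤ} (m : ℤ) (w : E ⟶ F) :
    IsNQI m w ↔ ∀ i : ℤ, m ≤ i → IsZero ((mappingCone w).homology i) := by
  let _ : HasDerivedCategory C := HasDerivedCategory.standard C
  have hT := DerivedCategory.mappingCone_triangle_distinguished w
  have ex1 := fun i : ℤ => CochainComplex.homologyMap_exact₁_of_distTriang _ hT i (i + 1) rfl
  have ex2 := fun i : ℤ => CochainComplex.homologyMap_exact₂_of_distTriang _ hT i
  have ex3 := fun i : ℤ => CochainComplex.homologyMap_exact₃_of_distTriang _ hT i (i + 1) rfl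
  constructor
  · intro hw i hi
    obtain ⟨hw1, hw2⟩ := hw
    have hepi : Epi (HomologicalComplex.homologyMap w i) := by
      rcases hi.eq_or_lt with rfl | h
      · exact hw2
      · have := hw1 i h
        infer_instance
    have hmono : Mono (HomologicalComplex.homologyMap w (i + 1)) := by
      have := hw1 (i + 1) (by omega)
      infer_instance
    have h2 : HomologicalComplex.homologyMap (mappingCone.triangle w).mor₂ i = 0 :=
      (ex2 i).epi_f_iff.1 hepi
    have h1 : CochainComplex.homologyδOfTriangle (mappingCone.triangle w) i (i + 1) rfl = 0 :=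
      (ex1 i).mono_g_iff.1 hmono
    exact (ex3 i).isZero_X₂ h2 h1
  · intro h
    refine And.intro (fun i hi => ?_) ?_
    · have hm : Mono (HomologicalComplex.homologyMap w i) := by
        have hz : IsZero ((mappingCone w).homology (i - 1)) := h (i - 1) (by omega)
        have ex := CochainComplex.homologyMap_exact₁_of_distTriang _ hT (i - 1) i (by omega)
        exact ex.mono_g (hz.eq_of_src _ _)
      have he : Epi (HomologicalComplex.homologyMap w i) :=
        (ex2 i).epi_f ((h i (by omega)).eq_of_tgt _ _)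
      exact isIso_of_mono_of_epi _
    · exact (ex2 m).epi_f ((h m le_rfl).eq_of_tgt _ _)

/-- the map of cones `cone v ⟶ cone (v ≫ u)` is a quasi-isomorphism when `u` is -/
lemma quasiIso_map_cone {G E F : CochainComplex C ℤ} (v : G ⟶ E) (u : E ⟶ F) (hu : QuasiIso u) :
    QuasiIso (mappingCone.map v (v ≫ u) (𝟙 G) u (by rw [Category.id_comp])) := by
  let _ : HasDerivedCategory C := HasDerivedCategory.standard C
  rw [← DerivedCategory.isIso_Q_map_iff_quasiIso]
  have h1 := DerivedCategory.mappingCone_triangle_distinguished v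
  have h2 := DerivedCategory.mappingCone_triangle_distinguished (v ≫ u)
  obtain ⟨φ, hφ⟩ : ∃ φ : DerivedCategory.Q.mapTriangle.obj (mappingCone.triangle v) ⟶
      DerivedCategory.Q.mapTriangle.obj (mappingCone.triangle (v ≫ u)),
      φ = DerivedCategory.Q.mapTriangle.map
        (mappingCone.triangleMap v (v ≫ u) (𝟙 G) u (by rw [Category.id_comp])) := ⟨_, rfl⟩
  have e1 : IsIso φ.hom₁ := by
    rw [hφ]
    show IsIso (DerivedCategory.Q.map (𝟙 G))
    infer_instance
  have e2 : IsIso φ.hom₂ := by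
    rw [hφ]
    show IsIso (DerivedCategory.Q.map u)
    rw [DerivedCategory.isIso_Q_map_iff_quasiIso]
    exact hu
  have e3 := Pretriangulated.isIso₃_of_isIso₁₂ φ h1 h2 e1 e2
  rw [hφ] at e3
  exact e3

/-- **Descending induction**: a complex quasi-isomorphic to a strictly `n`-pseudo-coherent one
receives an `n`-quasi-isomorphism from a strictly perfect complex concentrated in `[n, b]`. -/
theorem exists_perfect_nqi (P : ObjectProperty C) [P.IsClosedUnderIsomorphisms] [P.ContainsZero]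
    (hsum : ∀ X Y : C, P X → P Y → P (X ⨯ Y)) (hqs : _root_.PCoh.IsQuasiStableUnderKernels P)
    (hql : _root_.PCoh.IsQuasiLiftable P) (n : ℤ) {E F : CochainComplex C ℤ}
    (hF : _root_.PCoh.IsStrictPC P n F) (u : E ⟶ F) (hu : QuasiIso u) :
    ∃ (G : CochainComplex C ℤ) (v : G ⟶ E) (b : ℤ), n ≤ b + 1 ∧ (∀ i, P (G.X i)) ∧
      (∀ i, i < n ∨ b < i → IsZero (G.X i)) ∧ IsNQI n v := by
  obtain ⟨⟨b₀, hb₀⟩, hFP⟩ := hF
  obtain ⟨b, hb, hbn⟩ : ∃ b : ℤ, (∀ i, b < i → IsZero (F.X i)) ∧ n ≤ b + 1 :=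
    ⟨max b₀ (n - 1), fun i hi => hb₀ i (lt_of_le_of_lt (le_max_left _ _) hi), by
      have := le_max_right b₀ (n - 1); omega⟩
  have hFh : ∀ i, b < i → IsZero (F.homology i) := fun i hi => by
    rw [← HomologicalComplex.exactAt_iff_isZero_homology]
    exact ShortComplex.exact_of_isZero_X₂ _ (hb i hi)
  have hEh : ∀ i, b < i → IsZero (E.homology i) := fun i hi =>
    IsZero.of_iso (hFh i hi) (asIso (HomologicalComplex.homologyMap u i))
  have key : ∀ d : ℕ, (d : ℤ) ≤ b + 1 - n → ∃ (G : CochainComplex C ℤ) (v : G ⟶ E),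
      (∀ i, P (G.X i)) ∧ (∀ i, i < b + 1 - d ∨ b < i → IsZero (G.X i)) ∧
        IsNQI (b + 1 - d) v := by
    intro d
    induction d with
    | zero =>
      intro _
      have hZ : IsZero (0 : CochainComplex C ℤ) := isZero_zero _
      have hZX : ∀ i, IsZero ((0 : CochainComplex C ℤ).X i) := fun i =>
        (HomologicalComplex.eval C (ComplexShape.up ℤ) i).map_isZero hZ
      have hZh : ∀ i, IsZero ((0 : CochainComplex C ℤ).homology i) := fun i =>
        (HomologicalComplex.homologyFunctor C (ComplexShape.up ℤ) i).map_isZero hZ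
      refine ⟨0, 0, fun i => P.prop_of_isZero (hZX i), fun i _ => hZX i, And.intro ?_ ?_⟩
      · intro i hi
        have hEi := hEh i (by omega)
        exact ⟨⟨0, (hZh i).eq_of_src _ _, hEi.eq_of_src _ _⟩⟩
      · have hEi := hEh (b + 1 - ((0 : ℕ) : ℤ)) (by omega)
        exact ⟨fun _ _ _ => hEi.eq_of_src _ _⟩
    | succ d ih =>
      intro hd
      obtain ⟨G, v, hGP, hGz, hv⟩ := ih (by omega)
      obtain ⟨k, hk⟩ : ∃ k : ℤ, k = b + 1 - ((d + 1 : ℕ) : ℤ) := ⟨_, rfl⟩
      have hk1 : b + 1 - (d : ℤ) = k + 1 := by omega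
      have hkn : n ≤ k := by omega
      have hkb : k ≤ b := by omega
      rw [hk1] at hGz hv
      rw [← hk]
      have hw : IsNQI (k + 1) (v ≫ u) := by
        obtain ⟨hv1, hv2⟩ := hv
        refine And.intro (fun i hi => ?_) ?_
        · rw [HomologicalComplex.homologyMap_comp]
          have := hv1 i hi
          infer_instance
        · rw [HomologicalComplex.homologyMap_comp]
          infer_instance
      have hKP : ∀ i, k ≤ i → P ((mappingCone (v ≫ u)).X i) := fun i hi =>
        prop_cone_X P hsum (v ≫ u) i (hGP (i + 1)) (hFP i (by omega))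
      have hKb : ∀ i, b < i → IsZero ((mappingCone (v ≫ u)).X i) := fun i hi => by
        rw [mappingCone.isZero_X_iff]
        exact ⟨hGz (i + 1) (Or.inr (by omega)), hb i hi⟩
      have hKh : ∀ i, k < i → IsZero ((mappingCone (v ≫ u)).homology i) := fun i hi =>
        (isNQI_iff_cone (k + 1) (v ≫ u)).1 hw i (by omega)
      have hft : _root_.PCoh.IsOfFiniteType P ((mappingCone (v ≫ u)).homology k) :=
        Groth.Agent.S5602.result P hqs k _ ⟨⟨b, hKb⟩, hKP⟩ hKh
      have hc := quasiIso_map_cone v u hu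
      have hcone : _root_.PCoh.IsOfFiniteType P ((mappingCone v).homology k) := by
        obtain ⟨T₀, p₀, hT₀, hp₀⟩ := hft
        exact ⟨T₀, p₀ ≫ inv (HomologicalComplex.homologyMap
          (mappingCone.map v (v ≫ u) (𝟙 G) u (by rw [Category.id_comp])) k), hT₀, inferInstance⟩
      obtain ⟨G', ι, v', T, τ, ρ, σ, hfac, hT, hm, hiso, h1, h2, h3, h4, h5, hv'⟩ :=
        attach_cell P hql k v hv hcone
      refine ⟨G', v', fun i => ?_, fun i hi => ?_, hv'⟩
      · by_cases hik : i = k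
        · rw [hik]
          exact prop_of_split P hsum (ι.f k) τ ρ σ h1 h2 h3 h4 h5 (hGP k) hT
        · have := hiso i hik
          exact P.prop_of_iso (asIso (ι.f i)) (hGP i)
      · have hik : i ≠ k := by omega
        have := hiso i hik
        exact IsZero.of_iso (hGz i (by omega)) (asIso (ι.f i)).symm
  obtain ⟨G, v, h1, h2, h3⟩ := key (b + 1 - n).toNat
    (by rw [Int.toNat_of_nonneg (by omega)])
  have hNn : b + 1 - (((b + 1 - n).toNat : ℕ) : ℤ) = n := by
    rw [Int.toNat_of_nonneg (by omega)]; ring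
  rw [hNn] at h2 h3
  exact ⟨G, v, b, hbn, h1, h2, h3⟩

end Groth.Agent.H33.PCoh
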