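import Groth.Agent.H33.PCohCell
import Groth.Agent.S5597
import Mathlib.Algebra.Homology.DerivedCategory.Fractions
import Mathlib.Algebra.Homology.DerivedCategory.TStructure

/-! Pseudo-coherence over an abelian category (SGA 6 I), derived category level: two-out-of-three,
direct summands, finite type criterion (helper33). -/

set_option autoImplicit false
universe w v u

namespace Groth.Agent.H33.PCoh

open CategoryTheory CategoryTheory.Limits CategoryTheory.Pretriangulated CochainComplex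
open ZeroObject

variable {C : Type u} [Category.{v} C] [Abelian C]

/-- weak form of `attach_cell` -/
lemma improve (P : ObjectProperty C) [P.IsClosedUnderIsomorphisms]
    (hsum : ∀ X Y : C, P X → P Y → P (X ⨯ Y)) (hql : _root_.PCoh.IsQuasiLiftable P)
    (k : ℤ) {E F : CochainComplex C ℤ} (u : E ⟶ F) (hu : IsNQI (k + 1) u)
    (hcone : _root_.PCoh.IsOfFiniteType P ((mappingCone u).homology k)) :
    ∃ (E' : CochainComplex C ℤ) (ι : E ⟶ E') (u' : E' ⟶ F), ι ≫ u' = u ∧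
      (∀ i, Mono (ι.f i)) ∧ (∀ i, i ≠ k → IsIso (ι.f i)) ∧ (P (E.X k) → P (E'.X k)) ∧
      IsNQI k u' := by
  obtain ⟨E', ι, u', T, τ, ρ, σ, hfac, hT, hm, hiso, h1, h2, h3, h4, h5, hu'⟩ :=
    attach_cell P hql k u hu hcone
  exact ⟨E', ι, u', hfac, hm, hiso,
    fun hE => prop_of_split P hsum (ι.f k) τ ρ σ h1 h2 h3 h4 h5 hE hT, hu'⟩

lemma isZero_zero_X (i : ℤ) : IsZero ((0 : CochainComplex C ℤ).X i) :=
  (HomologicalComplex.eval C (ComplexShape.up ℤ) i).map_isZero (isZero_zero _)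

lemma isZero_zero_homology (i : ℤ) : IsZero ((0 : CochainComplex C ℤ).homology i) :=
  (HomologicalComplex.homologyFunctor C (ComplexShape.up ℤ) i).map_isZero (isZero_zero _)

lemma isStrictPC_cone (P : ObjectProperty C) [P.IsClosedUnderIsomorphisms]
    (hsum : ∀ X Y : C, P X → P Y → P (X ⨯ Y)) {n : ℤ} {E F : CochainComplex C ℤ} (g : E ⟶ F)
    (hE : _root_.PCoh.IsStrictPC P (n + 1) E) (hF : _root_.PCoh.IsStrictPC P n F) :
    _root_.PCoh.IsStrictPC P n (mappingCone g) := by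
  obtain ⟨⟨b₁, hb₁⟩, hE2⟩ := hE
  obtain ⟨⟨b₂, hb₂⟩, hF2⟩ := hF
  refine ⟨⟨max b₁ b₂, fun i hi => ?_⟩, fun i hi =>
    prop_cone_X P hsum g i (hE2 (i + 1) (by omega)) (hF2 i hi)⟩
  rw [mappingCone.isZero_X_iff]
  exact ⟨hb₁ (i + 1) (by have := le_max_left b₁ b₂; omega),
    hb₂ i (by have := le_max_right b₁ b₂; omega)⟩

variable [HasDerivedCategory.{w} C]

/-- `F` is `n`-pseudo-coherent -/
def IsNPC (P : ObjectProperty C) (n : ℤ) (F : DerivedCategory C) : Prop :=
  ∃ E : CochainComplex C ℤ, _root_.PCoh.IsStrictPC P n E ∧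
    Nonempty (DerivedCategory.Q.obj E ≅ F)

variable {P : ObjectProperty C}

lemma IsNPC.of_iso {n : ℤ} {F F' : DerivedCategory C} (h : IsNPC P n F) (e : F ≅ F') :
    IsNPC P n F' := by
  obtain ⟨E, hE, ⟨e'⟩⟩ := h
  exact ⟨E, hE, ⟨e' ≪≫ e⟩⟩

lemma IsNPC.mono {n m : ℤ} (hnm : n ≤ m) {F : DerivedCategory C} (h : IsNPC P n F) :
    IsNPC P m F := by
  obtain ⟨E, ⟨hb, hP⟩, e⟩ := h
  exact ⟨E, ⟨hb, fun i hi => hP i (by omega)⟩, e⟩

lemma IsNPC.shift {n : ℤ} {F : DerivedCategory C} (h : IsNPC P n F) (m : ℤ) :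
    IsNPC P (n - m) ((CategoryTheory.shiftFunctor (DerivedCategory C) m).obj F) := by
  obtain ⟨E, ⟨⟨b, hb⟩, hP⟩, ⟨e⟩⟩ := h
  exact ⟨(CategoryTheory.shiftFunctor (CochainComplex C ℤ) m).obj E,
    ⟨⟨b - m, fun i hi => hb (i + m) (by omega)⟩, fun i hi => hP (i + m) (by omega)⟩,
    ⟨((DerivedCategory.Q (C := C)).commShiftIso m).app E ≪≫
      (CategoryTheory.shiftFunctor (DerivedCategory C) m).mapIso e⟩⟩

/-- homology of a complex in terms of its image in the derived category -/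
noncomputable def homologyIsoOfIso {K : CochainComplex C ℤ} {F : DerivedCategory C}
    (e : DerivedCategory.Q.obj K ≅ F) (i : ℤ) :
    K.homology i ≅ (DerivedCategory.homologyFunctor C i).obj F :=
  (DerivedCategory.homologyFunctorFactors C i).symm.app K ≪≫
    (DerivedCategory.homologyFunctor C i).mapIso e

noncomputable def homologyIsoOfQIso {K L : CochainComplex C ℤ}
    (e : DerivedCategory.Q.obj K ≅ DerivedCategory.Q.obj L) (i : ℤ) :
    K.homology i ≅ L.homology i :=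
  homologyIsoOfIso e i ≪≫ (DerivedCategory.homologyFunctorFactors C i).app L

lemma isStrictPC_zero [P.IsClosedUnderIsomorphisms] [P.ContainsZero] (n : ℤ) :
    _root_.PCoh.IsStrictPC P n (0 : CochainComplex C ℤ) :=
  ⟨⟨0, fun i _ => isZero_zero_X i⟩, fun i _ => P.prop_of_isZero (isZero_zero_X i)⟩

section

variable [P.IsClosedUnderIsomorphisms] [P.ContainsZero]
  (hsum : ∀ X Y : C, P X → P Y → P (X ⨯ Y)) (hqs : _root_.PCoh.IsQuasiStableUnderKernels P)
  (hql : _root_.PCoh.IsQuasiLiftable P)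

include hsum hqs hql

/-- a complex whose image in `D(C)` is `n`-pseudo-coherent receives a quasi-isomorphism from a
strictly `n`-pseudo-coherent complex -/
lemma exists_strictPC_qis {n : ℤ} (X : CochainComplex C ℤ)
    (h : IsNPC P n (DerivedCategory.Q.obj X)) :
    ∃ (E : CochainComplex C ℤ) (s : E ⟶ X), _root_.PCoh.IsStrictPC P n E ∧ QuasiIso s := by
  obtain ⟨E₀, hE₀, ⟨e⟩⟩ := h
  obtain ⟨X', s, hs, g, hfac⟩ := DerivedCategory.right_fac e.hom
  have hs' : QuasiIso s := (DerivedCategory.isIso_Q_map_iff_quasiIso _ s).1 hs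
  have hg : QuasiIso g := by
    rw [← DerivedCategory.isIso_Q_map_iff_quasiIso]
    have h1 : DerivedCategory.Q.map g = DerivedCategory.Q.map s ≫ e.hom := by
      rw [hfac, IsIso.hom_inv_id_assoc]
    rw [h1]
    infer_instance
  obtain ⟨E₁, t, hE₁, ht⟩ := Groth.Agent.S5597.result P hsum hqs hql n X' E₀ hE₀ s hs'
  exact ⟨E₁, t ≫ g, hE₁, quasiIso_comp t g⟩

/-- two out of three, third vertex -/
lemma IsNPC.obj₃ (n : ℤ) (T : Triangle (DerivedCategory C)) (hT : T ∈ distTriang _)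
    (h₁ : IsNPC P (n + 1) T.obj₁) (h₂ : IsNPC P n T.obj₂) : IsNPC P n T.obj₃ := by
  obtain ⟨E₀, hE₀, ⟨e₁⟩⟩ := h₁
  obtain ⟨F₀, hF₀, ⟨e₂⟩⟩ := h₂
  obtain ⟨X', s, hs, g, hfac⟩ := DerivedCategory.right_fac (e₁.hom ≫ T.mor₁ ≫ e₂.inv)
  have hs' : QuasiIso s := (DerivedCategory.isIso_Q_map_iff_quasiIso _ s).1 hs
  obtain ⟨E₁, t, hE₁, ht⟩ := Groth.Agent.S5597.result P hsum hqs hql (n + 1) X' E₀ hE₀ s hs'
  have ht' : IsIso (DerivedCategory.Q.map t) := (DerivedCategory.isIso_Q_map_iff_quasiIso _ t).2 ht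
  obtain ⟨e₁', he₁'⟩ : ∃ e₁' : DerivedCategory.Q.obj E₁ ≅ T.obj₁,
      e₁'.hom = DerivedCategory.Q.map t ≫ DerivedCategory.Q.map s ≫ e₁.hom :=
    ⟨asIso (DerivedCategory.Q.map t) ≪≫ asIso (DerivedCategory.Q.map s) ≪≫ e₁, rfl⟩
  have h1 : DerivedCategory.Q.map s ≫ e₁.hom ≫ T.mor₁ = DerivedCategory.Q.map g ≫ e₂.hom := by
    have h := hfac
    calc DerivedCategory.Q.map s ≫ e₁.hom ≫ T.mor₁
        = DerivedCategory.Q.map s ≫ (e₁.hom ≫ T.mor₁ ≫ e₂.inv) ≫ e₂.hom := by simp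
      _ = DerivedCategory.Q.map s ≫ (inv (DerivedCategory.Q.map s) ≫ DerivedCategory.Q.map g) ≫
          e₂.hom := by rw [hfac]
      _ = DerivedCategory.Q.map g ≫ e₂.hom := by simp
  have comm : (DerivedCategory.Q.mapTriangle.obj (mappingCone.triangle (t ≫ g))).mor₁ ≫ e₂.hom =
      e₁'.hom ≫ T.mor₁ := by
    rw [he₁']
    show DerivedCategory.Q.map (t ≫ g) ≫ e₂.hom = _
    rw [Functor.map_comp, Category.assoc, Category.assoc, Category.assoc, h1]
  have iso := isoTriangleOfIso₁₂ _ T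
    (DerivedCategory.mappingCone_triangle_distinguished (t ≫ g)) hT e₁' e₂ comm
  exact ⟨mappingCone (t ≫ g), isStrictPC_cone P hsum (t ≫ g) hE₁ hF₀,
    ⟨Triangle.π₃.mapIso iso⟩⟩

/-- two out of three, middle vertex -/
lemma IsNPC.obj₂ (n : ℤ) (T : Triangle (DerivedCategory C)) (hT : T ∈ distTriang _)
    (h₁ : IsNPC P n T.obj₁) (h₃ : IsNPC P n T.obj₃) : IsNPC P n T.obj₂ := by
  have h3' := IsNPC.shift h₃ (-1)
  rw [show n - (-1) = n + 1 by ring] at h3'
  exact IsNPC.obj₃ hsum hqs hql n T.invRotate (inv_rot_of_distTriang _ hT) h3' h₁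

/-- two out of three, first vertex -/
lemma IsNPC.obj₁ (n : ℤ) (T : Triangle (DerivedCategory C)) (hT : T ∈ distTriang _)
    (h₂ : IsNPC P (n + 1) T.obj₂) (h₃ : IsNPC P n T.obj₃) : IsNPC P (n + 1) T.obj₁ := by
  have h := IsNPC.obj₃ hsum hqs hql n T.rotate (rot_of_distTriang _ hT) h₂ h₃
  have h' := IsNPC.shift h (-1)
  rw [show n - (-1) = n + 1 by ring] at h'
  exact h'.of_iso (shiftShiftNeg T.obj₁ (1 : ℤ))

/-- finite type of the top cohomology of the cone -/
lemma finiteType_cone (k : ℤ) {E F : CochainComplex C ℤ} (u : E ⟶ F) (hu : IsNQI (k + 1) u)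
    (hE : IsNPC P (k + 1) (DerivedCategory.Q.obj E)) (hF : IsNPC P k (DerivedCategory.Q.obj F)) :
    _root_.PCoh.IsOfFiniteType P ((mappingCone u).homology k) := by
  have hT := DerivedCategory.mappingCone_triangle_distinguished u
  obtain ⟨E₁, hE₁, ⟨e⟩⟩ := IsNPC.obj₃ hsum hqs hql k _ hT hE hF
  have e' : DerivedCategory.Q.obj E₁ ≅ DerivedCategory.Q.obj (mappingCone u) := e
  have hac : ∀ i, k < i → IsZero (E₁.homology i) := fun i hi =>
    IsZero.of_iso ((isNQI_iff_cone (k + 1) u).1 hu i (by omega)) (homologyIsoOfQIso e' i)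
  obtain ⟨T, p, hT', hp⟩ := Groth.Agent.S5602.result P hqs k E₁ hE₁ hac
  exact ⟨T, p ≫ (homologyIsoOfQIso e' k).hom, hT', inferInstance⟩

end

/-- bounded above cohomology gives pseudo-coherence in large degrees -/
lemma isNPC_of_isZero_homology [P.IsClosedUnderIsomorphisms] [P.ContainsZero] (m : ℤ)
    (F : DerivedCategory C)
    (h : ∀ i, m ≤ i → IsZero ((DerivedCategory.homologyFunctor C i).obj F)) : IsNPC P m F := by
  obtain ⟨X, ⟨e⟩⟩ : ∃ X : CochainComplex C ℤ, Nonempty (DerivedCategory.Q.obj X ≅ F) :=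
    ⟨_, ⟨DerivedCategory.Q.objObjPreimageIso F⟩⟩
  have hX : X.IsLE (m - 1) := by
    rw [CochainComplex.isLE_iff]
    intro i hi
    rw [HomologicalComplex.exactAt_iff_isZero_homology]
    exact IsZero.of_iso (h i (by omega)) (homologyIsoOfIso e i)
  have hq : QuasiIso (X.ιTruncLE (m - 1)) := inferInstance
  have : IsIso (DerivedCategory.Q.map (X.ιTruncLE (m - 1))) :=
    (DerivedCategory.isIso_Q_map_iff_quasiIso _ _).2 hq
  exact ⟨X.truncLE (m - 1),
    ⟨⟨m - 1, fun i hi => (X.truncLE (m - 1)).isZero_of_isStrictlyLE (m - 1) i hi⟩,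
      fun i hi => P.prop_of_isZero
        ((X.truncLE (m - 1)).isZero_of_isStrictlyLE (m - 1) i (by omega))⟩,
    ⟨asIso (DerivedCategory.Q.map (X.ιTruncLE (m - 1))) ≪≫ e⟩⟩

/-- finite type criterion, easy direction -/
lemma finiteType_of_isNPC [P.IsClosedUnderIsomorphisms]
    (hqs : _root_.PCoh.IsQuasiStableUnderKernels P) (n : ℤ) (F : DerivedCategory C)
    (hac : ∀ i : ℤ, n < i → IsZero ((DerivedCategory.homologyFunctor C i).obj F))
    (h : IsNPC P n F) :
    _root_.PCoh.IsOfFiniteType P ((DerivedCategory.homologyFunctor C n).obj F) := by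
  obtain ⟨E, hE, ⟨e⟩⟩ := h
  have hEh : ∀ i, n < i → IsZero (E.homology i) := fun i hi =>
    IsZero.of_iso (hac i hi) (homologyIsoOfIso e i)
  obtain ⟨T, p, hT, hp⟩ := Groth.Agent.S5602.result P hqs n E hE hEh
  exact ⟨T, p ≫ (homologyIsoOfIso e n).hom, hT, inferInstance⟩

/-- finite type criterion, converse -/
lemma isNPC_of_finiteType [P.IsClosedUnderIsomorphisms] [P.ContainsZero]
    (hsum : ∀ X Y : C, P X → P Y → P (X ⨯ Y)) (hql : _root_.PCoh.IsQuasiLiftable P)
    (n : ℤ) (F : DerivedCategory C)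
    (hac : ∀ i : ℤ, n < i → IsZero ((DerivedCategory.homologyFunctor C i).obj F))
    (hft : _root_.PCoh.IsOfFiniteType P ((DerivedCategory.homologyFunctor C n).obj F)) :
    IsNPC P n F := by
  obtain ⟨X, ⟨e⟩⟩ : ∃ X : CochainComplex C ℤ, Nonempty (DerivedCategory.Q.obj X ≅ F) :=
    ⟨_, ⟨DerivedCategory.Q.objObjPreimageIso F⟩⟩
  have hX : ∀ i, n < i → IsZero (X.homology i) := fun i hi =>
    IsZero.of_iso (hac i hi) (homologyIsoOfIso e i)
  have hu : IsNQI (n + 1) (0 : (0 : CochainComplex C ℤ) ⟶ X) :=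
    And.intro (fun i hi => ⟨⟨0, (isZero_zero_homology i).eq_of_src _ _,
      (hX i (by omega)).eq_of_src _ _⟩⟩) ⟨fun _ _ _ => (hX (n + 1) (by omega)).eq_of_src _ _⟩
  have hcone : _root_.PCoh.IsOfFiniteType P
      ((mappingCone (0 : (0 : CochainComplex C ℤ) ⟶ X)).homology n) := by
    obtain ⟨T₀, p₀, hT₀, hp₀⟩ := hft
    have hepi : Epi (HomologicalComplex.homologyMap
        (mappingCone.inr (0 : (0 : CochainComplex C ℤ) ⟶ X)) n) := by
      have hT := DerivedCategory.mappingCone_triangle_distinguished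
        (0 : (0 : CochainComplex C ℤ) ⟶ X)
      have ex3 := CochainComplex.homologyMap_exact₃_of_distTriang _ hT n (n + 1) rfl
      exact ex3.epi_f ((isZero_zero_homology (n + 1)).eq_of_tgt _ _)
    exact ⟨T₀, p₀ ≫ (homologyIsoOfIso e n).inv ≫ HomologicalComplex.homologyMap
      (mappingCone.inr (0 : (0 : CochainComplex C ℤ) ⟶ X)) n, hT₀, inferInstance⟩
  obtain ⟨E', ι, u', hfac, hm, hiso, hPk, hu'⟩ := improve P hsum hql n _ hu hcone
  obtain ⟨hu1, hu2⟩ := hu'
  obtain ⟨E'', j, u'', hfac', hq, hm', hiso'⟩ := factor_nqis n u' hu1 hu2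
  have : IsIso (DerivedCategory.Q.map u'') := (DerivedCategory.isIso_Q_map_iff_quasiIso _ _).2 hq
  refine ⟨E'', ⟨⟨n, fun i hi => ?_⟩, fun i hi => ?_⟩,
    ⟨asIso (DerivedCategory.Q.map u'') ≪≫ e⟩⟩
  · have := hiso' i (by omega)
    have := hiso i (by omega)
    exact IsZero.of_iso (IsZero.of_iso (isZero_zero_X i) (asIso (ι.f i)).symm)
      (asIso (j.f i)).symm
  · have := hiso' i hi
    refine P.prop_of_iso (asIso (j.f i)) ?_
    by_cases hin : i = n
    · rw [hin]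
      exact hPk (P.prop_of_isZero (isZero_zero_X n))
    · have := hiso i hin
      exact P.prop_of_iso (asIso (ι.f i)) (P.prop_of_isZero (isZero_zero_X i))

/-- direct sums of `n`-pseudo-coherent objects -/
lemma IsNPC.biprod [P.IsClosedUnderIsomorphisms]
    (hsum : ∀ X Y : C, P X → P Y → P (X ⨯ Y)) {n : ℤ} {F' F'' : DerivedCategory C}
    [HasBinaryBiproduct F' F''] (h' : IsNPC P n F') (h'' : IsNPC P n F'') :
    IsNPC P n (F' ⊞ F'') := by
  obtain ⟨E', ⟨⟨b', hb'⟩, hP'⟩, ⟨e'⟩⟩ := h'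
  obtain ⟨E'', ⟨⟨b'', hb''⟩, hP''⟩, ⟨e''⟩⟩ := h''
  have hX : ∀ i, (E' ⊞ E'').X i ≅ E'.X i ⊞ E''.X i := fun i =>
    (HomologicalComplex.eval C (ComplexShape.up ℤ) i).mapBiprod E' E''
  have := preservesBinaryBiproducts_of_preservesBiproducts (DerivedCategory.Q (C := C))
  refine ⟨E' ⊞ E'', ⟨⟨max b' b'', fun i hi => ?_⟩, fun i hi => ?_⟩,
    ⟨DerivedCategory.Q.mapBiprod E' E'' ≪≫ biprod.mapIso e' e''⟩⟩
  · refine IsZero.of_iso ?_ (hX i)
    rw [biprod_isZero_iff]
    exact ⟨hb' i (by have := le_max_left b' b''; omega),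
      hb'' i (by have := le_max_right b' b''; omega)⟩
  · exact P.prop_of_iso ((hX i).trans (biprod.isoProd _ _)).symm
      (hsum _ _ (hP' i hi) (hP'' i hi))

lemma bicone_triangle_distinguished {X Y : DerivedCategory C} (b : BinaryBicone X Y)
    (hb : b.IsBilimit) :
    Triangle.mk b.inl b.snd
      (0 : Y ⟶ (CategoryTheory.shiftFunctor (DerivedCategory C) (1 : ℤ)).obj X) ∈ distTriang _ := by
  refine isomorphic_distinguished _ (binaryBiproductTriangle_distinguished X Y) _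
    (Triangle.isoMk _ _ (Iso.refl _) (biprod.uniqueUpToIso X Y hb) (Iso.refl _) ?_ ?_ ?_)
  · show b.inl ≫ biprod.lift b.fst b.snd = 𝟙 X ≫ biprod.inl
    rw [Category.id_comp]
    ext <;> simp
  · show b.snd ≫ 𝟙 Y = biprod.lift b.fst b.snd ≫ biprod.snd
    rw [Category.comp_id, biprod.lift_snd]
  · show (0 : Y ⟶ (CategoryTheory.shiftFunctor (DerivedCategory C) (1 : ℤ)).obj X) ≫
      (CategoryTheory.shiftFunctor (DerivedCategory C) (1 : ℤ)).map (𝟙 X) = 𝟙 Y ≫ 0
    rw [zero_comp, comp_zero]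

/-- the swapped bicone -/
def swapBicone {X Y : DerivedCategory C} (b : BinaryBicone X Y) : BinaryBicone Y X where
  pt := b.pt
  fst := b.snd
  snd := b.fst
  inl := b.inr
  inr := b.inl
  inl_fst := b.inr_snd
  inl_snd := b.inr_fst
  inr_fst := b.inl_snd
  inr_snd := b.inl_fst

/-- the swapped bicone is a bilimit -/
noncomputable def swapBiconeIsBilimit {X Y : DerivedCategory C} (b : BinaryBicone X Y)
    (hb : b.IsBilimit) : (swapBicone b).IsBilimit :=
  isBinaryBilimitOfTotal _ (by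
    show b.snd ≫ b.inr + b.fst ≫ b.inl = 𝟙 b.pt
    rw [add_comm]
    exact CategoryTheory.Limits.IsBilimit.binary_total hb)

/-- direct summands of `n`-pseudo-coherent objects -/
lemma isNPC_of_bicone [P.IsClosedUnderIsomorphisms] [P.ContainsZero]
    (hsum : ∀ X Y : C, P X → P Y → P (X ⨯ Y)) (hqs : _root_.PCoh.IsQuasiStableUnderKernels P)
    (hql : _root_.PCoh.IsQuasiLiftable P) {n : ℤ} {F' F'' : DerivedCategory C}
    (b : BinaryBicone F' F'') (hb : b.IsBilimit) (h : IsNPC P n b.pt) :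
    IsNPC P n F' ∧ IsNPC P n F'' := by
  have snd_of : ∀ {X Y : DerivedCategory C} (c : BinaryBicone X Y) (_ : c.IsBilimit) (m : ℤ),
      IsNPC P (m + 1) X → IsNPC P m c.pt → IsNPC P m Y := fun c hc m h1 h2 =>
    IsNPC.obj₃ hsum hqs hql m _ (bicone_triangle_distinguished c hc) h1 h2
  obtain ⟨E, ⟨⟨b₀, hb₀⟩, hP⟩, ⟨e⟩⟩ := h
  have hS : ∀ i, b₀ < i → IsZero ((DerivedCategory.homologyFunctor C i).obj b.pt) := fun i hi => by
    refine IsZero.of_iso ?_ (homologyIsoOfIso e i).symm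
    rw [← HomologicalComplex.exactAt_iff_isZero_homology]
    exact ShortComplex.exact_of_isZero_X₂ _ (hb₀ i hi)
  have hF' : ∀ i, b₀ < i → IsZero ((DerivedCategory.homologyFunctor C i).obj F') := fun i hi => by
    rw [IsZero.iff_id_eq_zero, ← (DerivedCategory.homologyFunctor C i).map_id F', ← b.inl_fst,
      Functor.map_comp,
      (hS i hi).eq_of_tgt ((DerivedCategory.homologyFunctor C i).map b.inl) 0, zero_comp]
  have hF'' : ∀ i, b₀ < i → IsZero ((DerivedCategory.homologyFunctor C i).obj F'') :=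
    fun i hi => by
    rw [IsZero.iff_id_eq_zero, ← (DerivedCategory.homologyFunctor C i).map_id F'', ← b.inr_snd,
      Functor.map_comp,
      (hS i hi).eq_of_tgt ((DerivedCategory.homologyFunctor C i).map b.inr) 0, zero_comp]
  have h : IsNPC P n b.pt := ⟨E, ⟨⟨b₀, hb₀⟩, hP⟩, ⟨e⟩⟩
  have step : ∀ m : ℤ, n ≤ m → IsNPC P (m + 1) F' → IsNPC P (m + 1) F'' →
      IsNPC P m F' ∧ IsNPC P m F'' := fun m hm h1 h2 =>
    ⟨snd_of (swapBicone b) (swapBiconeIsBilimit b hb) m h2 (h.mono hm),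
      snd_of b hb m h1 (h.mono hm)⟩
  have key : ∀ d : ℕ, IsNPC P (n + d) F' → IsNPC P (n + d) F'' →
      IsNPC P n F' ∧ IsNPC P n F'' := by
    intro d
    induction d with
    | zero =>
      intro h1 h2
      simp only [Nat.cast_zero, add_zero] at h1 h2
      exact ⟨h1, h2⟩
    | succ d ih =>
      intro h1 h2
      have e : n + ((d + 1 : ℕ) : ℤ) = (n + d) + 1 := by push_cast; ring
      rw [e] at h1 h2
      obtain ⟨h1', h2'⟩ := step (n + d) (by omega) h1 h2
      exact ih h1' h2'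
  have hd : b₀ + 1 ≤ n + (((b₀ + 1 - n).toNat : ℕ) : ℤ) := by
    have := Int.self_le_toNat (b₀ + 1 - n)
    omega
  exact key (b₀ + 1 - n).toNat
    (isNPC_of_isZero_homology _ F' fun i hi => hF' i (by omega))
    (isNPC_of_isZero_homology _ F'' fun i hi => hF'' i (by omega))

/-- finite descending induction: an `m`-quasi-isomorphism from a strictly `n`-pseudo-coherent
complex to an `n`-pseudo-coherent complex can be improved to an `n`-quasi-isomorphism by adding
cells in degrees `[n, m)` -/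
lemma iterate_improve [P.IsClosedUnderIsomorphisms] [P.ContainsZero]
    (hsum : ∀ X Y : C, P X → P Y → P (X ⨯ Y)) (hqs : _root_.PCoh.IsQuasiStableUnderKernels P)
    (hql : _root_.PCoh.IsQuasiLiftable P) (n : ℤ) (X : CochainComplex C ℤ)
    (hX : IsNPC P n (DerivedCategory.Q.obj X)) :
    ∀ (d : ℕ) (m : ℤ), m = n + d → ∀ (E : CochainComplex C ℤ) (u : E ⟶ X), IsNQI m u →
      _root_.PCoh.IsStrictPC P n E →
      ∃ (E' : CochainComplex C ℤ) (ι : E ⟶ E') (u' : E' ⟶ X), ι ≫ u' = u ∧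
        (∀ i, Mono (ι.f i)) ∧ (∀ i, i < n ∨ m ≤ i → IsIso (ι.f i)) ∧
        _root_.PCoh.IsStrictPC P n E' ∧ IsNQI n u' := by
  intro d
  induction d with
  | zero =>
    intro m hm E u hu hE
    simp only [Nat.cast_zero, add_zero] at hm
    subst hm
    refine ⟨E, 𝟙 E, u, Category.id_comp u, fun i => ?_, fun i _ => ?_, hE, hu⟩
    · rw [HomologicalComplex.id_f]; infer_instance
    · rw [HomologicalComplex.id_f]; infer_instance
  | succ d ih =>
    intro m hm E u hu hE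
    obtain ⟨k, hk⟩ : ∃ k : ℤ, k = n + d := ⟨_, rfl⟩
    have hmk : m = k + 1 := by rw [hm, hk]; push_cast; ring
    subst hmk
    have hkn : n ≤ k := by omega
    obtain ⟨⟨b, hb⟩, hEP⟩ := hE
    have hE' : IsNPC P (k + 1) (DerivedCategory.Q.obj E) :=
      ⟨E, ⟨⟨b, hb⟩, fun i hi => hEP i (by omega)⟩, ⟨Iso.refl _⟩⟩
    have hcone := finiteType_cone hsum hqs hql k u hu hE' (hX.mono hkn)
    obtain ⟨E₁, ι₁, u₁, hfac₁, hm₁, hiso₁, hPk, hu₁⟩ := improve P hsum hql k u hu hcone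
    have hE₁ : _root_.PCoh.IsStrictPC P n E₁ := by
      refine ⟨⟨max b k, fun i hi => ?_⟩, fun i hi => ?_⟩
      · have hik : i ≠ k := by have := le_max_right b k; omega
        have := hiso₁ i hik
        exact IsZero.of_iso (hb i (by have := le_max_left b k; omega)) (asIso (ι₁.f i)).symm
      · by_cases hik : i = k
        · rw [hik]; exact hPk (hEP k hkn)
        · have := hiso₁ i hik
          exact P.prop_of_iso (asIso (ι₁.f i)) (hEP i hi)
    obtain ⟨E', ι', u', hfac', hm', hiso', hE'', hu'⟩ := ih k hk E₁ u₁ hu₁ hE₁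
    refine ⟨E', ι₁ ≫ ι', u', by rw [Category.assoc, hfac', hfac₁], fun i => ?_, fun i hi => ?_,
      hE'', hu'⟩
    · rw [HomologicalComplex.comp_f]
      have := hm₁ i
      have := hm' i
      exact mono_comp _ _
    · rw [HomologicalComplex.comp_f]
      have := hiso₁ i (by omega)
      have := hiso' i (by omega)
      infer_instance

lemma isNQI_zero_of_isZero_homology (X : CochainComplex C ℤ) (m : ℤ)
    (h : ∀ i, m ≤ i → IsZero (X.homology i)) :
    IsNQI m (0 : (0 : CochainComplex C ℤ) ⟶ X) :=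
  And.intro (fun i hi => ⟨⟨0, (isZero_zero_homology i).eq_of_src _ _,
    (h i (by omega)).eq_of_src _ _⟩⟩) ⟨fun _ _ _ => (h m le_rfl).eq_of_src _ _⟩

lemma iterate_from_zero [P.IsClosedUnderIsomorphisms] [P.ContainsZero]
    (hsum : ∀ X Y : C, P X → P Y → P (X ⨯ Y)) (hqs : _root_.PCoh.IsQuasiStableUnderKernels P)
    (hql : _root_.PCoh.IsQuasiLiftable P) (n m : ℤ) (hnm : n ≤ m) (X : CochainComplex C ℤ)
    (hX : IsNPC P n (DerivedCategory.Q.obj X)) (h : ∀ i, m ≤ i → IsZero (X.homology i)) :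
    ∃ (E' : CochainComplex C ℤ) (u' : E' ⟶ X), _root_.PCoh.IsStrictPC P n E' ∧
      (∀ i, m ≤ i → IsZero (E'.X i)) ∧ IsNQI n u' := by
  obtain ⟨E', ι, u', hfac, hm', hiso, hE', hu'⟩ :=
    iterate_improve hsum hqs hql n X hX (m - n).toNat m
      (by rw [Int.toNat_of_nonneg (by omega)]; ring) 0 0
      (isNQI_zero_of_isZero_homology X m h) (isStrictPC_zero n)
  refine ⟨E', u', hE', fun i hi => ?_, hu'⟩
  have := hiso i (Or.inr hi)
  exact IsZero.of_iso (isZero_zero_X i) (asIso (ι.f i)).symm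

end Groth.Agent.H33.PCoh
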