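import Mathlib

/-!
# Squad lemma (ALG3) for helper32 (S10809): flat base change of a kernel (five lemma).
-/

set_option autoImplicit false
universe u
open CategoryTheory Limits TensorProduct

namespace Groth.Agent.H33.QCBC_ALG3

/-- (ALG3) flat base change of a kernel. -/
theorem isBaseChange_of_exact {A A' : Type u} [CommRing A] [CommRing A'] [Algebra A A']
    [Module.Flat A A'] {N N₁ N₂ N' N₁' N₂' : Type u} [AddCommGroup N] [AddCommGroup N₁]
    [AddCommGroup N₂] [AddCommGroup N'] [AddCommGroup N₁'] [AddCommGroup N₂'] [Module A N]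
    [Module A N₁] [Module A N₂] [Module A N'] [Module A' N'] [IsScalarTower A A' N']
    [Module A N₁'] [Module A' N₁'] [IsScalarTower A A' N₁'] [Module A N₂'] [Module A' N₂']
    [IsScalarTower A A' N₂'] (i : N →ₗ[A] N₁) (d : N₁ →ₗ[A] N₂) (hi : Function.Injective i)
    (hex : Function.Exact i d) (i' : N' →ₗ[A'] N₁') (d' : N₁' →ₗ[A'] N₂')
    (hi' : Function.Injective i') (hex' : Function.Exact i' d') (ρ : N →ₗ[A] N')
    (ρ₁ : N₁ →ₗ[A] N₁') (ρ₂ : N₂ →ₗ[A] N₂') (h1 : ∀ x, i' (ρ x) = ρ₁ (i x))
    (h2 : ∀ x, d' (ρ₁ x) = ρ₂ (d x)) (hρ₁ : IsBaseChange A' ρ₁) (hρ₂ : IsBaseChange A' ρ₂) :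
    IsBaseChange A' ρ := by
  have hc1 : ∀ z : A' ⊗[A] N, i' (ρ.liftBaseChange A' z) = hρ₁.equiv (i.lTensor A' z) := by
    intro z
    induction z using TensorProduct.induction_on with
    | zero => simp
    | tmul s x =>
      rw [LinearMap.liftBaseChange_tmul, LinearMap.lTensor_tmul, IsBaseChange.equiv_tmul,
        map_smul, h1]
    | add x y hx hy => rw [map_add, map_add, hx, hy, map_add, map_add]
  have hc2 : ∀ z : A' ⊗[A] N₁, d' (hρ₁.equiv z) = hρ₂.equiv (d.lTensor A' z) := by
    intro z
    induction z using TensorProduct.induction_on with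
    | zero => simp
    | tmul s x =>
      rw [LinearMap.lTensor_tmul, IsBaseChange.equiv_tmul, IsBaseChange.equiv_tmul,
        map_smul, h2]
    | add x y hx hy => rw [map_add, map_add, hx, hy, map_add, map_add]
  have hinjT : Function.Injective (i.lTensor A') :=
    Module.Flat.lTensor_preserves_injective_linearMap i hi
  have hexT : Function.Exact (i.lTensor A') (d.lTensor A') := Module.Flat.lTensor_exact A' hex
  have hinj : Function.Injective (ρ.liftBaseChange A') := by
    rw [injective_iff_map_eq_zero]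
    intro z hz
    apply hinjT
    rw [map_zero]
    apply hρ₁.equiv.injective
    rw [← hc1, hz, map_zero, map_zero]
  have hsurj : Function.Surjective (ρ.liftBaseChange A') := by
    intro y
    obtain ⟨z, hz⟩ := hρ₁.equiv.surjective (i' y)
    have hdz : d.lTensor A' z = 0 := by
      apply hρ₂.equiv.injective
      rw [← hc2, hz, map_zero]
      exact (hex' (i' y)).mpr ⟨y, rfl⟩
    obtain ⟨w, hw⟩ := (hexT z).mp hdz
    refine ⟨w, hi' ?_⟩
    rw [hc1, hw, hz]
  refine IsBaseChange.of_equiv (LinearEquiv.ofBijective (ρ.liftBaseChange A') ⟨hinj, hsurj⟩) ?_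
  intro x
  exact LinearMap.liftBaseChange_one_tmul A' ρ x

end Groth.Agent.H33.QCBC_ALG3
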