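import Mathlib.Algebra.Homology.Embedding.TruncGEHomology
import Mathlib.Algebra.Homology.Embedding.CochainComplex
import Mathlib.Algebra.Homology.Embedding.ExtendHomology
import Mathlib.CategoryTheory.Abelian.CommSq
import Mathlib.Algebra.Homology.QuasiIso

/-! Right resolutions of bounded below complexes with terms in a class of objects (helper33). -/

set_option autoImplicit false
universe v u

namespace Groth.Agent.H33.RightRes

open CategoryTheory CategoryTheory.Limits HomologicalComplex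

variable {A : Type u} [Category.{v} A] [Abelian A]

section Chase

/-- the key diagram chase: the map induced on cokernels by a pushout along a monomorphism,
followed by a monomorphism, is a monomorphism -/
lemma mono_of_pushout_chase {C K1 Q L' C' : A} (φ : C ⟶ K1) (β : C ⟶ Q)
    (j : pushout φ β ⟶ L') [Mono j] (p : K1 ⟶ C') [Epi p] (hp : φ ≫ p = 0)
    (β' : C' ⟶ cokernel (pushout.inr φ β ≫ j))
    (hβ' : p ≫ β' = pushout.inl φ β ≫ j ≫ cokernel.π (pushout.inr φ β ≫ j)) : Mono β' := by
  refine Preadditive.mono_of_cancel_zero _ (fun {T} z hz => ?_)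
  obtain ⟨T₁, π₁, _, x, hx⟩ := surjective_up_to_refinements_of_epi p z
  have h2 : (x ≫ pushout.inl φ β ≫ j) ≫ cokernel.π (pushout.inr φ β ≫ j) = 0 := by
    rw [Category.assoc, Category.assoc, ← hβ', ← Category.assoc, ← hx, Category.assoc, hz,
      comp_zero]
  have ex : (ShortComplex.mk _ _ (cokernel.condition (pushout.inr φ β ≫ j))).Exact :=
    ShortComplex.exact_of_g_is_cokernel _ (cokernelIsCokernel _)
  obtain ⟨T₂, π₂, _, q, hq⟩ : ∃ (T₂ : A) (π₂ : T₂ ⟶ T₁) (_ : Epi π₂) (q : T₂ ⟶ Q),
      π₂ ≫ x ≫ pushout.inl φ β ≫ j = q ≫ pushout.inr φ β ≫ j :=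
    ex.exact_up_to_refinements (x ≫ pushout.inl φ β ≫ j) h2
  have h3 : π₂ ≫ x ≫ pushout.inl φ β = q ≫ pushout.inr φ β := by
    rw [← cancel_mono j]
    simpa only [Category.assoc] using hq
  have sq : IsPushout φ β (pushout.inl φ β) (pushout.inr φ β) := IsPushout.of_hasPushout φ β
  have h5 : biprod.lift (π₂ ≫ x) (-q) ≫ biprod.desc (pushout.inl φ β) (pushout.inr φ β) = 0 := by
    rw [biprod.lift_desc, Preadditive.neg_comp, Category.assoc, h3, add_neg_cancel]
  obtain ⟨T₃, π₃, _, c, hc⟩ : ∃ (T₃ : A) (π₃ : T₃ ⟶ T₂) (_ : Epi π₃) (c : T₃ ⟶ C),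
      π₃ ≫ biprod.lift (π₂ ≫ x) (-q) = c ≫ biprod.lift φ (-β) :=
    sq.exact_shortComplex.exact_up_to_refinements (biprod.lift (π₂ ≫ x) (-q)) h5
  have h4 : π₃ ≫ π₂ ≫ x = c ≫ φ := by
    have := hc =≫ biprod.fst
    simpa only [Category.assoc, biprod.lift_fst] using this
  rw [← cancel_epi π₁, ← cancel_epi π₂, ← cancel_epi π₃, comp_zero, comp_zero, comp_zero, hx,
    reassoc_of% h4, hp, comp_zero]

end Chase

section Replace

/-- replace the objects of a complex by isomorphic ones -/
noncomputable def replaceObj (E : CochainComplex A ℤ) (Y : ℤ → A) (e : ∀ i, Y i ≅ E.X i) :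
    CochainComplex A ℤ where
  X := Y
  d i j := (e i).hom ≫ E.d i j ≫ (e j).inv
  shape i j h := by rw [E.shape i j h, zero_comp, comp_zero]
  d_comp_d' i j k _ _ := by simp

noncomputable def replaceObjIso (E : CochainComplex A ℤ) (Y : ℤ → A) (e : ∀ i, Y i ≅ E.X i) :
    replaceObj E Y e ≅ E :=
  HomologicalComplex.Hom.isoOfComponents e (fun i j _ => by simp [replaceObj])

end Replace

section Nat

variable {I : A → Prop} (hI : ∀ X : A, ∃ (Y : A) (ι : X ⟶ Y), I Y ∧ Mono ι)

noncomputable def hull (X : A) : A := (hI X).choose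

noncomputable def hullι (X : A) : X ⟶ hull hI X := (hI X).choose_spec.choose

lemma hull_mem (X : A) : I (hull hI X) := (hI X).choose_spec.choose_spec.1

instance hullι_mono (X : A) : Mono (hullι hI X) := (hI X).choose_spec.choose_spec.2

variable (I) in
/-- the data constructed at stage `k` of the resolution -/
structure Stage (K : CochainComplex A ℕ) (k : ℕ) where
  Lp : A
  L : A
  Q : A
  dp : Lp ⟶ L
  π : L ⟶ Q
  w : dp ≫ π = 0
  hπ : IsColimit (CokernelCofork.ofπ π w)
  α : K.X k ⟶ L
  β : K.opcycles k ⟶ Q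
  comm : α ≫ π = K.pOpcycles k ≫ β
  hL : I L
  hα : Mono α
  hβ : Mono β

variable {K : CochainComplex A ℕ}

lemma Stage.epi_π {k : ℕ} (x : Stage I K k) : Epi x.π :=
  epi_of_isColimit_cofork x.hπ

variable (K) in
lemma mono_desc_zero : Mono (K.descOpcycles (hullι hI (K.X 0)) 0 (by simp)
    (by rw [K.shape 0 0 (by simp), zero_comp])) := by
  haveI : IsIso (K.pOpcycles 0) := K.isIso_pOpcycles 0 0 (by simp) (K.shape 0 0 (by simp))
  have h : K.pOpcycles 0 ≫ K.descOpcycles (hullι hI (K.X 0)) 0 (by simp)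
    (by rw [K.shape 0 0 (by simp), zero_comp]) = hullι hI (K.X 0) := K.p_descOpcycles _ _ _ _
  have h' : K.descOpcycles (hullι hI (K.X 0)) 0 (by simp)
      (by rw [K.shape 0 0 (by simp), zero_comp]) = inv (K.pOpcycles 0) ≫ hullι hI (K.X 0) :=
    (IsIso.eq_inv_comp _).2 h
  rw [h']
  infer_instance

variable (K) in
noncomputable def stage0 : Stage I K 0 where
  Lp := hull hI (K.X 0)
  L := hull hI (K.X 0)
  Q := hull hI (K.X 0)
  dp := 0
  π := 𝟙 _
  w := zero_comp
  hπ := CokernelCofork.IsColimit.ofId _ rfl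
  α := hullι hI (K.X 0)
  β := K.descOpcycles (hullι hI (K.X 0)) 0 (by simp) (by rw [K.shape 0 0 (by simp), zero_comp])
  comm := by rw [Category.comp_id, p_descOpcycles]
  hL := hull_mem hI _
  hα := inferInstance
  hβ := mono_desc_zero hI K

section Next

variable {k : ℕ} (x : Stage I K k)

/-- the pushout used in the inductive step -/
noncomputable abbrev P : A := pushout (K.fromOpcycles k (k + 1)) x.β

noncomputable abbrev nr : K.X (k + 1) ⟶ P x := pushout.inl _ _

noncomputable abbrev nb : x.Q ⟶ P x := pushout.inr _ _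

noncomputable abbrev nj : P x ⟶ hull hI (P x) := hullι hI (P x)

lemma nb_nj_π : nb x ≫ nj hI x ≫ cokernel.π (nb x ≫ nj hI x) = 0 := by
  rw [← Category.assoc]
  exact cokernel.condition _

lemma d_nr_nj_π : K.d k (k + 1) ≫ nr x ≫ nj hI x ≫ cokernel.π (nb x ≫ nj hI x) = 0 := by
  rw [← K.p_fromOpcycles k (k + 1), Category.assoc, pushout.condition_assoc, nb_nj_π, comp_zero,
    comp_zero]

lemma fromOpcycles_pOpcycles : K.fromOpcycles k (k + 1) ≫ K.pOpcycles (k + 1) = 0 := by
  rw [← cancel_epi (K.pOpcycles k), p_fromOpcycles_assoc, d_pOpcycles, comp_zero]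

noncomputable def next : Stage I K (k + 1) where
  Lp := x.L
  L := hull hI (P x)
  Q := cokernel (nb x ≫ nj hI x)
  dp := x.π ≫ nb x ≫ nj hI x
  π := cokernel.π (nb x ≫ nj hI x)
  w := by
    simp only [Category.assoc]
    rw [nb_nj_π, comp_zero]
  hπ := haveI := x.epi_π
    isCokernelEpiComp (cokernelIsCokernel (nb x ≫ nj hI x)) x.π rfl
  α := nr x ≫ nj hI x
  β := K.descOpcycles (nr x ≫ nj hI x ≫ cokernel.π (nb x ≫ nj hI x)) k (by simp)
    (d_nr_nj_π hI x)
  comm := by rw [Category.assoc, p_descOpcycles]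
  hL := hull_mem hI _
  hα := haveI := x.hβ
    mono_comp _ _
  hβ := haveI := x.hβ
    mono_of_pushout_chase (K.fromOpcycles k (k + 1)) x.β (nj hI x) (K.pOpcycles (k + 1))
      fromOpcycles_pOpcycles _ (K.p_descOpcycles _ _ _ _)

lemma next_dp : (next hI x).dp = x.π ≫ nb x ≫ nj hI x := rfl

lemma next_comm_d : x.α ≫ (next hI x).dp = K.d k (k + 1) ≫ (next hI x).α := by
  show x.α ≫ x.π ≫ nb x ≫ nj hI x = K.d k (k + 1) ≫ nr x ≫ nj hI x
  rw [reassoc_of% x.comm, ← K.p_fromOpcycles k (k + 1), Category.assoc, pushout.condition_assoc]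

end Next

variable (K) in
/-- the sequence of stages -/
noncomputable def stage : ∀ k : ℕ, Stage I K k
  | 0 => stage0 hI K
  | k + 1 => next hI (stage k)

variable (K) in
/-- the resolution -/
noncomputable abbrev M : CochainComplex A ℕ :=
  CochainComplex.of (fun k => (stage hI K k).L) (fun k => (next hI (stage hI K k)).dp)
    (fun k => by
      show (next hI (stage hI K k)).dp ≫ (next hI (stage hI K k)).π ≫ _ = 0
      rw [← Category.assoc, (next hI (stage hI K k)).w, zero_comp])

variable (K) in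
lemma M_d (k : ℕ) : (M hI K).d k (k + 1) = (next hI (stage hI K k)).dp :=
  CochainComplex.of_d (fun k => (stage hI K k).L) (fun k => (next hI (stage hI K k)).dp) k

variable (K) in
/-- the map to the resolution -/
noncomputable def αM : K ⟶ M hI K where
  f k := (stage hI K k).α
  comm' i j h := by
    obtain rfl : i + 1 = j := h
    rw [M_d]
    exact next_comm_d hI (stage hI K i)

variable (K) in
lemma M_d_comp_π (i k : ℕ) : (M hI K).d i k ≫ (stage hI K k).π = 0 := by
  by_cases h : i + 1 = k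
  · subst h
    rw [M_d]
    exact (next hI (stage hI K i)).w
  · rw [(M hI K).shape i k h, zero_comp]

variable (K) in
lemma dp_comp_pOpcycles (k : ℕ) : (stage hI K k).dp ≫ (M hI K).pOpcycles k = 0 := by
  cases k with
  | zero =>
    have h0 : (stage hI K 0).dp = 0 := rfl
    rw [h0, zero_comp]
  | succ k =>
    have := (M hI K).d_pOpcycles k (k + 1)
    rw [M_d] at this
    exact this

variable (K) in
lemma π_desc (k : ℕ) : (stage hI K k).π ≫ (stage hI K k).hπ.desc
    (CokernelCofork.ofπ ((M hI K).pOpcycles k) (dp_comp_pOpcycles hI K k)) =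
      (M hI K).pOpcycles k :=
  Cofork.IsColimit.π_desc (stage hI K k).hπ

variable (K) in
/-- the opcycles of the resolution -/
noncomputable def opcyclesIso (k : ℕ) : (M hI K).opcycles k ≅ (stage hI K k).Q where
  hom := (M hI K).descOpcycles (stage hI K k).π _ rfl (M_d_comp_π hI K _ k)
  inv := (stage hI K k).hπ.desc
    (CokernelCofork.ofπ ((M hI K).pOpcycles k) (dp_comp_pOpcycles hI K k))
  hom_inv_id := by
    rw [← cancel_epi ((M hI K).pOpcycles k), p_descOpcycles_assoc, Category.comp_id]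
    exact π_desc hI K k
  inv_hom_id := by
    haveI := (stage hI K k).epi_π
    rw [← cancel_epi (stage hI K k).π, Category.comp_id, reassoc_of% (π_desc hI K k)]
    exact (M hI K).p_descOpcycles (stage hI K k).π _ rfl (M_d_comp_π hI K _ k)

variable (K) in
lemma p_opcyclesIso_hom (k : ℕ) :
    (M hI K).pOpcycles k ≫ (opcyclesIso hI K k).hom = (stage hI K k).π :=
  (M hI K).p_descOpcycles (stage hI K k).π _ rfl (M_d_comp_π hI K _ k)

variable (K) in
lemma opcyclesMap_opcyclesIso_hom (k : ℕ) :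
    opcyclesMap (αM hI K) k ≫ (opcyclesIso hI K k).hom = (stage hI K k).β := by
  rw [← cancel_epi (K.pOpcycles k), p_opcyclesMap_assoc, p_opcyclesIso_hom]
  exact (stage hI K k).comm

variable (K) in
lemma fromOpcycles_eq (k : ℕ) : (M hI K).fromOpcycles k (k + 1) =
    (opcyclesIso hI K k).hom ≫ nb (stage hI K k) ≫ nj hI (stage hI K k) := by
  rw [← cancel_epi ((M hI K).pOpcycles k), p_fromOpcycles, M_d, next_dp]
  have h := p_opcyclesIso_hom hI K k
  exact (congrArg (fun t => t ≫ nb (stage hI K k) ≫ nj hI (stage hI K k)) h).symm.trans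
    (Category.assoc _ _ _)

variable (K) in
lemma quasiIsoAt_αM (k : ℕ) : QuasiIsoAt (αM hI K) k := by
  rw [quasiIsoAt_iff_isIso_homologyMap]
  haveI hβ := (stage hI K k).hβ
  haveI : Mono (opcyclesMap (αM hI K) k) := mono_of_mono_fac (opcyclesMap_opcyclesIso_hom hI K k)
  haveI : Mono (homologyMap (αM hI K) k ≫ (M hI K).homologyι k) := by
    rw [homologyι_naturality]
    infer_instance
  haveI : Mono (homologyMap (αM hI K) k) := mono_of_mono _ ((M hI K).homologyι k)
  haveI : Epi (homologyMap (αM hI K) k) := by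
    rw [epi_iff_surjective_up_to_refinements]
    intro T z
    let y : T ⟶ (stage hI K k).Q := z ≫ (M hI K).homologyι k ≫ (opcyclesIso hI K k).hom
    have hy : y ≫ nb (stage hI K k) ≫ nj hI (stage hI K k) = 0 := by
      have h1 := fromOpcycles_eq hI K k
      have h2 : (M hI K).homologyι k ≫ (M hI K).fromOpcycles k (k + 1) = 0 :=
        (M hI K).homologyι_comp_fromOpcycles k (k + 1)
      rw [h1] at h2
      have h3 : (M hI K).homologyι k ≫ ((opcyclesIso hI K k).hom ≫ nb (stage hI K k) ≫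
          nj hI (stage hI K k)) = 0 := h2
      calc y ≫ nb (stage hI K k) ≫ nj hI (stage hI K k)
          = z ≫ ((M hI K).homologyι k ≫ ((opcyclesIso hI K k).hom ≫ nb (stage hI K k) ≫
              nj hI (stage hI K k))) := by simp only [y, Category.assoc]
        _ = 0 := by rw [h3, comp_zero]
    have hy' : y ≫ nb (stage hI K k) = 0 := by
      rw [← cancel_mono (nj hI (stage hI K k)), Category.assoc, hy, zero_comp]
    have sq : IsPushout (K.fromOpcycles k (k + 1)) (stage hI K k).β (nr (stage hI K k))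
        (nb (stage hI K k)) := IsPushout.of_hasPushout _ _
    haveI := Abelian.epi_kernel_map_of_isPushout sq
    obtain ⟨T₁, π₁, _, c', hc'⟩ := surjective_up_to_refinements_of_epi
      (kernel.map _ _ _ _ sq.w) (kernel.lift (nb (stage hI K k)) y hy')
    have hcφ : (c' ≫ kernel.ι (K.fromOpcycles k (k + 1))) ≫ K.fromOpcycles k (k + 1) = 0 := by
      rw [Category.assoc, kernel.condition, comp_zero]
    have hcβ : c' ≫ kernel.ι (K.fromOpcycles k (k + 1)) ≫ (stage hI K k).β = π₁ ≫ y := by
      have := hc' =≫ kernel.ι (nb (stage hI K k))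
      simp only [Category.assoc, kernel.lift_ι] at this
      exact this.symm
    let h : T₁ ⟶ K.homology k := (K.homologyIsKernel k (k + 1) (by simp)).lift
      (KernelFork.ofι _ hcφ)
    have hh : h ≫ K.homologyι k = c' ≫ kernel.ι (K.fromOpcycles k (k + 1)) :=
      Fork.IsLimit.lift_ι' _ _ _
    refine ⟨T₁, π₁, inferInstance, h, ?_⟩
    rw [← cancel_mono ((M hI K).homologyι k), ← cancel_mono (opcyclesIso hI K k).hom]
    simp only [Category.assoc]
    rw [homologyι_naturality_assoc, reassoc_of% hh, opcyclesMap_opcyclesIso_hom hI K k]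
    exact hcβ.symm
  exact isIso_of_mono_of_epi _

include hI in
variable (K) in
theorem exists_resolution_nat : ∃ (M : CochainComplex A ℕ) (α : K ⟶ M),
    (∀ k, I (M.X k)) ∧ (∀ k, Mono (α.f k)) ∧ QuasiIso α :=
  ⟨M hI K, αM hI K, fun k => (stage hI K k).hL, fun k => (stage hI K k).hα,
    ⟨quasiIsoAt_αM hI K⟩⟩

end Nat

section Int

variable {I : A → Prop} (hI : ∀ X : A, ∃ (Y : A) (ι : X ⟶ Y), I Y ∧ Mono ι)

include hI in
theorem exists_resolution_int (hI0 : ∃ Z : A, IsZero Z ∧ I Z) (K : CochainComplex A ℤ) (a : ℤ)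
    [K.IsStrictlyGE a] :
    ∃ (L : CochainComplex A ℤ) (α : K ⟶ L), L.IsStrictlyGE a ∧ (∀ n, I (L.X n)) ∧
      (∀ n, Mono (α.f n)) ∧ QuasiIso α := by
  obtain ⟨Z, hZ, hIZ⟩ := hI0
  obtain ⟨M', α', hM', hα', hq⟩ :=
    exists_resolution_nat hI (K.truncGE' (ComplexShape.embeddingUpIntGE a))
  have hY : ∀ i : ℤ, ∃ Y : A, I Y ∧
      Nonempty (Y ≅ (M'.extend (ComplexShape.embeddingUpIntGE a)).X i) := by
    intro i
    by_cases h : ∃ k : ℕ, (ComplexShape.embeddingUpIntGE a).f k = i
    · obtain ⟨k, hk⟩ := h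
      exact ⟨M'.X k, hM' k, ⟨(M'.extendXIso (ComplexShape.embeddingUpIntGE a) hk).symm⟩⟩
    · exact ⟨Z, hIZ, ⟨hZ.iso (M'.isZero_extend_X (ComplexShape.embeddingUpIntGE a) i
        (fun k hk => h ⟨k, hk⟩))⟩⟩
  choose Y hYI hYe using hY
  let eL := replaceObjIso (M'.extend (ComplexShape.embeddingUpIntGE a)) Y (fun i => (hYe i).some)
  haveI : IsIso (HomologicalComplex.πTruncGE K (ComplexShape.embeddingUpIntGE a)) := inferInstance
  have hmono : ∀ n, Mono ((extendMap α' (ComplexShape.embeddingUpIntGE a)).f n) := by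
    intro n
    by_cases h : ∃ k : ℕ, (ComplexShape.embeddingUpIntGE a).f k = n
    · obtain ⟨k, hk⟩ := h
      rw [extendMap_f α' _ hk]
      haveI := hα' k
      infer_instance
    · exact ((K.truncGE' (ComplexShape.embeddingUpIntGE a)).isZero_extend_X
        (ComplexShape.embeddingUpIntGE a) n (fun k hk => h ⟨k, hk⟩)).mono _
  refine ⟨replaceObj (M'.extend (ComplexShape.embeddingUpIntGE a)) Y (fun i => (hYe i).some),
    HomologicalComplex.πTruncGE K (ComplexShape.embeddingUpIntGE a) ≫
      extendMap α' (ComplexShape.embeddingUpIntGE a) ≫ eL.inv, ?_, hYI, ?_, ?_⟩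
  · exact isStrictlySupported_of_iso eL.symm (ComplexShape.embeddingUpIntGE a)
  · intro n
    haveI := hmono n
    rw [comp_f, comp_f]
    haveI h1 : Mono ((HomologicalComplex.πTruncGE K (ComplexShape.embeddingUpIntGE a)).f n) :=
      inferInstance
    haveI h3 : Mono (eL.inv.f n) := inferInstance
    haveI h4 : Mono ((extendMap α' (ComplexShape.embeddingUpIntGE a)).f n ≫ eL.inv.f n) :=
      mono_comp _ _
    exact @mono_comp _ _ _ _ _ _ h1 _ h4
  · haveI h2 : QuasiIso (extendMap α' (ComplexShape.embeddingUpIntGE a)) := inferInstance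
    haveI h1 : QuasiIso (HomologicalComplex.πTruncGE K (ComplexShape.embeddingUpIntGE a)) :=
      inferInstance
    haveI h3 : QuasiIso eL.inv := inferInstance
    haveI h4 : QuasiIso (extendMap α' (ComplexShape.embeddingUpIntGE a) ≫ eL.inv) :=
      inferInstance
    exact quasiIso_comp (hφ := h1) (hφ' := h4) _ _

include hI in
theorem exists_resolution_int' (hI0 : ∃ Z : A, IsZero Z ∧ I Z) (K : CochainComplex A ℤ) (a : ℤ)
    (hK : ∀ n : ℤ, n < a → IsZero (K.homology n)) :
    ∃ (L : CochainComplex A ℤ) (α : K ⟶ L), L.IsStrictlyGE a ∧ (∀ n, I (L.X n)) ∧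
      QuasiIso α := by
  haveI : K.IsGE a := by
    rw [CochainComplex.isGE_iff]
    intro i hi
    rw [exactAt_iff_isZero_homology]
    exact hK i hi
  obtain ⟨L, α, h1, h2, -, h3⟩ := exists_resolution_int hI hI0 (K.truncGE a) a
  exact ⟨L, K.πTruncGE a ≫ α, h1, h2, inferInstance⟩

end Int

end Groth.Agent.H33.RightRes
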