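import Mathlib
import Groth.Agent.H33.RightRes

/-!
# Members of an adapted class are acyclic (helper33)
-/

set_option autoImplicit false
universe v u v' u'
open CategoryTheory CategoryTheory.Limits HomologicalComplex CochainComplex

namespace Groth.Agent.H33.Adapted

variable {A : Type u} [Category.{v} A] [Abelian A]

section Aug

variable {X : A} (M : CochainComplex A ℕ) (γ : (single₀ A).obj X ⟶ M)

lemma γ_d : γ.f 0 ≫ M.d 0 1 = 0 := by
  rw [γ.comm 0 1, HomologicalComplex.single_obj_d, zero_comp]

variable [QuasiIso γ]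

set_option backward.isDefEq.respectTransparency false in
/-- the source of a resolution is the kernel of the first differential -/
noncomputable def isLimitKernelFork : IsLimit (KernelFork.ofι (γ.f 0) (γ_d M γ)) := by
  refine IsLimit.ofIsoLimit (M.cyclesIsKernel 0 1 (by simp)) (Iso.symm ?_)
  refine Fork.ext ((singleObjHomologySelfIso _ _ _).symm ≪≫
    isoOfQuasiIsoAt γ 0 ≪≫ M.isoHomologyπ₀.symm) ?_
  rw [← cancel_epi (singleObjHomologySelfIso (ComplexShape.up ℕ) _ _).hom,
    ← cancel_epi (isoHomologyπ₀ _).hom,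
    ← cancel_epi (singleObjCyclesSelfIso (ComplexShape.up ℕ) _ _).inv]
  simp

lemma mono_γ : Mono (γ.f 0) := mono_of_isLimit_fork (isLimitKernelFork M γ)

/-- the augmented complex of a resolution is acyclic -/
lemma acyclic_augment : (M.augment (γ.f 0) (γ_d M γ)).Acyclic := by
  intro i
  rcases i with _ | _ | k
  · refine (HomologicalComplex.exactAt_iff' _ 0 0 1 (by simp) (by simp)).2 ?_
    have := mono_γ M γ
    exact (ShortComplex.exact_iff_mono _ rfl).2 (inferInstanceAs (Mono (γ.f 0)))
  · refine (HomologicalComplex.exactAt_iff' _ 0 1 2 (by simp) (by simp)).2 ?_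
    exact ShortComplex.exact_of_f_is_kernel (ShortComplex.mk (γ.f 0) (M.d 0 1) (γ_d M γ))
      (isLimitKernelFork M γ)
  · refine (HomologicalComplex.exactAt_iff' _ (k + 1) (k + 1 + 1) (k + 1 + 1 + 1)
      (by simp) (by simp)).2 ?_
    have hM : M.ExactAt (k + 1) :=
      (quasiIsoAt_iff_exactAt γ (k + 1) (exactAt_succ_single_obj X k)).1 inferInstance
    exact (HomologicalComplex.exactAt_iff' M k (k + 1) (k + 1 + 1) (by simp) (by simp)).1 hM

end Aug

/-- Members of an adapted class are acyclic for the right derived functors. -/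
theorem main [EnoughInjectives A] {B : Type u'} [Category.{v'} B] [Abelian B] (f : A ⥤ B)
    [f.Additive] (𝒪 : ObjectProperty A)
    (h1 : ∀ K : CochainComplex A ℕ, (∀ i, 𝒪 (K.X i)) → K.Acyclic →
      ((f.mapHomologicalComplex (ComplexShape.up ℕ)).obj K).Acyclic)
    (h2 : ∀ X : A, ∃ (Y : A) (i : X ⟶ Y), 𝒪 Y ∧ Mono i)
    (X : A) (hX : 𝒪 X) (n : ℕ) (hn : 0 < n) :
    IsZero ((f.rightDerived n).obj X) := by
  obtain ⟨n, rfl⟩ : ∃ m, n = m + 1 := ⟨n - 1, by omega⟩
  -- an injective resolution of `X`
  let I : InjectiveResolution X := Classical.choice (HasInjectiveResolution.out)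
  -- a resolution of `I` by members of `𝒪`
  obtain ⟨M, α, hM, -, hα⟩ := RightRes.exists_resolution_nat (I := fun Y => 𝒪 Y) h2 I.cocomplex
  -- an injective resolution of `M`
  obtain ⟨N, α', hN, -, hα'⟩ := RightRes.exists_resolution_nat (I := fun Y => Injective Y)
    (fun Y => ⟨Injective.under Y, Injective.ι Y, inferInstance, inferInstance⟩) M
  let J : InjectiveResolution X :=
    { cocomplex := N
      injective := hN
      ι := I.ι ≫ α ≫ α'
      quasiIso := inferInstance }
  -- the homotopy
  have hJι : J.ι = I.ι ≫ α ≫ α' := rfl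
  have hh : Homotopy (α ≫ α' ≫ InjectiveResolution.desc (𝟙 X) I J) (𝟙 I.cocomplex) :=
    InjectiveResolution.descHomotopy (𝟙 X) _ _
      (by rw [← Category.assoc, ← Category.assoc, Category.assoc I.ι, ← hJι,
        InjectiveResolution.desc_commutes])
      (by simp)
  -- vanishing of the cohomology of `f M`
  let fC := f.mapHomologicalComplex (ComplexShape.up ℕ)
  have hγ : QuasiIso (I.ι ≫ α) := inferInstance
  have hacyc := h1 (M.augment ((I.ι ≫ α).f 0) (γ_d M (I.ι ≫ α)))
    (by
      rintro (_ | k)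
      · exact hX
      · exact hM k)
    (acyclic_augment M (I.ι ≫ α))
  have hfM : (fC.obj M).ExactAt (n + 1) := by
    have h := (HomologicalComplex.exactAt_iff' _ (n + 1) (n + 1 + 1) (n + 1 + 1 + 1)
      (by simp) (by simp)).1 (hacyc (n + 1 + 1))
    exact (HomologicalComplex.exactAt_iff' _ n (n + 1) (n + 1 + 1) (by simp) (by simp)).2 h
  have hz : IsZero ((fC.obj M).homology (n + 1)) := (exactAt_iff_isZero_homology _ _).1 hfM
  -- conclusion
  refine IsZero.of_iso ?_ (I.isoRightDerivedObj f (n + 1))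
  show IsZero ((fC.obj I.cocomplex).homology (n + 1))
  have e1 : homologyMap (fC.map (α ≫ α' ≫ InjectiveResolution.desc (𝟙 X) I J)) (n + 1) =
      𝟙 _ := by
    rw [(f.mapHomotopy hh).homologyMap_eq (n + 1), fC.map_id, homologyMap_id]
  rw [IsZero.iff_id_eq_zero, ← e1, Functor.map_comp, homologyMap_comp,
    hz.eq_of_tgt (homologyMap (fC.map α) (n + 1)) 0, zero_comp]

end Groth.Agent.H33.Adapted
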