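import Mathlib
import Groth.Prelude.Def_EtBase

/-!
# Squad lemma (TOR) for helper27 (S7735): the direct image of a torsion abelian étale sheaf along a
quasi-compact morphism is torsion.
-/

set_option autoImplicit false
universe u
open CategoryTheory CategoryTheory.Limits AlgebraicGeometry Opposite

namespace Groth.Agent.H33.CdSepTor

set_option backward.isDefEq.respectTransparency.types false in
theorem mem_smallEtaleTopology_of_forall {X : Scheme.{u}} (U : X.Etale) (R : Sieve U)
    (h : ∀ x : U.left, ∃ (V : X.Etale) (g : V ⟶ U) (v : V.left), R g ∧ g.left.base v = x) :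
    R ∈ X.smallEtaleTopology U := by
  have eX : X.smallEtaleTopology =
      (X.smallPretopology (P := EtCoh.etaleMP) (Q := EtCoh.etaleMP)).toGrothendieck :=
    Scheme.smallGrothendieckTopology_eq_toGrothendieck_smallPretopology X le_rfl
  rw [eX]
  refine (Scheme.mem_toGrothendieck_smallPretopology U R).2 (fun x => ?_)
  obtain ⟨V, g, v, hg, hv⟩ := h x
  exact ⟨V, g, v, hg, inferInstance, hv⟩

/-- Sections of an abelian étale sheaf which agree étale-locally around every point agree. -/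
theorem eq_of_locally_eq {X : Scheme.{u}} (F : EtCoh.Ab X) (W : X.Etale)
    (t₁ t₂ : EtCoh.sect F W)
    (h : ∀ y : W.left, ∃ (V : X.Etale) (g : V ⟶ W) (v : V.left), g.left.base v = y ∧
      F.obj.map g.op t₁ = F.obj.map g.op t₂) : t₁ = t₂ := by
  have hsh : Presieve.IsSheaf X.smallEtaleTopology (F.obj ⋙ forget AddCommGrpCat) :=
    (isSheaf_iff_isSheaf_of_type _ _).1
      ((Presheaf.isSheaf_iff_isSheaf_forget X.smallEtaleTopology F.obj
        (forget AddCommGrpCat)).1 F.property)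
  have hsep : Presieve.IsSeparated X.smallEtaleTopology (F.obj ⋙ forget AddCommGrpCat) :=
    hsh.isSeparated
  have hcov : Presheaf.equalizerSieve (F := F.obj) (X := op W) t₁ t₂ ∈
      X.smallEtaleTopology W := by
    apply mem_smallEtaleTopology_of_forall
    intro y
    obtain ⟨V, g, v, hv, hg⟩ := h y
    exact ⟨V, g, v, hg, hv⟩
  exact (hsep _ hcov).ext (fun _ _ hf => hf)

/-- (TOR) -/
theorem isTorsion_push {X Y : Scheme.{u}} (f : X ⟶ Y) [QuasiCompact f] (F : EtCoh.Ab X)
    (hF : EtCoh.IsTorsion F) : EtCoh.IsTorsion ((EtCoh.push f).obj F) := by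
  intro U s x
  obtain ⟨V0, hV0, hxV0, -⟩ : ∃ V0 : U.left.Opens, IsAffineOpen V0 ∧ x ∈ V0 ∧ V0 ≤ ⊤ :=
    (TopologicalSpace.Opens.isBasis_iff_nbhd.mp
      U.left.isBasis_affineOpens) (show x ∈ (⊤ : U.left.Opens) from trivial)
  haveI : IsAffine (V0 : Scheme) := hV0
  haveI hc : CompactSpace (V0 : Scheme) := inferInstance
  let V : Y.Etale := Scheme.Etale.mk (V0.ι ≫ U.hom)
  let g : V ⟶ U := MorphismProperty.Over.homMk V0.ι rfl trivial
  let W : X.Etale := (EtCoh.bc f).obj V
  let s' : EtCoh.sect F W := F.obj.map ((EtCoh.bc f).map g).op s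
  haveI : CompactSpace W.left := by
    show CompactSpace ↑(pullback (V0.ι ≫ U.hom) f)
    infer_instance
  choose Wy hy hv hfin using fun y : W.left => hF W s' y
  have hn : ∀ y, ∃ n : ℕ, 0 < n ∧ n • (F.obj.map (hy y).op s') = 0 :=
    fun y => isOfFinAddOrder_iff_nsmul_eq_zero.mp (hfin y)
  choose n hnpos hnz using hn
  have hopen : ∀ y, IsOpen (Set.range (hy y).left.base) :=
    fun y => (hy y).left.isOpenMap.isOpen_range
  have hcover : (Set.univ : Set W.left) ⊆ ⋃ y, Set.range (hy y).left.base := by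
    intro y _
    exact Set.mem_iUnion.mpr ⟨y, hv y⟩
  obtain ⟨t, ht⟩ := isCompact_univ.elim_finite_subcover _ hopen hcover
  have hmpos : 0 < ∏ y ∈ t, n y := Finset.prod_pos (fun y _ => hnpos y)
  have hzero : (∏ y ∈ t, n y) • s' = 0 := by
    apply eq_of_locally_eq F W
    intro y
    obtain ⟨y0, hy0⟩ := Set.mem_iUnion.mp (ht (Set.mem_univ y))
    obtain ⟨hy0t, v, hv0⟩ := Set.mem_iUnion.mp hy0
    refine ⟨Wy y0, hy y0, v, hv0, ?_⟩
    rw [map_nsmul, map_zero]
    obtain ⟨c, hc⟩ := Finset.dvd_prod_of_mem n hy0t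
    have h1 : (∏ y ∈ t, n y) • F.obj.map (hy y0).op s' =
        c • (n y0 • F.obj.map (hy y0).op s') := by
      rw [hc, mul_comm, mul_smul]
    rw [h1, hnz y0, smul_zero]
  refine ⟨V, g, ⟨⟨x, hxV0⟩, rfl⟩, ?_⟩
  exact isOfFinAddOrder_iff_nsmul_eq_zero.mpr ⟨_, hmpos, hzero⟩

end Groth.Agent.H33.CdSepTor
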