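import Mathlib

/-!
# Sections of coproducts of sheaves of modules (helper33)

* `isColimitCofanAb`: a criterion for a cofan of abelian groups to be a colimit.
* `exists_finsum`: elements of a coproduct of modules are finite sums.
* `prj`, `e`: projections of a colimit cofan in a preadditive category, and the idempotents
  `e t = ∑ j ∈ t, prj j ≫ inj j`.
* `exists_local_finsum`: a section of a coproduct of sheaves of modules is locally a finite sum
  of sections of the summands.
* `exists_finset_fix`: over an object with the "finite subcover separation property", every section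
  of a coproduct is fixed by some `e t`.
-/

set_option autoImplicit false
universe u
open CategoryTheory CategoryTheory.Limits Opposite

namespace Groth.Agent.H33.CoprodSect

/-! ### colimit cofans of abelian groups -/
section Ab

open AddCommGrpCat.Colimits in
/-- A cofan of abelian groups with orthogonal projections whose injections generate is a
colimit. -/
noncomputable def isColimitCofanAb {ι : Type u} {A : ι → AddCommGrpCat.{u}} (c : Cofan A)
    (p : ∀ j, c.pt ⟶ A j)
    (hp1 : ∀ (j : ι) (x : A j), p j (c.inj j x) = x)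
    (hp2 : ∀ (i j : ι), i ≠ j → ∀ x : A i, p j (c.inj i x) = 0)
    (hgen : ∀ x : c.pt,
      x ∈ AddSubgroup.closure {y : c.pt | ∃ (j : ι) (a : A j), y = c.inj j a}) :
    IsColimit c := by
  classical
  refine isColimit_of_bijective_desc (Discrete.functor A) c ⟨?_, ?_⟩
  · rw [injective_iff_map_eq_zero]
    intro q hq
    obtain ⟨y, rfl⟩ := QuotientAddGroup.mk_surjective q
    have hd : Quot.desc (Discrete.functor A) c (QuotientAddGroup.mk y) =
        DFinsupp.sumAddHom (fun j => (c.ι.app j).hom) y := rfl
    rw [hd] at hq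
    have key : ∀ j : Discrete ι,
        (p j.as).hom.comp (DFinsupp.sumAddHom (fun j => (c.ι.app j).hom)) =
          DFinsupp.evalAddMonoidHom j := by
      intro j
      refine DFinsupp.addHom_ext (fun i b => ?_)
      rw [AddMonoidHom.comp_apply, DFinsupp.sumAddHom_single]
      have hev : ∀ f : Π₀ k : Discrete ι, ((Discrete.functor A).obj k : AddCommGrpCat.{u}),
          DFinsupp.evalAddMonoidHom j f = f j := fun _ => rfl
      rw [hev]
      by_cases h : i = j
      · subst h
        rw [DFinsupp.single_eq_same]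
        exact hp1 i.as b
      · rw [DFinsupp.single_eq_of_ne (fun h' => h h'.symm)]
        exact hp2 i.as j.as (fun h' => h (Discrete.ext h')) b
    have hy : y = 0 := by
      refine DFinsupp.ext (fun j => ?_)
      have h1 := DFunLike.congr_fun (key j) y
      rw [AddMonoidHom.comp_apply, hq, map_zero] at h1
      exact h1.symm
    rw [hy]
    rfl
  · intro x
    have hle : AddSubgroup.closure {y : c.pt | ∃ (j : ι) (a : A j), y = c.inj j a} ≤
        (Quot.desc (Discrete.functor A) c).range := by
      rw [AddSubgroup.closure_le]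
      rintro _ ⟨j, a, rfl⟩
      exact ⟨Quot.ι (Discrete.functor A) ⟨j⟩ a, Quot.ι_desc _ c ⟨j⟩ a⟩
    exact AddMonoidHom.mem_range.1 (hle (hgen x))

end Ab

/-! ### coproducts of modules -/
section ModuleCat

variable {R' : Type u} [Ring R'] {ι : Type u} {Z : ι → ModuleCat.{u} R'}

lemma iSup_range_eq_top (c : Cofan Z) (hc : IsColimit c) :
    (⨆ i, LinearMap.range (c.inj i).hom) = ⊤ := by
  set T : Submodule R' c.pt := ⨆ i, LinearMap.range (c.inj i).hom with hT
  have h : ModuleCat.ofHom T.mkQ = (0 : c.pt ⟶ ModuleCat.of R' (c.pt ⧸ T)) := by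
    apply Cofan.IsColimit.hom_ext hc
    intro i
    rw [comp_zero]
    ext x
    have hx : (c.inj i).hom x ∈ T :=
      (le_iSup (fun i => LinearMap.range (c.inj i).hom) i) ⟨x, rfl⟩
    exact (Submodule.Quotient.mk_eq_zero T).2 hx
  have h2 : T.mkQ = 0 := by
    have h3 := congrArg ModuleCat.Hom.hom h
    simpa using h3
  rw [← Submodule.ker_mkQ T, h2, LinearMap.ker_zero]

lemma exists_finsum (c : Cofan Z) (hc : IsColimit c) (z : c.pt) :
    ∃ (s : Finset ι) (y : ∀ i, Z i), z = ∑ i ∈ s, (c.inj i).hom (y i) := by
  classical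
  have hz : z ∈ (⨆ i, LinearMap.range (c.inj i).hom) := by
    rw [iSup_range_eq_top c hc]
    trivial
  rw [Submodule.mem_iSup_iff_exists_finset] at hz
  obtain ⟨s, hs⟩ := hz
  rw [Submodule.mem_iSup_finset_iff_exists_sum] at hs
  obtain ⟨μ, hμ⟩ := hs
  have hμ' : ∀ i, ∃ y : Z i, (c.inj i).hom y = (μ i : c.pt) := fun i => (μ i).2
  choose y hy using hμ'
  refine ⟨s, y, ?_⟩
  rw [← hμ]
  exact Finset.sum_congr rfl (fun i _ => (hy i).symm)

end ModuleCat

/-! ### projections of a colimit cofan in a preadditive category -/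
section Preadd

universe v' u' w'

variable {D : Type u'} [Category.{v'} D] [Preadditive D] {ι : Type w'} {M : ι → D}
  (c : Cofan M) (hc : IsColimit c)

/-- the projection of a colimit cofan onto a summand -/
noncomputable def prj (j : ι) : c.pt ⟶ M j := by
  classical
  exact Cofan.IsColimit.desc hc (fun i => if h : i = j then eqToHom (by rw [h]) else 0)

lemma inj_prj_self (j : ι) : c.inj j ≫ prj c hc j = 𝟙 _ := by
  classical
  unfold prj
  rw [Cofan.IsColimit.fac, dif_pos rfl, eqToHom_refl]

lemma inj_prj_of_ne {i j : ι} (h : i ≠ j) : c.inj i ≫ prj c hc j = 0 := by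
  classical
  unfold prj
  rw [Cofan.IsColimit.fac, dif_neg h]

/-- the idempotent endomorphism of the point of a colimit cofan attached to a finite set of
indices -/
noncomputable def e (t : Finset ι) : c.pt ⟶ c.pt := ∑ j ∈ t, prj c hc j ≫ c.inj j

lemma inj_comp_e {t : Finset ι} {i : ι} (hi : i ∈ t) : c.inj i ≫ e c hc t = c.inj i := by
  classical
  unfold e
  rw [Preadditive.comp_sum, Finset.sum_eq_single i]
  · rw [← Category.assoc, inj_prj_self, Category.id_comp]
  · intro j _ hji
    rw [← Category.assoc, inj_prj_of_ne c hc (Ne.symm hji), zero_comp]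
  · intro h
    exact absurd hi h

lemma comp_e_eq_sum {K : D} (g : K ⟶ c.pt) (t : Finset ι) :
    g ≫ e c hc t = ∑ j ∈ t, (g ≫ prj c hc j) ≫ c.inj j := by
  unfold e
  rw [Preadditive.comp_sum]
  refine Finset.sum_congr rfl (fun j _ => ?_)
  rw [Category.assoc]

end Preadd

/-! ### sheaves of modules -/
section Sheaf

variable {C : Type u} [SmallCategory C] {J : GrothendieckTopology C} (R : Sheaf J RingCat.{u})

instance additive_sheafSections (V : Cᵒᵖ) :
    ((sheafSections J AddCommGrpCat.{u}).obj V).Additive where
  map_add := rfl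

/-- sections over `V` of a sheaf of modules, as an abelian group -/
noncomputable abbrev Sec (V : C) : SheafOfModules.{u} R ⥤ AddCommGrpCat.{u} :=
  SheafOfModules.toSheaf R ⋙ (sheafSections J AddCommGrpCat.{u}).obj (op V)

/-- restriction of sections -/
noncomputable abbrev res (N : SheafOfModules.{u} R) {V W : C} (g : V ⟶ W) :
    (Sec R W).obj N ⟶ (Sec R V).obj N :=
  ((SheafOfModules.toSheaf R).obj N).obj.map g.op

lemma res_naturality {N N' : SheafOfModules.{u} R} (f : N ⟶ N') {V W : C} (g : V ⟶ W)
    (x : (Sec R W).obj N) :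
    (Sec R V).map f (res R N g x) = res R N' g ((Sec R W).map f x) :=
  NatTrans.naturality_apply ((SheafOfModules.toSheaf R).map f).hom g.op x

lemma map_e_apply {ι : Type u} {M : ι → SheafOfModules.{u} R} (c : Cofan M) (hc : IsColimit c)
    (V : C) (t : Finset ι) (z : (Sec R V).obj c.pt) :
    (Sec R V).map (e c hc t) z =
      ∑ j ∈ t, (Sec R V).map (c.inj j) ((Sec R V).map (prj c hc j) z) := by
  classical
  unfold e
  induction t using Finset.induction_on with
  | empty =>
    rw [Finset.sum_empty, Finset.sum_empty, Functor.map_zero]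
    rfl
  | insert j t hj ih =>
    rw [Finset.sum_insert hj, Finset.sum_insert hj, Functor.map_add,
      AddCommGrpCat.hom_add_apply, ih, Functor.map_comp]
    rfl

/-- sheafification of presheaves of modules -/
noncomputable abbrev shf : PresheafOfModules.{u} R.obj ⥤ SheafOfModules.{u} R :=
  PresheafOfModules.sheafification.{u} (𝟙 R.obj)

/-- the forgetful functor to presheaves of modules -/
noncomputable abbrev Fg : SheafOfModules.{u} R ⥤ PresheafOfModules.{u} R.obj :=
  SheafOfModules.forget.{u} R ⋙ PresheafOfModules.restrictScalars (𝟙 R.obj)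

/-- the sheafification adjunction -/
noncomputable abbrev adjS : shf R ⊣ Fg R :=
  PresheafOfModules.sheafificationAdjunction.{u} (𝟙 R.obj)

/-- A section of a coproduct of sheaves of modules is locally a finite sum of sections of the
summands. -/
theorem exists_local_finsum {ι : Type u} {M : ι → SheafOfModules.{u} R} (c : Cofan M)
    (hc : IsColimit c) (W : C) (x : (Sec R W).obj c.pt) :
    ∃ S ∈ J W, ∀ (V : C) (g : V ⟶ W), S g →
      ∃ (s : Finset ι) (y : ∀ i, (Sec R V).obj (M i)),
        res R c.pt g x = ∑ i ∈ s, (Sec R V).map (c.inj i) (y i) := by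
  let Z : ι → PresheafOfModules.{u} R.obj := fun i => (Fg R).obj (M i)
  let P : PresheafOfModules.{u} R.obj := ∐ Z
  let θ : P ⟶ (Fg R).obj c.pt := Sigma.desc (fun i => (Fg R).map (c.inj i))
  let θ' : (shf R).obj P ⟶ c.pt := ((adjS R).homEquiv P c.pt).symm θ
  let ψ : c.pt ⟶ (shf R).obj P :=
    Cofan.IsColimit.desc hc
      (fun i => inv ((adjS R).counit.app (M i)) ≫ (shf R).map (Sigma.ι Z i))
  have hψθ : ψ ≫ θ' = 𝟙 c.pt := by
    apply Cofan.IsColimit.hom_ext hc
    intro i
    rw [Category.comp_id, ← Category.assoc, Cofan.IsColimit.fac, Category.assoc]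
    have h1 : (shf R).map (Sigma.ι Z i) ≫ θ' = (adjS R).counit.app (M i) ≫ c.inj i := by
      show (shf R).map (Sigma.ι Z i) ≫ ((adjS R).homEquiv P c.pt).symm θ = _
      rw [← Adjunction.homEquiv_naturality_left_symm, Sigma.ι_desc, Adjunction.homEquiv_counit]
      exact (adjS R).counit.naturality (c.inj i)
    rw [h1, IsIso.inv_hom_id_assoc]
  have hθ : (adjS R).unit.app P ≫ (Fg R).map θ' = θ := by
    have h := Adjunction.homEquiv_unit (adj := adjS R) (X := P) (Y := c.pt) (f := θ')
    exact h.symm.trans (((adjS R).homEquiv P c.pt).apply_symm_apply θ)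
  let z : (Sec R W).obj ((shf R).obj P) := (Sec R W).map ψ x
  let z' : ToType ((CategoryTheory.sheafify J P.presheaf).obj (op W)) := z
  have hls : Presheaf.IsLocallySurjective J (CategoryTheory.toSheafify J P.presheaf) :=
    inferInstance
  refine ⟨Presheaf.imageSieve (CategoryTheory.toSheafify J P.presheaf) z',
    Presheaf.imageSieve_mem J (CategoryTheory.toSheafify J P.presheaf) z', ?_⟩
  rintro V g ⟨y, hy⟩
  obtain ⟨s, w, hw⟩ := exists_finsum
    (Cofan.mk ((PresheafOfModules.evaluation R.obj (op V)).obj P)
      (fun i => (PresheafOfModules.evaluation R.obj (op V)).map (Sigma.ι Z i)))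
    (isColimitOfHasCoproductOfPreservesColimit (PresheafOfModules.evaluation R.obj (op V)) Z) y
  refine ⟨s, fun i => w i, ?_⟩
  have hA : res R c.pt g x = (Sec R V).map θ' (res R ((shf R).obj P) g z) := by
    rw [res_naturality]
    have h1 : (Sec R W).map θ' z = x := by
      show (Sec R W).map θ' ((Sec R W).map ψ x) = x
      rw [← ConcreteCategory.comp_apply, ← Functor.map_comp, hψθ, CategoryTheory.Functor.map_id]
      rfl
    rw [h1]
  have hB : res R ((shf R).obj P) g z =
      ((PresheafOfModules.toPresheaf R.obj).map ((adjS R).unit.app P)).app (op V) y := hy.symm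
  have hC : (Sec R V).map θ'
      (((PresheafOfModules.toPresheaf R.obj).map ((adjS R).unit.app P)).app (op V) y) =
      ((PresheafOfModules.toPresheaf R.obj).map θ).app (op V) y := by
    have h1 := congrArg
      (fun φ => ((PresheafOfModules.toPresheaf R.obj).map φ).app (op V) y) hθ
    exact h1
  have hD : ((PresheafOfModules.toPresheaf R.obj).map θ).app (op V) y =
      ∑ i ∈ s, (Sec R V).map (c.inj i) (w i) := by
    have h1 : (θ.app (op V)).hom y =
        ∑ i ∈ s, (θ.app (op V)).hom (((Sigma.ι Z i).app (op V)).hom (w i)) := by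
      conv_lhs => rw [hw]
      exact map_sum (θ.app (op V)).hom _ s
    have h2 : ∀ i, (θ.app (op V)).hom (((Sigma.ι Z i).app (op V)).hom (w i)) =
        (((Fg R).map (c.inj i)).app (op V)).hom (w i) := by
      intro i
      have h3 := congrArg (fun φ : Z i ⟶ (Fg R).obj c.pt => (φ.app (op V)).hom (w i))
        (Sigma.ι_desc (fun i => (Fg R).map (c.inj i)) i)
      exact h3
    rw [Finset.sum_congr rfl (fun i _ => h2 i)] at h1
    exact h1
  rw [hA, hB, hC, hD]

/-- Over an object all of whose covering sieves contain a finite subfamily detecting equality of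
sections, every section of a coproduct is fixed by some idempotent `e t`. -/
theorem exists_finset_fix {ι : Type u} {M : ι → SheafOfModules.{u} R} (c : Cofan M)
    (hc : IsColimit c) (W : C)
    (hfin : ∀ S ∈ J W, ∃ T : Finset (Σ V : C, {g : V ⟶ W // S g}),
      ∀ (N : SheafOfModules.{u} R) (a b : (Sec R W).obj N),
        (∀ k ∈ T, res R N k.2.1 a = res R N k.2.1 b) → a = b)
    (x : (Sec R W).obj c.pt) :
    ∃ t : Finset ι, (Sec R W).map (e c hc t) x = x := by
  classical
  obtain ⟨S, hS, hloc⟩ := exists_local_finsum R c hc W x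
  obtain ⟨T, hT⟩ := hfin S hS
  choose s y hy using hloc
  refine ⟨T.biUnion (fun k => s k.1 k.2.1 k.2.2), hT c.pt _ _ (fun k hk => ?_)⟩
  rw [← res_naturality, hy k.1 k.2.1 k.2.2, map_sum]
  refine Finset.sum_congr rfl (fun i hi => ?_)
  have hi' : i ∈ T.biUnion (fun k => s k.1 k.2.1 k.2.2) := Finset.mem_biUnion.2 ⟨k, hk, hi⟩
  rw [← ConcreteCategory.comp_apply, ← Functor.map_comp, inj_comp_e c hc hi']

end Sheaf

end Groth.Agent.H33.CoprodSect
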