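import Groth.Agent.S0985
import Groth.Agent.H6.Hocolim
import Groth.Agent.H6.QCoprod

/-!
# Maps from compact objects of `D(A)` to a sequential colimit of complexes (helper33)

For a Grothendieck abelian category `A`, a sequence of complexes `L : ℕ ⥤ CochainComplex A ℤ` with
a colimit cocone `c`, and a compact object `K` of `D(A)`, any map `K ⟶ Q(c.pt)` factors through
some `Q(L n)`.
-/

set_option autoImplicit false
universe v u
open CategoryTheory CategoryTheory.Limits DerivedCategory

namespace Groth.Agent.H33.HocolimFactor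

variable {A : Type u} [Category.{v} A] [Abelian A] [IsGrothendieckAbelian.{v} A]

lemma hasColimitsOfShape_nat : HasColimitsOfShape ℕ A := by
  have : IsFiltered (AsSmall.{v} ℕ) := IsFiltered.of_equivalence AsSmall.equiv
  exact hasColimitsOfShape_of_equivalence (AsSmall.equiv : ℕ ≌ AsSmall.{v} ℕ).symm

lemma hasExactColimitsOfShape_nat [HasColimitsOfShape ℕ A] : HasExactColimitsOfShape ℕ A := by
  have : IsFiltered (AsSmall.{v} ℕ) := IsFiltered.of_equivalence AsSmall.equiv
  exact HasExactColimitsOfShape.of_domain_equivalence _ (AsSmall.equiv : ℕ ≌ AsSmall.{v} ℕ).symm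

variable [HasCoproducts.{v} A] [HasDerivedCategory.{v} A] [HasCoproducts.{v} (DerivedCategory A)]

lemma hasColimitsOfShape_discrete_nat : HasColimitsOfShape (Discrete ℕ) A :=
  hasColimitsOfShape_of_equivalence
    (Discrete.equivalence (Equiv.ulift : ULift.{v} ℕ ≃ ℕ))

theorem exists_factor_of_isColimit (L : ℕ ⥤ CochainComplex A ℤ) (c : Cocone L) (hc : IsColimit c)
    {K : DerivedCategory A} (hK : CohDer.IsCompactObject K) (g : K ⟶ Q.obj c.pt) :
    ∃ (n : ℕ) (b : K ⟶ Q.obj (L.obj n)), g = b ≫ Q.map (c.ι.app n) := by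
  haveI : HasColimitsOfShape ℕ A := hasColimitsOfShape_nat
  haveI : HasExactColimitsOfShape ℕ A := hasExactColimitsOfShape_nat
  haveI : HasColimitsOfShape (Discrete ℕ) A := hasColimitsOfShape_discrete_nat
  have hQ := Groth.Agent.H6.QCoprod.isColimitQCofan (Cofan.mk (∐ L.obj) (Sigma.ι L.obj))
    (coproductIsCoproduct L.obj)
  haveI : PreservesColimit (Discrete.functor L.obj) (Q (C := A)) :=
    preservesColimit_of_preserves_colimit_cocone (coproductIsCoproduct L.obj)
      ((isColimitMapCoconeCofanMkEquiv _ _ _).symm hQ)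
  haveI : HasCoproduct (fun n => Q.obj (L.obj n)) := ⟨⟨⟨_, hQ⟩⟩⟩
  haveI : HasColimit L := ⟨⟨⟨c, hc⟩⟩⟩
  have hH := Groth.Agent.S0985.result L
  let e : colimit L ≅ c.pt := colimit.isoColimitCocone ⟨c, hc⟩
  obtain ⟨N, b, hb⟩ := Groth.Agent.H6.IsHocolim.exists_factor_of_compact hH hK (g ≫ Q.map e.inv)
  refine ⟨N, b, ?_⟩
  have h1 : g = (g ≫ Q.map e.inv) ≫ Q.map e.hom := by
    rw [Category.assoc, ← Functor.map_comp, e.inv_hom_id, CategoryTheory.Functor.map_id,
      Category.comp_id]
  rw [h1, hb, Category.assoc, ← Functor.map_comp]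
  congr 2
  exact colimit.isoColimitCocone_ι_hom ⟨c, hc⟩ N

end Groth.Agent.H33.HocolimFactor
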