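import Groth.Agent.H33.KerTower
import Groth.Agent.H33.HocolimFactor
import Groth.Agent.H33.LeftRes
import Groth.Agent.H33.CoprodSect
import Groth.Agent.H6.DSum

/-!
# Compact objects of `D(A)` are retracts of bounded complexes of finite sums of generators
(helper33)

`A` is a Grothendieck abelian category, `S` a set of objects such that every object is a quotient
of a coproduct of members of `S` and `Hom(E, -)` commutes with coproducts for `E ∈ S`.
`main`: every compact object of `D(A)` is a retract of `Q L` with `L` a bounded complex whose terms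
are finite direct sums of members of `S`.
-/

set_option autoImplicit false
universe v u
open CategoryTheory CategoryTheory.Limits DerivedCategory Opposite HomologicalComplex ZeroObject

namespace Groth.Agent.H33.CompactRetract

open Groth.Agent.H33.CoprodSect

variable {A : Type u} [Category.{v} A] [Abelian A] [HasFiniteBiproducts A]

/-! ### sums and finite sums of members of a set of objects -/

/-- `X` is a (small) coproduct of members of `S` -/
def IsSum (S : Set A) (X : A) : Prop :=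
  ∃ (ι : Type v) (E : ι → A) (inj : ∀ i, E i ⟶ X), (∀ i, E i ∈ S) ∧
    Nonempty (IsColimit (Cofan.mk X inj))

/-- `X` is a finite direct sum of members of `S` -/
def IsFinSum (S : Set A) (X : A) : Prop :=
  ∃ (n : ℕ) (E : Fin n → A), (∀ j, E j ∈ S) ∧ Nonempty (X ≅ ⨁ E)

variable {S : Set A}

lemma IsSum.of_iso {X Y : A} (h : IsSum S X) (i : X ≅ Y) : IsSum S Y := by
  obtain ⟨ι, E, inj, hE, ⟨hc⟩⟩ := h
  refine ⟨ι, E, fun j => inj j ≫ i.hom, hE, ⟨?_⟩⟩
  exact Cofan.IsColimit.mk _ (fun s => i.inv ≫ Cofan.IsColimit.desc hc s.inj)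
    (fun s j => by
      show (inj j ≫ i.hom) ≫ i.inv ≫ _ = _
      rw [Category.assoc, i.hom_inv_id_assoc]
      exact Cofan.IsColimit.fac hc s.inj j)
    (fun s m hm => by
      rw [Iso.eq_inv_comp]
      refine Cofan.IsColimit.hom_ext hc _ _ (fun j => ?_)
      rw [Cofan.IsColimit.fac]
      have h := hm j
      show inj j ≫ i.hom ≫ m = _
      rw [← Category.assoc]
      exact h)

lemma IsSum.of_isZero {X : A} (hX : IsZero X) : IsSum S X :=
  ⟨PEmpty, PEmpty.elim, fun i => i.elim, fun i => i.elim,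
    ⟨Cofan.IsColimit.mk _ (fun _ => 0) (fun _ j => j.elim) (fun _ _ _ => hX.eq_of_src _ _)⟩⟩

lemma IsFinSum.of_isZero {X : A} (hX : IsZero X) : IsFinSum S X := by
  refine ⟨0, fun j => j.elim0, fun j => j.elim0, ⟨hX.iso ?_⟩⟩
  rw [IsZero.iff_id_eq_zero]
  exact biproduct.hom_ext _ _ (fun j => j.elim0)

lemma IsFinSum.of_iso {X Y : A} (h : IsFinSum S X) (i : X ≅ Y) : IsFinSum S Y := by
  obtain ⟨n, E, hE, ⟨j⟩⟩ := h
  exact ⟨n, E, hE, ⟨i.symm ≪≫ j⟩⟩

lemma IsFinSum.isSum {X : A} (h : IsFinSum S X) : IsSum S X := by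
  obtain ⟨n, E, hE, ⟨i⟩⟩ := h
  refine ⟨ULift.{v} (Fin n), fun j => E j.down, fun j => biproduct.ι E j.down ≫ i.inv,
    fun j => hE j.down, ⟨?_⟩⟩
  exact Cofan.IsColimit.mk _ (fun s => i.hom ≫ biproduct.desc (fun j => s.inj ⟨j⟩))
    (fun s j => by
      show (biproduct.ι E j.down ≫ i.inv) ≫ i.hom ≫ _ = _
      rw [Category.assoc, i.inv_hom_id_assoc, biproduct.ι_desc])
    (fun s m hm => by
      rw [← Iso.inv_comp_eq]
      refine biproduct.hom_ext' _ _ (fun j => ?_)
      rw [biproduct.ι_desc, ← Category.assoc]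
      exact hm ⟨j⟩)

/-! ### the idempotents attached to finite sets of indices -/

section Idem

variable {Λ : Type*} {M : Λ → A} (cof : Cofan M) (hcof : IsColimit cof)

lemma e_comp_e_of_subset {t t' : Finset Λ} (h : t ⊆ t') :
    e cof hcof t ≫ e cof hcof t' = e cof hcof t := by
  have h1 : e cof hcof t = ∑ j ∈ t, prj cof hcof j ≫ cof.inj j := rfl
  rw [h1, Preadditive.sum_comp]
  refine Finset.sum_congr rfl (fun j hj => ?_)
  rw [Category.assoc, inj_comp_e cof hcof (h hj)]

lemma comp_e_of_subset {X : A} (g : X ⟶ cof.pt) {t t' : Finset Λ} (h : t ⊆ t')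
    (hg : g ≫ e cof hcof t = g) : g ≫ e cof hcof t' = g := by
  rw [← hg, Category.assoc, e_comp_e_of_subset cof hcof h]

/-- the subgroup of morphisms fixed by some finite idempotent -/
noncomputable def fixSubgroup (X : A) : AddSubgroup (X ⟶ cof.pt) where
  carrier := {x | ∃ t : Finset Λ, x ≫ e cof hcof t = x}
  zero_mem' := ⟨∅, zero_comp⟩
  add_mem' := by
    classical
    rintro x y ⟨t₁, h₁⟩ ⟨t₂, h₂⟩
    refine ⟨t₁ ∪ t₂, ?_⟩
    rw [Preadditive.add_comp, comp_e_of_subset cof hcof x Finset.subset_union_left h₁,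
      comp_e_of_subset cof hcof y Finset.subset_union_right h₂]
  neg_mem' := by
    rintro x ⟨t, h⟩
    exact ⟨t, by rw [Preadditive.neg_comp, h]⟩

end Idem

lemma mem_of_isColimit_ab {J : Type*} [Category J] {G : J ⥤ AddCommGrpCat.{v}} (c : Cocone G)
    (hc : IsColimit c) (T : AddSubgroup c.pt) (h : ∀ (j : J) (x : G.obj j), c.ι.app j x ∈ T)
    (x : c.pt) : x ∈ T := by
  let p : c.pt ⟶ AddCommGrpCat.of (c.pt ⧸ T) := AddCommGrpCat.ofHom (QuotientAddGroup.mk' T)
  have hp : p = 0 := hc.hom_ext (fun j => by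
    rw [comp_zero]
    ext y
    exact (QuotientAddGroup.eq_zero_iff _).2 (h j y))
  have h2 := ConcreteCategory.congr_hom hp x
  exact (QuotientAddGroup.eq_zero_iff x).1 h2

lemma exists_finset_comp_e {Λ : Type v} {M : Λ → A} (cof : Cofan M) (hcof : IsColimit cof)
    (E : A) [PreservesColimitsOfShape (Discrete Λ) (preadditiveCoyoneda.obj (op E))]
    (g : E ⟶ cof.pt) : ∃ t : Finset Λ, g ≫ e cof hcof t = g := by
  classical
  have hF : IsColimit ((preadditiveCoyoneda.obj (op E)).mapCocone cof) :=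
    isColimitOfPreserves _ hcof
  exact mem_of_isColimit_ab _ hF (fixSubgroup cof hcof E) (fun j x => by
    let x' : E ⟶ M j.as := x
    show ∃ t : Finset Λ, (x' ≫ cof.inj j.as) ≫ e cof hcof t = x' ≫ cof.inj j.as
    refine ⟨{j.as}, ?_⟩
    rw [Category.assoc, inj_comp_e cof hcof (Finset.mem_singleton_self _)]) g

lemma exists_finset_comp_e_of_isFinSum {Λ : Type v} {M : Λ → A} (cof : Cofan M)
    (hcof : IsColimit cof)
    (h2 : ∀ E ∈ S, PreservesColimitsOfShape (Discrete Λ) (preadditiveCoyoneda.obj (op E)))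
    {X : A} (hX : IsFinSum S X) (g : X ⟶ cof.pt) : ∃ t : Finset Λ, g ≫ e cof hcof t = g := by
  classical
  obtain ⟨n, E, hE, ⟨i⟩⟩ := hX
  have h : ∀ j : Fin n, ∃ t : Finset Λ,
      (biproduct.ι E j ≫ i.inv ≫ g) ≫ e cof hcof t = biproduct.ι E j ≫ i.inv ≫ g := fun j => by
    haveI := h2 (E j) (hE j)
    exact exists_finset_comp_e cof hcof (E j) _
  choose t ht using h
  refine ⟨Finset.univ.biUnion t, ?_⟩
  rw [← cancel_epi i.inv]
  refine biproduct.hom_ext' _ _ (fun j => ?_)
  have h3 := comp_e_of_subset cof hcof _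
    (Finset.subset_biUnion_of_mem t (Finset.mem_univ j)) (ht j)
  simpa only [Category.assoc] using h3

/-! ### the single functor and coproducts -/

section Single

variable {Λ : Type*} {M : Λ → A} (cof : Cofan M) (hcof : IsColimit cof) (c : ℤ)

/-- the image of a cofan under the single functor -/
noncomputable abbrev singleCofan :
    Cofan (fun l => (single A (ComplexShape.up ℤ) c).obj (M l)) :=
  Cofan.mk ((single A (ComplexShape.up ℤ) c).obj cof.pt)
    (fun l => (single A (ComplexShape.up ℤ) c).map (cof.inj l))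

/-- the single functor preserves coproducts -/
noncomputable def isColimitSingleCofan : IsColimit (singleCofan cof c) := by
  refine Cofan.IsColimit.mk _ (fun s => mkHomFromSingle
    (Cofan.IsColimit.desc hcof
      (fun l => (singleObjXSelf (ComplexShape.up ℤ) c (M l)).inv ≫ (s.inj l).f c)) ?_) ?_ ?_
  · intro k _
    refine Cofan.IsColimit.hom_ext hcof _ _ (fun l => ?_)
    rw [← Category.assoc, Cofan.IsColimit.fac, Category.assoc, comp_zero,
      (s.inj l).comm, single_obj_d, zero_comp, comp_zero]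
  · intro s l
    apply from_single_hom_ext
    show ((single A (ComplexShape.up ℤ) c).map (cof.inj l) ≫ mkHomFromSingle _ _).f c = _
    rw [comp_f, single_map_f_self, mkHomFromSingle_f]
    simp only [Category.assoc, Iso.inv_hom_id_assoc]
    rw [Cofan.IsColimit.fac, Iso.hom_inv_id_assoc]
  · intro s m hm
    apply from_single_hom_ext
    rw [mkHomFromSingle_f, ← cancel_epi (singleObjXSelf (ComplexShape.up ℤ) c cof.pt).inv,
      Iso.inv_hom_id_assoc]
    refine Cofan.IsColimit.hom_ext hcof _ _ (fun l => ?_)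
    rw [Cofan.IsColimit.fac]
    have h : ((single A (ComplexShape.up ℤ) c).map (cof.inj l) ≫ m).f c = (s.inj l).f c :=
      congrArg (fun φ => φ.f c) (hm l)
    rw [← h, comp_f, single_map_f_self]
    simp only [Category.assoc, Iso.inv_hom_id_assoc]

end Single

/-! ### kernels of the complementary idempotents -/

section Kernel

variable {Λ : Type*} {M : Λ → A} (cof : Cofan M) (hcof : IsColimit cof)

lemma isFinSum_of_isLimit_kernelFork (hM : ∀ l, M l ∈ S) (t : Finset Λ) {Y : A}
    (f : cof.pt ⟶ Y)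
    (hf : ∀ {W : A} (g : W ⟶ cof.pt), g ≫ f = 0 ↔ g ≫ e cof hcof t = g)
    {Z : A} (ι : Z ⟶ cof.pt) (w : ι ≫ f = 0) (hk : IsLimit (KernelFork.ofι ι w)) :
    IsFinSum S Z := by
  classical
  let σ : Fin t.card ≃ t := t.equivFin.symm
  let E' : Fin t.card → A := fun j => M (σ j).1
  let ι₀ : ⨁ E' ⟶ cof.pt := biproduct.desc (fun j => cof.inj (σ j).1)
  have h₀ : ι₀ ≫ f = 0 := (hf ι₀).2 (biproduct.hom_ext' _ _ (fun j => by
    rw [biproduct.ι_desc_assoc, biproduct.ι_desc, inj_comp_e cof hcof (σ j).2]))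
  have hsum : ∀ {W : A} (g : W ⟶ cof.pt), g ≫ f = 0 →
      biproduct.lift (fun j => g ≫ prj cof hcof (σ j).1) ≫ ι₀ = g := by
    intro W g hg
    calc biproduct.lift (fun j => g ≫ prj cof hcof (σ j).1) ≫ ι₀
        = ∑ j : Fin t.card, (g ≫ prj cof hcof (σ j).1) ≫ cof.inj (σ j).1 :=
          biproduct.lift_desc
      _ = ∑ x : t, (g ≫ prj cof hcof x.1) ≫ cof.inj x.1 :=
          Equiv.sum_comp σ (fun x : t => (g ≫ prj cof hcof x.1) ≫ cof.inj x.1)
      _ = ∑ l ∈ t, (g ≫ prj cof hcof l) ≫ cof.inj l :=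
          Finset.sum_coe_sort t (fun l => (g ≫ prj cof hcof l) ≫ cof.inj l)
      _ = g ≫ e cof hcof t := (comp_e_eq_sum cof hcof g t).symm
      _ = g := (hf g).1 hg
  have hπ : ∀ j, ι₀ ≫ prj cof hcof (σ j).1 = biproduct.π E' j := by
    intro j
    refine biproduct.hom_ext' _ _ (fun i => ?_)
    rw [biproduct.ι_desc_assoc]
    by_cases hij : i = j
    · subst hij
      rw [inj_prj_self, biproduct.ι_π_self]
    · rw [biproduct.ι_π_ne _ hij, inj_prj_of_ne]
      intro h
      exact hij (σ.injective (Subtype.ext h))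
  have hl : IsLimit (KernelFork.ofι ι₀ h₀) :=
    KernelFork.IsLimit.ofι _ _ (fun g _ => biproduct.lift (fun j => g ≫ prj cof hcof (σ j).1))
      (fun g hg => hsum g hg)
      (fun g hg m hm => by
        refine biproduct.hom_ext _ _ (fun j => ?_)
        rw [biproduct.lift_π, ← hm, Category.assoc, hπ])
  exact ⟨t.card, E', fun j => hM _, ⟨IsLimit.conePointUniqueUpToIso hk hl⟩⟩

end Kernel

/-! ### the inductive step -/

section Step

variable [IsGrothendieckAbelian.{v} A] [HasCoproducts.{v} A] [HasDerivedCategory.{v} A]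
  [HasCoproducts.{v} (DerivedCategory A)]

/-- the induction predicate: `K` is a retract of `Q L` with `L` zero outside `[a, b]`, with terms
coproducts of members of `S`, which are finite sums in degrees `< c` -/
def Good (S : Set A) (K : DerivedCategory A) (a b c : ℤ) : Prop :=
  ∃ (L : CochainComplex A ℤ), (∀ i, i < a ∨ b < i → IsZero (L.X i)) ∧
    (∀ i, IsSum S (L.X i)) ∧ (∀ i, i < c → IsFinSum S (L.X i)) ∧
    Nonempty (Retract K (Q.obj L))

theorem good_succ
    (h2 : ∀ E ∈ S, ∀ ι : Type v,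
      PreservesColimitsOfShape (Discrete ι) (preadditiveCoyoneda.obj (op E)))
    {K : DerivedCategory A} (hK : CohDer.IsCompactObject K) (a b c : ℤ)
    (h : Good S K a b c) : Good S K a b (c + 1) := by
  classical
  obtain ⟨L, hzero, hsum, hfin, ⟨r⟩⟩ := h
  obtain ⟨Λ, M, inj, hM, ⟨hcof⟩⟩ := hsum c
  let cof : Cofan M := Cofan.mk (L.X c) inj
  have h2' : ∀ E ∈ S,
      PreservesColimitsOfShape (Discrete Λ) (preadditiveCoyoneda.obj (op E)) :=
    fun E hE => h2 E hE Λ
  -- (i) the differential into degree `c` factors through a finite subsum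
  obtain ⟨Λ₀, hΛ₀⟩ := exists_finset_comp_e_of_isFinSum cof hcof h2'
    (hfin (c - 1) (by omega)) (L.d (c - 1) c)
  let e₀ : L.X c ⟶ L.X c := e cof hcof Λ₀
  have hd₀ : ∀ i, (ComplexShape.up ℤ).Rel i c → L.d i c ≫ (𝟙 _ - e₀) = 0 := by
    intro i hi
    have hi' : i + 1 = c := hi
    obtain rfl : i = c - 1 := by omega
    rw [Preadditive.comp_sub, Category.comp_id, sub_eq_zero]
    exact hΛ₀.symm
  let π₁ : L ⟶ (single A (ComplexShape.up ℤ) c).obj (L.X c) := mkHomToSingle (𝟙 _ - e₀) hd₀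
  -- (ii) finite factorization of the map from `K`
  have hcD := Groth.Agent.H6.QCoprod.isColimitQCofan (singleCofan cof c)
    (isColimitSingleCofan cof hcof c)
  obtain ⟨s, a', hs⟩ := Groth.Agent.H6.DSum.finFac_of_surjective K _ _ hcD
    (fun {_} => (hK Λ _).2) (r.i ≫ Q.map π₁)
  let e' : L.X c ⟶ L.X c := e cof hcof (Λ₀ ∪ s)
  have hinj : ∀ i ∈ Λ₀ ∪ s, inj i ≫ e' = inj i := fun i hi => inj_comp_e cof hcof hi
  have he'e' : e' ≫ e' = e' := e_comp_e_of_subset cof hcof (Finset.Subset.refl _)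
  have he₀e' : e₀ ≫ e' = e₀ := e_comp_e_of_subset cof hcof Finset.subset_union_left
  have h3 : (𝟙 _ - e₀) ≫ (𝟙 _ - e') = 𝟙 _ - e' := by
    rw [Preadditive.sub_comp, Category.id_comp, Preadditive.comp_sub, Category.comp_id, he₀e',
      sub_self, sub_zero]
  let κ : kernel e' ⟶ L.X c := kernel.ι e'
  have hpr0 : (𝟙 _ - e') ≫ e' = 0 := by
    rw [Preadditive.sub_comp, Category.id_comp, he'e', sub_self]
  let pr : L.X c ⟶ kernel e' := kernel.lift e' (𝟙 _ - e') hpr0
  have hprκ : pr ≫ κ = 𝟙 _ - e' := kernel.lift_ι _ _ _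
  have hκpr : κ ≫ pr = 𝟙 _ := by
    rw [← cancel_mono κ, Category.assoc, hprκ, Preadditive.comp_sub, Category.comp_id,
      kernel.condition, sub_zero, Category.id_comp]
  have hd' : ∀ i, (ComplexShape.up ℤ).Rel i c → L.d i c ≫ pr = 0 := by
    intro i hi
    rw [← cancel_mono κ, Category.assoc, hprκ, zero_comp, ← h3, ← Category.assoc, hd₀ i hi,
      zero_comp]
  let π' : L ⟶ (single A (ComplexShape.up ℤ) c).obj (kernel e') := mkHomToSingle pr hd'
  have hπ'f : π'.f c = pr ≫ (singleObjXSelf (ComplexShape.up ℤ) c (kernel e')).inv :=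
    mkHomToSingle_f pr hd'
  have hπ'κ : π' ≫ (single A (ComplexShape.up ℤ) c).map κ =
      π₁ ≫ (single A (ComplexShape.up ℤ) c).map (𝟙 _ - e') := by
    apply to_single_hom_ext
    rw [comp_f, comp_f, hπ'f, mkHomToSingle_f, single_map_f_self, single_map_f_self]
    simp only [Category.assoc, Iso.inv_hom_id_assoc]
    rw [reassoc_of% hprκ, reassoc_of% h3]
  have hzero' : r.i ≫ Q.map π' = 0 := by
    have h4 : (r.i ≫ Q.map π₁) ≫
        Q.map ((single A (ComplexShape.up ℤ) c).map (𝟙 _ - e')) = 0 := by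
      rw [hs, Preadditive.sum_comp]
      refine Finset.sum_eq_zero (fun i hi => ?_)
      rw [Category.assoc]
      show a' i ≫ Q.map ((single A (ComplexShape.up ℤ) c).map (inj i)) ≫ Q.map _ = 0
      rw [← Functor.map_comp, ← Functor.map_comp, Preadditive.comp_sub, Category.comp_id,
        hinj i (Finset.mem_union_right _ hi), sub_self, Functor.map_zero,
        Functor.map_zero, comp_zero]
    calc r.i ≫ Q.map π'
        = r.i ≫ Q.map (π' ≫ (single A (ComplexShape.up ℤ) c).map κ ≫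
            (single A (ComplexShape.up ℤ) c).map pr) := by
          rw [← Functor.map_comp, hκpr, CategoryTheory.Functor.map_id, Category.comp_id]
      _ = r.i ≫ Q.map ((π₁ ≫ (single A (ComplexShape.up ℤ) c).map (𝟙 _ - e')) ≫
            (single A (ComplexShape.up ℤ) c).map pr) := by
          rw [← hπ'κ, Category.assoc]
      _ = ((r.i ≫ Q.map π₁) ≫ Q.map ((single A (ComplexShape.up ℤ) c).map (𝟙 _ - e'))) ≫
            Q.map ((single A (ComplexShape.up ℤ) c).map pr) := by
          simp only [Functor.map_comp, Category.assoc]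
      _ = 0 := by rw [h4, zero_comp]
  -- (iii) the short exact sequence
  have hepi : Epi π' := by
    apply HomologicalComplex.epi_of_epi_f
    intro q
    by_cases hq : q = c
    · rw [hq, hπ'f]
      haveI : Epi pr := epi_of_epi_fac hκpr
      infer_instance
    · exact ⟨fun g h _ =>
        (isZero_single_obj_X (ComplexShape.up ℤ) c (kernel e') q hq).eq_of_src g h⟩
  let SC : ShortComplex (CochainComplex A ℤ) :=
    ShortComplex.mk (kernel.ι π') π' (kernel.condition π')
  have hSC : SC.ShortExact :=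
    ShortComplex.ShortExact.mk' (ShortComplex.exact_of_f_is_kernel _ (kernelIsKernel π'))
      (inferInstanceAs (Mono (kernel.ι π'))) hepi
  obtain ⟨φ', hφ''⟩ : ∃ φ' : K ⟶ Q.obj (kernel π'), r.i = φ' ≫ Q.map (kernel.ι π') :=
    Pretriangulated.Triangle.coyoneda_exact₂ _
      (DerivedCategory.triangleOfSES_distinguished hSC) r.i hzero'
  -- the terms of the kernel
  have hSCq : ∀ q, (SC.map (HomologicalComplex.eval A (ComplexShape.up ℤ) q)).ShortExact :=
    fun q => hSC.map_of_exact _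
  have hmono : ∀ q, Mono ((kernel.ι π').f q) := fun q => (hSCq q).mono_f
  have hiso : ∀ q, q ≠ c → IsIso ((kernel.ι π').f q) := fun q hq =>
    (hSCq q).isIso_f_iff.2 (isZero_single_obj_X (ComplexShape.up ℤ) c (kernel e') q hq)
  have hf : ∀ {W : A} (g : W ⟶ L.X c), g ≫ π'.f c = 0 ↔ g ≫ e' = g := by
    intro W g
    constructor
    · intro h
      have h1 : g ≫ pr = 0 := by
        rw [hπ'f, ← Category.assoc] at h
        exact (cancel_mono (singleObjXSelf (ComplexShape.up ℤ) c (kernel e')).inv).1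
          (h.trans zero_comp.symm)
      have h5 : g ≫ (𝟙 _ - e') = 0 := by rw [← hprκ, ← Category.assoc, h1, zero_comp]
      rw [Preadditive.comp_sub, Category.comp_id, sub_eq_zero] at h5
      exact h5.symm
    · intro h
      have h1 : g ≫ pr = 0 := by
        have h6 : g ≫ e' = g := h
        rw [← cancel_mono κ, Category.assoc, hprκ, zero_comp, Preadditive.comp_sub,
          Category.comp_id, h6, sub_self]
      rw [hπ'f, ← Category.assoc, h1, zero_comp]
  have hcfin : IsFinSum S ((kernel π').X c) := by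
    haveI : Mono (SC.map (HomologicalComplex.eval A (ComplexShape.up ℤ) c)).f := (hSCq c).mono_f
    exact isFinSum_of_isLimit_kernelFork cof hcof hM (Λ₀ ∪ s) (π'.f c) hf
      ((kernel.ι π').f c) (SC.map (HomologicalComplex.eval A (ComplexShape.up ℤ) c)).zero
      (hSCq c).exact.fIsKernel
  refine ⟨kernel π', ?_, ?_, ?_, ⟨⟨φ', Q.map (kernel.ι π') ≫ r.r, ?_⟩⟩⟩
  · intro i hi
    haveI := hmono i
    exact IsZero.of_mono ((kernel.ι π').f i) (hzero i hi)
  · intro i
    by_cases hi : i = c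
    · rw [hi]
      exact hcfin.isSum
    · haveI := hiso i hi
      exact (hsum i).of_iso (asIso ((kernel.ι π').f i)).symm
  · intro i hi
    by_cases hic : i = c
    · rw [hic]
      exact hcfin
    · haveI := hiso i hic
      exact (hfin i (by omega)).of_iso (asIso ((kernel.ι π').f i)).symm
  · rw [← Category.assoc, ← hφ'']
    exact r.retract

end Step

/-! ### the main theorem -/

section Main

variable [IsGrothendieckAbelian.{v} A] [HasCoproducts.{v} A] [HasDerivedCategory.{v} A]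
  [HasCoproducts.{v} (DerivedCategory A)]

open Groth.Agent.H31.Tower in
theorem main (S : Set A)
    (h1 : ∀ X : A, ∃ (ι : Type v) (E : ι → A) (π : ∐ E ⟶ X), (∀ i, E i ∈ S) ∧ Epi π)
    (h2 : ∀ E ∈ S, ∀ ι : Type v,
      PreservesColimitsOfShape (Discrete ι) (preadditiveCoyoneda.obj (op E)))
    (K : DerivedCategory A) (hK : CohDer.IsCompactObject K) :
    ∃ (L : CochainComplex A ℤ) (a b : ℤ),
      (∀ i : ℤ, i < a ∨ b < i → IsZero (L.X i)) ∧
      (∀ i : ℤ, IsFinSum S (L.X i)) ∧
      Nonempty (Retract K (Q.obj L)) := by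
  have hP : ∀ X : A, ∃ (Y : A) (π : Y ⟶ X), IsSum S Y ∧ Epi π := by
    intro X
    obtain ⟨ι, E, π, hE, hπ⟩ := h1 X
    exact ⟨∐ E, π, ⟨ι, E, Sigma.ι E, hE, ⟨coproductIsCoproduct E⟩⟩, hπ⟩
  have hP0 : ∃ Z : A, IsZero Z ∧ IsSum S Z :=
    ⟨0, isZero_zero A, IsSum.of_isZero (isZero_zero A)⟩
  -- Step 1 : canonical truncation
  let K' := Q.objPreimage K
  let e₀ : Q.obj K' ≅ K := Q.objObjPreimageIso K
  obtain ⟨hcol⟩ := KerTower.isColimit_ctowerCocone K'
  obtain ⟨m, b₁, hb₁⟩ := HocolimFactor.exists_factor_of_isColimit _ _ hcol hK e₀.inv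
  haveI : ((KerTower.ctower K').obj m).IsStrictlyLE (m : ℤ) := by
    rw [CochainComplex.isStrictlyLE_iff]
    intro i hi
    exact KerTower.isZero_ctower_X K' m i hi
  -- Step 2 : resolution
  obtain ⟨P, α, hPle, hPsum, -, hα⟩ := LeftRes.exists_resolution_int hP hP0
    ((KerTower.ctower K').obj m) (m : ℤ)
  haveI : IsIso (Q.map α) := (DerivedCategory.isIso_Q_map_iff_quasiIso (φ := α)).2 hα
  haveI := hPle
  -- Step 3 : stupid truncation
  obtain ⟨hcol'⟩ := isColimit_towerCocone P (m : ℤ)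
  obtain ⟨g₂, hg₂⟩ : ∃ g₂ : K ⟶ Q.obj P, g₂ = b₁ ≫ inv (Q.map α) := ⟨_, rfl⟩
  obtain ⟨k, b₂, hb₂⟩ := HocolimFactor.exists_factor_of_isColimit _ _ hcol' hK g₂
  obtain ⟨ι₂, hι₂⟩ : ∃ ι₂ : (tower P (m : ℤ)).obj k ⟶ P,
      ι₂ = (towerCocone P (m : ℤ)).ι.app k := ⟨_, rfl⟩
  obtain ⟨ι₁, hι₁⟩ : ∃ ι₁ : (KerTower.ctower K').obj m ⟶ K',
      ι₁ = (KerTower.ctowerCocone K').ι.app m := ⟨_, rfl⟩
  have hb₁' : e₀.inv = b₁ ≫ Q.map ι₁ := by subst hι₁; exact hb₁
  have hb₂' : b₁ ≫ inv (Q.map α) = b₂ ≫ Q.map ι₂ := by subst hι₂; exact hg₂.symm.trans hb₂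
  have hgood0 : Good S K ((m : ℤ) - k) m ((m : ℤ) - k) := by
    refine ⟨(tower P (m : ℤ)).obj k, ?_, ?_, ?_, ⟨⟨b₂,
      Q.map ι₂ ≫ Q.map α ≫ Q.map ι₁ ≫ e₀.hom, ?_⟩⟩⟩
    · intro i hi
      rcases hi with hi | hi
      · exact isZero_tower_X P (m : ℤ) k i (by unfold Pm; omega)
      · exact IsZero.of_iso (P.isZero_of_isStrictlyLE (m : ℤ) i hi)
          (towerXIso P (m : ℤ) k i (by unfold Pm; omega))
    · intro i
      by_cases hi : Pm (m : ℤ) k i
      · exact (hPsum i).of_iso (towerXIso P (m : ℤ) k i hi).symm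
      · exact IsSum.of_isZero (isZero_tower_X P (m : ℤ) k i hi)
    · intro i hi
      exact IsFinSum.of_isZero (isZero_tower_X P (m : ℤ) k i (by unfold Pm; omega))
    · rw [← Category.assoc, ← hb₂', Category.assoc, IsIso.inv_hom_id_assoc,
        ← Category.assoc, ← hb₁', e₀.inv_hom_id]
  have hiter : ∀ n : ℕ, Good S K ((m : ℤ) - k) m ((m : ℤ) - k + n) := by
    intro n
    induction n with
    | zero => simpa using hgood0
    | succ n ih =>
      rw [show ((m : ℤ) - k + ((n + 1 : ℕ) : ℤ)) = ((m : ℤ) - k + n) + 1 by push_cast; ring]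
      exact good_succ h2 hK _ _ _ ih
  obtain ⟨L, hz, -, hf, hr⟩ := hiter (k + 1)
  refine ⟨L, (m : ℤ) - k, m, hz, fun i => ?_, hr⟩
  by_cases hi : i ≤ (m : ℤ)
  · exact hf i (by push_cast; omega)
  · exact IsFinSum.of_isZero (hz i (Or.inr (by omega)))

end Main

end Groth.Agent.H33.CompactRetract
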