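import Groth.Agent.H33.BrownD

/-!
# Compactness of a projective object with finite factorisations, placed in one degree (helper33)
-/

set_option autoImplicit false
universe v u
open CategoryTheory CategoryTheory.Limits

namespace Groth.Agent.H33.CompactSingle

open DerivedCategory Groth.Agent.H6 Groth.Agent.H33.BrownD

variable {A : Type u} [Category.{v} A] [Abelian A] [IsGrothendieckAbelian.{v} A]
  [HasDerivedCategory.{v} A]

/-- Maps from a projective object with finite factorisations, placed in degree `n`, to a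
coproduct of complexes are finite sums. -/
lemma finFac_single (P : A) [Projective P]
    (hP : ∀ {I : Type v} (Y : I → A) (c : Cofan Y), IsColimit c → DSum.FinFac P c)
    (n : ℤ) {I : Type v} (Y : I → CochainComplex A ℤ) :
    DSum.FinFac (Q.obj ((HomologicalComplex.single A (ComplexShape.up ℤ) n).obj P))
      (Cofan.mk (Q.obj (∐ Y)) (fun i => Q.map (Sigma.ι Y i)) :
        Cofan (fun i => Q.obj (Y i))) := by
  classical
  haveI : CochainComplex.IsKProjective
      ((HomologicalComplex.single A (ComplexShape.up ℤ) n).obj P) :=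
    Groth.Agent.H56.isKProjective_single P n
  intro g
  obtain ⟨γ, rfl⟩ := exists_Q_map_eq_of_isKProjective _ (∐ Y) g
  have h1 : ∀ (j : I), (Sigma.ι Y j).f n ≫ (Sigma.π Y j).f n = 𝟙 _ := fun j => by
    rw [← HomologicalComplex.comp_f, Sigma.ι_π_eq_id, HomologicalComplex.id_f]
  have h2 : ∀ (j k : I), j ≠ k → (Sigma.ι Y j).f n ≫ (Sigma.π Y k).f n = 0 :=
    fun j k h => by
      rw [← HomologicalComplex.comp_f, Sigma.ι_π_of_ne _ h, HomologicalComplex.zero_f]
  let σ : P ≅ ((HomologicalComplex.single A (ComplexShape.up ℤ) n).obj P).X n :=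
    (HomologicalComplex.singleObjXSelf (ComplexShape.up ℤ) n P).symm
  obtain ⟨s, a, hs⟩ := hP (fun j => (Y j).X n)
    (Cofan.mk ((∐ Y).X n) (fun j => (Sigma.ι Y j).f n)) (Groth.Agent.S0477.xIsColimit Y n)
    (σ.hom ≫ γ.f n)
  replace hs : σ.hom ≫ γ.f n = ∑ i ∈ s, a i ≫ (Sigma.ι Y i).f n := hs
  have hdeg : ∀ j ∈ s, (σ.hom ≫ γ.f n) ≫ (Sigma.π Y j).f n ≫ (Sigma.ι Y j).f n =
      a j ≫ (Sigma.ι Y j).f n := by
    intro j hj
    rw [hs, Preadditive.sum_comp, Finset.sum_eq_single j]
    · rw [Category.assoc, ← Category.assoc ((Sigma.ι Y j).f n), h1, Category.id_comp]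
    · intro k _ hkj
      rw [Category.assoc, ← Category.assoc ((Sigma.ι Y k).f n), h2 k j hkj, zero_comp,
        comp_zero]
    · intro h
      exact absurd hj h
  have hsum : γ = ∑ j ∈ s, (γ ≫ Sigma.π Y j) ≫ Sigma.ι Y j := by
    apply HomologicalComplex.from_single_hom_ext
    rw [← cancel_epi σ.hom]
    have hf : (∑ j ∈ s, (γ ≫ Sigma.π Y j) ≫ Sigma.ι Y j).f n =
        ∑ j ∈ s, γ.f n ≫ (Sigma.π Y j).f n ≫ (Sigma.ι Y j).f n := by
      have h3 := (HomologicalComplex.eval A (ComplexShape.up ℤ) n).map_sum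
        (fun j => (γ ≫ Sigma.π Y j) ≫ Sigma.ι Y j) s
      refine h3.trans (Finset.sum_congr rfl (fun j _ => ?_))
      show ((γ ≫ Sigma.π Y j) ≫ Sigma.ι Y j).f n = _
      rw [HomologicalComplex.comp_f, HomologicalComplex.comp_f, Category.assoc]
    rw [hf, Preadditive.comp_sum]
    conv_lhs => rw [hs]
    refine Finset.sum_congr rfl (fun j hj => ?_)
    rw [← hdeg j hj, Category.assoc]
  refine ⟨s, fun j => Q.map (γ ≫ Sigma.π Y j), ?_⟩
  conv_lhs => rw [hsum]
  rw [Functor.map_sum]
  refine Finset.sum_congr rfl (fun j _ => ?_)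
  rw [Functor.map_comp]
  rfl

/-- A projective object all of whose maps to coproducts factor through finite subcoproducts
gives a compact object of the derived category. -/
theorem isCompactObject_single [HasCoproducts.{v} (DerivedCategory A)] (P : A) [Projective P]
    (hP : ∀ {I : Type v} (Y : I → A) (c : Cofan Y), IsColimit c → DSum.FinFac P c) (n : ℤ) :
    CohDer.IsCompactObject
      (Q.obj ((HomologicalComplex.single A (ComplexShape.up ℤ) n).obj P)) := by
  intro ι X
  apply CompactPerf.bijective_of_finFac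
  have hc' := CompactPerf.isColimitOfFamilyIso (Cofan.mk (∐ X) (Sigma.ι X))
    (fun i => Q.objObjPreimageIso (X i)) (coproductIsCoproduct X)
  have hQ := DSum.isColimitQ' (fun i => Q.objPreimage (X i)) (fun i : ι => i)
    Function.bijective_id
  have h1 := finFac_single P hP n (fun i => Q.objPreimage (X i))
  have h2 := CompactPerf.finFac_of_isColimit _ _ hQ hc' h1
  exact CompactPerf.finFac_of_familyIso _ _ h2

end Groth.Agent.H33.CompactSingle
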