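import Mathlib

/-!
# Localization of adjunctions is compatible with conjugates (helper33)
-/

set_option autoImplicit false
open CategoryTheory

namespace Groth.Agent.H33.ConjLoc

variable {C₁ C₂ D₁ D₂ : Type*} [Category C₁] [Category C₂] [Category D₁] [Category D₂]
  {G₁ G₂ : C₁ ⥤ C₂} {F₁ F₂ : C₂ ⥤ C₁} (adj₁ : G₁ ⊣ F₁) (adj₂ : G₂ ⊣ F₂)
  (L₁ : C₁ ⥤ D₁) (W₁ : MorphismProperty C₁) [L₁.IsLocalization W₁]
  (L₂ : C₂ ⥤ D₂) (W₂ : MorphismProperty C₂) [L₂.IsLocalization W₂]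
  (G₁' G₂' : D₁ ⥤ D₂) (F₁' F₂' : D₂ ⥤ D₁)
  [CatCommSq G₁ L₁ L₂ G₁'] [CatCommSq F₁ L₂ L₁ F₁']
  [CatCommSq G₂ L₁ L₂ G₂'] [CatCommSq F₂ L₂ L₁ F₂']

theorem conj_localization (α : G₂ ⟶ G₁) (α' : G₂' ⟶ G₁')
    (hα : ∀ X₁ : C₁, L₂.map (α.app X₁) ≫ (CatCommSq.iso G₁ L₁ L₂ G₁').hom.app X₁ =
      (CatCommSq.iso G₂ L₁ L₂ G₂').hom.app X₁ ≫ α'.app (L₁.obj X₁)) (X : C₂) :
    L₁.map ((conjugateEquiv adj₁ adj₂ α).app X) ≫ (CatCommSq.iso F₂ L₂ L₁ F₂').hom.app X =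
      (CatCommSq.iso F₁ L₂ L₁ F₁').hom.app X ≫
        (conjugateEquiv (adj₁.localization L₁ W₁ L₂ W₂ G₁' F₁')
          (adj₂.localization L₁ W₁ L₂ W₂ G₂' F₂') α').app (L₂.obj X) := by
  have hα' : α'.app (L₁.obj (F₁.obj X)) ≫ (CatCommSq.iso G₁ L₁ L₂ G₁').inv.app (F₁.obj X) =
      (CatCommSq.iso G₂ L₁ L₂ G₂').inv.app (F₁.obj X) ≫ L₂.map (α.app (F₁.obj X)) := by
    have h0 := hα (F₁.obj X)
    calc α'.app (L₁.obj (F₁.obj X)) ≫ (CatCommSq.iso G₁ L₁ L₂ G₁').inv.app (F₁.obj X)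
        = (CatCommSq.iso G₂ L₁ L₂ G₂').inv.app (F₁.obj X) ≫
            ((CatCommSq.iso G₂ L₁ L₂ G₂').hom.app (F₁.obj X) ≫ α'.app (L₁.obj (F₁.obj X))) ≫
              (CatCommSq.iso G₁ L₁ L₂ G₁').inv.app (F₁.obj X) := by simp
      _ = (CatCommSq.iso G₂ L₁ L₂ G₂').inv.app (F₁.obj X) ≫
            (L₂.map (α.app (F₁.obj X)) ≫ (CatCommSq.iso G₁ L₁ L₂ G₁').hom.app (F₁.obj X)) ≫
              (CatCommSq.iso G₁ L₁ L₂ G₁').inv.app (F₁.obj X) := by rw [h0]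
      _ = _ := by simp
  have e1 := (adj₂.localization L₁ W₁ L₂ W₂ G₂' F₂').unit.naturality
    ((CatCommSq.iso F₁ L₂ L₁ F₁').hom.app X)
  have e2 := α'.naturality ((CatCommSq.iso F₁ L₂ L₁ F₁').hom.app X)
  have e3 := (CatCommSq.iso F₂ L₂ L₁ F₂').hom.naturality (α.app (F₁.obj X) ≫ adj₁.counit.app X)
  simp only [Functor.id_obj, Functor.id_map, Functor.comp_obj, Functor.comp_map] at e1 e2 e3
  rw [conjugateEquiv_apply_app, conjugateEquiv_apply_app, ← Functor.map_comp, ← Functor.map_comp,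
    reassoc_of% e1, ← Functor.map_comp, Adjunction.localization_counit_app,
    Adjunction.localization_unit_app]
  have inner : G₂'.map ((CatCommSq.iso F₁ L₂ L₁ F₁').hom.app X) ≫
      α'.app (F₁'.obj (L₂.obj X)) ≫
        G₁'.map ((CatCommSq.iso F₁ L₂ L₁ F₁').inv.app X) ≫
          (CatCommSq.iso G₁ L₁ L₂ G₁').inv.app (F₁.obj X) ≫ L₂.map (adj₁.counit.app X) =
      (CatCommSq.iso G₂ L₁ L₂ G₂').inv.app (F₁.obj X) ≫
        L₂.map (α.app (F₁.obj X) ≫ adj₁.counit.app X) := by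
    have h1 : G₁'.map ((CatCommSq.iso F₁ L₂ L₁ F₁').hom.app X) ≫
        G₁'.map ((CatCommSq.iso F₁ L₂ L₁ F₁').inv.app X) = 𝟙 _ := by
      rw [← G₁'.map_comp, Iso.hom_inv_id_app]
      exact G₁'.map_id _
    rw [reassoc_of% e2, reassoc_of% h1, reassoc_of% hα', ← L₂.map_comp]
  rw [inner, Category.assoc, Category.assoc, ← F₂'.map_comp, Iso.hom_inv_id_app_assoc, ← e3,
    L₁.map_comp, Category.assoc]

end Groth.Agent.H33.ConjLoc
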