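import Mathlib

/-!
# Squad lemma (CTOP3) for helper38 (S1337/S1339): number of connected components
equals the number of classes of the intersection graph of a finite "locally closed, connected"
cover.
-/

set_option autoImplicit false
universe u
open AlgebraicGeometry CategoryTheory Limits

namespace Groth.Agent.H33.ConnCountCTOP3

/-- (CTOP3) counting connected components via the intersection graph. -/
theorem card_connectedComponents_eq_card_quot {Z : Type*} [TopologicalSpace Z]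
    {s N : Type*} [Finite N] (ι : N → s) (O : s → Set Z) (hO : ∀ i, IsOpen (O i))
    (C : N → Set Z) (F : N → Set Z) (hF : ∀ n, IsClosed (F n)) (hC : ∀ n, C n = F n ∩ O (ι n))
    (hconn : ∀ n, _root_.IsConnected (C n)) (hcov : ∀ i, O i ⊆ ⋃ n ∈ {n | ι n = i}, C n)
    (hOcov : ⋃ i, O i = Set.univ) :
    ENat.card (_root_.ConnectedComponents Z) =
      ENat.card (Quot (fun a b : N => (C a ∩ C b).Nonempty)) := by
  classical
  set R : N → N → Prop := fun a b => (C a ∩ C b).Nonempty with hR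
  have hRsymm : ∀ a b, R a b → R b a := by
    intro a b h
    obtain ⟨z, hza, hzb⟩ := h
    exact ⟨z, hzb, hza⟩
  have hclosed : ∀ N₀ : Set N, (∀ b b', b ∈ N₀ → R b b' → b' ∈ N₀) →
      IsClosed (⋃ b ∈ N₀, C b) := by
    intro N₀ hsat
    apply isClosed_of_closure_subset
    intro z hz
    have hzO : z ∈ ⋃ i, O i := by rw [hOcov]; trivial
    obtain ⟨i, hzi⟩ := Set.mem_iUnion.mp hzO
    have hGclosed : IsClosed (⋃ b ∈ {b | b ∈ N₀ ∧ ι b = i}, F b) :=
      Set.Finite.isClosed_biUnion (Set.toFinite _) (fun b _ => hF b)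
    have hsub : (⋃ b ∈ N₀, C b) ∩ O i ⊆ ⋃ b ∈ {b | b ∈ N₀ ∧ ι b = i}, F b := by
      rintro z' ⟨hz'Z, hz'O⟩
      obtain ⟨b, hbN₀, hz'b⟩ := Set.mem_iUnion₂.mp hz'Z
      obtain ⟨b', hb'i, hz'b'⟩ := Set.mem_iUnion₂.mp (hcov i hz'O)
      have hb' : b' ∈ N₀ := hsat b b' hbN₀ ⟨z', hz'b, hz'b'⟩
      refine Set.mem_iUnion₂.mpr ⟨b', ⟨hb', hb'i⟩, ?_⟩
      rw [hC b'] at hz'b'
      exact hz'b'.1
    have hz2 : z ∈ closure ((⋃ b ∈ N₀, C b) ∩ O i) := (hO i).closure_inter ⟨hz, hzi⟩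
    have hzG : z ∈ ⋃ b ∈ {b | b ∈ N₀ ∧ ι b = i}, F b := closure_minimal hsub hGclosed hz2
    obtain ⟨b, ⟨hbN₀, hbi⟩, hzb⟩ := Set.mem_iUnion₂.mp hzG
    refine Set.mem_iUnion₂.mpr ⟨b, hbN₀, ?_⟩
    rw [hC b, hbi]
    exact ⟨hzb, hzi⟩
  have hcovC : ∀ z : Z, ∃ n, z ∈ C n := by
    intro z
    have hzO : z ∈ ⋃ i, O i := by rw [hOcov]; trivial
    obtain ⟨i, hzi⟩ := Set.mem_iUnion.mp hzO
    obtain ⟨b, _, hzb⟩ := Set.mem_iUnion₂.mp (hcov i hzi)
    exact ⟨b, hzb⟩
  have hsame : ∀ n x y, x ∈ C n → y ∈ C n →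
      (ConnectedComponents.mk x : ConnectedComponents Z) = ConnectedComponents.mk y := by
    intro n x y hx hy
    exact ConnectedComponents.coe_eq_coe'.mpr
      ((hconn n).isPreconnected.subset_connectedComponent hy hx)
  let pt : N → Z := fun n => (hconn n).nonempty.some
  have hpt : ∀ n, pt n ∈ C n := fun n => (hconn n).nonempty.some_mem
  let f : Quot R → ConnectedComponents Z :=
    Quot.lift (fun n => (ConnectedComponents.mk (pt n) : ConnectedComponents Z)) (by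
      intro a b hab
      obtain ⟨z, hza, hzb⟩ := hab
      exact (hsame a _ _ (hpt a) hza).trans (hsame b _ _ hzb (hpt b)))
  have hfsurj : Function.Surjective f := by
    intro c
    obtain ⟨z, rfl⟩ := ConnectedComponents.surjective_coe c
    obtain ⟨n, hn⟩ := hcovC z
    exact ⟨Quot.mk R n, hsame n _ _ (hpt n) hn⟩
  have hfinj : Function.Injective f := by
    intro qa qb hab
    obtain ⟨a, rfl⟩ := Quot.exists_rep qa
    obtain ⟨b, rfl⟩ := Quot.exists_rep qb
    have hab' : (ConnectedComponents.mk (pt a) : ConnectedComponents Z) =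
        ConnectedComponents.mk (pt b) := hab
    apply Quot.eq.mpr
    set S : Set N := {n | Relation.EqvGen R a n} with hS
    have hsat1 : ∀ n n', n ∈ S → R n n' → n' ∈ S :=
      fun n n' hn hnn' => Relation.EqvGen.trans _ _ _ hn (Relation.EqvGen.rel _ _ hnn')
    have hsat2 : ∀ n n', n ∈ Sᶜ → R n n' → n' ∈ Sᶜ :=
      fun n n' hn hnn' hn' =>
        hn (Relation.EqvGen.trans _ _ _ hn' (Relation.EqvGen.rel _ _ (hRsymm _ _ hnn')))
    have hc1 := hclosed S hsat1
    have hc2 := hclosed Sᶜ hsat2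
    have hcompl : (⋃ n ∈ S, C n) = (⋃ n ∈ Sᶜ, C n)ᶜ := by
      ext z
      constructor
      · intro hz hz'
        obtain ⟨n, hn, hzn⟩ := Set.mem_iUnion₂.mp hz
        obtain ⟨n', hn', hzn'⟩ := Set.mem_iUnion₂.mp hz'
        exact hn' (hsat1 n n' hn ⟨z, hzn, hzn'⟩)
      · intro hz
        obtain ⟨n, hzn⟩ := hcovC z
        by_cases hn : n ∈ S
        · exact Set.mem_iUnion₂.mpr ⟨n, hn, hzn⟩
        · exact absurd (Set.mem_iUnion₂.mpr ⟨n, hn, hzn⟩) hz
    have hclopen : IsClopen (⋃ n ∈ S, C n) :=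
      ⟨hc1, by rw [hcompl]; exact hc2.isOpen_compl⟩
    have ha_mem : pt a ∈ ⋃ n ∈ S, C n :=
      Set.mem_iUnion₂.mpr ⟨a, Relation.EqvGen.refl a, hpt a⟩
    have hsub := hclopen.connectedComponent_subset ha_mem
    have hb_cc : pt b ∈ connectedComponent (pt a) :=
      ConnectedComponents.coe_eq_coe'.mp hab'.symm
    obtain ⟨n, hn, hbn⟩ := Set.mem_iUnion₂.mp (hsub hb_cc)
    exact hsat1 n b hn ⟨pt b, hbn, hpt b⟩
  exact ENat.card_congr (Equiv.ofBijective f ⟨hfinj, hfsurj⟩).symm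

end Groth.Agent.H33.ConnCountCTOP3
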