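import Groth.Agent.H33.CoprodSect
import Groth.Agent.H92.FreeOnQc
import Groth.Agent.H67.SieveCoh2
import Groth.Agent.H6.DSum

/-!
# Sections of coproducts of modules over quasi-compact objects of a ringed site (helper33)

* `hfin_of_qc`: covering sieves of a quasi-compact object contain finite separating subfamilies.
* `freeOn_comp_e`, `finFac_freeOn`: maps from `freeOn O W` (`W` quasi-compact) to a coproduct
  factor through a finite subcoproduct.
* `preservesColimitsOfShape_Sec`, `preservesColimitsOfShape_coyoneda_freeOn`.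
* `projective_freeOn`: `freeOn O U` is projective for weakly contractible `U`.
-/

set_option autoImplicit false
universe u
open CategoryTheory CategoryTheory.Limits Opposite

namespace Groth.Agent.H33.CoprodSectQc

open Groth.Agent.H33.CoprodSect Groth.Agent.H92.FreeOnQc Groth.Agent.H53

variable {C : Type u} [SmallCategory C] {J : GrothendieckTopology C}
  (O : Sheaf J CommRingCat.{u})

theorem hfin_of_qc (W : C) (hW : CohCx.IsQcObject (ToposFin.eps J W)) :
    ∀ S ∈ J W, ∃ T : Finset (Σ V : C, {g : V ⟶ W // S g}),
      ∀ (N : ModSite.Mod O) (a b : (Sec (ModSite.ringSh O) W).obj N),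
        (∀ k ∈ T, res (ModSite.ringSh O) N k.2.1 a = res (ModSite.ringSh O) N k.2.1 b) →
          a = b := by
  intro S hS
  have hcov : Sieve.ofArrows (fun k : (Σ V : C, {g : V ⟶ W // S g}) => k.1)
      (fun k => k.2.1) ∈ J W := by
    refine J.superset_covering ?_ hS
    intro V g hg
    exact Sieve.ofArrows_mk (fun k : (Σ V : C, {g : V ⟶ W // S g}) => k.1)
      (fun k => k.2.1) ⟨V, ⟨g, hg⟩⟩
  obtain ⟨T, hT⟩ := exists_finset_jointlySurjective hW _ _ hcov
  refine ⟨T, fun N a b hab => ?_⟩
  let a' : N.val.obj (op W) := a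
  let b' : N.val.obj (op W) := b
  have key : (freeOnHomEquiv O W N).symm a' = (freeOnHomEquiv O W N).symm b' := by
    apply freeOn_hom_ext_of_jointlySurjective O (fun i : T => i.1.1) (fun i : T => i.1.2.1) hT
    intro i
    rw [freeOnMap_comp_symm, freeOnMap_comp_symm]
    congr 1
    exact hab i.1 i.2
  exact (freeOnHomEquiv O W N).symm.injective key

theorem freeOn_comp_e (W : C) (hW : CohCx.IsQcObject (ToposFin.eps J W)) {ι : Type u}
    {M : ι → ModSite.Mod O} (c : Cofan M) (hc : IsColimit c)
    (φ : ModSite.freeOn O W ⟶ c.pt) : ∃ t : Finset ι, φ ≫ e c hc t = φ := by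
  obtain ⟨t, ht⟩ := exists_finset_fix (ModSite.ringSh O) c hc W (hfin_of_qc O W hW)
    (freeOnHomEquiv O W c.pt φ)
  refine ⟨t, (freeOnHomEquiv O W c.pt).injective ?_⟩
  rw [freeOnHomEquiv_comp]
  exact ht

theorem finFac_freeOn (W : C) (hW : CohCx.IsQcObject (ToposFin.eps J W)) {ι : Type u}
    {M : ι → ModSite.Mod O} (c : Cofan M) (hc : IsColimit c) :
    Groth.Agent.H6.DSum.FinFac (ModSite.freeOn O W) c := by
  intro g
  obtain ⟨t, ht⟩ := freeOn_comp_e O W hW c hc g
  exact ⟨t, fun i => g ≫ prj c hc i, by rw [← comp_e_eq_sum, ht]⟩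

/-- the standard coproduct cofan -/
noncomputable abbrev cof {ι : Type u} (M : ι → ModSite.Mod O) : Cofan M :=
  Cofan.mk (∐ M) (Sigma.ι M)

theorem preservesColimitsOfShape_Sec (W : C) (hW : CohCx.IsQcObject (ToposFin.eps J W))
    (ι : Type u) :
    PreservesColimitsOfShape (Discrete ι) (Sec (ModSite.ringSh O) W) := by
  classical
  refine ⟨fun {K} => ?_⟩
  let M : ι → ModSite.Mod O := fun i => K.obj ⟨i⟩
  have hM : PreservesColimit (Discrete.functor M) (Sec (ModSite.ringSh O) W) := by
    have hc : IsColimit (cof O M) := coproductIsCoproduct M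
    apply preservesColimit_of_preserves_colimit_cocone hc
    refine (isColimitMapCoconeCofanMkEquiv _ _ _).symm ?_
    refine isColimitCofanAb _
      (fun j => (Sec (ModSite.ringSh O) W).map (prj (cof O M) hc j)) ?_ ?_ ?_
    · intro j x
      have h : (Sec (ModSite.ringSh O) W).map ((cof O M).inj j) ≫
          (Sec (ModSite.ringSh O) W).map (prj (cof O M) hc j) = 𝟙 _ := by
        rw [← Functor.map_comp, inj_prj_self, CategoryTheory.Functor.map_id]
      exact ConcreteCategory.congr_hom h x
    · intro i j hij x
      have h : (Sec (ModSite.ringSh O) W).map ((cof O M).inj i) ≫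
          (Sec (ModSite.ringSh O) W).map (prj (cof O M) hc j) = 0 := by
        rw [← Functor.map_comp, inj_prj_of_ne (cof O M) hc hij, Functor.map_zero]
      exact ConcreteCategory.congr_hom h x
    · intro x
      obtain ⟨t, ht⟩ := exists_finset_fix (ModSite.ringSh O) (cof O M) hc W
        (hfin_of_qc O W hW) x
      rw [← ht, map_e_apply]
      exact AddSubgroup.sum_mem _ (fun j _ => AddSubgroup.subset_closure ⟨j, _, rfl⟩)
  haveI : PreservesColimit (Discrete.functor (K.obj ∘ Discrete.mk))
      (Sec (ModSite.ringSh O) W) := hM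
  exact preservesColimit_of_iso_diagram _ (Discrete.natIsoFunctor (F := K)).symm

theorem preservesColimitsOfShape_coyoneda_freeOn (U : C)
    (hU : CohCx.IsQcObject (ToposFin.eps J U)) (ι : Type u) :
    PreservesColimitsOfShape (Discrete ι)
      (preadditiveCoyoneda.obj (op (ModSite.freeOn O U))) := by
  classical
  refine ⟨fun {K} => ?_⟩
  let M : ι → ModSite.Mod O := fun i => K.obj ⟨i⟩
  have hM : PreservesColimit (Discrete.functor M)
      (preadditiveCoyoneda.obj (op (ModSite.freeOn O U))) := by
    have hc : IsColimit (cof O M) := coproductIsCoproduct M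
    apply preservesColimit_of_preserves_colimit_cocone hc
    refine (isColimitMapCoconeCofanMkEquiv _ _ _).symm ?_
    refine isColimitCofanAb _
      (fun j => (preadditiveCoyoneda.obj (op (ModSite.freeOn O U))).map (prj (cof O M) hc j))
      ?_ ?_ ?_
    · intro j x
      have h : (preadditiveCoyoneda.obj (op (ModSite.freeOn O U))).map ((cof O M).inj j) ≫
          (preadditiveCoyoneda.obj (op (ModSite.freeOn O U))).map (prj (cof O M) hc j) =
            𝟙 _ := by
        rw [← Functor.map_comp, inj_prj_self, CategoryTheory.Functor.map_id]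
      exact ConcreteCategory.congr_hom h x
    · intro i j hij x
      have h : (preadditiveCoyoneda.obj (op (ModSite.freeOn O U))).map ((cof O M).inj i) ≫
          (preadditiveCoyoneda.obj (op (ModSite.freeOn O U))).map (prj (cof O M) hc j) =
            0 := by
        rw [← Functor.map_comp, inj_prj_of_ne (cof O M) hc hij, Functor.map_zero]
      exact ConcreteCategory.congr_hom h x
    · intro x
      let φ : ModSite.freeOn O U ⟶ (cof O M).pt := x
      obtain ⟨t, ht⟩ := freeOn_comp_e O U hU (cof O M) hc φ
      have hx : φ = ∑ j ∈ t, (φ ≫ prj (cof O M) hc j) ≫ (cof O M).inj j := by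
        rw [← comp_e_eq_sum, ht]
      have hx' : x = ∑ j ∈ t,
          ((preadditiveCoyoneda.obj (op (ModSite.freeOn O U))).map ((cof O M).inj j))
            (φ ≫ prj (cof O M) hc j) := hx
      rw [hx']
      exact AddSubgroup.sum_mem _ (fun j _ => AddSubgroup.subset_closure ⟨j, _, rfl⟩)
  haveI : PreservesColimit (Discrete.functor (K.obj ∘ Discrete.mk))
      (preadditiveCoyoneda.obj (op (ModSite.freeOn O U))) := hM
  exact preservesColimit_of_iso_diagram _ (Discrete.natIsoFunctor (F := K)).symm

theorem projective_freeOn (U : C) (hwc : CohSite.IsWeaklyContractible J U) :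
    Projective (ModSite.freeOn O U) := by
  constructor
  intro E X f e he
  haveI : Epi ((SheafOfModules.toSheaf (ModSite.ringSh O)).map e) :=
    Groth.Agent.H53.toSheaf_map_epi _ e
  obtain ⟨y, hy⟩ := Groth.Agent.H67.SieveCoh.surjective_app_of_epi_of_weaklyContractible hwc
    ((SheafOfModules.toSheaf (ModSite.ringSh O)).map e) (freeOnHomEquiv O U X f)
  let y' : E.val.obj (op U) := y
  refine ⟨(freeOnHomEquiv O U E).symm y', ?_⟩
  rw [freeOnHomEquiv_symm_comp]
  apply (freeOnHomEquiv O U X).injective
  rw [Equiv.apply_symm_apply]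
  exact hy

end Groth.Agent.H33.CoprodSectQc
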