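import Groth.Agent.H33.CoprodSect

/-!
# Sections of coproducts of modules over quasi-compact opens of a ringed space (helper33)
-/

set_option autoImplicit false
universe u
open CategoryTheory CategoryTheory.Limits Opposite TopologicalSpace

namespace Groth.Agent.H33.CoprodSectTop

open Groth.Agent.H33.CoprodSect

theorem hfin_of_isCompact {X : TopCat.{u}}
    (R : Sheaf (Opens.grothendieckTopology X) RingCat.{u}) (U : Opens X)
    (hU : IsCompact (U : Set X)) :
    ∀ S ∈ Opens.grothendieckTopology X U,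
      ∃ T : Finset (Σ V : Opens X, {g : V ⟶ U // S g}),
        ∀ (N : SheafOfModules.{u} R) (a b : (Sec R U).obj N),
          (∀ k ∈ T, res R N k.2.1 a = res R N k.2.1 b) → a = b := by
  intro S hS
  obtain ⟨T, hT⟩ := hU.elim_finite_subcover
    (fun k : (Σ V : Opens X, {g : V ⟶ U // S g}) => (k.1 : Set X))
    (fun k => k.1.isOpen) (by
      intro x hx
      obtain ⟨V, f, hf, hxV⟩ := hS x hx
      exact Set.mem_iUnion.2 ⟨⟨V, ⟨f, hf⟩⟩, hxV⟩)
  refine ⟨T, fun N a b hab => ?_⟩
  let S' : Sieve U := Sieve.ofArrows (fun k : T => k.1.1) (fun k : T => k.1.2.1)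
  have hS' : S' ∈ Opens.grothendieckTopology X U := by
    intro x hx
    have hx' := hT hx
    rw [Set.mem_iUnion₂] at hx'
    obtain ⟨k, hk, hxk⟩ := hx'
    exact ⟨k.1, k.2.1, Sieve.ofArrows_mk (fun k : T => k.1.1) (fun k : T => k.1.2.1) ⟨k, hk⟩,
      hxk⟩
  have hsh : Presieve.IsSheaf (Opens.grothendieckTopology X)
      (((SheafOfModules.toSheaf R).obj N).obj ⋙ forget AddCommGrpCat.{u}) :=
    (isSheaf_iff_isSheaf_of_type _ _).1
      ((sheafCompose _ (forget AddCommGrpCat.{u})).obj ((SheafOfModules.toSheaf R).obj N)).2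
  refine (hsh S' hS').isSeparatedFor.ext (fun W g hg => ?_)
  have hg' : Sieve.ofArrows (fun k : T => k.1.1) (fun k : T => k.1.2.1) g := hg
  rw [Sieve.mem_ofArrows_iff] at hg'
  obtain ⟨k, l, rfl⟩ := hg'
  have h1 := hab k.1 k.2
  have hc : ∀ t : (((SheafOfModules.toSheaf R).obj N).obj ⋙ forget AddCommGrpCat.{u}).obj (op U),
      (((SheafOfModules.toSheaf R).obj N).obj ⋙ forget AddCommGrpCat.{u}).map (l ≫ k.1.2.1).op t =
        (((SheafOfModules.toSheaf R).obj N).obj ⋙ forget AddCommGrpCat.{u}).map l.op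
          ((((SheafOfModules.toSheaf R).obj N).obj ⋙ forget AddCommGrpCat.{u}).map
            k.1.2.1.op t) := by
    intro t
    rw [op_comp, Functor.map_comp]
    rfl
  rw [hc, hc]
  exact congrArg
    ((((SheafOfModules.toSheaf R).obj N).obj ⋙ forget AddCommGrpCat.{u}).map l.op) h1

/-- Sections of a coproduct of sheaves of modules over an object with the finite separating
subcover property: finite sums of sections of the summands, uniquely. -/
theorem sections_coproduct {C : Type u} [SmallCategory C] {J : GrothendieckTopology C}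
    (R : Sheaf J RingCat.{u}) {I : Type u} (F : I → SheafOfModules.{u} R) [HasCoproduct F]
    (U : C)
    (hfin : ∀ S ∈ J U, ∃ T : Finset (Σ V : C, {g : V ⟶ U // S g}),
      ∀ (N : SheafOfModules.{u} R) (a b : (Sec R U).obj N),
        (∀ k ∈ T, res R N k.2.1 a = res R N k.2.1 b) → a = b) :
    (∀ s : (∐ F).val.obj (op U), ∃ (S : Finset I) (t : ∀ i, (F i).val.obj (op U)),
        s = ∑ i ∈ S, ((Sigma.ι F i).val.app (op U)).hom (t i)) ∧
      ∀ (S : Finset I) (t : ∀ i, (F i).val.obj (op U)),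
        ∑ i ∈ S, ((Sigma.ι F i).val.app (op U)).hom (t i) = 0 → ∀ i ∈ S, t i = 0 := by
  classical
  have hc : IsColimit (Cofan.mk (∐ F) (Sigma.ι F)) := coproductIsCoproduct F
  constructor
  · intro s
    obtain ⟨t, ht⟩ := exists_finset_fix R (Cofan.mk (∐ F) (Sigma.ι F)) hc U hfin s
    refine ⟨t, fun i => (Sec R U).map (prj (Cofan.mk (∐ F) (Sigma.ι F)) hc i) s, ?_⟩
    have h := map_e_apply R (Cofan.mk (∐ F) (Sigma.ι F)) hc U t s
    rw [ht] at h
    exact h
  · intro S t h0 i hi
    have h1 : (Sec R U).map (prj (Cofan.mk (∐ F) (Sigma.ι F)) hc i)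
        (∑ j ∈ S, (Sec R U).map ((Cofan.mk (∐ F) (Sigma.ι F)).inj j) (t j)) = t i := by
      rw [map_sum, Finset.sum_eq_single i]
      · have h : (Sec R U).map ((Cofan.mk (∐ F) (Sigma.ι F)).inj i) ≫
            (Sec R U).map (prj (Cofan.mk (∐ F) (Sigma.ι F)) hc i) = 𝟙 _ := by
          rw [← Functor.map_comp, inj_prj_self, CategoryTheory.Functor.map_id]
        exact ConcreteCategory.congr_hom h (t i)
      · intro j _ hji
        have h : (Sec R U).map ((Cofan.mk (∐ F) (Sigma.ι F)).inj j) ≫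
            (Sec R U).map (prj (Cofan.mk (∐ F) (Sigma.ι F)) hc i) = 0 := by
          rw [← Functor.map_comp, inj_prj_of_ne _ hc hji, Functor.map_zero]
        exact ConcreteCategory.congr_hom h (t j)
      · intro h
        exact absurd hi h
    have h0' : (∑ j ∈ S, (Sec R U).map ((Cofan.mk (∐ F) (Sigma.ι F)).inj j) (t j)) = 0 := h0
    rw [h0', map_zero] at h1
    exact h1.symm

end Groth.Agent.H33.CoprodSectTop
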