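import Mathlib
import Groth.Prelude.Def_Wider

/-!
# Helper library (helper33, for helper71's S0364 squad): (DK1) nilpotency of scalars on a cone.
-/

set_option autoImplicit false
universe u
open CategoryTheory CategoryTheory.Limits DerivedCategory Pretriangulated

namespace Groth.Agent.H33.DK1

attribute [local instance] HasDerivedCategory.standard

variable {A : Type u} [CommRing A]

/-- (DK1) nilpotency of scalars on a cone -/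
theorem smul_id_cone_sq {X Z : Dual.D A} (a c : A) (g : X ⟶ Z) (h : Z ⟶ X⟦(1 : ℤ)⟧)
    (hT : Triangle.mk (a • 𝟙 X) g h ∈ distTriang (Dual.D A)) (hc : c • 𝟙 X = 0) :
    (c * c) • 𝟙 Z = 0 := by
  have h1 : g ≫ (c • 𝟙 Z) = 0 := by
    have : g ≫ (c • 𝟙 Z) = (c • 𝟙 X) ≫ g := by
      rw [Linear.comp_smul, Linear.smul_comp, Category.comp_id, Category.id_comp]
    rw [this, hc, zero_comp]
  obtain ⟨φ, hφ'⟩ : ∃ φ : X⟦(1 : ℤ)⟧ ⟶ Z, c • 𝟙 Z = h ≫ φ :=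
    Triangle.yoneda_exact₃ _ hT (c • 𝟙 Z) h1
  have h2 : (c • 𝟙 X)⟦(1 : ℤ)⟧' = c • 𝟙 (X⟦(1 : ℤ)⟧) := by
    rw [Functor.map_smul, CategoryTheory.Functor.map_id]
  have h3 : c • 𝟙 (X⟦(1 : ℤ)⟧) = 0 := by rw [← h2, hc, Functor.map_zero]
  calc (c * c) • 𝟙 Z = c • (c • 𝟙 Z) := by rw [mul_smul]
    _ = c • (h ≫ φ) := by rw [hφ']
    _ = (h ≫ (c • 𝟙 (X⟦(1 : ℤ)⟧))) ≫ φ := by
        rw [Linear.comp_smul, Category.comp_id, Linear.smul_comp]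
    _ = 0 := by rw [h3, comp_zero, zero_comp]

theorem smul_id_cone_self {X Z : Dual.D A} (a : A) (g : X ⟶ Z) (h : Z ⟶ X⟦(1 : ℤ)⟧)
    (hT : Triangle.mk (a • 𝟙 X) g h ∈ distTriang (Dual.D A)) :
    (a * a) • 𝟙 Z = 0 := by
  have h1 : g ≫ (a • 𝟙 Z) = 0 := by
    have : g ≫ (a • 𝟙 Z) = (a • 𝟙 X) ≫ g := by
      rw [Linear.comp_smul, Linear.smul_comp, Category.comp_id, Category.id_comp]
    rw [this]
    exact comp_distTriang_mor_zero₁₂ _ hT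
  obtain ⟨φ, hφ'⟩ : ∃ φ : X⟦(1 : ℤ)⟧ ⟶ Z, a • 𝟙 Z = h ≫ φ :=
    Triangle.yoneda_exact₃ _ hT (a • 𝟙 Z) h1
  have h2 : (a • 𝟙 X)⟦(1 : ℤ)⟧' = a • 𝟙 (X⟦(1 : ℤ)⟧) := by
    rw [Functor.map_smul, CategoryTheory.Functor.map_id]
  have h3 : h ≫ (a • 𝟙 (X⟦(1 : ℤ)⟧)) = 0 := by
    rw [← h2]
    exact comp_distTriang_mor_zero₃₁ _ hT
  calc (a * a) • 𝟙 Z = a • (a • 𝟙 Z) := by rw [mul_smul]
    _ = a • (h ≫ φ) := by rw [hφ']
    _ = (h ≫ (a • 𝟙 (X⟦(1 : ℤ)⟧))) ≫ φ := by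
        rw [Linear.comp_smul, Category.comp_id, Linear.smul_comp]
    _ = 0 := by rw [h3, zero_comp]

end Groth.Agent.H33.DK1
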