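import Mathlib
import Groth.Prelude.Def_Wider

/-!
# Helper library (helper33, for helper71's S0364 squad): (DK8) cohomology of a cone of `a • 𝟙`.
(The `A`-linearity of the cohomology functors is copied from helper12's `H12/HDTTors`.)
-/

set_option autoImplicit false
universe u
open CategoryTheory CategoryTheory.Limits DerivedCategory Pretriangulated

namespace Groth.Agent.H33.DK8

attribute [local instance] HasDerivedCategory.standard

variable {A : Type u} [CommRing A]

section Linear

lemma homologyMap_smul' {L L' : CochainComplex (ModuleCat.{u} A) ℤ} (a : A) (f : L ⟶ L') (j : ℤ) :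
    HomologicalComplex.homologyMap (a • f) j = a • HomologicalComplex.homologyMap f j := by
  have h : (HomologicalComplex.shortComplexFunctor (ModuleCat.{u} A) (ComplexShape.up ℤ) j).map
      (a • f) = a • (HomologicalComplex.shortComplexFunctor (ModuleCat.{u} A)
        (ComplexShape.up ℤ) j).map f := by
    ext <;> rfl
  show ShortComplex.homologyMap ((HomologicalComplex.shortComplexFunctor (ModuleCat.{u} A)
      (ComplexShape.up ℤ) j).map (a • f)) = a • ShortComplex.homologyMap
        ((HomologicalComplex.shortComplexFunctor (ModuleCat.{u} A) (ComplexShape.up ℤ) j).map f)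
  rw [h]
  exact ShortComplex.homologyMap_smul _ _

theorem homologyFunctor_map_smul_id_Q (a : A) (L : CochainComplex (ModuleCat.{u} A) ℤ) (j : ℤ) :
    (homologyFunctor (ModuleCat.{u} A) j).map (a • 𝟙 (Q.obj L)) =
      a • 𝟙 ((homologyFunctor (ModuleCat.{u} A) j).obj (Q.obj L)) := by
  have h1 : a • 𝟙 (Q.obj L) = Q.map (a • 𝟙 L) := by
    rw [Functor.map_smul, CategoryTheory.Functor.map_id]
  rw [h1]
  let φ : (homologyFunctor (ModuleCat.{u} A) j).obj (Q.obj L) ≅ L.homology j :=
    (homologyFunctorFactors (ModuleCat.{u} A) j).app L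
  have h2 : (homologyFunctor (ModuleCat.{u} A) j).map (Q.map (a • 𝟙 L)) ≫ φ.hom =
      φ.hom ≫ HomologicalComplex.homologyMap (a • 𝟙 L) j :=
    homologyFunctorFactors_hom_naturality (C := ModuleCat.{u} A) (a • 𝟙 L) j
  have h3 : HomologicalComplex.homologyMap (a • 𝟙 L) j = a • 𝟙 (L.homology j) := by
    rw [homologyMap_smul', HomologicalComplex.homologyMap_id]
  rw [h3, Linear.comp_smul, Category.comp_id] at h2
  have h4 : (homologyFunctor (ModuleCat.{u} A) j).map (Q.map (a • 𝟙 L)) =
      ((homologyFunctor (ModuleCat.{u} A) j).map (Q.map (a • 𝟙 L)) ≫ φ.hom) ≫ φ.inv := by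
    rw [Category.assoc, φ.hom_inv_id, Category.comp_id]
  rw [h4, h2, Linear.smul_comp, φ.hom_inv_id]

theorem homologyFunctor_map_smul_id (a : A) (K : Dual.D A) (j : ℤ) :
    (homologyFunctor (ModuleCat.{u} A) j).map (a • 𝟙 K) =
      a • 𝟙 ((homologyFunctor (ModuleCat.{u} A) j).obj K) := by
  obtain ⟨L, ⟨e⟩⟩ : ∃ L : CochainComplex (ModuleCat.{u} A) ℤ, Nonempty (Q.obj L ≅ K) :=
    ⟨_, ⟨Q.objObjPreimageIso K⟩⟩
  have h1 : a • 𝟙 K = e.inv ≫ (a • 𝟙 (Q.obj L)) ≫ e.hom := by
    rw [Linear.smul_comp, Linear.comp_smul, Category.id_comp, e.inv_hom_id]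
  rw [h1, Functor.map_comp, Functor.map_comp, homologyFunctor_map_smul_id_Q, Linear.smul_comp,
    Linear.comp_smul, Category.id_comp, ← Functor.map_comp, e.inv_hom_id,
    CategoryTheory.Functor.map_id]

theorem homologyFunctor_map_smul_id_apply (a : A) (K : Dual.D A) (j : ℤ)
    (x : (homologyFunctor (ModuleCat.{u} A) j).obj K) :
    ((homologyFunctor (ModuleCat.{u} A) j).map (a • 𝟙 K)).hom x = a • x := by
  rw [homologyFunctor_map_smul_id]
  rfl

end Linear

/-- (DK8c) scalars killing the identity kill the cohomology -/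
theorem smul_homology_eq_zero (X : Dual.D A) (c : A) (hc : c • 𝟙 X = 0) (j : ℤ)
    (x : (homologyFunctor (ModuleCat.{u} A) j).obj X) : c • x = 0 := by
  rw [← homologyFunctor_map_smul_id_apply c X j x, hc, Functor.map_zero]
  rfl

/-- the middle term of an exact sequence of modules over a Noetherian ring with finite ends is finite -/
theorem finite_of_exact [IsNoetherianRing A] {M' M M'' : ModuleCat.{u} A} (f : M' ⟶ M) (g : M ⟶ M'')
    (w : f ≫ g = 0) (hex : (ShortComplex.mk f g w).Exact) (h1 : Module.Finite A M')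
    (h2 : Module.Finite A M'') : Module.Finite A M := by
  have hfe : Function.Exact f.hom g.hom :=
    (ShortComplex.ShortExact.moduleCat_exact_iff_function_exact (ShortComplex.mk f g w)).1 hex
  have hker : LinearMap.ker g.hom = LinearMap.range f.hom := (LinearMap.exact_iff.1 hfe)
  haveI : Module.Finite A (LinearMap.ker g.hom) := by
    rw [hker]; exact Module.Finite.range f.hom
  haveI : Module.Finite A (M ⧸ LinearMap.ker g.hom) :=
    Module.Finite.equiv (LinearMap.quotKerEquivRange g.hom).symm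
  exact Module.Finite.of_submodule_quotient (LinearMap.ker g.hom)

/-- (DK8a) cohomology of a cone: finiteness -/
theorem finite_homology_cone [IsNoetherianRing A] {X Z : Dual.D A} (a : A) (g : X ⟶ Z)
    (h : Z ⟶ X⟦(1 : ℤ)⟧) (hT : Triangle.mk (a • 𝟙 X) g h ∈ distTriang (Dual.D A))
    (hX : ∀ j : ℤ, Module.Finite A ((homologyFunctor (ModuleCat.{u} A) j).obj X)) (j : ℤ) :
    Module.Finite A ((homologyFunctor (ModuleCat.{u} A) j).obj Z) := by
  exact finite_of_exact _ _ _ (HomologySequence.exact₃ _ hT j (j + 1) rfl) (hX j) (hX (j + 1))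

/-- (DK8b) cohomology of a cone: boundedness -/
theorem isGE_isLE_cone {X Z : Dual.D A} (a : A) (g : X ⟶ Z)
    (h : Z ⟶ X⟦(1 : ℤ)⟧) (hT : Triangle.mk (a • 𝟙 X) g h ∈ distTriang (Dual.D A))
    (j₀ j₁ : ℤ) [X.IsGE j₀] [X.IsLE j₁] : Z.IsGE (j₀ - 1) ∧ Z.IsLE j₁ := by
  have key : ∀ i : ℤ, IsZero ((homologyFunctor (ModuleCat.{u} A) i).obj X) →
      IsZero ((homologyFunctor (ModuleCat.{u} A) (i + 1)).obj X) →
      IsZero ((homologyFunctor (ModuleCat.{u} A) i).obj Z) := by
    intro i h0 h1
    have hex := HomologySequence.exact₃ _ hT i (i + 1) rfl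
    exact hex.isZero_of_both_zeros (h0.eq_of_src _ _) (h1.eq_of_tgt _ _)
  constructor
  · rw [isGE_iff]
    intro i hi
    exact key i (X.isZero_of_isGE j₀ i (by omega)) (X.isZero_of_isGE j₀ (i + 1) (by omega))
  · rw [isLE_iff]
    intro i hi
    exact key i (X.isZero_of_isLE j₁ i (by omega)) (X.isZero_of_isLE j₁ (i + 1) (by omega))

end Groth.Agent.H33.DK8
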