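import Mathlib
import Groth.Prelude.Def_Wider
import Groth.Prelude.Def_CAlg
import Groth.Prelude.Def_EGA4b
import Groth.Agent.H35.Devissage

/-!
# Squad lemma (DEV) for helper29 (S18719): vanishing of `Hom(X, W[j])` from the vanishing of
`Hom(H^i(X), W[j+i])` for all `i` (dévissage along the cohomology of a bounded object).
-/

set_option autoImplicit false
universe u
open CategoryTheory CategoryTheory.Limits DerivedCategory Pretriangulated
attribute [local instance] HasDerivedCategory.standard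

namespace Groth.Agent.H33.DKS_DEV

lemma subsingleton_hom_shift {C : Type*} [Category C] [HasShift C ℤ] (M W : C) (i j : ℤ)
    (h : Subsingleton (M ⟶ W⟦j + i⟧)) : Subsingleton (M⟦-i⟧ ⟶ W⟦j⟧) := by
  refine ⟨fun f g => ?_⟩
  apply (shiftFunctor C i).map_injective
  let α : (M⟦-i⟧)⟦i⟧ ≅ M := (shiftFunctorCompIsoId C (-i) i (by omega)).app M
  let β : (W⟦j⟧)⟦i⟧ ≅ W⟦j + i⟧ := ((shiftFunctorAdd' C j i (j + i) rfl).app W).symm
  have h1 : α.inv ≫ f⟦i⟧' ≫ β.hom = α.inv ≫ g⟦i⟧' ≫ β.hom := Subsingleton.elim _ _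
  exact (cancel_mono β.hom).mp ((cancel_epi α.inv).mp h1)

/-- (DEV) -/
theorem subsingleton_hom_of_cohomology (A : Type u) [CommRing A] (X W : Dual.D A) (a b : ℤ)
    [X.IsGE a] [X.IsLE b] (j : ℤ)
    (h : ∀ i : ℤ, a ≤ i → i ≤ b →
      Subsingleton (Dual.inD A (Dual.HD A X i) ⟶ W⟦j + i⟧)) :
    Subsingleton (X ⟶ W⟦j⟧) := by
  have hPr : Groth.Agent.H35.Devissage.IsExtClosed (A := ModuleCat.{u} A)
      (fun K => Subsingleton (K ⟶ W⟦j⟧)) := by
    refine ⟨?_, ?_, ?_⟩
    · intro K L e hK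
      exact ⟨fun f g => (cancel_epi e.hom).mp (Subsingleton.elim _ _)⟩
    · intro K hK
      exact ⟨fun f g => hK.eq_of_src _ _⟩
    · intro T hT h1 h3
      refine ⟨fun f g => ?_⟩
      have h0 : T.mor₁ ≫ (f - g) = 0 := Subsingleton.elim _ _
      obtain ⟨k, hk⟩ := Triangle.yoneda_exact₂ T hT (f - g) h0
      have hk0 : k = 0 := Subsingleton.elim _ _
      rw [hk0, comp_zero] at hk
      exact sub_eq_zero.mp hk
  refine Groth.Agent.H35.Devissage.of_homology hPr a ((b - a).toNat + 1) X b ?_ ?_ ?_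
  · intro i hi
    rcases hi with hi | hi
    · exact isZero_of_isGE X a i hi
    · exact isZero_of_isLE X b i hi
  · push_cast
    omega
  · intro i
    by_cases hi : a ≤ i ∧ i ≤ b
    · have e : (singleFunctor (ModuleCat.{u} A) i).obj
          ((homologyFunctor (ModuleCat.{u} A) i).obj X) ≅
          (Dual.inD A (Dual.HD A X i))⟦-i⟧ :=
        (((singleFunctors (ModuleCat.{u} A)).shiftIso (-i) i 0 (by omega)).app
          ((homologyFunctor (ModuleCat.{u} A) i).obj X)).symm
      haveI := subsingleton_hom_shift (Dual.inD A (Dual.HD A X i)) W i j (h i hi.1 hi.2)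
      exact ⟨fun f g => (cancel_epi e.inv).mp (Subsingleton.elim _ _)⟩
    · have hz : IsZero ((homologyFunctor (ModuleCat.{u} A) i).obj X) := by
        rcases not_and_or.mp hi with h1 | h1
        · exact isZero_of_isGE X a i (by omega)
        · exact isZero_of_isLE X b i (by omega)
      exact ⟨fun f g =>
        ((singleFunctor (ModuleCat.{u} A) i).map_isZero hz).eq_of_src _ _⟩

end Groth.Agent.H33.DKS_DEV
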