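import Mathlib
import Groth.Prelude.Def_Wider
import Groth.Prelude.Def_CAlg
import Groth.Prelude.Def_EGA4b

/-!
# Squad lemma (T1) for helper29 (S18719): `A → End_A(K)` is bijective, from a truncation triangle
`K[n] → ω → C` with `A ≃ End(ω)`.
-/

set_option autoImplicit false
universe u
open CategoryTheory CategoryTheory.Limits DerivedCategory Pretriangulated
attribute [local instance] HasDerivedCategory.standard

namespace Groth.Agent.H33.DKS_T1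

lemma subsingleton_hom_shift' {C : Type*} [Category C] [HasShift C ℤ] (M W : C) (i : ℤ)
    (h : Subsingleton (M ⟶ W⟦i⟧)) : Subsingleton (M⟦-i⟧ ⟶ W) := by
  refine ⟨fun f g => ?_⟩
  apply (shiftFunctor C i).map_injective
  let α : (M⟦-i⟧)⟦i⟧ ≅ M := (shiftFunctorCompIsoId C (-i) i (by omega)).app M
  have h1 : α.inv ≫ f⟦i⟧' = α.inv ≫ g⟦i⟧' := Subsingleton.elim _ _
  exact (cancel_epi α.inv).mp h1

/-- (T1) -/
theorem toEnd_bijective_of_triangle (A : Type u) [CommRing A] (ω : Dual.D A)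
    (he : Function.Bijective (fun a : A => a • 𝟙 ω)) (K : Type u) [AddCommGroup K] [Module A K]
    (n : ℤ) (C : Dual.D A) (t : (Dual.inD A K)⟦n⟧ ⟶ ω) (g : ω ⟶ C)
    (h : C ⟶ ((Dual.inD A K)⟦n⟧)⟦(1 : ℤ)⟧) (hT : Triangle.mk t g h ∈ distTriang (Dual.D A))
    (hC : C.IsGE (-n + 1)) (hv0 : Subsingleton (C ⟶ ω⟦(0 : ℤ)⟧))
    (hv1 : Subsingleton (C ⟶ ω⟦(1 : ℤ)⟧)) :
    Function.Bijective (fun r : A => r • (LinearMap.id : K →ₗ[A] K)) := by
  haveI := hC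
  haveI hKle : DerivedCategory.TStructure.t.IsLE ((Dual.inD A K)⟦n⟧) (-n) :=
    DerivedCategory.TStructure.t.isLE_shift (Dual.inD A K) 0 n (-n) (by omega)
  haveI hCge2 : DerivedCategory.TStructure.t.IsGE (C⟦(-1 : ℤ)⟧) (-n + 2) :=
    DerivedCategory.TStructure.t.isGE_shift C (-n + 1) (-1) (-n + 2) (by omega)
  have hTinv := inv_rot_of_distTriang _ hT
  -- post-composition with `t` on `Hom(K[n], -)`
  have hpost_inj : ∀ v : (Dual.inD A K)⟦n⟧ ⟶ (Dual.inD A K)⟦n⟧, v ≫ t = 0 → v = 0 := by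
    intro v hv
    obtain ⟨w, hw⟩ : ∃ w : (Dual.inD A K)⟦n⟧ ⟶ C⟦(-1 : ℤ)⟧,
        v = w ≫ (Triangle.mk t g h).invRotate.mor₁ :=
      Triangle.coyoneda_exact₂ _ hTinv v hv
    have hw0 : w = 0 := DerivedCategory.TStructure.t.zero w (-n) (-n + 2) (by omega)
    rw [hw, hw0]
    exact zero_comp
  have hpost_surj : ∀ u : (Dual.inD A K)⟦n⟧ ⟶ ω,
      ∃ v : (Dual.inD A K)⟦n⟧ ⟶ (Dual.inD A K)⟦n⟧, v ≫ t = u := by
    intro u
    have hu : u ≫ g = 0 := DerivedCategory.TStructure.t.zero _ (-n) (-n + 1) (by omega)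
    obtain ⟨v, hv⟩ := Triangle.coyoneda_exact₂ _ hT u hu
    exact ⟨v, hv.symm⟩
  -- pre-composition with `t` on `Hom(-, ω)`
  have hpre_inj : ∀ φ : ω ⟶ ω, t ≫ φ = 0 → φ = 0 := by
    intro φ hφ
    obtain ⟨ψ, hψ⟩ : ∃ ψ : C ⟶ ω, φ = g ≫ ψ := Triangle.yoneda_exact₂ _ hT φ hφ
    have h0 : ψ ≫ (shiftFunctorZero (Dual.D A) ℤ).inv.app ω = 0 := Subsingleton.elim _ _
    have hψ0 : ψ = 0 :=
      (cancel_mono ((shiftFunctorZero (Dual.D A) ℤ).inv.app ω)).mp (by rw [h0, zero_comp])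
    rw [hψ, hψ0, comp_zero]
  have hpre_surj : ∀ u : (Dual.inD A K)⟦n⟧ ⟶ ω, ∃ φ : ω ⟶ ω, t ≫ φ = u := by
    intro u
    have hz : ∀ x : C⟦(-1 : ℤ)⟧ ⟶ ω, x = 0 := by
      haveI := subsingleton_hom_shift' C ω 1 hv1
      intro x
      exact Subsingleton.elim _ _
    obtain ⟨φ, hφ⟩ : ∃ φ : ω ⟶ ω, u = t ≫ φ :=
      Triangle.yoneda_exact₂ _ hTinv u (hz _)
    exact ⟨φ, hφ.symm⟩
  have hsm1 : ∀ a : A, (a • 𝟙 ((Dual.inD A K)⟦n⟧)) ≫ t = a • t := fun a => by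
    rw [Linear.smul_comp, Category.id_comp]
  have hsm2 : ∀ a : A, t ≫ (a • 𝟙 ω) = a • t := fun a => by
    rw [Linear.comp_smul, Category.comp_id]
  have hΦinj : ∀ a b : A,
      a • 𝟙 ((Dual.inD A K)⟦n⟧) = b • 𝟙 ((Dual.inD A K)⟦n⟧) → a = b := by
    intro a b hab
    apply he.1
    show a • 𝟙 ω = b • 𝟙 ω
    have h1 : t ≫ (a • 𝟙 ω - b • 𝟙 ω) = 0 := by
      rw [Preadditive.comp_sub, hsm2, hsm2, ← hsm1, ← hsm1, hab, sub_self]
    exact sub_eq_zero.mp (hpre_inj _ h1)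
  have hΦsurj : ∀ v : (Dual.inD A K)⟦n⟧ ⟶ (Dual.inD A K)⟦n⟧,
      ∃ a : A, a • 𝟙 ((Dual.inD A K)⟦n⟧) = v := by
    intro v
    obtain ⟨φ, hφ⟩ := hpre_surj (v ≫ t)
    obtain ⟨a, ha⟩ := he.2 φ
    have ha' : a • 𝟙 ω = φ := ha
    refine ⟨a, ?_⟩
    have h1 : (a • 𝟙 ((Dual.inD A K)⟦n⟧) - v) ≫ t = 0 := by
      rw [Preadditive.sub_comp, hsm1, ← hφ, ← ha', hsm2, sub_self]
    exact sub_eq_zero.mp (hpost_inj _ h1)
  -- transfer to `End_A(K)`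
  let F : (K →ₗ[A] K) → ((Dual.inD A K)⟦n⟧ ⟶ (Dual.inD A K)⟦n⟧) := fun φ =>
    ((DerivedCategory.singleFunctor (ModuleCat.{u} A) 0).map (ModuleCat.ofHom φ))⟦n⟧'
  have hF : ∀ r : A, F (r • LinearMap.id) = r • 𝟙 ((Dual.inD A K)⟦n⟧) := by
    intro r
    have h1 : ModuleCat.ofHom (r • (LinearMap.id : K →ₗ[A] K)) =
        r • 𝟙 (ModuleCat.of A K) := rfl
    show ((DerivedCategory.singleFunctor (ModuleCat.{u} A) 0).map
      (ModuleCat.ofHom (r • LinearMap.id)))⟦n⟧' = _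
    rw [h1, CategoryTheory.Functor.map_smul, CategoryTheory.Functor.map_id,
      CategoryTheory.Functor.map_smul, CategoryTheory.Functor.map_id]
  have hFinj : Function.Injective F := by
    intro φ ψ hφψ
    have h1 := (DerivedCategory.singleFunctor (ModuleCat.{u} A) 0).map_injective
      ((shiftFunctor (Dual.D A) n).map_injective hφψ)
    exact congrArg ModuleCat.Hom.hom h1
  constructor
  · intro r s hrs
    apply hΦinj
    rw [← hF, ← hF]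
    exact congrArg F hrs
  · intro ψ
    obtain ⟨a, ha⟩ := hΦsurj (F ψ)
    exact ⟨a, hFinj (by rw [hF]; exact ha)⟩

end Groth.Agent.H33.DKS_T1
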