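import Groth.Agent.H35.TriChase

/-!
# The five-lemma chase of `H35.TriChase`, relative to a class of objects (helper33)

`WeakExactOn P F` : weak exactness of `F` only along pairs extending to distinguished triangles
whose end terms satisfy `P`.  `Pr P η x := P x ∧ PP η x` is then closed under isomorphisms, zero
objects and extensions as soon as `P` is.  Also: a contravariant functor sending such pairs to
pairs extending to distinguished triangles gives a `WeakExactOn` functor to the opposite category.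
-/

set_option autoImplicit false
set_option linter.unusedSectionVars false
universe v v' v'' u u' u''
open CategoryTheory CategoryTheory.Limits Pretriangulated Opposite

namespace Groth.Agent.H33.RelChase
open Groth.Agent.H35.TriChase

variable {C : Type u} [Category.{v} C] [Preadditive C] [HasZeroObject C] [HasShift C ℤ]
  [∀ n : ℤ, (shiftFunctor C n).Additive] [Pretriangulated C]
variable {D : Type u'} [Category.{v'} D] [Preadditive D]
variable (P : C → Prop)

/-- weak exactness along pairs extending to distinguished triangles with end terms in `P`. -/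
structure WeakExactOn (F : C ⥤ D) : Prop where
  zero : ∀ {a b c : C} (p : a ⟶ b) (q : b ⟶ c), DT p q → P a → P c → F.map p ≫ F.map q = 0
  exact : ∀ {a b c : C} (p : a ⟶ b) (q : b ⟶ c), DT p q → P a → P c →
    ∀ {S : D} (u : S ⟶ F.obj b), u ≫ F.map q = 0 → ∃ v : S ⟶ F.obj a, v ≫ F.map p = u

lemma WeakExactOn.of_weakExact {F : C ⥤ D} (h : WeakExact F) : WeakExactOn P F :=
  ⟨fun p q h' _ _ => h.zero p q h', fun p q h' _ _ => h.exact p q h'⟩

variable {P}

/-- The five-lemma chase, relative to `P`. -/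
theorem isIso_app_obj₃_on {F G : C ⥤ D} (η : F ⟶ G) (hF : WeakExactOn P F) (hG : WeakExactOn P G)
    (T : Triangle C) (hT : T ∈ distTriang C)
    (p1 : P T.obj₁) (p2 : P T.obj₂) (p3 : P T.obj₃)
    (p1' : P (T.obj₁⟦(1 : ℤ)⟧)) (p2' : P (T.obj₂⟦(1 : ℤ)⟧))
    (h1 : IsIso (η.app T.obj₁)) (h2 : IsIso (η.app T.obj₂))
    (h1' : IsIso (η.app (T.obj₁⟦(1 : ℤ)⟧))) (h2' : IsIso (η.app (T.obj₂⟦(1 : ℤ)⟧))) :
    IsIso (η.app T.obj₃) := by
  apply isIso_of_yoneda_map_bijective
  intro S
  have d12 := DT.of_dist T hT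
  have d23 := DT.rot T hT
  have d31 := DT.rot₂ T hT
  constructor
  · intro u u' huu'
    dsimp only at huu'
    have key : ∀ w : S ⟶ F.obj T.obj₃, w ≫ η.app T.obj₃ = 0 → w = 0 := by
      intro w hw
      have e1 : (w ≫ F.map T.mor₃) ≫ η.app (T.obj₁⟦(1 : ℤ)⟧) = 0 := by
        rw [Category.assoc, η.naturality, ← Category.assoc, hw, zero_comp]
      have e2 : w ≫ F.map T.mor₃ = 0 := by
        rw [← cancel_mono (η.app (T.obj₁⟦(1 : ℤ)⟧)), e1, zero_comp]
      obtain ⟨v, hv⟩ := hF.exact _ _ d23 p2 p1' w e2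
      have e3 : (v ≫ η.app T.obj₂) ≫ G.map T.mor₂ = 0 := by
        rw [Category.assoc, ← η.naturality, ← Category.assoc, hv, hw]
      obtain ⟨x, hx⟩ := hG.exact _ _ d12 p1 p3 _ e3
      have e4 : v = (x ≫ inv (η.app T.obj₁)) ≫ F.map T.mor₁ := by
        rw [← cancel_mono (η.app T.obj₂), Category.assoc, Category.assoc, η.naturality,
          IsIso.inv_hom_id_assoc, hx]
      rw [← hv, e4, Category.assoc, hF.zero _ _ d12 p1 p3, comp_zero]
    have := key (u - u') (by rw [Preadditive.sub_comp, huu', sub_self])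
    exact sub_eq_zero.1 this
  · intro t
    dsimp only
    let a : S ⟶ F.obj (T.obj₁⟦(1 : ℤ)⟧) := t ≫ G.map T.mor₃ ≫ inv (η.app (T.obj₁⟦(1 : ℤ)⟧))
    have ha : a ≫ η.app (T.obj₁⟦(1 : ℤ)⟧) = t ≫ G.map T.mor₃ := by
      simp only [a, Category.assoc, IsIso.inv_hom_id, Category.comp_id]
    have e1 : a ≫ F.map (T.mor₁⟦(1 : ℤ)⟧') = 0 := by
      rw [← cancel_mono (η.app (T.obj₂⟦(1 : ℤ)⟧)), zero_comp, Category.assoc, η.naturality,
        ← Category.assoc, ha, Category.assoc, hG.zero _ _ d31 p3 p2', comp_zero]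
    obtain ⟨b, hb⟩ := hF.exact _ _ d31 p3 p2' a e1
    have e2 : (b ≫ η.app T.obj₃ - t) ≫ G.map T.mor₃ = 0 := by
      rw [Preadditive.sub_comp, Category.assoc, ← η.naturality, ← Category.assoc, hb, ha, sub_self]
    obtain ⟨c, hc⟩ := hG.exact _ _ d23 p2 p1' _ e2
    refine ⟨b - (c ≫ inv (η.app T.obj₂)) ≫ F.map T.mor₂, ?_⟩
    rw [Preadditive.sub_comp, Category.assoc, Category.assoc, η.naturality,
      IsIso.inv_hom_id_assoc, hc, sub_sub_cancel]

section Pr

variable {F G : C ⥤ D} (η : F ⟶ G)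
variable (P)

/-- `x` is in `P` and `η` is an isomorphism at all shifts of `x`. -/
def Pr (x : C) : Prop := P x ∧ PP η x

variable {P} {η}

/-- closure properties of the class `P`. -/
structure Stable (P : C → Prop) : Prop where
  iso : ∀ {x y : C}, (x ≅ y) → P x → P y
  shift : ∀ {x : C} (n : ℤ), P x → P (x⟦n⟧)
  zero : ∀ {x : C}, IsZero x → P x
  ext : ∀ (T : Triangle C), T ∈ distTriang C → P T.obj₁ → P T.obj₃ → P T.obj₂

lemma Pr.iso (hP : Stable P) {x y : C} (e : x ≅ y) (h : Pr P η x) : Pr P η y :=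
  ⟨hP.iso e h.1, h.2.iso e⟩

lemma Pr.shift (hP : Stable P) {x : C} (h : Pr P η x) (n : ℤ) : Pr P η (x⟦n⟧) :=
  ⟨hP.shift n h.1, h.2.shift n⟩

lemma Pr.zero (hP : Stable P) (hF0 : ∀ x : C, IsZero x → IsZero (F.obj x))
    (hG0 : ∀ x : C, IsZero x → IsZero (G.obj x)) {x : C} (hx : IsZero x) : Pr P η x :=
  ⟨hP.zero hx, fun n => by
    have hz : IsZero (x⟦n⟧) := (shiftFunctor C n).map_isZero hx
    exact ⟨⟨0, (hF0 _ hz).eq_of_src _ _, (hG0 _ hz).eq_of_src _ _⟩⟩⟩

lemma Pr.tri₃ (hP : Stable P) (hF : WeakExactOn P F) (hG : WeakExactOn P G) (T : Triangle C)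
    (hT : T ∈ distTriang C) (p3 : P T.obj₃) (h1 : Pr P η T.obj₁) (h2 : Pr P η T.obj₂) :
    Pr P η T.obj₃ :=
  ⟨p3, fun n => by
    have hTn := Triangle.shift_distinguished T hT n
    exact isIso_app_obj₃_on η hF hG _ hTn (hP.shift n h1.1) (hP.shift n h2.1) (hP.shift n p3)
      (hP.shift 1 (hP.shift n h1.1)) (hP.shift 1 (hP.shift n h2.1))
      (h1.2 n) (h2.2 n) ((h1.2.shift n) 1) ((h2.2.shift n) 1)⟩

lemma Pr.ext (hP : Stable P) (hF : WeakExactOn P F) (hG : WeakExactOn P G) (T : Triangle C)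
    (hT : T ∈ distTriang C) (h1 : Pr P η T.obj₁) (h3 : Pr P η T.obj₃) : Pr P η T.obj₂ :=
  Pr.tri₃ hP hF hG T.invRotate (inv_rot_of_distTriang T hT) (hP.ext T hT h1.1 h3.1)
    (h3.shift hP (-1)) h1

lemma Pr.retract (hP : Stable P) {K K' : C} (i : K ⟶ K') (r : K' ⟶ K) (hir : i ≫ r = 𝟙 K)
    (hK : P K) (h : Pr P η K') : Pr P η K :=
  ⟨hK, h.2.retract i r hir⟩

lemma Pr.biprod (hP : Stable P) (hF : WeakExactOn P F) (hG : WeakExactOn P G) {K K' : C}
    (h : Pr P η K) (h' : Pr P η K') : Pr P η (K ⊞ K') :=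
  Pr.ext hP hF hG (binaryBiproductTriangle K K') (binaryBiproductTriangle_distinguished K K') h h'

end Pr

/-! ### Contravariant functors -/

section Contra

variable {C' : Type u''} [Category.{v''} C'] [Preadditive C'] [HasZeroObject C'] [HasShift C' ℤ]
  [∀ n : ℤ, (shiftFunctor C' n).Additive] [Pretriangulated C']

/-- A contravariant functor sending pairs extending to distinguished triangles (end terms in
`P`) to such pairs is weakly exact, as a functor to the opposite category. -/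
lemma weakExactOn_rightOp (F : Cᵒᵖ ⥤ C')
    (hF : ∀ {a b c : C} (p : a ⟶ b) (q : b ⟶ c), DT p q → P a → P c →
      DT (F.map q.op) (F.map p.op)) :
    WeakExactOn P F.rightOp where
  zero p q h pa pc := by
    obtain ⟨r, hr⟩ := hF p q h pa pc
    have h0 : F.map q.op ≫ F.map p.op = 0 := comp_distTriang_mor_zero₁₂ _ hr
    show (F.map p.op).op ≫ (F.map q.op).op = 0
    rw [← op_comp, h0, op_zero]
  exact {a b c} p q h pa pc S u hu := by
    obtain ⟨r, hr⟩ := hF p q h pa pc
    have hu0 : u ≫ (F.map q.op).op = 0 := hu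
    have hu' : F.map q.op ≫ u.unop = 0 := by
      have h1 := congrArg Quiver.Hom.unop hu0
      rwa [unop_comp, Quiver.Hom.unop_op, unop_zero] at h1
    obtain ⟨v, hv⟩ : ∃ v : F.obj (op a) ⟶ unop S, u.unop = F.map p.op ≫ v :=
      Triangle.yoneda_exact₂ _ hr u.unop hu'
    refine ⟨v.op, ?_⟩
    show v.op ≫ (F.map p.op).op = u
    apply Quiver.Hom.unop_inj
    show F.map p.op ≫ v = u.unop
    exact hv.symm

end Contra

end Groth.Agent.H33.RelChase
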