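import Groth.Agent.H33.RHomExact
import Groth.Agent.H33.RelChase
import Groth.Agent.H35.DTenUnit
import Groth.Agent.H35.Devissage

/-!
# Auxiliary results on the closed structure `DTen.RHom` of `D(A)` (helper33)

`symmIso`, `DT_tensorLeftD`, `RHomMap_zero`, zero objects, naturality of the hom-equivalence in
the `RHom` variable, stability of `BP`, `BP` for single projective modules, tensoring with shifts
of the unit on the right is an equivalence.
-/

set_option autoImplicit false
set_option linter.unusedSectionVars false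
universe u
open CategoryTheory CategoryTheory.Limits MonoidalCategory Pretriangulated Opposite
attribute [local instance] HasDerivedCategory.standard

namespace Groth.Agent.H33.DTenClosed
open DTen Groth.Agent.H35.TriChase Groth.Agent.H35.DTenExact Groth.Agent.H35.DTenUnit
open Groth.Agent.H33.RHomModel Groth.Agent.H33.RHomExact Groth.Agent.H33.RelChase
open DerivedCategory ZeroObject

variable {A : Type u} [CommRing A]

/-! ### `BP` -/

lemma projective_of_isZero (X : ModuleCat.{u} A) (hX : IsZero X) : Module.Projective A X := by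
  have : Subsingleton X := ModuleCat.subsingleton_of_isZero hX
  have : Module.Free A X := Module.Free.of_subsingleton A X
  infer_instance

lemma BPC_single (N : ModuleCat.{u} A) [Module.Projective A N] (i : ℤ) :
    BPC ((HomologicalComplex.single (ModuleCat.{u} A) (ComplexShape.up ℤ) i).obj N) := by
  refine ⟨⟨i, fun j hj => HomologicalComplex.isZero_single_obj_X (ComplexShape.up ℤ) i N j
    (by omega)⟩, fun j => ?_⟩
  by_cases hj : j = i
  · subst hj
    exact Module.Projective.of_equiv
      (HomologicalComplex.singleObjXSelf (ComplexShape.up ℤ) j N).toLinearEquiv.symm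
  · exact projective_of_isZero _
      (HomologicalComplex.isZero_single_obj_X (ComplexShape.up ℤ) i N j hj)

lemma BP_single (N : ModuleCat.{u} A) [Module.Projective A N] (i : ℤ) :
    BP ((singleFunctor (ModuleCat.{u} A) i).obj N) :=
  ⟨_, BPC_single N i, ⟨(singleFunctorIsoCompQ (ModuleCat.{u} A) i).app N⟩⟩

lemma BP_zero {x : Dual.D A} (hx : IsZero x) : BP x := by
  refine ⟨(HomologicalComplex.single (ModuleCat.{u} A) (ComplexShape.up ℤ) 0).obj 0, ?_, ⟨?_⟩⟩
  · haveI : Module.Projective A (0 : ModuleCat.{u} A) := projective_of_isZero _ (isZero_zero _)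
    exact BPC_single _ 0
  · exact hx.iso (Q.map_isZero
      ((HomologicalComplex.single (ModuleCat.{u} A) (ComplexShape.up ℤ) 0).map_isZero
        (isZero_zero _)))

lemma stable_BP : Stable (BP (A := A)) where
  iso e h := h.of_iso e
  shift n h := h.shift n
  zero hx := BP_zero hx
  ext T hT h1 h3 := BP.of_DT T.mor₁ T.mor₂ (DT.of_dist T hT) h1 h3

lemma BP_of_isPerfect {K : Dual.D A} (hK : DRing.IsPerfect A K) : BP K := by
  obtain ⟨E, a, b, hE, hfp, ⟨e⟩⟩ := hK
  exact ⟨E, ⟨⟨b, fun i hi => hE i (Or.inr hi)⟩, fun i => (hfp i).2⟩, ⟨e.symm⟩⟩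

variable [DTen.HasLTen A]

section Sym
variable [DTen.HasLTen₃ A] [DTen.IsSymMonoidal A]

/-- `- ⊗^L X ≅ X ⊗^L -`. -/
noncomputable def symmIso (X : Dual.D A) : tensorRightD A X ≅ (LTen A).obj X :=
  NatIso.ofComponents (fun Y => braiding X Y) (fun {Y Y'} g =>
    (symm A).naturality (X := (X, Y)) (Y := (X, Y')) (Prod.mkHom (𝟙 X) g))

/-- `X ⊗^L -` sends pairs extending to distinguished triangles to such pairs. -/
theorem DT_tensorLeftD (X : Dual.D A) {a b c : Dual.D A} (p : a ⟶ b) (q : b ⟶ c) (h : DT p q) :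
    DT (((LTen A).obj X).map p) (((LTen A).obj X).map q) :=
  DT.of_iso (DT_tensorRightD X p q h) ((symmIso X).app a).symm ((symmIso X).app b).symm
    ((symmIso X).app c).symm ((symmIso X).inv.naturality p) ((symmIso X).inv.naturality q)

theorem weakExact_tensorLeftD (X : Dual.D A) : WeakExact ((LTen A).obj X) :=
  WeakExact.of_DT _ (fun p q h => DT_tensorLeftD X p q h)

theorem isEquivalence_tensorRightD_unit_shift (n : ℤ) :
    (tensorRightD A ((unit A)⟦n⟧)).IsEquivalence := by
  have := isEquivalence_LTen_unit_shift (A := A) n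
  exact Functor.isEquivalence_of_iso (symmIso ((unit A)⟦n⟧)).symm

variable [DTen.HasRHom A]

instance (X : Dual.D A) : ((LTen A).obj X).PreservesZeroMorphisms :=
  Functor.preservesZeroMorphisms_of_iso (symmIso X)

lemma RHomMap_zero (L L' M : Dual.D A) : RHomMap (0 : L' ⟶ L) M = 0 := by
  have h0 : (LTen A).flip.map (0 : L' ⟶ L) = 0 := by
    ext Y
    show ((LTen A).obj Y).map (0 : L' ⟶ L) = 0
    exact Functor.map_zero _ _ _
  show (conjugateEquiv (rhomAdj A L) (rhomAdj A L') ((LTen A).flip.map (0 : L' ⟶ L))).app M = 0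
  rw [h0, conjugateEquiv_apply_app]
  simp

lemma RHomMap_id (L M : Dual.D A) : RHomMap (𝟙 L) M = 𝟙 _ := by
  show ((RHom A).map (𝟙 L).op).app M = _
  rw [op_id, (RHom A).map_id]
  rfl

lemma isZero_RHomR {Z : Dual.D A} (hZ : IsZero Z) (M : Dual.D A) :
    IsZero ((RHomR A Z).obj M) := by
  rw [IsZero.iff_id_eq_zero, ← RHomMap_id, hZ.eq_of_src (𝟙 Z) 0, RHomMap_zero]

lemma isZero_LTen_right (X : Dual.D A) {Z : Dual.D A} (hZ : IsZero Z) :
    IsZero ((LTen₂ A).obj (X, Z)) :=
  ((LTen A).obj X).map_isZero hZ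

/-- naturality of the hom-equivalence in the `RHom` variable. -/
lemma homEquiv_symm_comp_RHomMap {R R' : Dual.D A} (ρ : R' ⟶ R) {S M : Dual.D A}
    (v : S ⟶ (RHomR A R).obj M) :
    ((rhomAdj A R').homEquiv S M).symm (v ≫ RHomMap ρ M) =
      (LTen₂ A).map (Prod.mkHom (𝟙 S) ρ) ≫ ((rhomAdj A R).homEquiv S M).symm v := by
  rw [Adjunction.homEquiv_counit, Adjunction.homEquiv_counit]
  show (LTen₂ A).map (Prod.mkHom (v ≫ RHomMap ρ M) (𝟙 R')) ≫ ev R' M =
    (LTen₂ A).map (Prod.mkHom (𝟙 S) ρ) ≫ (LTen₂ A).map (Prod.mkHom v (𝟙 R)) ≫ ev R M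
  have h1 : (LTen₂ A).map (Prod.mkHom (v ≫ RHomMap ρ M) (𝟙 R')) =
      (LTen₂ A).map (Prod.mkHom v (𝟙 R')) ≫ (LTen₂ A).map (Prod.mkHom (RHomMap ρ M) (𝟙 R')) := by
    rw [map_comp_mkHom, Category.id_comp]
  rw [h1, Category.assoc, RHom_map_ev, ← Category.assoc, ← Category.assoc, map_comp_mkHom,
    map_comp_mkHom, Category.id_comp, Category.comp_id, Category.id_comp, Category.comp_id]

end Sym

end Groth.Agent.H33.DTenClosed
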