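import Groth.Agent.H33.ProSys
import Mathlib.Algebra.Homology.DerivedCategory.TStructure
import Mathlib.Algebra.Homology.DerivedCategory.FullyFaithful
import Mathlib.Algebra.Homology.DerivedCategory.HomologySequence
import Mathlib.CategoryTheory.Functor.OfSequence

/-! Truncations of ℕ-indexed inverse systems in the derived category (helper33). -/

set_option autoImplicit false
universe w v u

namespace Groth.Agent.H33

open CategoryTheory CategoryTheory.Limits Opposite CategoryTheory.Pretriangulated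

section General

variable {C : Type u} [Category.{v} C]

/-- essential constancy is invariant under isomorphisms of systems -/
lemma essConstant_of_iso {P Q : ARSys.PS C} (e : P ≅ Q) {B : C}
    {c : (Functor.const ℕᵒᵖ).obj B ⟶ P} (h : DerCA.IsEssConstant P B c) :
    DerCA.IsEssConstant Q B (c ≫ e.hom) := by
  obtain ⟨i, s, hs, hk⟩ := h
  refine ⟨i, e.inv.app (op i) ≫ s, ?_, ?_⟩
  · rw [NatTrans.comp_app, Category.assoc, Iso.hom_inv_id_app_assoc, hs]
  · intro j
    obtain ⟨k, hi, hj, E⟩ := hk j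
    refine ⟨k, hi, hj, ?_⟩
    have h1 : ARSys.tr Q hj = e.inv.app (op k) ≫ ARSys.tr P hj ≫ e.hom.app (op j) := by
      rw [tr_naturality e.hom hj, Iso.inv_hom_id_app_assoc]
    have h2 : ARSys.tr Q hi ≫ e.inv.app (op i) = e.inv.app (op k) ≫ ARSys.tr P hi :=
      tr_naturality e.inv hi
    rw [h1, E, NatTrans.comp_app]
    simp only [Category.assoc]
    rw [reassoc_of% h2]

variable [HasZeroMorphisms C]

lemma proZero_of_mono {P Q : ARSys.PS C} (φ : P ⟶ Q) (hφ : ∀ n : ℕᵒᵖ, Mono (φ.app n))
    (hQ : DerCA.IsProZero Q) : DerCA.IsProZero P := by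
  intro n
  obtain ⟨m, h, e⟩ := hQ n
  refine ⟨m, h, ?_⟩
  haveI := hφ (op n)
  rw [← cancel_mono (φ.app (op n)), tr_naturality φ h, e, comp_zero, zero_comp]

lemma proZero_of_epi {P Q : ARSys.PS C} (φ : P ⟶ Q) (hφ : ∀ n : ℕᵒᵖ, Epi (φ.app n))
    (hP : DerCA.IsProZero P) : DerCA.IsProZero Q := by
  intro n
  obtain ⟨m, h, e⟩ := hP n
  refine ⟨m, h, ?_⟩
  haveI := hφ (op m)
  rw [← cancel_epi (φ.app (op m)), ← tr_naturality φ h, e, zero_comp, comp_zero]

end General

section Tri

variable {D : Type u} [Category.{v} D] [Preadditive D] [HasZeroObject D] [HasShift D ℤ]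
    [∀ n : ℤ, (shiftFunctor D n).Additive] [Pretriangulated D]

set_option backward.defeqAttrib.useBackward true in
set_option backward.isDefEq.respectTransparency false in
/-- in a levelwise distinguished triangle of systems with pro-zero ends, the middle is pro-zero -/
lemma proZero_of_triangle (X Y Z : ARSys.PS D) (f : X ⟶ Y) (g : Y ⟶ Z)
    (h : Z ⟶ X ⋙ shiftFunctor D (1 : ℤ))
    (hT : ∀ n : ℕ, Triangle.mk (f.app (op n)) (g.app (op n)) (h.app (op n)) ∈
      distinguishedTriangles)
    (hX : DerCA.IsProZero X) (hZ : DerCA.IsProZero Z) : DerCA.IsProZero Y := by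
  intro n
  obtain ⟨n', hn', e1⟩ := hX n
  obtain ⟨m, hm, e2⟩ := hZ n'
  refine ⟨m, hn'.trans hm, ?_⟩
  have h1 : ARSys.tr Y hm ≫ g.app (op n') = 0 := by
    rw [tr_naturality g hm, e2, comp_zero]
  obtain ⟨φ, hφ⟩ : ∃ φ : Y.obj (op m) ⟶ X.obj (op n'), ARSys.tr Y hm = φ ≫ f.app (op n') :=
    Triangle.coyoneda_exact₂ _ (hT n') _ h1
  rw [← tr_comp Y hn' hm, hφ, Category.assoc, ← tr_naturality f hn', e1, zero_comp, comp_zero]

set_option backward.defeqAttrib.useBackward true in
set_option backward.isDefEq.respectTransparency false in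
/-- a levelwise map of systems can be completed to a system of distinguished triangles -/
lemma exists_cone_system {X Y : ARSys.PS D} (f : X ⟶ Y) :
    ∃ (W : ARSys.PS D) (g : Y ⟶ W) (h : W ⟶ X ⋙ shiftFunctor D (1 : ℤ)),
      ∀ n : ℕ, Triangle.mk (f.app (op n)) (g.app (op n)) (h.app (op n)) ∈
        distinguishedTriangles := by
  choose W₀ g₀ h₀ hT using fun n : ℕ => distinguished_cocone_triangle (f.app (op n))
  have hw : ∀ n : ℕ, ∃ w : W₀ (n + 1) ⟶ W₀ n,
      g₀ (n + 1) ≫ w = Y.map (homOfLE (n.le_add_right 1)).op ≫ g₀ n ∧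
      h₀ (n + 1) ≫ (X.map (homOfLE (n.le_add_right 1)).op)⟦(1 : ℤ)⟧' = w ≫ h₀ n := by
    intro n
    exact complete_distinguished_triangle_morphism _ _ (hT (n + 1)) (hT n)
      (X.map (homOfLE (n.le_add_right 1)).op) (Y.map (homOfLE (n.le_add_right 1)).op)
      (f.naturality _).symm
  choose w hw1 hw2 using hw
  refine ⟨Functor.ofOpSequence w, NatTrans.ofOpSequence (fun n => g₀ n) ?_,
    NatTrans.ofOpSequence (fun n => h₀ n) ?_, ?_⟩
  · intro n
    rw [Functor.ofOpSequence_map_homOfLE_succ]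
    exact (hw1 n).symm
  · intro n
    rw [Functor.ofOpSequence_map_homOfLE_succ]
    exact (hw2 n).symm
  · intro n
    exact hT n

end Tri

section Der

open DerivedCategory

variable {A : Type u} [Category.{v} A] [Abelian A] [HasDerivedCategory.{w} A]

/-- `H^a` is faithful on objects concentrated in degree `a` -/
lemma heart_map_injective (a : ℤ) {X Y : DerivedCategory A} [X.IsGE a] [X.IsLE a] [Y.IsGE a]
    [Y.IsLE a] {φ₁ φ₂ : X ⟶ Y}
    (h : (homologyFunctor A a).map φ₁ = (homologyFunctor A a).map φ₂) : φ₁ = φ₂ := by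
  obtain ⟨X₀, ⟨eX⟩⟩ := exists_iso_singleFunctor_obj_of_isGE_of_isLE X a
  obtain ⟨Y₀, ⟨eY⟩⟩ := exists_iso_singleFunctor_obj_of_isGE_of_isLE Y a
  obtain ⟨ψ₁, hψ₁⟩ := (singleFunctor A a).map_surjective (eX.inv ≫ φ₁ ≫ eY.hom)
  obtain ⟨ψ₂, hψ₂⟩ := (singleFunctor A a).map_surjective (eX.inv ≫ φ₂ ≫ eY.hom)
  haveI : (singleFunctor A a ⋙ homologyFunctor A a).Faithful :=
    Functor.Faithful.of_iso (singleFunctorCompHomologyFunctorIso A a).symm
  have h1 : (singleFunctor A a ⋙ homologyFunctor A a).map ψ₁ =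
      (singleFunctor A a ⋙ homologyFunctor A a).map ψ₂ := by
    rw [Functor.comp_map, Functor.comp_map, hψ₁, hψ₂]
    simp only [Functor.map_comp, h]
  have hψ : ψ₁ = ψ₂ := (singleFunctor A a ⋙ homologyFunctor A a).map_injective h1
  have h2 : eX.inv ≫ φ₁ ≫ eY.hom = eX.inv ≫ φ₂ ≫ eY.hom := by rw [← hψ₁, ← hψ₂, hψ]
  exact (cancel_mono eY.hom).1 ((cancel_epi eX.inv).1 h2)

/-- `H^a` is full on objects concentrated in degree `a` -/
lemma heart_map_surjective (a : ℤ) {X Y : DerivedCategory A} [X.IsGE a] [X.IsLE a] [Y.IsGE a]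
    [Y.IsLE a] (θ : (homologyFunctor A a).obj X ⟶ (homologyFunctor A a).obj Y) :
    ∃ φ : X ⟶ Y, (homologyFunctor A a).map φ = θ := by
  obtain ⟨X₀, ⟨eX⟩⟩ := exists_iso_singleFunctor_obj_of_isGE_of_isLE X a
  obtain ⟨Y₀, ⟨eY⟩⟩ := exists_iso_singleFunctor_obj_of_isGE_of_isLE Y a
  haveI : (singleFunctor A a ⋙ homologyFunctor A a).Full :=
    Functor.Full.of_iso (singleFunctorCompHomologyFunctorIso A a).symm
  obtain ⟨ψ, hψ⟩ := (singleFunctor A a ⋙ homologyFunctor A a).map_surjective
    ((homologyFunctor A a).map eX.inv ≫ θ ≫ (homologyFunctor A a).map eY.hom)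
  refine ⟨eX.hom ≫ (singleFunctor A a).map ψ ≫ eY.inv, ?_⟩
  rw [Functor.comp_map] at hψ
  have e1 : (homologyFunctor A a).map eX.hom ≫ (homologyFunctor A a).map eX.inv = 𝟙 _ := by
    rw [← Functor.map_comp, Iso.hom_inv_id, CategoryTheory.Functor.map_id]
  have e2 : (homologyFunctor A a).map eY.hom ≫ (homologyFunctor A a).map eY.inv = 𝟙 _ := by
    rw [← Functor.map_comp, Iso.hom_inv_id, CategoryTheory.Functor.map_id]
  rw [Functor.map_comp, Functor.map_comp, hψ]
  simp only [Category.assoc, e2, Category.comp_id, reassoc_of% e1]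

variable (A) in
/-- the canonical t-structure on the derived category -/
noncomputable abbrev tD : Triangulated.TStructure (DerivedCategory A) :=
  DerivedCategory.TStructure.t

lemma isZero_homology_truncLT (X : DerivedCategory A) (n i : ℤ) (hi : n ≤ i) :
    IsZero ((homologyFunctor A i).obj (((tD A).truncLT n).obj X)) :=
  isZero_of_isLE _ (n - 1) i (by lia)

lemma isZero_homology_truncGE (X : DerivedCategory A) (n i : ℤ) (hi : i < n) :
    IsZero ((homologyFunctor A i).obj (((tD A).truncGE n).obj X)) :=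
  isZero_of_isGE _ n i hi

lemma δ_naturality {T T' : Triangle (DerivedCategory A)} (φ : T ⟶ T') (n₀ n₁ : ℤ)
    (h : n₀ + 1 = n₁) :
    (homologyFunctor A n₀).map φ.hom₃ ≫ HomologySequence.δ T' n₀ n₁ h =
      HomologySequence.δ T n₀ n₁ h ≫ (homologyFunctor A n₁).map φ.hom₁ :=
  (homologyFunctor A 0).homologySequenceδ_naturality T T' φ n₀ n₁ h

lemma mono_homology_truncLTι (X : DerivedCategory A) (n i : ℤ) :
    Mono ((homologyFunctor A i).map (((tD A).truncLTι n).app X)) := by
  have hT := (tD A).triangleLTGE_distinguished n X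
  refine (HomologySequence.mono_homologyMap_mor₁_iff _ hT (i - 1) i (by lia)).2 ?_
  by_cases h : i - 1 < n
  · exact (isZero_homology_truncGE X n (i - 1) h).eq_of_src _ _
  · exact (isZero_homology_truncLT X n i (by lia)).eq_of_tgt _ _

lemma epi_homology_truncLTι (X : DerivedCategory A) (n i : ℤ) (hi : i < n) :
    Epi ((homologyFunctor A i).map (((tD A).truncLTι n).app X)) := by
  have hT := (tD A).triangleLTGE_distinguished n X
  refine (HomologySequence.epi_homologyMap_mor₁_iff _ hT i).2 ?_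
  exact (isZero_homology_truncGE X n i hi).eq_of_tgt _ _

lemma epi_homology_truncGEπ (X : DerivedCategory A) (n i : ℤ) :
    Epi ((homologyFunctor A i).map (((tD A).truncGEπ n).app X)) := by
  have hT := (tD A).triangleLTGE_distinguished n X
  refine (HomologySequence.epi_homologyMap_mor₂_iff _ hT i (i + 1) rfl).2 ?_
  by_cases h : i < n
  · exact (isZero_homology_truncGE X n i h).eq_of_src _ _
  · exact (isZero_homology_truncLT X n (i + 1) (by lia)).eq_of_tgt _ _

lemma mono_homology_truncGEπ (X : DerivedCategory A) (n i : ℤ) (hi : n ≤ i) :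
    Mono ((homologyFunctor A i).map (((tD A).truncGEπ n).app X)) := by
  have hT := (tD A).triangleLTGE_distinguished n X
  refine (HomologySequence.mono_homologyMap_mor₂_iff _ hT i).2 ?_
  exact (isZero_homology_truncLT X n i hi).eq_of_src _ _

lemma isIso_homology_truncLTι (X : DerivedCategory A) (n i : ℤ) (hi : i < n) :
    IsIso ((homologyFunctor A i).map (((tD A).truncLTι n).app X)) := by
  haveI := mono_homology_truncLTι X n i
  haveI := epi_homology_truncLTι X n i hi
  exact isIso_of_mono_of_epi _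

lemma isIso_homology_truncGEπ (X : DerivedCategory A) (n i : ℤ) (hi : n ≤ i) :
    IsIso ((homologyFunctor A i).map (((tD A).truncGEπ n).app X)) := by
  haveI := mono_homology_truncGEπ X n i hi
  haveI := epi_homology_truncGEπ X n i
  exact isIso_of_mono_of_epi _

lemma isZero_homology_truncLT_of_isZero (X : DerivedCategory A) (n i : ℤ)
    (h : IsZero ((homologyFunctor A i).obj X)) :
    IsZero ((homologyFunctor A i).obj (((tD A).truncLT n).obj X)) := by
  haveI := mono_homology_truncLTι X n i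
  exact IsZero.of_mono ((homologyFunctor A i).map (((tD A).truncLTι n).app X)) h

lemma isZero_homology_truncGE_of_isZero (X : DerivedCategory A) (n i : ℤ)
    (h : IsZero ((homologyFunctor A i).obj X)) :
    IsZero ((homologyFunctor A i).obj (((tD A).truncGE n).obj X)) := by
  haveI := epi_homology_truncGEπ X n i
  exact IsZero.of_epi ((homologyFunctor A i).map (((tD A).truncGEπ n).app X)) h

set_option backward.defeqAttrib.useBackward true in
set_option backward.isDefEq.respectTransparency false in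
lemma isZero_homology_cone {X Y W : DerivedCategory A} (f : X ⟶ Y) (g : Y ⟶ W)
    (h : W ⟶ X⟦(1 : ℤ)⟧) (hT : Triangle.mk f g h ∈ distinguishedTriangles) (i : ℤ)
    (hY : IsZero ((homologyFunctor A i).obj Y))
    (hX : IsZero ((homologyFunctor A (i + 1)).obj X)) :
    IsZero ((homologyFunctor A i).obj W) :=
  (HomologySequence.exact₃ _ hT i (i + 1) rfl).isZero_of_both_isZero hY hX

section Sys

variable (X : ARSys.PS (DerivedCategory A)) (n : ℤ)

/-- the system of truncations `τ_{<n} X_m` -/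
noncomputable abbrev ltSys : ARSys.PS (DerivedCategory A) := X ⋙ (tD A).truncLT n

/-- the system of truncations `τ_{≥n} X_m` -/
noncomputable abbrev geSys : ARSys.PS (DerivedCategory A) := X ⋙ (tD A).truncGE n

noncomputable def ltι : ltSys X n ⟶ X where
  app m := ((tD A).truncLTι n).app (X.obj m)
  naturality _ _ φ := ((tD A).truncLTι n).naturality (X.map φ)

noncomputable def geπ : X ⟶ geSys X n where
  app m := ((tD A).truncGEπ n).app (X.obj m)
  naturality _ _ φ := ((tD A).truncGEπ n).naturality (X.map φ)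

noncomputable def geδ : geSys X n ⟶ ltSys X n ⋙ shiftFunctor (DerivedCategory A) (1 : ℤ) where
  app m := ((tD A).truncGEδLT n).app (X.obj m)
  naturality _ _ φ := ((tD A).truncGEδLT n).naturality (X.map φ)

lemma truncSys_distinguished (m : ℕ) :
    Triangle.mk ((ltι X n).app (op m)) ((geπ X n).app (op m)) ((geδ X n).app (op m)) ∈
      distinguishedTriangles :=
  (tD A).triangleLTGE_distinguished n (X.obj (op m))

lemma mono_whisker_ltι (i : ℤ) (k : ℕᵒᵖ) :
    Mono ((Functor.whiskerRight (ltι X n) (homologyFunctor A i)).app k) :=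
  mono_homology_truncLTι (X.obj k) n i

lemma epi_whisker_geπ (i : ℤ) (k : ℕᵒᵖ) :
    Epi ((Functor.whiskerRight (geπ X n) (homologyFunctor A i)).app k) :=
  epi_homology_truncGEπ (X.obj k) n i

lemma isIso_whisker_ltι (i : ℤ) (hi : i < n) :
    IsIso (Functor.whiskerRight (ltι X n) (homologyFunctor A i)) := by
  haveI : ∀ k : ℕᵒᵖ, IsIso ((Functor.whiskerRight (ltι X n) (homologyFunctor A i)).app k) :=
    fun k => isIso_homology_truncLTι (X.obj k) n i hi
  exact NatIso.isIso_of_isIso_app _

lemma isIso_whisker_geπ (i : ℤ) (hi : n ≤ i) :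
    IsIso (Functor.whiskerRight (geπ X n) (homologyFunctor A i)) := by
  haveI : ∀ k : ℕᵒᵖ, IsIso ((Functor.whiskerRight (geπ X n) (homologyFunctor A i)).app k) :=
    fun k => isIso_homology_truncGEπ (X.obj k) n i hi
  exact NatIso.isIso_of_isIso_app _

end Sys

/-! ### pro-zero systems -/

lemma proZero_heart (W : ARSys.PS (DerivedCategory A)) (a : ℤ)
    (hW : ∀ (n : ℕ) (i : ℤ), i < a ∨ a < i →
      IsZero ((homologyFunctor A i).obj (W.obj (op n))))
    (hH : DerCA.IsProZero (W ⋙ homologyFunctor A a)) : DerCA.IsProZero W := by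
  haveI hGE : ∀ k : ℕᵒᵖ, (W.obj k).IsGE a := fun k =>
    (isGE_iff _ _).2 (fun i hi => hW k.unop i (Or.inl hi))
  haveI hLE : ∀ k : ℕᵒᵖ, (W.obj k).IsLE a := fun k =>
    (isLE_iff _ _).2 (fun i hi => hW k.unop i (Or.inr hi))
  intro n
  obtain ⟨m, hm, e⟩ := hH n
  refine ⟨m, hm, ?_⟩
  apply heart_map_injective a
  rw [Functor.map_zero]
  exact e

lemma proZero_of_homology : ∀ (d : ℕ) (W : ARSys.PS (DerivedCategory A)) (a : ℤ),
    (∀ (n : ℕ) (i : ℤ), i < a ∨ a + d < i →
      IsZero ((homologyFunctor A i).obj (W.obj (op n)))) →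
    (∀ i : ℤ, DerCA.IsProZero (W ⋙ homologyFunctor A i)) → DerCA.IsProZero W := by
  intro d
  induction d with
  | zero =>
    intro W a hW hH
    refine proZero_heart W a (fun n i hi => hW n i ?_) (hH a)
    rcases hi with hi | hi
    · exact Or.inl hi
    · exact Or.inr (by push_cast; lia)
  | succ d ih =>
    intro W a hW hH
    refine proZero_of_triangle (ltSys W (a + 1)) W (geSys W (a + 1)) (ltι W (a + 1))
      (geπ W (a + 1)) (geδ W (a + 1)) (truncSys_distinguished W (a + 1)) ?_ ?_
    · refine proZero_heart _ a ?_ ?_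
      · intro n i hi
        rcases hi with hi | hi
        · exact isZero_homology_truncLT_of_isZero _ _ _ (hW n i (Or.inl hi))
        · exact isZero_homology_truncLT _ _ _ (by lia)
      · exact proZero_of_mono (Functor.whiskerRight (ltι W (a + 1)) (homologyFunctor A a))
          (mono_whisker_ltι W (a + 1) a) (hH a)
    · refine ih _ (a + 1) ?_ ?_
      · intro n i hi
        rcases hi with hi | hi
        · exact isZero_homology_truncGE _ _ _ hi
        · exact isZero_homology_truncGE_of_isZero _ _ _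
            (hW n i (Or.inr (by push_cast; lia)))
      · intro i
        exact proZero_of_epi (Functor.whiskerRight (geπ W (a + 1)) (homologyFunctor A i))
          (epi_whisker_geπ W (a + 1) i) (hH i)

set_option backward.defeqAttrib.useBackward true in
set_option backward.isDefEq.respectTransparency false in
/-- the cohomology systems of the cones of a map inducing pro-isomorphisms on cohomology are
pro-zero -/
lemma proZero_homology_cone (X Y W : ARSys.PS (DerivedCategory A)) (f : X ⟶ Y) (g : Y ⟶ W)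
    (h : W ⟶ X ⋙ shiftFunctor (DerivedCategory A) (1 : ℤ))
    (hT : ∀ n : ℕ, Triangle.mk (f.app (op n)) (g.app (op n)) (h.app (op n)) ∈
      distinguishedTriangles) (p : ℤ)
    (h0 : DerCA.IsProIso (Functor.whiskerRight f (homologyFunctor A p)))
    (h1 : DerCA.IsProIso (Functor.whiskerRight f (homologyFunctor A (p + 1)))) :
    DerCA.IsProZero (W ⋙ homologyFunctor A p) := by
  intro n
  obtain ⟨n₁, hn₁, b, -, hb⟩ := h0 n
  obtain ⟨m, hm, b', hb', -⟩ := h1 n₁
  refine ⟨m, hn₁.trans hm, ?_⟩
  let φ : Triangle.mk (f.app (op m)) (g.app (op m)) (h.app (op m)) ⟶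
      Triangle.mk (f.app (op n₁)) (g.app (op n₁)) (h.app (op n₁)) :=
    { hom₁ := ARSys.tr X hm
      hom₂ := ARSys.tr Y hm
      hom₃ := ARSys.tr W hm
      comm₁ := (tr_naturality f hm).symm
      comm₂ := (tr_naturality g hm).symm
      comm₃ := (h.naturality (homOfLE hm).op).symm }
  have hδ : (homologyFunctor A p).map (ARSys.tr W hm) ≫
      HomologySequence.δ (Triangle.mk (f.app (op n₁)) (g.app (op n₁)) (h.app (op n₁)))
        p (p + 1) rfl =
      HomologySequence.δ (Triangle.mk (f.app (op m)) (g.app (op m)) (h.app (op m)))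
        p (p + 1) rfl ≫ (homologyFunctor A (p + 1)).map (ARSys.tr X hm) :=
    δ_naturality φ p (p + 1) rfl
  have e1 : (homologyFunctor A (p + 1)).map (ARSys.tr X hm) =
      (homologyFunctor A (p + 1)).map (f.app (op m)) ≫ b' := hb'.symm
  have e2 : HomologySequence.δ (Triangle.mk (f.app (op m)) (g.app (op m)) (h.app (op m)))
      p (p + 1) rfl ≫ (homologyFunctor A (p + 1)).map (f.app (op m)) = 0 :=
    HomologySequence.δ_comp _ (hT m) p (p + 1) rfl
  have s1 : (homologyFunctor A p).map (ARSys.tr W hm) ≫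
      HomologySequence.δ (Triangle.mk (f.app (op n₁)) (g.app (op n₁)) (h.app (op n₁)))
        p (p + 1) rfl = 0 := by
    rw [hδ, e1, ← Category.assoc, e2, zero_comp]
  have e3 : (homologyFunctor A p).map (ARSys.tr Y hn₁) =
      b ≫ (homologyFunctor A p).map (f.app (op n)) := hb.symm
  have s2 : (homologyFunctor A p).map (g.app (op n₁)) ≫
      (homologyFunctor A p).map (ARSys.tr W hn₁) = 0 := by
    rw [← Functor.map_comp, ← tr_naturality g hn₁, Functor.map_comp, e3, Category.assoc,
      ← Functor.map_comp]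
    have := comp_distTriang_mor_zero₁₂ _ (hT n)
    dsimp at this
    rw [this, Functor.map_zero, comp_zero]
  have ex := HomologySequence.exact₃ _ (hT n₁) p (p + 1) rfl
  have s3 : (homologyFunctor A p).map (ARSys.tr W hm) ≫
      (homologyFunctor A p).map (ARSys.tr W hn₁) = 0 := ex.comp_eq_zero s1 s2
  show (homologyFunctor A p).map (ARSys.tr W (hn₁.trans hm)) = 0
  rw [← tr_comp W hn₁ hm, Functor.map_comp]
  exact s3

/-! ### essentially constant systems -/

lemma essConstant_heart_aux (X : ARSys.PS (DerivedCategory A)) (a : ℤ)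
    [hGE : ∀ k : ℕᵒᵖ, (X.obj k).IsGE a] [hLE : ∀ k : ℕᵒᵖ, (X.obj k).IsLE a]
    (B : A) (c : (Functor.const ℕᵒᵖ).obj B ⟶ X ⋙ homologyFunctor A a)
    (hc : DerCA.IsEssConstant (X ⋙ homologyFunctor A a) B c)
    (L : DerivedCategory A) [L.IsGE a] [L.IsLE a] (e₀ : (homologyFunctor A a).obj L ≅ B) :
    ∃ c' : (Functor.const ℕᵒᵖ).obj L ⟶ X, DerCA.IsEssConstant X L c' := by
  obtain ⟨i₀, s, hs, hk⟩ := hc
  let cc : ∀ m : ℕᵒᵖ, B ⟶ (homologyFunctor A a).obj (X.obj m) := fun m => c.app m
  have hcc : ∀ {m m' : ℕᵒᵖ} (φ : m ⟶ m'),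
      cc m ≫ (homologyFunctor A a).map (X.map φ) = cc m' := by
    intro m m' φ
    have := c.naturality φ
    simp only [Functor.const_obj_obj, Functor.const_obj_map, Category.id_comp,
      Functor.comp_map] at this
    exact this.symm
  choose γ hγ using fun m : ℕᵒᵖ =>
    heart_map_surjective a (X := L) (Y := X.obj m) (e₀.hom ≫ cc m)
  obtain ⟨s', hs'⟩ := heart_map_surjective a (X := X.obj (op i₀)) (Y := L) (s ≫ e₀.inv)
  have hnat : ∀ (m m' : ℕᵒᵖ) (φ : m ⟶ m'),
      ((Functor.const ℕᵒᵖ).obj L).map φ ≫ γ m' = γ m ≫ X.map φ := by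
    intro m m' φ
    change 𝟙 L ≫ γ m' = γ m ≫ X.map φ
    rw [Category.id_comp]
    apply heart_map_injective a
    rw [Functor.map_comp, hγ, hγ, Category.assoc, hcc φ]
  refine ⟨{ app := γ, naturality := hnat }, i₀, s', ?_, ?_⟩
  · change γ (op i₀) ≫ s' = 𝟙 L
    apply heart_map_injective a
    have hs2 : cc (op i₀) ≫ s = 𝟙 B := hs
    rw [Functor.map_comp, hγ, hs', CategoryTheory.Functor.map_id, Category.assoc,
      reassoc_of% hs2, Iso.hom_inv_id]
  · intro j
    obtain ⟨k, hi, hj, E⟩ := hk j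
    refine ⟨k, hi, hj, ?_⟩
    change ARSys.tr X hj = ARSys.tr X hi ≫ s' ≫ γ (op j)
    apply heart_map_injective a
    have E' : (homologyFunctor A a).map (ARSys.tr X hj) =
        (homologyFunctor A a).map (ARSys.tr X hi) ≫ s ≫ cc (op j) := E
    rw [Functor.map_comp, Functor.map_comp, hs', hγ, E']
    simp only [Category.assoc, Iso.inv_hom_id_assoc]

lemma essConstant_heart (X : ARSys.PS (DerivedCategory A)) (a : ℤ)
    (hX : ∀ (n : ℕ) (i : ℤ), i < a ∨ a < i →
      IsZero ((homologyFunctor A i).obj (X.obj (op n))))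
    (hH : ∃ (B : A) (c : (Functor.const ℕᵒᵖ).obj B ⟶ X ⋙ homologyFunctor A a),
      DerCA.IsEssConstant (X ⋙ homologyFunctor A a) B c) :
    ∃ (L : DerivedCategory A) (c : (Functor.const ℕᵒᵖ).obj L ⟶ X),
      DerCA.IsEssConstant X L c := by
  haveI hGE : ∀ k : ℕᵒᵖ, (X.obj k).IsGE a := fun k =>
    (isGE_iff _ _).2 (fun i hi => hX k.unop i (Or.inl hi))
  haveI hLE : ∀ k : ℕᵒᵖ, (X.obj k).IsLE a := fun k =>
    (isLE_iff _ _).2 (fun i hi => hX k.unop i (Or.inr hi))
  obtain ⟨B, c, hc⟩ := hH
  exact ⟨(singleFunctor A a).obj B, essConstant_heart_aux X a B c hc _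
    ((singleFunctorCompHomologyFunctorIso A a).app B)⟩

end Der

end Groth.Agent.H33
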