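import Mathlib

/-!
# Helper library (helper33, for helper34's S11886 squad): (Q4) Eisenstein residue relation.
-/

set_option autoImplicit false
universe u
open IsLocalRing

namespace Groth.Agent.H33.Eisenstein

variable {A B : Type u} [CommRing A] [IsDomain A] [IsDiscreteValuationRing A]
  [CommRing B] [IsDomain B] [IsDiscreteValuationRing B] [Algebra A B]
  [IsLocalHom (algebraMap A B)] [Module.Finite A B] [Module.Free A B]

theorem eisenstein_residue (hinj : Function.Injective (algebraMap A B))
    (ϖA : A) (hϖA : Irreducible ϖA) (ϖB : B) (hϖB : Irreducible ϖB) (w : Bˣ)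
    (hw : algebraMap A B ϖA = (w : B) * ϖB ^ Module.finrank A B) (c : Aˣ)
    (hc : Algebra.norm A ϖB = (c : A) * ϖA)
    (hχ : ∀ j < Module.finrank A B,
      (LinearMap.charpoly (Algebra.lmul A B ϖB)).coeff j ∈ maximalIdeal A) :
    residue B (algebraMap A B (c : A)) * residue B (w : B) =
      (-1) ^ (Module.finrank A B + 1) := by
  classical
  set n := Module.finrank A B with hn
  set χ := LinearMap.charpoly (Algebra.lmul A B ϖB) with hχdef
  have hmonic : χ.Monic := LinearMap.charpoly_monic _
  have hdeg : χ.natDegree = n := LinearMap.charpoly_natDegree _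
  -- Cayley–Hamilton
  have hCH : Polynomial.aeval ϖB χ = 0 := by
    have h1 := LinearMap.aeval_self_charpoly (Algebra.lmul A B ϖB)
    have h2 : Polynomial.aeval (Algebra.lmul A B ϖB) χ (1 : B) = 0 := by
      rw [h1]; rfl
    have h3 : ∀ p : Polynomial A, Polynomial.aeval (Algebra.lmul A B ϖB) p (1 : B) =
        Polynomial.aeval ϖB p := by
      intro p
      rw [Polynomial.aeval_algHom_apply (Algebra.lmul A B) ϖB p]
      simp
    rw [h3] at h2
    exact h2
  have hnpos : 0 < n := by
    rcases Nat.eq_zero_or_pos n with h0 | h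
    · exfalso
      have hχ1 : χ = 1 := by
        apply Polynomial.eq_one_of_monic_natDegree_zero hmonic
        rw [hdeg, h0]
      rw [hχ1, map_one] at hCH
      exact one_ne_zero hCH
    · exact h
  obtain ⟨m, hm⟩ : ∃ m, n = m + 1 := ⟨n - 1, by omega⟩
  -- coefficients are multiples of ϖA
  have hmax : maximalIdeal A = Ideal.span {ϖA} := hϖA.maximalIdeal_eq
  have h1 : ∀ j, j < n → ∃ a', χ.coeff j = a' * ϖA := by
    intro j hj
    have := hχ j hj
    rw [hmax, Ideal.mem_span_singleton'] at this
    obtain ⟨a', ha'⟩ := this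
    exact ⟨a', ha'.symm⟩
  choose! a' ha' using h1
  -- the constant coefficient
  have h0 : χ.coeff 0 = (-1) ^ n * ((c : A) * ϖA) := by
    have hd := LinearMap.det_eq_sign_charpoly_coeff (Algebra.lmul A B ϖB)
    rw [← hc, Algebra.norm_apply, hd]
    rw [← mul_assoc, ← mul_pow]
    norm_num
    rfl
  -- expand
  rw [Polynomial.aeval_eq_sum_range' (show χ.natDegree < n + 1 by omega), Finset.sum_range_succ,
    ← hdeg, hmonic.coeff_natDegree, hdeg, one_smul] at hCH
  rw [show Finset.range n = Finset.range (m + 1) by rw [hm], Finset.sum_range_succ'] at hCH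
  have hterm : ∀ i ∈ Finset.range m, χ.coeff (i + 1) • ϖB ^ (i + 1) =
      ϖB ^ n * (algebraMap A B (a' (i + 1)) * (w : B) * ϖB ^ (i + 1)) := by
    intro i hi
    have hi' : i + 1 < n := by
      rw [Finset.mem_range] at hi; omega
    rw [ha' (i + 1) hi', Algebra.smul_def, map_mul, hw]
    ring
  rw [Finset.sum_congr rfl hterm, ← Finset.mul_sum, pow_zero, h0, Algebra.smul_def, map_mul, map_mul,
    hw, mul_one] at hCH
  have hfac : ϖB ^ n * (∑ i ∈ Finset.range m, algebraMap A B (a' (i + 1)) * (w : B) * ϖB ^ (i + 1) +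
      algebraMap A B ((-1) ^ n) * algebraMap A B (c : A) * (w : B) + 1) = 0 := by
    rw [← hCH]; ring
  have hz := (mul_eq_zero.1 hfac).resolve_left (pow_ne_zero _ hϖB.ne_zero)
  have hres := congrArg (residue B) hz
  have hϖ0 : residue B ϖB = 0 := by
    rw [residue_eq_zero_iff, mem_maximalIdeal, mem_nonunits_iff]
    exact hϖB.not_isUnit
  rw [map_add, map_add, map_sum, map_one, map_zero] at hres
  have hsum0 : ∑ i ∈ Finset.range m, residue B (algebraMap A B (a' (i + 1)) * (w : B) * ϖB ^ (i + 1)) = 0 := by
    apply Finset.sum_eq_zero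
    intro i _
    rw [map_mul, map_pow, hϖ0, pow_succ, mul_zero, mul_zero]
  rw [hsum0, zero_add, map_mul, map_mul, map_pow, map_neg, map_one, map_pow, map_neg, map_one] at hres
  have hs : ((-1 : ResidueField B) ^ n) * ((-1) ^ n) = 1 := by
    rw [← mul_pow]; norm_num
  linear_combination ((-1 : ResidueField B) ^ n) * hres -
    (residue B (algebraMap A B (c : A)) * residue B (w : B)) * hs

end Groth.Agent.H33.Eisenstein
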