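import Mathlib

set_option autoImplicit false
universe u
open CategoryTheory CategoryTheory.Limits AlgebraicGeometry Topology

namespace Groth.Agent.H33.EtCons_P7

theorem isRetrocompact_preimage_of_isQuasiSeparated {X : Type*} [TopologicalSpace X] (s t : Set X)
    (hs : IsOpen s) (hqs : IsQuasiSeparated s) (ht : IsOpen t) (hts : t ⊆ s) (htc : IsCompact t) :
    IsRetrocompact ((Subtype.val : ↥s → X) ⁻¹' t) := by
  haveI : QuasiSeparatedSpace ↥s := (isQuasiSeparated_iff_quasiSeparatedSpace s hs).mp hqs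
  have hWo : IsOpen ((Subtype.val : ↥s → X) ⁻¹' t) := ht.preimage continuous_subtype_val
  have hWc : IsCompact ((Subtype.val : ↥s → X) ⁻¹' t) := by
    rw [Topology.IsEmbedding.subtypeVal.isCompact_iff, Subtype.image_preimage_coe,
      Set.inter_eq_right.mpr hts]
    exact htc
  intro K hK hKo
  exact QuasiSeparatedSpace.inter_isCompact _ _ hWo hWc hKo hK

theorem isRetrocompact_of_isAffineOpen {X : Scheme.{u}} (U V : X.Opens) (hU : IsAffineOpen U)
    (hVU : V ≤ U) (hV : IsCompact (V : Set X)) :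
    IsRetrocompact ((Subtype.val : ↥(U : Set X) → X) ⁻¹' (V : Set X)) :=
  isRetrocompact_preimage_of_isQuasiSeparated (U : Set X) (V : Set X) U.2 hU.isQuasiSeparated V.2
    hVU hV

theorem isRetrocompact_top {X : Scheme.{u}} [QuasiSeparatedSpace X] (V : X.Opens)
    (hV : IsCompact (V : Set X)) :
    IsRetrocompact ((Subtype.val : ↥((⊤ : X.Opens) : Set X) → X) ⁻¹' (V : Set X)) :=
  isRetrocompact_preimage_of_isQuasiSeparated ((⊤ : X.Opens) : Set X) (V : Set X) (⊤ : X.Opens).2
    isQuasiSeparated_univ V.2 (fun _ _ => trivial) hV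

end Groth.Agent.H33.EtCons_P7
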