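import Mathlib

set_option autoImplicit false
universe u
open CategoryTheory CategoryTheory.Limits AlgebraicGeometry Topology

namespace Groth.Agent.H33.EtCons_P8

theorem exists_affine_cover_pull {X Y : Scheme.{u}} (f : X ⟶ Y) (U : X.Opens)
    (hU : IsCompact (U : Set X)) {ι : Type u} (O : ι → X.Opens) (hO : U ≤ ⨆ i, O i) :
    ∃ (n : ℕ) (Uk : Fin n → X.Opens) (Vk : Fin n → Y.Opens) (i : Fin n → ι),
      (∀ k, IsAffineOpen (Uk k)) ∧ (∀ k, IsAffineOpen (Vk k)) ∧ (∀ k, Uk k ≤ f ⁻¹ᵁ Vk k) ∧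
      (∀ k, Uk k ≤ O (i k)) ∧ ⨆ k, Uk k = U := by
  classical
  have key : ∀ x : U, ∃ (i : ι) (V : Y.Opens) (W : X.Opens), IsAffineOpen V ∧ IsAffineOpen W ∧
      (x : X) ∈ W ∧ W ≤ U ∧ W ≤ O i ∧ W ≤ f ⁻¹ᵁ V := by
    intro x
    have hx : (x : X) ∈ ⨆ i, O i := hO x.2
    obtain ⟨i, hi⟩ := TopologicalSpace.Opens.mem_iSup.mp hx
    obtain ⟨V, hVaff, hfxV, -⟩ := TopologicalSpace.Opens.isBasis_iff_nbhd.mp Y.isBasis_affineOpens
      (show f.base x ∈ (⊤ : Y.Opens) from trivial)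
    have hxW : (x : X) ∈ U ⊓ O i ⊓ f ⁻¹ᵁ V := ⟨⟨x.2, hi⟩, hfxV⟩
    obtain ⟨W, hWaff, hxW', hWle⟩ :=
      TopologicalSpace.Opens.isBasis_iff_nbhd.mp X.isBasis_affineOpens hxW
    exact ⟨i, V, W, hVaff, hWaff, hxW', hWle.trans (inf_le_left.trans inf_le_left),
      hWle.trans (inf_le_left.trans inf_le_right), hWle.trans inf_le_right⟩
  choose i V W hV hW hxW hWU hWO hWV using key
  obtain ⟨t, ht⟩ := hU.elim_finite_subcover (fun x : U => (W x : Set X)) (fun x => (W x).2)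
    (fun y hy => Set.mem_iUnion.mpr ⟨⟨y, hy⟩, hxW ⟨y, hy⟩⟩)
  refine ⟨t.card, fun k => W (t.equivFin.symm k).1, fun k => V (t.equivFin.symm k).1,
    fun k => i (t.equivFin.symm k).1, fun k => hW _, fun k => hV _, fun k => hWV _,
    fun k => hWO _, ?_⟩
  apply le_antisymm
  · exact iSup_le fun k => hWU _
  · intro y hy
    obtain ⟨x, hx⟩ := Set.mem_iUnion.mp (ht hy)
    obtain ⟨hxt, hyW⟩ := Set.mem_iUnion.mp hx
    refine TopologicalSpace.Opens.mem_iSup.mpr ⟨t.equivFin ⟨x, hxt⟩, ?_⟩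
    simpa using hyW

end Groth.Agent.H33.EtCons_P8
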