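import Mathlib
import Groth.Prelude
import Groth.Agent.H94.EffCartierDense

set_option autoImplicit false
universe u
open CategoryTheory CategoryTheory.Limits AlgebraicGeometry

namespace Groth.Agent.H33.FB_TR1

theorem TR1 {X Y : Scheme.{u}} (f : X ⟶ Y) (L : Y.IdealSheafData)
    (hiso : IsIso (f ∣_ L.support.compl))
    (U : Y.affineOpens) (hV : IsAffineOpen (f ⁻¹ᵁ U.1)) (t : Γ(Y, U.1))
    (ht : L.ideal U = Ideal.span {t}) (a : Γ(X, f ⁻¹ᵁ U.1)) :
    ∃ (k : ℕ) (b : Γ(Y, U.1)), (f.app U.1).hom t ^ k * a = (f.app U.1).hom b := by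
  set W : Y.Opens := L.support.compl with hW
  have hOW : Y.basicOpen t ≤ W := by
    rw [← Groth.Agent.H94.EffCartierDense.compl_inf_eq_basicOpen L U t ht]
    exact inf_le_left
  set V : W.toScheme.Opens := W.ι ⁻¹ᵁ (Y.basicOpen t) with hVdef
  have hO'0 : W.ι ''ᵁ V = Y.basicOpen t := by
    rw [hVdef, Scheme.Hom.image_preimage_eq_opensRange_inf, Scheme.Opens.opensRange_ι]
    exact inf_eq_right.mpr hOW
  -- f.app O' is an isomorphism
  have hisoApp0 : IsIso (f.app (W.ι ''ᵁ V)) := by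
    have h1 : IsIso ((f ∣_ W).app V) := inferInstance
    rw [morphismRestrict_app f W V] at h1
    exact @IsIso.of_isIso_comp_right _ _ _ _ _ (f.app (W.ι ''ᵁ V))
      (X.presheaf.map (eqToHom (image_morphismRestrict_preimage f W V)).op) inferInstance h1
  obtain ⟨O', hO', hisoApp⟩ : ∃ O' : Y.Opens, O' = Y.basicOpen t ∧ IsIso (f.app O') :=
    ⟨W.ι ''ᵁ V, hO'0, hisoApp0⟩
  haveI := hisoApp
  have hle : O' ≤ U.1 := hO' ▸ Y.basicOpen_le t
  let iY : O' ⟶ U.1 := homOfLE hle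
  let iX : f ⁻¹ᵁ O' ⟶ f ⁻¹ᵁ U.1 := (TopologicalSpace.Opens.map f.base).map iY
  have hP' : f ⁻¹ᵁ O' = X.basicOpen ((f.app U.1).hom t) := by
    rw [hO', Scheme.preimage_basicOpen]
  have locY := U.2.isLocalization_of_eq_basicOpen t iY hO'
  have locX := hV.isLocalization_of_eq_basicOpen ((f.app U.1).hom t) iX hP'
  have hnat : ∀ s : Γ(Y, U.1), (f.app O').hom ((Y.presheaf.map iY.op).hom s) =
      (X.presheaf.map iX.op).hom ((f.app U.1).hom s) := by
    intro s
    have h2 : (Y.presheaf.map iY.op ≫ f.app O').hom s =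
        (f.app U.1 ≫ X.presheaf.map iX.op).hom s := by
      rw [Scheme.Hom.naturality f iY.op]; rfl
    exact h2
  -- surjectivity of f.app O'
  obtain ⟨b', hb'⟩ : ∃ b' : Γ(Y, O'), (f.app O').hom b' = (X.presheaf.map iX.op).hom a := by
    refine ⟨(inv (f.app O')).hom ((X.presheaf.map iX.op).hom a), ?_⟩
    have : inv (f.app O') ≫ f.app O' = 𝟙 _ := IsIso.inv_hom_id _
    have h2 := congrArg (fun g => g.hom ((X.presheaf.map iX.op).hom a)) this
    simpa using h2
  -- write b' as a fraction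
  obtain ⟨n, b, hnb⟩ : ∃ (n : ℕ) (b : Γ(Y, U.1)),
      b' * (Y.presheaf.map iY.op).hom t ^ n = (Y.presheaf.map iY.op).hom b := by
    letI := (Y.presheaf.map iY.op).hom.toAlgebra
    haveI := locY
    exact IsLocalization.Away.surj t b'
  have h3 : (X.presheaf.map iX.op).hom (a * (f.app U.1).hom t ^ n) =
      (X.presheaf.map iX.op).hom ((f.app U.1).hom b) := by
    have := congrArg (f.app O').hom hnb
    rw [map_mul, map_pow, hnat, hnat, hb'] at this
    rw [map_mul, map_pow]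
    exact this
  obtain ⟨m, hm⟩ : ∃ m : ℕ, (f.app U.1).hom t ^ m * (a * (f.app U.1).hom t ^ n) =
      (f.app U.1).hom t ^ m * (f.app U.1).hom b := by
    letI := (X.presheaf.map iX.op).hom.toAlgebra
    haveI := locX
    have h4 := (IsLocalization.eq_iff_exists (Submonoid.powers ((f.app U.1).hom t))
      Γ(X, f ⁻¹ᵁ O')).mp h3
    obtain ⟨⟨c, m, rfl⟩, hc⟩ := h4
    exact ⟨m, hc⟩
  refine ⟨m + n, t ^ m * b, ?_⟩
  rw [map_mul, map_pow, ← hm, pow_add]
  ring

end Groth.Agent.H33.FB_TR1
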