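import Mathlib
import Groth.Prelude
import Groth.Agent.H94.EffCartierDense

set_option autoImplicit false
universe u
open CategoryTheory CategoryTheory.Limits AlgebraicGeometry

namespace Groth.Agent.H33.FB_TR2

theorem TR2 {X Y : Scheme.{u}} [IsReduced X] (f : X ⟶ Y) (L : Y.IdealSheafData)
    (hdense : Dense (f.base ⁻¹' ((L.support : Set Y)ᶜ)))
    (U : Y.affineOpens) (hV : IsAffineOpen (f ⁻¹ᵁ U.1)) (t : Γ(Y, U.1))
    (ht : L.ideal U = Ideal.span {t}) :
    (f.app U.1).hom t ∈ nonZeroDivisors Γ(X, f ⁻¹ᵁ U.1) := by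
  rw [mem_nonZeroDivisors_iff_right]
  intro a ha
  rw [← AlgebraicGeometry.basicOpen_eq_bot_iff]
  by_contra hne
  have hne' : ((X.basicOpen a : X.Opens) : Set X).Nonempty := by
    rw [Set.nonempty_iff_ne_empty]
    intro h
    apply hne
    apply TopologicalSpace.Opens.ext
    simpa using h
  obtain ⟨x, hxa, hxd⟩ := hdense.inter_open_nonempty _ (X.basicOpen a).2 hne'
  have hxU : x ∈ f ⁻¹ᵁ U.1 := X.basicOpen_le a hxa
  have h1 : f.base x ∈ L.support.compl ⊓ U.1 := ⟨hxd, hxU⟩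
  rw [Groth.Agent.H94.EffCartierDense.compl_inf_eq_basicOpen L U t ht] at h1
  have h2 : x ∈ f ⁻¹ᵁ (Y.basicOpen t) := h1
  rw [Scheme.preimage_basicOpen] at h2
  have hmem : x ∈ X.basicOpen (a * (f.app U.1).hom t) := by
    rw [Scheme.basicOpen_mul]
    exact ⟨hxa, h2⟩
  rw [ha, Scheme.basicOpen_zero] at hmem
  exact hmem

end Groth.Agent.H33.FB_TR2
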