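import Groth.Agent.H33.CompactRetract

/-!
# Objects are filtered colimits of finitely presented objects (helper33)

`A` abelian with small coproducts, `G : β → A` a separating family of objects such that each
`Hom(G b, -)` commutes with small coproducts.  Then every object `F` is the colimit of a small
filtered diagram of cokernels of maps between finite coproducts of members of the family
(`main`).
-/

set_option autoImplicit false
universe v u
open CategoryTheory CategoryTheory.Limits Opposite

namespace Groth.Agent.H33.FilPres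

open Groth.Agent.H33.CoprodSect Groth.Agent.H33.CompactRetract

attribute [local instance] Abelian.hasFiniteBiproducts

variable {A : Type u} [Category.{v} A] [Abelian A] [HasCoproducts.{v} A]

/-! ### finite sub-coproducts -/
section Sub

variable {I : Type v} (M : I → A)

/-- the chosen colimit cofan -/
noncomputable abbrev cof : Cofan M := Cofan.mk (∐ M) (Sigma.ι M)

/-- the chosen colimit cofan is a colimit -/
noncomputable abbrev hcof : IsColimit (cof M) := coproductIsCoproduct M

/-- projection onto a summand -/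
noncomputable def pr (j : I) : ∐ M ⟶ M j := prj (cof M) (hcof M) j

/-- idempotent attached to a finite set of indices -/
noncomputable def ee (S : Finset I) : ∐ M ⟶ ∐ M := e (cof M) (hcof M) S

lemma ι_pr_self (j : I) : Sigma.ι M j ≫ pr M j = 𝟙 _ := inj_prj_self (cof M) (hcof M) j

lemma ι_pr_of_ne {i j : I} (h : i ≠ j) : Sigma.ι M i ≫ pr M j = 0 :=
  inj_prj_of_ne (cof M) (hcof M) h

lemma ee_eq (S : Finset I) : ee M S = ∑ j ∈ S, pr M j ≫ Sigma.ι M j := rfl

lemma comp_ee_of_subset {X : A} (g : X ⟶ ∐ M) {t t' : Finset I} (h : t ⊆ t')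
    (hg : g ≫ ee M t = g) : g ≫ ee M t' = g :=
  comp_e_of_subset (cof M) (hcof M) g h hg

/-- the coproduct of the summands indexed by a finite set -/
noncomputable abbrev sub (S : Finset I) : A := ∐ fun i : S => M i.1

/-- inclusion of a finite sub-coproduct -/
noncomputable def subIncl (S : Finset I) : sub M S ⟶ ∐ M :=
  Sigma.desc (fun i : S => Sigma.ι M i.1)

/-- transition maps between finite sub-coproducts -/
noncomputable def subMap {S S' : Finset I} (h : S ⊆ S') : sub M S ⟶ sub M S' :=
  Sigma.desc (fun i : S => Sigma.ι (fun i : S' => M i.1) ⟨i.1, h i.2⟩)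

@[reassoc (attr := simp)]
lemma ι_subIncl (S : Finset I) (i : S) :
    Sigma.ι (fun i : S => M i.1) i ≫ subIncl M S = Sigma.ι M i.1 := by
  unfold subIncl
  rw [Sigma.ι_desc]

@[reassoc (attr := simp)]
lemma ι_subMap {S S' : Finset I} (h : S ⊆ S') (i : S) :
    Sigma.ι (fun i : S => M i.1) i ≫ subMap M h =
      Sigma.ι (fun i : S' => M i.1) ⟨i.1, h i.2⟩ := by
  unfold subMap
  rw [Sigma.ι_desc]

@[reassoc (attr := simp)]
lemma subMap_subIncl {S S' : Finset I} (h : S ⊆ S') :
    subMap M h ≫ subIncl M S' = subIncl M S := by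
  refine Sigma.hom_ext _ _ (fun i => ?_)
  rw [ι_subMap_assoc, ι_subIncl, ι_subIncl]

@[simp]
lemma subMap_refl {S : Finset I} (h : S ⊆ S) : subMap M h = 𝟙 _ := by
  refine Sigma.hom_ext _ _ (fun i => ?_)
  rw [ι_subMap, Category.comp_id]

@[reassoc (attr := simp)]
lemma subMap_trans {S S' S'' : Finset I} (h : S ⊆ S') (h' : S' ⊆ S'') :
    subMap M h ≫ subMap M h' = subMap M (h.trans h') := by
  refine Sigma.hom_ext _ _ (fun i => ?_)
  rw [ι_subMap_assoc, ι_subMap, ι_subMap]

/-- projection onto a finite sub-coproduct -/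
noncomputable def subProj (S : Finset I) : ∐ M ⟶ sub M S :=
  ∑ j ∈ S.attach, pr M j.1 ≫ Sigma.ι (fun i : S => M i.1) j

lemma subProj_subIncl (S : Finset I) : subProj M S ≫ subIncl M S = ee M S := by
  unfold subProj
  rw [Preadditive.sum_comp, ee_eq, ← Finset.sum_attach S (fun j => pr M j ≫ Sigma.ι M j)]
  refine Finset.sum_congr rfl (fun j _ => ?_)
  rw [Category.assoc, ι_subIncl]

lemma subIncl_subProj (S : Finset I) : subIncl M S ≫ subProj M S = 𝟙 _ := by
  classical
  refine Sigma.hom_ext _ _ (fun i => ?_)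
  rw [ι_subIncl_assoc, Category.comp_id]
  unfold subProj
  rw [Preadditive.comp_sum, Finset.sum_eq_single i]
  · rw [← Category.assoc, ι_pr_self, Category.id_comp]
  · intro j _ hji
    rw [← Category.assoc, ι_pr_of_ne M (fun h => hji (Subtype.ext h.symm)), zero_comp]
  · intro h
    exact absurd (Finset.mem_attach _ _) h

instance mono_subIncl (S : Finset I) : Mono (subIncl M S) :=
  mono_of_mono_fac (subIncl_subProj M S)

end Sub

/-! ### reindexing finite coproducts by `Fin n` -/

lemma exists_fin {β : Type v} (G : β → A) {ιQ ιP : Type v} [Fintype ιQ] [Fintype ιP]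
    (q : ιQ → β) (p : ιP → β) (ψ : (∐ fun j => G (q j)) ⟶ ∐ fun i => G (p i)) :
    ∃ (m n : ℕ) (b' : Fin m → β) (b : Fin n → β)
      (ψ' : (∐ fun j => G (b' j)) ⟶ ∐ fun i => G (b i)),
      Nonempty (cokernel ψ ≅ cokernel ψ') := by
  let eQ := (Fintype.equivFin ιQ).symm
  let eP := (Fintype.equivFin ιP).symm
  let isoQ : (∐ fun j : Fin _ => G (q (eQ j))) ≅ ∐ fun j => G (q j) :=
    Sigma.whiskerEquiv (f := fun j : Fin _ => G (q (eQ j))) (g := fun j => G (q j)) eQ
      (fun _ => Iso.refl _)
  let isoP : (∐ fun i : Fin _ => G (p (eP i))) ≅ ∐ fun i => G (p i) :=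
    Sigma.whiskerEquiv (f := fun i : Fin _ => G (p (eP i))) (g := fun i => G (p i)) eP
      (fun _ => Iso.refl _)
  exact ⟨_, _, fun j => q (eQ j), fun i => p (eP i), isoQ.hom ≫ ψ ≫ isoP.inv,
    ⟨cokernel.mapIso _ _ isoQ.symm isoP.symm (by simp)⟩⟩

/-! ### the construction -/
section Main

variable {β : Type v} (G : β → A) (F : A)

/-- the index type of generators of `F` -/
abbrev Gen : Type v := Σ b, (G b ⟶ F)

/-- the family of generators -/
abbrev PM : Gen G F → A := fun i => G i.1

/-- the big coproduct mapping onto `F` -/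
noncomputable abbrev P : A := ∐ PM G F

/-- the canonical map onto `F` -/
noncomputable def π : P G F ⟶ F := Sigma.desc (fun i : Gen G F => i.2)

@[reassoc (attr := simp)]
lemma ι_π (i : Gen G F) : Sigma.ι (PM G F) i ≫ π G F = i.2 := by
  unfold π
  rw [Sigma.ι_desc]

/-- the index type of relations -/
abbrev Rel : Type v := Σ b, {h : G b ⟶ P G F // h ≫ π G F = 0}

/-- the family of sources of the relations -/
abbrev QM : Rel G F → A := fun r => G r.1

/-- the index category -/
structure Idx where
  /-- finite set of generators -/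
  S : Finset (Gen G F)
  /-- finite set of relations -/
  T : Finset (Rel G F)
  /-- the relations only involve the chosen generators -/
  h : ∀ r ∈ T, r.2.1 ≫ ee (PM G F) S = r.2.1

instance : Preorder (Idx G F) where
  le l l' := l.S ⊆ l'.S ∧ l.T ⊆ l'.T
  le_refl l := ⟨Finset.Subset.refl _, Finset.Subset.refl _⟩
  le_trans _ _ _ h h' := ⟨h.1.trans h'.1, h.2.trans h'.2⟩

instance : Nonempty (Idx G F) := ⟨⟨∅, ∅, fun r hr => absurd hr (Finset.notMem_empty r)⟩⟩

instance : IsDirected (Idx G F) (· ≤ ·) := by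
  classical
  refine ⟨fun l l' => ⟨⟨l.S ∪ l'.S, l.T ∪ l'.T, fun r hr => ?_⟩,
    ⟨Finset.subset_union_left, Finset.subset_union_left⟩,
    ⟨Finset.subset_union_right, Finset.subset_union_right⟩⟩⟩
  rcases Finset.mem_union.1 hr with h | h
  · exact comp_ee_of_subset _ _ Finset.subset_union_left (l.h r h)
  · exact comp_ee_of_subset _ _ Finset.subset_union_right (l'.h r h)

/-- the relations indexed by a finite set, as a map to `P` -/
noncomputable def relT (T : Finset (Rel G F)) : sub (QM G F) T ⟶ P G F :=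
  Sigma.desc (fun r : T => r.1.2.1)

@[reassoc (attr := simp)]
lemma ι_relT (T : Finset (Rel G F)) (r : T) :
    Sigma.ι (fun r : T => QM G F r.1) r ≫ relT G F T = r.1.2.1 := by
  unfold relT
  rw [Sigma.ι_desc]

@[reassoc (attr := simp)]
lemma relT_π (T : Finset (Rel G F)) : relT G F T ≫ π G F = 0 := by
  refine Sigma.hom_ext _ _ (fun r => ?_)
  rw [ι_relT_assoc, comp_zero]
  exact r.1.2.2

@[reassoc (attr := simp)]
lemma subMap_relT {T T' : Finset (Rel G F)} (h : T ⊆ T') :
    subMap (QM G F) h ≫ relT G F T' = relT G F T := by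
  refine Sigma.hom_ext _ _ (fun r => ?_)
  rw [ι_subMap_assoc, ι_relT, ι_relT]

/-- the presentation matrix -/
noncomputable def ψ (l : Idx G F) : sub (QM G F) l.T ⟶ sub (PM G F) l.S :=
  Sigma.desc (fun r : l.T => r.1.2.1 ≫ subProj (PM G F) l.S)

lemma ι_ψ (l : Idx G F) (r : l.T) :
    Sigma.ι (fun r : l.T => QM G F r.1) r ≫ ψ G F l = r.1.2.1 ≫ subProj (PM G F) l.S := by
  unfold ψ
  rw [Sigma.ι_desc]

@[reassoc]
lemma ψ_subIncl (l : Idx G F) : ψ G F l ≫ subIncl (PM G F) l.S = relT G F l.T := by
  refine Sigma.hom_ext _ _ (fun r => ?_)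
  rw [← Category.assoc, ι_ψ, Category.assoc, subProj_subIncl, ι_relT]
  exact l.h r.1 r.2

lemma ψ_comm {l l' : Idx G F} (h : l ≤ l') :
    ψ G F l ≫ subMap (PM G F) h.1 = subMap (QM G F) h.2 ≫ ψ G F l' := by
  rw [← cancel_mono (subIncl (PM G F) l'.S), Category.assoc, Category.assoc, subMap_subIncl,
    ψ_subIncl, ψ_subIncl, subMap_relT]

/-- the diagram of finitely presented objects -/
noncomputable def D : Idx G F ⥤ A where
  obj l := cokernel (ψ G F l)
  map {l l'} f := cokernel.desc (ψ G F l)
    (subMap (PM G F) (leOfHom f).1 ≫ cokernel.π (ψ G F l'))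
    (by rw [← Category.assoc, ψ_comm G F (leOfHom f), Category.assoc, cokernel.condition,
      comp_zero])
  map_id l := by
    rw [← cancel_epi (cokernel.π (ψ G F l)), cokernel.π_desc, subMap_refl, Category.id_comp,
      Category.comp_id]
  map_comp {l l' l''} f g := by
    rw [← cancel_epi (cokernel.π (ψ G F l)), cokernel.π_desc, cokernel.π_desc_assoc,
      Category.assoc, cokernel.π_desc, subMap_trans_assoc]

/-- the projection onto a finitely presented piece -/
noncomputable def πD (l : Idx G F) : sub (PM G F) l.S ⟶ (D G F).obj l := cokernel.π (ψ G F l)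

instance epi_πD (l : Idx G F) : Epi (πD G F l) :=
  (inferInstance : Epi (cokernel.π (ψ G F l)))

@[reassoc]
lemma ψ_πD (l : Idx G F) : ψ G F l ≫ πD G F l = 0 := cokernel.condition _

@[reassoc]
lemma πD_map {l l' : Idx G F} (f : l ⟶ l') :
    πD G F l ≫ (D G F).map f = subMap (PM G F) (leOfHom f).1 ≫ πD G F l' :=
  cokernel.π_desc _ _ _

/-- the map from a finitely presented piece to `F` -/
noncomputable def toF (l : Idx G F) : (D G F).obj l ⟶ F :=
  cokernel.desc (ψ G F l) (subIncl (PM G F) l.S ≫ π G F)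
    (by rw [← Category.assoc, ψ_subIncl, relT_π])

@[reassoc]
lemma πD_toF (l : Idx G F) : πD G F l ≫ toF G F l = subIncl (PM G F) l.S ≫ π G F :=
  cokernel.π_desc _ _ _

/-- the cocone -/
noncomputable def ιD : D G F ⟶ (Functor.const (Idx G F)).obj F where
  app l := toF G F l
  naturality l l' f := by
    rw [← cancel_epi (πD G F l)]
    show πD G F l ≫ (D G F).map f ≫ toF G F l' = πD G F l ≫ toF G F l ≫ 𝟙 F
    rw [πD_map_assoc, πD_toF, Category.comp_id, πD_toF, subMap_subIncl_assoc]

/-- the index of a single generator -/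
abbrev single (i : Gen G F) : Idx G F :=
  ⟨{i}, ∅, fun r hr => absurd hr (Finset.notMem_empty r)⟩

lemma single_le {i : Gen G F} {l : Idx G F} (hi : i ∈ l.S) : single G F i ≤ l :=
  ⟨Finset.singleton_subset_iff.2 hi, Finset.empty_subset _⟩

/-- the map from `P` induced by a cocone -/
noncomputable def descP (s : Cocone (D G F)) : P G F ⟶ s.pt :=
  Sigma.desc (fun i : Gen G F =>
    Sigma.ι (fun j : ({i} : Finset (Gen G F)) => PM G F j.1) ⟨i, Finset.mem_singleton_self i⟩ ≫
      πD G F (single G F i) ≫ s.ι.app (single G F i))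

lemma subIncl_descP (s : Cocone (D G F)) (l : Idx G F) :
    subIncl (PM G F) l.S ≫ descP G F s = πD G F l ≫ s.ι.app l := by
  refine Sigma.hom_ext _ _ (fun j => ?_)
  rw [ι_subIncl_assoc]
  unfold descP
  rw [Sigma.ι_desc]
  have hle : single G F j.1 ≤ l := single_le G F j.2
  rw [← s.w (homOfLE hle), πD_map_assoc, ι_subMap_assoc]

variable (hsep : ∀ {X Y : A} (f g : X ⟶ Y), (∀ (b : β) (h : G b ⟶ X), h ≫ f = h ≫ g) → f = g)

include hsep in
lemma epi_π : Epi (π G F) := ⟨fun f g hfg => hsep f g (fun b h => by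
  have hι : Sigma.ι (PM G F) ⟨b, h⟩ ≫ π G F = h := ι_π G F ⟨b, h⟩
  rw [← hι, Category.assoc, Category.assoc, hfg])⟩

include hsep in
lemma exists_desc {X : A} (g : P G F ⟶ X) (hg : ∀ r : Rel G F, r.2.1 ≫ g = 0) :
    ∃ g' : F ⟶ X, π G F ≫ g' = g := by
  have := epi_π G F hsep
  have hk : kernel.ι (π G F) ≫ g = 0 := hsep _ _ (fun b h => by
    rw [comp_zero, ← Category.assoc]
    exact hg ⟨b, h ≫ kernel.ι (π G F), by rw [Category.assoc, kernel.condition, comp_zero]⟩)
  exact ⟨Abelian.epiDesc (π G F) g hk, Abelian.comp_epiDesc _ _ _⟩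

variable (hcomp : ∀ (b : β) (ι : Type v),
  PreservesColimitsOfShape (Discrete ι) (preadditiveCoyoneda.obj (op (G b))))

include hcomp in
lemma exists_finset_ee {b : β} (h : G b ⟶ P G F) :
    ∃ S : Finset (Gen G F), h ≫ ee (PM G F) S = h := by
  have := hcomp b (Gen G F)
  exact exists_finset_comp_e (cof (PM G F)) (hcof (PM G F)) (G b) h

include hcomp in
lemma rel_descP (s : Cocone (D G F)) (r : Rel G F) : r.2.1 ≫ descP G F s = 0 := by
  classical
  obtain ⟨S, hS⟩ := exists_finset_ee G F hcomp r.2.1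
  let l : Idx G F := ⟨S, {r}, fun r' hr' => by rw [Finset.mem_singleton.1 hr']; exact hS⟩
  have h1 : r.2.1 ≫ subProj (PM G F) S =
      Sigma.ι (fun r' : ({r} : Finset (Rel G F)) => QM G F r'.1)
        ⟨r, Finset.mem_singleton_self r⟩ ≫ ψ G F l :=
    (ι_ψ G F l ⟨r, Finset.mem_singleton_self r⟩).symm
  have h2 : subIncl (PM G F) S ≫ descP G F s = πD G F l ≫ s.ι.app l :=
    subIncl_descP G F s l
  calc r.2.1 ≫ descP G F s = (r.2.1 ≫ ee (PM G F) S) ≫ descP G F s := by rw [hS]
    _ = (r.2.1 ≫ subProj (PM G F) S) ≫ subIncl (PM G F) S ≫ descP G F s := by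
        rw [← subProj_subIncl]
        simp only [Category.assoc]
    _ = 0 := by
        rw [h2, h1, Category.assoc, ψ_πD_assoc, zero_comp, comp_zero]

include hsep hcomp in
theorem isColimit : Nonempty (IsColimit (Cocone.mk F (ιD G F))) := by
  have hex : ∀ s : Cocone (D G F), ∃ g' : F ⟶ s.pt, π G F ≫ g' = descP G F s :=
    fun s => exists_desc G F hsep _ (rel_descP G F hcomp s)
  choose d hd using hex
  have := epi_π G F hsep
  refine ⟨{ desc := d, fac := fun s l => ?_, uniq := fun s m hm => ?_ }⟩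
  · show toF G F l ≫ d s = s.ι.app l
    rw [← cancel_epi (πD G F l), πD_toF_assoc, hd, subIncl_descP]
  · rw [← cancel_epi (π G F), hd]
    refine Sigma.hom_ext _ _ (fun i => ?_)
    unfold descP
    rw [Sigma.ι_desc]
    have hm' : toF G F (single G F i) ≫ m = s.ι.app (single G F i) := hm (single G F i)
    have h1 : πD G F (single G F i) ≫ toF G F (single G F i) =
        subIncl (PM G F) {i} ≫ π G F := πD_toF G F (single G F i)
    rw [← hm', reassoc_of% h1, ι_subIncl_assoc]

include hsep hcomp in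
/-- Every object is a small filtered colimit of cokernels of maps between finite coproducts of
members of a separating family of "compact" objects. -/
theorem main : ∃ (Λ : Type v) (_ : SmallCategory Λ) (_ : IsFiltered Λ) (D : Λ ⥤ A)
    (ι : D ⟶ (Functor.const Λ).obj F),
    (∀ l, ∃ (m n : ℕ) (b' : Fin m → β) (b : Fin n → β)
      (ψ : (∐ fun j => G (b' j)) ⟶ ∐ fun i => G (b i)), Nonempty (D.obj l ≅ cokernel ψ)) ∧
    Nonempty (IsColimit (Cocone.mk F ι)) :=
  ⟨Idx G F, inferInstance, inferInstance, D G F, ιD G F,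
    fun l => exists_fin G (fun r : l.T => r.1.1) (fun i : l.S => i.1.1) (ψ G F l),
    isColimit G F hsep hcomp⟩

end Main

end Groth.Agent.H33.FilPres
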