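import Mathlib
import Groth.Agent.Lead.MR_PA

/-!
# (A1), (A2) for helper93's S5284 squad: coactions of a group algebra `B[H]` on `B`
(homogeneous decomposition, generation of the group by the degrees, unit ideals).
-/

set_option autoImplicit false
universe u

namespace Groth.Agent.H33.FreeAlg

open MonoidAlgebra Groth.Agent.Lead.MR_PA

section Prelim
variable {B : Type u} [CommRing B] {H : Type} [CommGroup H]

/-- formula for `liftNCRingHom`. -/
lemma liftNC_eq_sum {R : Type*} [CommRing R] (f : B →+* R) (k : H →* R)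
    (x : MonoidAlgebra B H) :
    liftNCRingHom f k (fun _ _ => Commute.all _ _) x = x.coeff.sum (fun g c => f c * k g) := by
  induction x using MonoidAlgebra.induction_linear with
  | zero => simp
  | add x y hx hy =>
    rw [map_add, hx, hy, coeff_add, Finsupp.sum_add_index']
    · intro a; simp
    · intro a b₁ b₂; simp [add_mul]
  | single g b =>
    rw [liftNCRingHom_single, coeff_single, Finsupp.sum_single_index (by simp)]

variable (ρ : B →+* MonoidAlgebra B H)

/-- the components of a coaction are homogeneous. -/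
lemma rho_coeff
    (hassoc :
      (MonoidAlgebra.liftNCRingHom (MonoidAlgebra.singleOneRingHom (R := B) (M := H × H))
        (((MonoidAlgebra.of B (H × H)).comp (MonoidHom.inl H H)) *
          ((MonoidAlgebra.of B (H × H)).comp (MonoidHom.inr H H)))
        (fun _ _ => Commute.all _ _)).comp ρ =
      (MonoidAlgebra.liftNCRingHom
        ((MonoidAlgebra.liftNCRingHom (MonoidAlgebra.singleOneRingHom (R := B) (M := H × H))
          ((MonoidAlgebra.of B (H × H)).comp (MonoidHom.inr H H))
          (fun _ _ => Commute.all _ _)).comp ρ)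
        ((MonoidAlgebra.of B (H × H)).comp (MonoidHom.inl H H))
        (fun _ _ => Commute.all _ _)).comp ρ)
    (b : B) (g : H) : ρ ((ρ b).coeff g) = MonoidAlgebra.single g ((ρ b).coeff g) := by
  classical
  apply MonoidAlgebra.ext
  ext h
  rw [coeff_single, Finsupp.single_apply]
  have key := congrArg (fun z => z.coeff (g, h)) (RingHom.congr_fun hassoc b)
  simp only [RingHom.comp_apply] at key
  rw [coeff_diag, coeff_inl] at key
  simp only [RingHom.comp_apply, coeff_inr] at key
  rw [key, Finsupp.sum, Finset.sum_eq_single g]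
  · simp
  · intro g' _ hne
    rw [if_neg]
    intro h1
    apply hne
    rw [inv_mul_eq_one] at h1
    exact h1
  · intro hg
    rw [Finsupp.notMem_support_iff.mp hg]
    simp

/-- an element is the sum of its components. -/
lemma sum_coeff
    (hunit : (MonoidAlgebra.liftNCRingHom (RingHom.id B) (1 : H →* B)
      (fun _ _ => Commute.all _ _)).comp ρ = RingHom.id B)
    (b : B) : b = ∑ g ∈ (ρ b).coeff.support, (ρ b).coeff g := by
  have h := RingHom.congr_fun hunit b
  rw [RingHom.comp_apply, liftNC_eq_sum, RingHom.id_apply, Finsupp.sum] at h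
  simp only [RingHom.id_apply, MonoidHom.one_apply, mul_one] at h
  exact h.symm

end Prelim

/-- (A1) -/
theorem alg_closure {B : Type u} [CommRing B] {H : Type} [CommGroup H]
    (ρ : B →+* MonoidAlgebra B H)
    (hunit : (MonoidAlgebra.liftNCRingHom (RingHom.id B) (1 : H →* B)
      (fun _ _ => Commute.all _ _)).comp ρ = RingHom.id B)
    (hassoc :
      (MonoidAlgebra.liftNCRingHom (MonoidAlgebra.singleOneRingHom (R := B) (M := H × H))
        (((MonoidAlgebra.of B (H × H)).comp (MonoidHom.inl H H)) *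
          ((MonoidAlgebra.of B (H × H)).comp (MonoidHom.inr H H)))
        (fun _ _ => Commute.all _ _)).comp ρ =
      (MonoidAlgebra.liftNCRingHom
        ((MonoidAlgebra.liftNCRingHom (MonoidAlgebra.singleOneRingHom (R := B) (M := H × H))
          ((MonoidAlgebra.of B (H × H)).comp (MonoidHom.inr H H))
          (fun _ _ => Commute.all _ _)).comp ρ)
        ((MonoidAlgebra.of B (H × H)).comp (MonoidHom.inl H H))
        (fun _ _ => Commute.all _ _)).comp ρ)
    (hfree : ∀ (K : Type u) [CommRing K] (φ : B →+* K) (κ : H →* K),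
      (MonoidAlgebra.liftNCRingHom φ κ (fun _ _ => Commute.all _ _)).comp ρ = φ → κ = 1)
    (K : Type u) [CommRing K] [Nontrivial K] (φ : B →+* K) :
    Subgroup.closure {h : H | ∃ b : B, ρ b = MonoidAlgebra.single h b ∧ φ b ≠ 0} = ⊤ := by
  classical
  set Hs := Subgroup.closure {h : H | ∃ b : B, ρ b = MonoidAlgebra.single h b ∧ φ b ≠ 0}
    with hHs
  let φ' : B →+* MonoidAlgebra K (H ⧸ Hs) :=
    (MonoidAlgebra.singleOneRingHom (R := K) (M := H ⧸ Hs)).comp φ
  let κ : H →* MonoidAlgebra K (H ⧸ Hs) :=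
    (MonoidAlgebra.of K (H ⧸ Hs)).comp (QuotientGroup.mk' Hs)
  have hκ : κ = 1 := by
    apply hfree (MonoidAlgebra K (H ⧸ Hs)) φ' κ
    ext b
    rw [RingHom.comp_apply, liftNC_eq_sum, Finsupp.sum]
    have hterm : ∀ g ∈ (ρ b).coeff.support,
        φ' ((ρ b).coeff g) * κ g = MonoidAlgebra.single (1 : H ⧸ Hs) (φ ((ρ b).coeff g)) := by
      intro g _
      show MonoidAlgebra.single (1 : H ⧸ Hs) (φ ((ρ b).coeff g)) *
        MonoidAlgebra.single (QuotientGroup.mk g : H ⧸ Hs) (1 : K) = _
      rw [single_mul_single, one_mul, mul_one]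
      by_cases h0 : φ ((ρ b).coeff g) = 0
      · rw [h0, single_zero, single_zero]
      · have hg : g ∈ Hs :=
          Subgroup.subset_closure ⟨(ρ b).coeff g, rho_coeff ρ hassoc b g, h0⟩
        have h1 : (QuotientGroup.mk g : H ⧸ Hs) = 1 := (QuotientGroup.eq_one_iff g).mpr hg
        rw [h1]
    rw [Finset.sum_congr rfl hterm]
    have hb := sum_coeff ρ hunit b
    have e1 : ∑ g ∈ (ρ b).coeff.support,
        MonoidAlgebra.single (1 : H ⧸ Hs) (φ ((ρ b).coeff g)) =
        MonoidAlgebra.single (1 : H ⧸ Hs) (φ (∑ g ∈ (ρ b).coeff.support, (ρ b).coeff g)) := by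
      rw [map_sum]
      exact (map_sum (MonoidAlgebra.singleOneRingHom (R := K) (M := H ⧸ Hs)) _ _).symm
    rw [e1, ← hb]
    rfl
  rw [eq_top_iff]
  intro g _
  have h1 : κ g = (1 : H →* MonoidAlgebra K (H ⧸ Hs)) g := by rw [hκ]
  have h2 : (MonoidAlgebra.single (QuotientGroup.mk g : H ⧸ Hs) (1 : K)) =
      MonoidAlgebra.single (1 : H ⧸ Hs) (1 : K) := h1
  have h3 := congrArg (fun z => z.coeff (1 : H ⧸ Hs)) h2
  simp only [coeff_single, Finsupp.single_apply] at h3
  by_contra hg
  have h4 : (QuotientGroup.mk g : H ⧸ Hs) ≠ 1 := fun h =>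
    hg ((QuotientGroup.eq_one_iff g).mp h)
  rw [if_neg h4] at h3
  simp at h3

/-- for every prime `q` and every degree `g` there is a homogeneous element of degree `g`
outside `q`. -/
lemma exists_homog_not_mem {B : Type u} [CommRing B] {H : Type} [CommGroup H]
    (ρ : B →+* MonoidAlgebra B H)
    (hunit : (MonoidAlgebra.liftNCRingHom (RingHom.id B) (1 : H →* B)
      (fun _ _ => Commute.all _ _)).comp ρ = RingHom.id B)
    (hassoc :
      (MonoidAlgebra.liftNCRingHom (MonoidAlgebra.singleOneRingHom (R := B) (M := H × H))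
        (((MonoidAlgebra.of B (H × H)).comp (MonoidHom.inl H H)) *
          ((MonoidAlgebra.of B (H × H)).comp (MonoidHom.inr H H)))
        (fun _ _ => Commute.all _ _)).comp ρ =
      (MonoidAlgebra.liftNCRingHom
        ((MonoidAlgebra.liftNCRingHom (MonoidAlgebra.singleOneRingHom (R := B) (M := H × H))
          ((MonoidAlgebra.of B (H × H)).comp (MonoidHom.inr H H))
          (fun _ _ => Commute.all _ _)).comp ρ)
        ((MonoidAlgebra.of B (H × H)).comp (MonoidHom.inl H H))
        (fun _ _ => Commute.all _ _)).comp ρ)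
    (hcl : ∀ (q : Ideal B) [q.IsPrime],
      Subgroup.closure {h : H | ∃ b : B, ρ b = MonoidAlgebra.single h b ∧ b ∉ q} = ⊤)
    (q : Ideal B) [hq : q.IsPrime] (g : H) :
    ∃ b : B, ρ b = MonoidAlgebra.single g b ∧ b ∉ q := by
  classical
  let N : Set H := {g | ∃ b : B, ρ b = MonoidAlgebra.single g b ∧ b ∉ q}
  have h1q : (1 : B) ∉ q := fun h => hq.ne_top ((Ideal.eq_top_iff_one q).mpr h)
  have hN1 : (1 : H) ∈ N := ⟨1, by rw [map_one, one_def], h1q⟩
  have hNmul : ∀ {a b : H}, a ∈ N → b ∈ N → a * b ∈ N := by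
    rintro a b ⟨x, hx, hxq⟩ ⟨y, hy, hyq⟩
    refine ⟨x * y, by rw [map_mul, hx, hy, single_mul_single], fun h => ?_⟩
    rcases hq.mem_or_mem h with h | h
    exacts [hxq h, hyq h]
  let N0 : Subgroup H :=
    { carrier := {g | g ∈ N ∧ g⁻¹ ∈ N}
      one_mem' := ⟨hN1, by rw [inv_one]; exact hN1⟩
      mul_mem' := fun {a b} ha hb =>
        ⟨hNmul ha.1 hb.1, by rw [mul_inv]; exact hNmul ha.2 hb.2⟩
      inv_mem' := fun {a} ha => ⟨ha.2, by rw [inv_inv]; exact ha.1⟩ }
  have hN0 : ∀ g : H, g ∈ N0 ↔ (g ∈ N ∧ g⁻¹ ∈ N) := fun g => Iff.rfl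
  have hq_of_not_mem : ∀ (k : H) (x : B), ρ x = MonoidAlgebra.single k x → k ∉ N → x ∈ q := by
    intro k x hx hk
    by_contra hxq
    exact hk ⟨x, hx, hxq⟩
  let J : AddSubmonoid B :=
    { carrier := {x | ∀ g ∈ N0, (ρ x).coeff g ∈ q}
      zero_mem' := fun g _ => by
        rw [map_zero, coeff_zero, Finsupp.zero_apply]
        exact q.zero_mem
      add_mem' := fun {x y} hx hy g hg => by
        rw [map_add, coeff_add, Finsupp.add_apply]
        exact q.add_mem (hx g hg) (hy g hg) }
  have hJ : ∀ x : B, x ∈ J ↔ ∀ g ∈ N0, (ρ x).coeff g ∈ q := fun x => Iff.rfl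
  have hJhom : ∀ (h : H) (c : B), ρ c = MonoidAlgebra.single h c → ∀ x ∈ J, c * x ∈ J := by
    intro h c hc x hx
    rw [hJ]
    intro g hg
    rw [map_mul, hc, coeff_single_mul_apply]
    by_cases hk : h⁻¹ * g ∈ N0
    · exact q.mul_mem_left _ ((hJ x).1 hx _ hk)
    · by_cases hkN : h⁻¹ * g ∈ N
      · have hkinv : (h⁻¹ * g)⁻¹ ∉ N := fun h' => hk ((hN0 _).2 ⟨hkN, h'⟩)
        have hh : h ∉ N := by
          intro hhN
          apply hkinv
          have e : (h⁻¹ * g)⁻¹ = g⁻¹ * h := by rw [mul_inv_rev, inv_inv]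
          rw [e]
          exact hNmul ((hN0 g).1 hg).2 hhN
        exact q.mul_mem_right _ (hq_of_not_mem h c hc hh)
      · exact q.mul_mem_left _ (hq_of_not_mem _ _ (rho_coeff ρ hassoc x _) hkN)
  have hJmul : ∀ (c x : B), x ∈ J → c * x ∈ J := by
    intro c x hx
    have hc := sum_coeff ρ hunit c
    have e : c * x = ∑ h ∈ (ρ c).coeff.support, (ρ c).coeff h * x := by
      rw [← Finset.sum_mul, ← hc]
    rw [e]
    exact J.sum_mem (fun h _ => hJhom h _ (rho_coeff ρ hassoc c h) x hx)
  let JI : Ideal B :=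
    { J with
      smul_mem' := fun c {x} hx => by
        show c * x ∈ J
        exact hJmul c x hx }
  have hJI : ∀ x : B, x ∈ JI ↔ x ∈ J := fun x => Iff.rfl
  have h1J : (1 : B) ∉ JI := by
    intro h
    have h1 := (hJ 1).1 ((hJI 1).1 h) 1 N0.one_mem
    rw [map_one ρ, one_def, coeff_single, Finsupp.single_apply, if_pos rfl] at h1
    exact h1q h1
  have hJne : JI ≠ ⊤ := fun h => h1J (h ▸ Submodule.mem_top)
  obtain ⟨q', hq'max, hJq'⟩ := Ideal.exists_le_maximal JI hJne
  haveI := hq'max.isPrime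
  have hcl' := hcl q'
  have hsub : {h : H | ∃ b : B, ρ b = MonoidAlgebra.single h b ∧ b ∉ q'} ⊆ (N0 : Set H) := by
    rintro h ⟨b, hb, hbq'⟩
    by_contra hh
    apply hbq'
    apply hJq'
    rw [hJI, hJ]
    intro g hg
    rw [hb, coeff_single, Finsupp.single_apply]
    split_ifs with hgh
    · exfalso
      apply hh
      show h ∈ N0
      rw [hgh]
      exact hg
    · exact q.zero_mem
  have htop : N0 = ⊤ := by
    rw [eq_top_iff, ← hcl']
    exact (Subgroup.closure_le N0).mpr hsub
  have hg : g ∈ N0 := htop ▸ Subgroup.mem_top g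
  exact ((hN0 g).1 hg).1

/-- (A2) -/
theorem alg_span {B : Type u} [CommRing B] {H : Type} [CommGroup H]
    (ρ : B →+* MonoidAlgebra B H)
    (hunit : (MonoidAlgebra.liftNCRingHom (RingHom.id B) (1 : H →* B)
      (fun _ _ => Commute.all _ _)).comp ρ = RingHom.id B)
    (hassoc :
      (MonoidAlgebra.liftNCRingHom (MonoidAlgebra.singleOneRingHom (R := B) (M := H × H))
        (((MonoidAlgebra.of B (H × H)).comp (MonoidHom.inl H H)) *
          ((MonoidAlgebra.of B (H × H)).comp (MonoidHom.inr H H)))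
        (fun _ _ => Commute.all _ _)).comp ρ =
      (MonoidAlgebra.liftNCRingHom
        ((MonoidAlgebra.liftNCRingHom (MonoidAlgebra.singleOneRingHom (R := B) (M := H × H))
          ((MonoidAlgebra.of B (H × H)).comp (MonoidHom.inr H H))
          (fun _ _ => Commute.all _ _)).comp ρ)
        ((MonoidAlgebra.of B (H × H)).comp (MonoidHom.inl H H))
        (fun _ _ => Commute.all _ _)).comp ρ)
    (hcl : ∀ (q : Ideal B) [q.IsPrime],
      Subgroup.closure {h : H | ∃ b : B, ρ b = MonoidAlgebra.single h b ∧ b ∉ q} = ⊤)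
    (m : H) : Ideal.span {b : B | ρ b = MonoidAlgebra.single m b} = ⊤ := by
  by_contra hne
  obtain ⟨q, hqmax, hle⟩ := Ideal.exists_le_maximal _ hne
  haveI := hqmax.isPrime
  obtain ⟨b, hb, hbq⟩ := exists_homog_not_mem ρ hunit hassoc hcl q m
  exact hbq (hle (Ideal.subset_span hb))

end Groth.Agent.H33.FreeAlg
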