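import Mathlib
import Groth.Prelude.Def_ActBC

/-!
# (D2) for helper93's S5284 squad: the graph of a base-changed action is the base change of the
graph.
-/

set_option autoImplicit false
universe u
open CategoryTheory CategoryTheory.Limits MonoidalCategory CartesianMonoidalCategory MonObj GrpObj
  AlgebraicGeometry

namespace Groth.Agent.H33.Free_D2

variable {S : Scheme.{u}} {G X : Over S} [GrpObj G]

theorem bc_graph {S' : Scheme.{u}} (h : S' ⟶ S) (a : AlgGrp.Action G X)
    (hci : IsClosedImmersion (lift (a.bc h).act (snd (Red.bc h G) (Red.bc h X))).left) :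
    ∃ (Q' : Scheme.{u}) (gam' : Q' ⟶ pullback (X ⊗ X).hom h) (q : Q' ⟶ (G ⊗ X).left),
      IsPullback gam' q (pullback.fst (X ⊗ X).hom h) (lift a.act (snd G X)).left ∧
        IsClosedImmersion gam' := by
  have hg' : lift (a.bc h).act (snd (Red.bc h G) (Red.bc h X)) =
      Functor.LaxMonoidal.μ (Over.pullback h) G X ≫
        (Over.pullback h).map (lift a.act (snd G X)) ≫
          Functor.OplaxMonoidal.δ (Over.pullback h) X X := by
    rw [Functor.OplaxMonoidal.lift_δ, comp_lift, Functor.Monoidal.μ_snd, AlgGrp.Action.bc_act]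
  have e : (Over.pullback h).map (lift a.act (snd G X)) =
      Functor.OplaxMonoidal.δ (Over.pullback h) G X ≫
        lift (a.bc h).act (snd (Red.bc h G) (Red.bc h X)) ≫
          Functor.LaxMonoidal.μ (Over.pullback h) X X := by
    rw [hg']
    simp only [Category.assoc, Functor.Monoidal.δ_μ, Functor.Monoidal.δ_μ_assoc, Category.comp_id]
  refine ⟨((Over.pullback h).obj (G ⊗ X)).left,
    ((Over.pullback h).map (lift a.act (snd G X))).left, pullback.fst (G ⊗ X).hom h, ?_, ?_⟩
  · have hw : ((Over.pullback h).map (lift a.act (snd G X))).left ≫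
        pullback.snd (X ⊗ X).hom h = pullback.snd (G ⊗ X).hom h :=
      Over.w ((Over.pullback h).map (lift a.act (snd G X)))
    have hw2 : (lift a.act (snd G X)).left ≫ (X ⊗ X).hom = (G ⊗ X).hom :=
      Over.w (lift a.act (snd G X))
    refine IsPullback.of_right (h₁₂ := pullback.snd (X ⊗ X).hom h) (v₁₃ := h)
      (h₂₂ := (X ⊗ X).hom) ?_ ?_ (IsPullback.of_hasPullback (X ⊗ X).hom h).flip
    · rw [hw, hw2]
      exact (IsPullback.of_hasPullback (G ⊗ X).hom h).flip
    · exact ActBC.pullback_map_left_fst h (lift a.act (snd G X))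
  · rw [e, Over.comp_left, Over.comp_left]
    haveI : IsIso (Functor.OplaxMonoidal.δ (Over.pullback h) G X).left :=
      (Over.forget S').map_isIso (Functor.OplaxMonoidal.δ (Over.pullback h) G X)
    haveI : IsIso (Functor.LaxMonoidal.μ (Over.pullback h) X X).left :=
      (Over.forget S').map_isIso (Functor.LaxMonoidal.μ (Over.pullback h) X X)
    haveI := hci
    infer_instance

end Groth.Agent.H33.Free_D2
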