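import Mathlib
import Groth.Prelude.Def_Wider
import Groth.Prelude.Def_CAlg
import Groth.Agent.H84.HL_CPL
import Groth.Agent.H58.LCBridge
import Groth.Agent.H82.ExtBC
import Groth.Agent.S11617

/-!
# Squad lemma (T1) for helper55 (S17760): descent of finite length of `Ext(R/I, H^n_I(M))` from the
completion.
-/

set_option autoImplicit false
universe u
open IsLocalRing CategoryTheory Opposite

namespace Groth.Agent.H33.HL_T1

open Groth.Agent.H82.TorBC Groth.Agent.H82 Groth.Agent.H82.ExtBC

section iso

variable {C : Type*} [Category C] [Abelian C] [HasExt C]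

theorem postcomp_injective {X Y Y' : C} (β : Y ≅ Y') (i : ℕ) :
    Function.Injective (fun z : Abelian.Ext X Y i => z.comp (Abelian.Ext.mk₀ β.hom) (add_zero i)) := by
  intro x y hxy
  have h : ∀ z : Abelian.Ext X Y i,
      (z.comp (Abelian.Ext.mk₀ β.hom) (add_zero i)).comp (Abelian.Ext.mk₀ β.inv)
        (add_zero i) = z := by
    intro z
    rw [Abelian.Ext.comp_assoc_of_third_deg_zero, Abelian.Ext.mk₀_comp_mk₀, β.hom_inv_id,
      Abelian.Ext.comp_mk₀_id]
  have hxy' : x.comp (Abelian.Ext.mk₀ β.hom) (add_zero i) =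
      y.comp (Abelian.Ext.mk₀ β.hom) (add_zero i) := hxy
  rw [← h x, ← h y, hxy']

theorem precomp_injective {X X' Y : C} (α : X ≅ X') (i : ℕ) :
    Function.Injective
      (fun w : Abelian.Ext X Y i => (Abelian.Ext.mk₀ α.inv).comp w (zero_add i)) := by
  intro x y hxy
  have h : ∀ z : Abelian.Ext X Y i,
      (Abelian.Ext.mk₀ α.hom).comp ((Abelian.Ext.mk₀ α.inv).comp z (zero_add i))
        (zero_add i) = z := by
    intro z
    rw [Abelian.Ext.mk₀_comp_mk₀_assoc, α.hom_inv_id, Abelian.Ext.mk₀_id_comp]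
  have hxy' : (Abelian.Ext.mk₀ α.inv).comp x (zero_add i) =
      (Abelian.Ext.mk₀ α.inv).comp y (zero_add i) := hxy
  rw [← h x, ← h y, hxy']

end iso

theorem isFiniteLength_ext_of_iso {S : Type u} [CommRing S] {X X' Y Y' : ModuleCat.{u} S}
    (α : X ≅ X') (β : Y ≅ Y') (i : ℕ) (h : IsFiniteLength S (Abelian.Ext X' Y' i)) :
    IsFiniteLength S (Abelian.Ext X Y i) := by
  have h1 : IsFiniteLength S (Abelian.Ext X Y' i) :=
    IsFiniteLength.of_injective
      (f := Abelian.Ext.precompOfLinear (Abelian.Ext.mk₀ α.inv) S Y' (zero_add i)) h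
      (precomp_injective α i)
  exact IsFiniteLength.of_injective
    (f := Abelian.Ext.postcompOfLinear (Abelian.Ext.mk₀ β.hom) S X (add_zero i)) h1
    (postcomp_injective β i)

attribute [local instance] Groth.Agent.H82.ExtBC.extModule in
theorem ext_finiteLength_descent_general {R : Type u} [CommRing R] [IsNoetherianRing R]
    (R' : Type u) [CommRing R'] [IsNoetherianRing R'] [Algebra R R']
    [Module.FaithfullyFlat R R']
    (I : Ideal R) (M : Type u) [AddCommGroup M] [Module R M] (n i : ℕ)
    (h : IsFiniteLength R' (Abelian.Ext (ModuleCat.of R' (R' ⧸ I.map (algebraMap R R')))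
        (ModuleCat.of R' (LocCoh.H (I.map (algebraMap R R')) n (TensorProduct R R' M))) i)) :
    IsFiniteLength R
      (Abelian.Ext (ModuleCat.of R (R ⧸ I)) (ModuleCat.of R (LocCoh.H I n M)) i) := by
  haveI : Module.Flat R R' := inferInstance
  have hbc := isBaseChange_l R R' (LocCoh.H I n M) i (R ⧸ I)
  obtain ⟨eH⟩ := Groth.Agent.S11617.result R R' I M n
  let α : (E R R').obj (ModuleCat.of R (R ⧸ I)) ≅
      ModuleCat.of R' (R' ⧸ I.map (algebraMap R R')) :=
    ((bcEquiv R R' (R ⧸ I)).symm ≪≫ₗ
      (Algebra.TensorProduct.quotIdealMapEquivTensorQuot R' I).symm.toLinearEquiv).toModuleIso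
  let β : (E R R').obj (ModuleCat.of R (LocCoh.H I n M)) ≅
      ModuleCat.of R' (LocCoh.H (I.map (algebraMap R R')) n (TensorProduct R R' M)) :=
    ((bcEquiv R R' (LocCoh.H I n M)).symm ≪≫ₗ eH).toModuleIso
  have h1 : IsFiniteLength R' (Abelian.Ext ((E R R').obj (ModuleCat.of R (R ⧸ I)))
      ((E R R').obj (ModuleCat.of R (LocCoh.H I n M))) i) :=
    isFiniteLength_ext_of_iso α β i h
  have h2 := hbc.equiv.symm.isFiniteLength h1
  rw [isFiniteLength_iff_isNoetherian_isArtinian] at h2 ⊢
  exact ⟨Submodule.IsNoetherian.of_isNoetherian_tensorProduct_of_faithfullyFlat h2.1,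
    Submodule.IsArtinian.of_isArtinian_tensorProduct_of_faithfullyFlat h2.2⟩

/-- (T1) descent from the completion: flat base change of `Ext` and of local cohomology, faithful
flatness, and the bridge between Mathlib's `Ext` functor and `Abelian.Ext`. -/
theorem ext_finiteLength_descent (R : Type u) [CommRing R] [IsNoetherianRing R] [IsLocalRing R]
    (I : Ideal R) (M : Type u) [AddCommGroup M] [Module R M] [Module.Finite R M] (n i : ℕ)
    (h : IsFiniteLength (AdicCompletion (maximalIdeal R) R)
      (Abelian.Ext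
        (ModuleCat.of (AdicCompletion (maximalIdeal R) R)
          (AdicCompletion (maximalIdeal R) R ⧸
            I.map (algebraMap R (AdicCompletion (maximalIdeal R) R))))
        (ModuleCat.of (AdicCompletion (maximalIdeal R) R)
          (LocCoh.H (I.map (algebraMap R (AdicCompletion (maximalIdeal R) R))) n
            (TensorProduct R (AdicCompletion (maximalIdeal R) R) M))) i)) :
    IsFiniteLength R (((Ext R (ModuleCat.{u} R) i).obj (op (ModuleCat.of R (R ⧸ I)))).obj
      (ModuleCat.of R (LocCoh.H I n M))) := by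
  obtain ⟨hN, -, -, hff⟩ := Groth.Agent.H84.HL_CPL.completion_facts R
  haveI := hN
  haveI := hff
  have h0 := ext_finiteLength_descent_general (AdicCompletion (maximalIdeal R) R) I M n i h
  exact (Groth.Agent.H58.LCBridge.bridge (ModuleCat.of R (R ⧸ I))
    (ModuleCat.of R (LocCoh.H I n M)) i).symm.isFiniteLength h0

end Groth.Agent.H33.HL_T1
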