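import Mathlib
import Groth.Prelude.Def_Wider
import Groth.Prelude.Def_CAlg
import Groth.Agent.Lead.CompleteNoetherian

/-!
# Squad lemma (T2) for helper55 (S17760): completing does not raise the dimension of the support.
-/

set_option autoImplicit false
universe u
open IsLocalRing CategoryTheory Opposite

namespace Groth.Agent.H33.HL_T2

/-- A ring map of Noetherian local rings under which the maximal ideal extends to the maximal
ideal does not raise the dimension. -/
theorem ringKrullDim_le_of_map_maximalIdeal {S S' : Type*} [CommRing S] [CommRing S']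
    [IsLocalRing S] [IsLocalRing S'] [IsNoetherianRing S] [IsNoetherianRing S'] (φ : S →+* S')
    (hφ : maximalIdeal S' = (maximalIdeal S).map φ) : ringKrullDim S' ≤ ringKrullDim S := by
  classical
  obtain ⟨s, hs, hcard⟩ := Ideal.exists_finset_card_eq_height_of_isNoetherianRing (maximalIdeal S)
  have hrad : maximalIdeal S ≤ (Ideal.span (s : Set S)).radical := by
    rw [Ideal.radical_eq_sInf]
    refine le_sInf ?_
    rintro p ⟨hsp, hp⟩
    exact hs.2 ⟨hp, hsp⟩ (IsLocalRing.le_maximalIdeal hp.ne_top)
  have hmin : maximalIdeal S' ∈
      (Ideal.span ((s.image φ : Finset S') : Set S')).minimalPrimes := by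
    refine ⟨⟨inferInstance, ?_⟩, ?_⟩
    · rw [Ideal.span_le]
      intro y hy
      rw [Finset.coe_image] at hy
      obtain ⟨x, hx, rfl⟩ := hy
      rw [hφ]
      exact Ideal.mem_map_of_mem φ (hs.1.2 (Ideal.subset_span hx))
    · rintro q ⟨hq, hqt⟩ -
      rw [hφ, Ideal.map_le_iff_le_comap]
      intro x hx
      obtain ⟨k, hk⟩ := hrad hx
      have h1 : φ (x ^ k) ∈ q := by
        apply hqt
        have h2 := Ideal.mem_map_of_mem φ hk
        rwa [Ideal.map_span, ← Finset.coe_image] at h2
      rw [map_pow] at h1
      exact hq.mem_of_pow_mem k h1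
  have h1 := Ideal.height_le_card_of_mem_minimalPrimes_span_finset hmin
  have h2 : ((s.image φ).card : ℕ∞) ≤ s.card := by exact_mod_cast Finset.card_image_le
  rw [← IsLocalRing.maximalIdeal_height_eq_ringKrullDim,
    ← IsLocalRing.maximalIdeal_height_eq_ringKrullDim (R := S), ← hcard]
  exact WithBot.coe_le_coe.mpr (h1.trans h2)

/-- Base change of a finite module along a local map of Noetherian local rings with
`m' = m R'` does not raise the dimension of the support. -/
theorem supportDim_tensor_le {R : Type u} [CommRing R] [IsNoetherianRing R] [IsLocalRing R]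
    (R' : Type u) [CommRing R'] [IsNoetherianRing R'] [IsLocalRing R'] [Algebra R R']
    (hm : maximalIdeal R' = (maximalIdeal R).map (algebraMap R R'))
    (M : Type u) [AddCommGroup M] [Module R M] [Module.Finite R M] :
    Module.supportDim R' (TensorProduct R R' M) ≤ Module.supportDim R M := by
  rcases subsingleton_or_nontrivial M with hM | hM
  · haveI : Subsingleton (TensorProduct R R' M) := inferInstance
    rw [Module.supportDim_eq_bot_of_subsingleton]
    exact bot_le
  have hane : Module.annihilator R M ≠ ⊤ := by
    intro h
    have h1 : (1 : R) ∈ Module.annihilator R M := h ▸ Submodule.mem_top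
    rw [Module.mem_annihilator] at h1
    exact not_subsingleton M
      ⟨fun x y => by rw [← one_smul R x, ← one_smul R y, h1 x, h1 y]⟩
  have hale : Module.annihilator R M ≤ maximalIdeal R := IsLocalRing.le_maximalIdeal hane
  have ha'le : (Module.annihilator R M).map (algebraMap R R') ≤ maximalIdeal R' := by
    rw [hm]
    exact Ideal.map_mono hale
  have ha'ne : (Module.annihilator R M).map (algebraMap R R') ≠ ⊤ := fun h =>
    (IsLocalRing.maximalIdeal.isMaximal R').ne_top (top_le_iff.mp (h ▸ ha'le))
  haveI : Nontrivial (R ⧸ Module.annihilator R M) := Ideal.Quotient.nontrivial_iff.mpr hane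
  haveI : Nontrivial (R' ⧸ (Module.annihilator R M).map (algebraMap R R')) :=
    Ideal.Quotient.nontrivial_iff.mpr ha'ne
  haveI : IsLocalRing (R ⧸ Module.annihilator R M) :=
    IsLocalRing.of_surjective' (Ideal.Quotient.mk _) Ideal.Quotient.mk_surjective
  haveI : IsLocalRing (R' ⧸ (Module.annihilator R M).map (algebraMap R R')) :=
    IsLocalRing.of_surjective' (Ideal.Quotient.mk _) Ideal.Quotient.mk_surjective
  have hann : (Module.annihilator R M).map (algebraMap R R') ≤
      Module.annihilator R' (TensorProduct R R' M) := by
    rw [Ideal.map_le_iff_le_comap]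
    intro r hr
    rw [Ideal.mem_comap, Module.mem_annihilator]
    intro n
    induction n using TensorProduct.induction_on with
    | zero => exact smul_zero _
    | tmul x m =>
      rw [algebraMap_smul, ← TensorProduct.tmul_smul, Module.mem_annihilator.mp hr m,
        TensorProduct.tmul_zero]
    | add x y hx hy => rw [smul_add, hx, hy, add_zero]
  rw [Module.supportDim_eq_ringKrullDim_quotient_annihilator,
    Module.supportDim_eq_ringKrullDim_quotient_annihilator]
  refine (ringKrullDim_le_of_surjective (Ideal.Quotient.factor hann)
    (Ideal.Quotient.factor_surjective hann)).trans ?_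
  apply ringKrullDim_le_of_map_maximalIdeal
    (Ideal.quotientMap ((Module.annihilator R M).map (algebraMap R R')) (algebraMap R R')
      Ideal.le_comap_map)
  rw [← IsLocalRing.map_maximalIdeal_of_surjective
      (Ideal.Quotient.mk ((Module.annihilator R M).map (algebraMap R R')))
      Ideal.Quotient.mk_surjective,
    ← IsLocalRing.map_maximalIdeal_of_surjective (Ideal.Quotient.mk (Module.annihilator R M))
      Ideal.Quotient.mk_surjective, hm, Ideal.map_map, Ideal.map_map]
  congr 1

/-- (T2) completing does not raise the dimension of the support. -/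
theorem supportDim_completion_le (R : Type u) [CommRing R] [IsNoetherianRing R] [IsLocalRing R]
    (M : Type u) [AddCommGroup M] [Module R M] [Module.Finite R M] :
    Module.supportDim (AdicCompletion (maximalIdeal R) R)
      (TensorProduct R (AdicCompletion (maximalIdeal R) R) M) ≤ Module.supportDim R M := by
  haveI hN : IsNoetherianRing (AdicCompletion (maximalIdeal R) R) :=
    Groth.Agent.Lead.isNoetherianRing_adicCompletion _ (maximalIdeal R).fg_of_isNoetherianRing
  exact supportDim_tensor_le (AdicCompletion (maximalIdeal R) R)
    AdicCompletion.maximalIdeal_eq_map M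

end Groth.Agent.H33.HL_T2
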