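import Groth.Agent.H33.RlimTrunc

/-!
# The natural map `Hom(P[0], K[q]) → Hom(P, H^q(K))` and when it is bijective
-/

set_option autoImplicit false
universe w v u

namespace Groth.Agent.H33.HMap

open CategoryTheory Limits Opposite DerivedCategory
open Groth.Agent.H33.RlimTrunc

section Tri

open Pretriangulated

variable {D : Type u} [Category.{v} D] [Preadditive D] [HasZeroObject D] [HasShift D ℤ]
  [∀ n : ℤ, (CategoryTheory.shiftFunctor D n).Additive] [Pretriangulated D]

theorem hom_injective_mor₁ (T : Triangle D) (hT : T ∈ distTriang D) (P : D) (m' m : ℤ)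
    (hm : m' + 1 = m) (hs : Subsingleton (P ⟶ T.obj₃⟦m'⟧)) :
    Function.Injective (fun y : P ⟶ T.obj₁⟦m⟧ => y ≫ T.mor₁⟦m⟧') := by
  haveI := hs
  let F := preadditiveCoyoneda.obj (op P)
  intro y y' hyy
  have hy' : (y - y') ≫ T.mor₁⟦m⟧' = 0 := by
    rw [Preadditive.sub_comp]
    exact sub_eq_zero.2 hyy
  have ex := F.homologySequence_exact₁ T hT m' m hm
  rw [ShortComplex.ab_exact_iff] at ex
  obtain ⟨(w : P ⟶ T.obj₃⟦m'⟧), hw⟩ := ex (y - y') hy'
  have hw0 : w = 0 := Subsingleton.elim _ _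
  have hw' : F.homologySequenceδ T m' m hm w = y - y' := hw
  rw [hw0] at hw'
  have h0 : y - y' = 0 := hw'.symm.trans (F.homologySequenceδ T m' m hm).hom.map_zero
  exact sub_eq_zero.1 h0

theorem hom_surjective_mor₁ (T : Triangle D) (hT : T ∈ distTriang D) (P : D) (m : ℤ)
    (hs : Subsingleton (P ⟶ T.obj₃⟦m⟧)) :
    Function.Surjective (fun y : P ⟶ T.obj₁⟦m⟧ => y ≫ T.mor₁⟦m⟧') := by
  haveI := hs
  let F := preadditiveCoyoneda.obj (op P)
  intro x
  have ex := F.homologySequence_exact₂ T hT m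
  rw [ShortComplex.ab_exact_iff] at ex
  have hx : x ≫ T.mor₂⟦m⟧' = 0 := Subsingleton.elim _ _
  obtain ⟨(y : P ⟶ T.obj₁⟦m⟧), hy⟩ := ex x hx
  exact ⟨y, hy⟩

theorem subsingleton_hom_mid (T : Triangle D) (hT : T ∈ distTriang D) (P : D) (j : ℤ)
    (h1 : Subsingleton (P ⟶ T.obj₁⟦j⟧)) (h3 : Subsingleton (P ⟶ T.obj₃⟦j⟧)) :
    Subsingleton (P ⟶ T.obj₂⟦j⟧) := by
  haveI := h1
  haveI := h3
  let F := preadditiveCoyoneda.obj (op P)
  suffices h0 : ∀ y : P ⟶ T.obj₂⟦j⟧, y = 0 from ⟨fun y y' => by rw [h0 y, h0 y']⟩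
  intro y
  have ex := F.homologySequence_exact₂ T hT j
  rw [ShortComplex.ab_exact_iff] at ex
  have hy : y ≫ T.mor₂⟦j⟧' = 0 := Subsingleton.elim _ _
  obtain ⟨(x : P ⟶ T.obj₁⟦j⟧), hx⟩ := ex y hy
  have hx' : x ≫ T.mor₁⟦j⟧' = y := hx
  rw [← hx', Subsingleton.elim x 0, zero_comp]

theorem hom_bijective_mor₂ (T : Triangle D) (hT : T ∈ distTriang D) (P : D) (m : ℤ)
    (h1 : Subsingleton (P ⟶ T.obj₁⟦m⟧)) (h2 : Subsingleton (P ⟶ T.obj₁⟦m + 1⟧)) :
    Function.Bijective (fun y : P ⟶ T.obj₂⟦m⟧ => y ≫ T.mor₂⟦m⟧') := by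
  haveI := h1
  let F := preadditiveCoyoneda.obj (op P)
  constructor
  · intro y y' hyy
    have hy' : (y - y') ≫ T.mor₂⟦m⟧' = 0 := by
      rw [Preadditive.sub_comp]
      exact sub_eq_zero.2 hyy
    have ex := F.homologySequence_exact₂ T hT m
    rw [ShortComplex.ab_exact_iff] at ex
    obtain ⟨(x : P ⟶ T.obj₁⟦m⟧), hx⟩ := ex (y - y') hy'
    have hx' : x ≫ T.mor₁⟦m⟧' = y - y' := hx
    rw [Subsingleton.elim x 0, zero_comp] at hx'
    exact sub_eq_zero.1 hx'.symm
  · intro z
    have ex := F.homologySequence_exact₃ T hT m (m + 1) rfl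
    rw [ShortComplex.ab_exact_iff] at ex
    have hz : (F.homologySequenceδ T m (m + 1) rfl).hom z = 0 :=
      @Subsingleton.elim (P ⟶ T.obj₁⟦m + 1⟧) h2 _ _
    obtain ⟨(y : P ⟶ T.obj₂⟦m⟧), hy⟩ := ex z hz
    exact ⟨y, hy⟩

theorem hom_bijective_mor₁ (T : Triangle D) (hT : T ∈ distTriang D) (P : D) (m' m : ℤ)
    (hm : m' + 1 = m) (h1 : Subsingleton (P ⟶ T.obj₃⟦m'⟧)) (h2 : Subsingleton (P ⟶ T.obj₃⟦m⟧)) :
    Function.Bijective (fun y : P ⟶ T.obj₁⟦m⟧ => y ≫ T.mor₁⟦m⟧') :=
  ⟨hom_injective_mor₁ T hT P m' m hm h1, hom_surjective_mor₁ T hT P m h2⟩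

theorem subsingleton_hom_of_iso {P X Y : D} (e : X ≅ Y) (h : Subsingleton (P ⟶ Y)) :
    Subsingleton (P ⟶ X) :=
  ⟨fun f g => by
    rw [← cancel_mono e.hom]
    exact h.elim _ _⟩

theorem subsingleton_hom_of_isZero {P X : D} (h : IsZero X) : Subsingleton (P ⟶ X) :=
  ⟨fun f g => h.eq_of_tgt f g⟩

end Tri

section ML

theorem exists_compatible_family : ∀ (N : ℕ) (A : ℕ → Type u) (t : ∀ n, A (n + 1) → A n)
    (_ : ∀ n, N ≤ n → Function.Surjective (t n)) (x : A N),
    ∃ f : ∀ n, A n, f N = x ∧ ∀ n, t n (f (n + 1)) = f n := by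
  intro N
  induction N with
  | zero =>
    intro A t hs x
    refine ⟨fun n => Nat.rec (motive := A) x
      (fun n fn => Classical.choose (hs n (Nat.zero_le n) fn)) n, rfl, fun n => ?_⟩
    exact Classical.choose_spec (hs n (Nat.zero_le n) _)
  | succ N ih =>
    intro A t hs x
    obtain ⟨f', hf'N, hf'⟩ := ih (fun n => A (n + 1)) (fun n => t (n + 1))
      (fun n hn => hs (n + 1) (by omega)) x
    refine ⟨fun n => match n with
      | 0 => t 0 (f' 0)
      | n + 1 => f' n, hf'N, fun n => ?_⟩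
    cases n with
    | zero => rfl
    | succ n => exact hf' n

end ML

variable {A : Type u} [Category.{v} A] [Abelian A] [HasDerivedCategory.{w} A]

/-- The unit `P ⟶ H^0(P[0])`. -/
noncomputable def η (P : A) : P ⟶ (homologyFunctor A 0).obj ((singleFunctor A 0).obj P) :=
  (singleFunctorCompHomologyFunctorIso A 0).inv.app P

instance (P : A) : IsIso (η P) := by
  unfold η
  infer_instance

theorem η_naturality {P P' : A} (f : P ⟶ P') :
    f ≫ η P' = η P ≫ (homologyFunctor A 0).map ((singleFunctor A 0).map f) :=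
  (singleFunctorCompHomologyFunctorIso A 0).inv.naturality f

/-- The shift isomorphism `H^0(K[q]) ≅ H^q(K)`. -/
noncomputable def σ (K : DerivedCategory A) (q : ℤ) :
    (homologyFunctor A 0).obj (K⟦q⟧) ≅ (homologyFunctor A q).obj K :=
  ((homologyFunctor A 0).shiftIso q 0 q (add_zero q)).app K

theorem σ_naturality {K K' : DerivedCategory A} (g : K ⟶ K') (q : ℤ) :
    (homologyFunctor A 0).map (g⟦q⟧') ≫ (σ K' q).hom =
      (σ K q).hom ≫ (homologyFunctor A q).map g :=
  ((homologyFunctor A 0).shiftIso q 0 q (add_zero q)).hom.naturality g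

/-- The natural map `Hom(P[0], K[q]) → Hom(P, H^q(K))`. -/
noncomputable def hmap (P : A) (K : DerivedCategory A) (q : ℤ)
    (y : (singleFunctor A 0).obj P ⟶ K⟦q⟧) : P ⟶ (homologyFunctor A q).obj K :=
  η P ≫ (homologyFunctor A 0).map y ≫ (σ K q).hom

theorem hmap_add (P : A) (K : DerivedCategory A) (q : ℤ)
    (y y' : (singleFunctor A 0).obj P ⟶ K⟦q⟧) :
    hmap P K q (y + y') = hmap P K q y + hmap P K q y' := by
  unfold hmap
  rw [Functor.map_add, Preadditive.add_comp, Preadditive.comp_add]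

theorem hmap_postcomp (P : A) {K K' : DerivedCategory A} (g : K ⟶ K') (q : ℤ)
    (y : (singleFunctor A 0).obj P ⟶ K⟦q⟧) :
    hmap P K' q (y ≫ g⟦q⟧') = hmap P K q y ≫ (homologyFunctor A q).map g := by
  unfold hmap
  rw [Functor.map_comp, Category.assoc, Category.assoc, Category.assoc, σ_naturality]

theorem hmap_precomp {P' P : A} (f : P' ⟶ P) (K : DerivedCategory A) (q : ℤ)
    (y : (singleFunctor A 0).obj P ⟶ K⟦q⟧) :
    hmap P' K q ((singleFunctor A 0).map f ≫ y) = f ≫ hmap P K q y := by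
  unfold hmap
  have h := η_naturality f
  rw [Functor.map_comp, Category.assoc, ← Category.assoc (η P'), ← h, Category.assoc]

theorem hmap_bijective_of_single (P : A) (Z : DerivedCategory A) (q : ℤ) (hGE : Z.IsGE q)
    (hLE : Z.IsLE q) : Function.Bijective (hmap P Z q) := by
  haveI := hGE
  haveI := hLE
  obtain ⟨Y, ⟨e⟩⟩ := exists_iso_singleFunctor_obj_of_isGE_of_isLE Z q
  obtain ⟨e1⟩ : Nonempty (Z⟦q⟧ ≅ (singleFunctor A 0).obj Y) :=
    ⟨(CategoryTheory.shiftFunctor _ q).mapIso e ≪≫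
      ((singleFunctors A).shiftIso q 0 q (add_zero q)).app Y⟩
  obtain ⟨θ, hθ⟩ : ∃ θ : Y ⟶ (homologyFunctor A q).obj Z, θ = hmap Y Z q e1.inv := ⟨_, rfl⟩
  haveI : IsIso θ := by
    rw [hθ]
    unfold hmap
    infer_instance
  have key : ∀ y : (singleFunctor A 0).obj P ⟶ Z⟦q⟧,
      hmap P Z q y = (singleFunctor A 0).preimage (y ≫ e1.hom) ≫ θ := by
    intro y
    have h1 : (singleFunctor A 0).map ((singleFunctor A 0).preimage (y ≫ e1.hom)) ≫ e1.inv = y := by
      rw [Functor.map_preimage, Category.assoc, Iso.hom_inv_id, Category.comp_id]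
    rw [hθ]
    exact (congrArg (hmap P Z q) h1).symm.trans (hmap_precomp _ _ _ _)
  constructor
  · intro y y' h
    rw [key, key] at h
    have h2 := (cancel_mono θ).1 h
    have h3 : y ≫ e1.hom = y' ≫ e1.hom := by
      rw [← (singleFunctor A 0).map_preimage (y ≫ e1.hom),
        ← (singleFunctor A 0).map_preimage (y' ≫ e1.hom), h2]
    exact (cancel_mono e1.hom).1 h3
  · intro φ
    refine ⟨(singleFunctor A 0).map (φ ≫ inv θ) ≫ e1.inv, ?_⟩
    rw [hmap_precomp, ← hθ, Category.assoc, IsIso.inv_hom_id, Category.comp_id]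

theorem hmap_bijective_of_postcomp {K K' : DerivedCategory A} (g : K ⟶ K') (q : ℤ) (P : A)
    (hg : Function.Bijective (fun y : (singleFunctor A 0).obj P ⟶ K⟦q⟧ => y ≫ g⟦q⟧'))
    (hH : IsIso ((homologyFunctor A q).map g)) (h' : Function.Bijective (hmap P K' q)) :
    Function.Bijective (hmap P K q) := by
  haveI := hH
  have key : ∀ y, hmap P K q y =
      hmap P K' q (y ≫ g⟦q⟧') ≫ inv ((homologyFunctor A q).map g) := by
    intro y
    rw [hmap_postcomp, Category.assoc, IsIso.hom_inv_id, Category.comp_id]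
  constructor
  · intro y y' h
    rw [key, key] at h
    exact hg.1 (h'.1 ((cancel_mono _).1 h))
  · intro φ
    obtain ⟨x, hx⟩ := h'.2 (φ ≫ (homologyFunctor A q).map g)
    obtain ⟨y, hy⟩ := hg.2 x
    refine ⟨y, ?_⟩
    have hy' : y ≫ g⟦q⟧' = x := hy
    rw [key, hy', hx, Category.assoc, IsIso.hom_inv_id, Category.comp_id]

theorem hmap_bijective_of_postcomp' {K K' : DerivedCategory A} (g : K ⟶ K') (q : ℤ) (P : A)
    (hg : Function.Bijective (fun y : (singleFunctor A 0).obj P ⟶ K⟦q⟧ => y ≫ g⟦q⟧'))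
    (hH : IsIso ((homologyFunctor A q).map g)) (h' : Function.Bijective (hmap P K q)) :
    Function.Bijective (hmap P K' q) := by
  haveI := hH
  constructor
  · intro x x' h
    obtain ⟨y, hy⟩ := hg.2 x
    obtain ⟨y', hy'⟩ := hg.2 x'
    have hy1 : y ≫ g⟦q⟧' = x := hy
    have hy1' : y' ≫ g⟦q⟧' = x' := hy'
    rw [← hy1, ← hy1', hmap_postcomp, hmap_postcomp] at h
    have h2 := h'.1 ((cancel_mono _).1 h)
    rw [← hy1, ← hy1', h2]
  · intro φ
    obtain ⟨y, hy⟩ := h'.2 (φ ≫ inv ((homologyFunctor A q).map g))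
    refine ⟨y ≫ g⟦q⟧', ?_⟩
    rw [hmap_postcomp, hy, Category.assoc, IsIso.inv_hom_id, Category.comp_id]

/-! ## Truncations `τ_{<b}` -/

theorem isIso_homology_truncLTι (E : DerivedCategory A) (b j : ℤ) (hj : j < b) :
    IsIso ((homologyFunctor A j).map ((TStructure.t.truncLTι b).app E)) := by
  have hT : Pretriangulated.Triangle.mk ((TStructure.t.truncLTι b).app E)
      ((TStructure.t.truncGEπ b).app E) ((TStructure.t.truncGEδLT b).app E) ∈
      Pretriangulated.distinguishedTriangles := TStructure.t.triangleLTGE_distinguished b E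
  have h1 : IsZero ((homologyFunctor A (j - 1)).obj ((TStructure.t.truncGE b).obj E)) :=
    isZero_of_isGE _ b (j - 1) (by omega)
  have h2 : IsZero ((homologyFunctor A j).obj ((TStructure.t.truncGE b).obj E)) :=
    isZero_of_isGE _ b j hj
  have hm : Mono ((homologyFunctor A j).map ((TStructure.t.truncLTι b).app E)) :=
    (HomologySequence.mono_homologyMap_mor₁_iff _ hT (j - 1) j (by omega)).2 (h1.eq_of_src _ _)
  have he : Epi ((homologyFunctor A j).map ((TStructure.t.truncLTι b).app E)) :=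
    (HomologySequence.epi_homologyMap_mor₁_iff _ hT j).2 (h2.eq_of_tgt _ _)
  exact isIso_of_mono_of_epi _

theorem isZero_homology_truncLT (E : DerivedCategory A) (b j : ℤ) (hj : b ≤ j) :
    IsZero ((homologyFunctor A j).obj ((TStructure.t.truncLT b).obj E)) :=
  isZero_of_isLE _ (b - 1) j (by omega)

/-! ## Acyclicity hypotheses -/

/-- `Hom(P[0], H^j(K)[0][k]) = 0` for all `j` and all `k > 0`. -/
def HA (P : A) (K : DerivedCategory A) : Prop :=
  ∀ (j k : ℤ), 0 < k → Subsingleton ((singleFunctor A 0).obj P ⟶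
    ((singleFunctor A 0).obj ((homologyFunctor A j).obj K))⟦k⟧)

theorem HA_of_iso_or_zero (P : A) {K K' : DerivedCategory A}
    (h : ∀ j, IsZero ((homologyFunctor A j).obj K') ∨
      Nonempty ((homologyFunctor A j).obj K' ≅ (homologyFunctor A j).obj K))
    (hK : HA P K) : HA P K' := by
  intro j k hk
  rcases h j with hz | ⟨⟨e⟩⟩
  · exact subsingleton_hom_of_isZero
      ((CategoryTheory.shiftFunctor _ k).map_isZero ((singleFunctor A 0).map_isZero hz))
  · exact subsingleton_hom_of_iso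
      ((CategoryTheory.shiftFunctor _ k).mapIso ((singleFunctor A 0).mapIso e)) (hK j k hk)

theorem subsingleton_hom_of_single (P : A) (Z : DerivedCategory A) (q : ℤ) (hGE : Z.IsGE q)
    (hLE : Z.IsLE q) (j : ℤ)
    (h : Subsingleton ((singleFunctor A 0).obj P ⟶
      ((singleFunctor A 0).obj ((homologyFunctor A q).obj Z))⟦j - q⟧)) :
    Subsingleton ((singleFunctor A 0).obj P ⟶ Z⟦j⟧) := by
  haveI := hGE
  haveI := hLE
  obtain ⟨Y, ⟨e⟩⟩ := exists_iso_singleFunctor_obj_of_isGE_of_isLE Z q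
  let eY : Y ≅ (homologyFunctor A q).obj Z :=
    ((singleFunctorCompHomologyFunctorIso A q).app Y).symm ≪≫ (homologyFunctor A q).mapIso e.symm
  let e' : Z ≅ (singleFunctor A q).obj ((homologyFunctor A q).obj Z) :=
    e ≪≫ (singleFunctor A q).mapIso eY
  let s1 : ((singleFunctor A q).obj ((homologyFunctor A q).obj Z))⟦j⟧ ≅
      (singleFunctor A (q - j)).obj ((homologyFunctor A q).obj Z) :=
    ((singleFunctors A).shiftIso j (q - j) q (by omega)).app _
  let s2 : ((singleFunctor A 0).obj ((homologyFunctor A q).obj Z))⟦j - q⟧ ≅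
      (singleFunctor A (q - j)).obj ((homologyFunctor A q).obj Z) :=
    ((singleFunctors A).shiftIso (j - q) (q - j) 0 (by omega)).app _
  exact subsingleton_hom_of_iso
    ((CategoryTheory.shiftFunctor _ j).mapIso e' ≪≫ s1 ≪≫ s2.symm) h

/-- Vanishing of `Hom(P[0], V[j])` above the amplitude of `V`. -/
theorem vanishing (P : A) : ∀ (n : ℕ) (a : ℤ) (V : DerivedCategory A), V.IsGE a →
    V.IsLE (a + n - 1) → HA P V → ∀ j, a + n ≤ j →
    Subsingleton ((singleFunctor A 0).obj P ⟶ V⟦j⟧) := by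
  intro n
  induction n with
  | zero =>
    intro a V hGE hLE _ j _
    haveI := hGE
    haveI := hLE
    have hz : IsZero V := TStructure.t.isZero V (a + (0 : ℕ) - 1) a (by simp)
    exact subsingleton_hom_of_isZero ((CategoryTheory.shiftFunctor _ j).map_isZero hz)
  | succ n ih =>
    intro a V hGE hLE hA j hj
    haveI := hGE
    haveI := hLE
    have hT : Pretriangulated.Triangle.mk ((TStructure.t.truncLTι (a + 1)).app V)
        ((TStructure.t.truncGEπ (a + 1)).app V) ((TStructure.t.truncGEδLT (a + 1)).app V) ∈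
        Pretriangulated.distinguishedTriangles :=
      TStructure.t.triangleLTGE_distinguished (a + 1) V
    -- the first vertex
    have h1 : Subsingleton ((singleFunctor A 0).obj P ⟶
        ((TStructure.t.truncLT (a + 1)).obj V)⟦j⟧) := by
      have hi := isIso_homology_truncLTι V (a + 1) a (by omega)
      apply subsingleton_hom_of_single P _ a inferInstance inferInstance j
      exact subsingleton_hom_of_iso ((CategoryTheory.shiftFunctor _ (j - a)).mapIso
        ((singleFunctor A 0).mapIso (@asIso _ _ _ _ _ hi))) (hA a (j - a) (by push_cast at hj; omega))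
    -- the third vertex
    have h3 : Subsingleton ((singleFunctor A 0).obj P ⟶
        ((TStructure.t.truncGE (a + 1)).obj V)⟦j⟧) := by
      have hLE' : ((TStructure.t.truncGE (a + 1)).obj V).IsLE (a + 1 + n - 1) := by
        have : V.IsLE (a + 1 + n - 1) := by
          have e : a + 1 + (n : ℤ) - 1 = a + ((n + 1 : ℕ) : ℤ) - 1 := by push_cast; ring
          rw [e]
          exact hLE
        infer_instance
      refine ih (a + 1) _ inferInstance hLE' (HA_of_iso_or_zero P (fun i => ?_) hA) j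
        (by push_cast at hj; omega)
      by_cases hi : a + 1 ≤ i
      · have hiso := isIso_homology_truncGEπ V (a + 1) i hi
        exact Or.inr ⟨(@asIso _ _ _ _ _ hiso).symm⟩
      · exact Or.inl (isZero_homology_truncGE V (a + 1) i (by omega))
    exact subsingleton_hom_mid _ hT _ j h1 h3

/-- For `X` bounded below with acyclic cohomology objects, `hmap` is bijective. -/
theorem hmap_bijective_of_isGE (P : A) (X : DerivedCategory A) (a : ℤ) (hX : X.IsGE a)
    (hA : HA P X) (q : ℤ) : Function.Bijective (hmap P X q) := by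
  haveI := hX
  haveI : X.IsGE (min a q) := TStructure.t.isGE_of_ge X (min a q) a (min_le_left _ _)
  -- first step: `Y = τ_{<q+1} X ⟶ X`
  have hT1 : Pretriangulated.Triangle.mk ((TStructure.t.truncLTι (q + 1)).app X)
      ((TStructure.t.truncGEπ (q + 1)).app X) ((TStructure.t.truncGEδLT (q + 1)).app X) ∈
      Pretriangulated.distinguishedTriangles :=
    TStructure.t.triangleLTGE_distinguished (q + 1) X
  have horth : ∀ j : ℤ, j ≤ q → Subsingleton ((singleFunctor A 0).obj P ⟶
      ((TStructure.t.truncGE (q + 1)).obj X)⟦j⟧) := by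
    intro j hj
    haveI := TStructure.t.isGE_shift ((TStructure.t.truncGE (q + 1)).obj X) (q + 1) j (q + 1 - j)
      (by omega)
    exact ⟨fun f g => by
      rw [TStructure.t.zero f 0 (q + 1 - j) (by omega), TStructure.t.zero g 0 (q + 1 - j) (by omega)]⟩
  refine hmap_bijective_of_postcomp' ((TStructure.t.truncLTι (q + 1)).app X) q P
    (hom_bijective_mor₁ _ hT1 _ (q - 1) q (by omega) (horth (q - 1) (by omega)) (horth q le_rfl))
    (isIso_homology_truncLTι X (q + 1) q (by omega)) ?_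
  -- second step: `Y ⟶ Z = τ_{≥q} Y`
  have hT2 : Pretriangulated.Triangle.mk
      ((TStructure.t.truncLTι q).app ((TStructure.t.truncLT (q + 1)).obj X))
      ((TStructure.t.truncGEπ q).app ((TStructure.t.truncLT (q + 1)).obj X))
      ((TStructure.t.truncGEδLT q).app ((TStructure.t.truncLT (q + 1)).obj X)) ∈
      Pretriangulated.distinguishedTriangles :=
    TStructure.t.triangleLTGE_distinguished q _
  have hAV : HA P ((TStructure.t.truncLT q).obj ((TStructure.t.truncLT (q + 1)).obj X)) := by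
    refine HA_of_iso_or_zero P (fun i => ?_) hA
    by_cases hi : i < q
    · have hi1 := isIso_homology_truncLTι ((TStructure.t.truncLT (q + 1)).obj X) q i hi
      have hi2 := isIso_homology_truncLTι X (q + 1) i (by omega)
      exact Or.inr ⟨@asIso _ _ _ _ _ hi1 ≪≫ @asIso _ _ _ _ _ hi2⟩
    · exact Or.inl (isZero_homology_truncLT _ q i (by omega))
  have hvan : ∀ j : ℤ, q ≤ j → Subsingleton ((singleFunctor A 0).obj P ⟶
      ((TStructure.t.truncLT q).obj ((TStructure.t.truncLT (q + 1)).obj X))⟦j⟧) := by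
    intro j hj
    have hLE' : ((TStructure.t.truncLT q).obj ((TStructure.t.truncLT (q + 1)).obj X)).IsLE
        (min a q + ((q - min a q).toNat : ℕ) - 1) :=
      TStructure.t.isLE_of_le _ (q - 1) _ (by
        have := Int.self_le_toNat (q - min a q)
        omega)
    refine vanishing P (q - min a q).toNat (min a q) _ inferInstance hLE' hAV j ?_
    have h1 : ((q - min a q).toNat : ℤ) = q - min a q :=
      Int.toNat_of_nonneg (by have := min_le_right a q; omega)
    omega
  refine hmap_bijective_of_postcomp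
    ((TStructure.t.truncGEπ q).app ((TStructure.t.truncLT (q + 1)).obj X)) q P
    (hom_bijective_mor₂ _ hT2 _ q (hvan q le_rfl) (hvan (q + 1) (by omega)))
    (isIso_homology_truncGEπ _ q q le_rfl) ?_
  exact hmap_bijective_of_single P _ q inferInstance inferInstance

end Groth.Agent.H33.HMap
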