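import Groth.Agent.H33.HMapSite

/-!
# Cohomology sheaves of a derived limit (Stacks, Cohomology on Sites 21.23)
-/

set_option autoImplicit false
universe u

namespace Groth.Agent.H33.HMapLim

open CategoryTheory Limits Opposite DerivedCategory
open Groth.Agent.H5.HDULib Groth.Agent.H33.RlimSite Groth.Agent.H33.RlimTrunc Groth.Agent.H33.HMap
  Groth.Agent.H33.HMapSite

theorem limOne_transport (A A' : ℕ → Type u) [∀ n, AddCommGroup (A n)]
    [∀ n, AddCommGroup (A' n)] (t : ∀ n, A (n + 1) →+ A n) (t' : ∀ n, A' (n + 1) →+ A' n)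
    (h : CohCx.LimOneIsZero A' t') (r : ∀ n, A n →+ A' n) (hr : ∀ n, Function.Bijective (r n))
    (hc : ∀ n (y : A (n + 1)), r n (t n y) = t' n (r (n + 1) y)) : CohCx.LimOneIsZero A t := by
  intro x
  obtain ⟨a', ha'⟩ := h (fun n => r n (x n))
  have hinv : ∀ n, ∃ b : A n, r n b = a' n := fun n => (hr n).2 _
  choose b hb using hinv
  refine ⟨b, funext fun n => (hr n).1 ?_⟩
  have h1 : a' n - t' n (a' (n + 1)) = r n (x n) := congrFun ha' n
  change r n (b n - t n (b (n + 1))) = r n (x n)
  rw [map_sub, hc, hb, hb]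
  exact h1

variable {C : Type u} [SmallCategory C] {J : GrothendieckTopology C}
  [HasDerivedCategory.{u} (Sheaf J AddCommGrpCat.{u})]

theorem ρ_nat_K {K K' : DerivedCategory (Sheaf J AddCommGrpCat.{u})} (g : K ⟶ K') (q : ℤ) (W : C)
    (y : CohCx.HDU K q W) :
    ρ K' q W (y ≫ g⟦q⟧') = sec J ((DerivedCategory.homologyFunctor _ q).map g) W (ρ K q W y) := by
  rw [ρ_apply, ρ_apply, hmap_postcomp, evalGen_comp]

theorem ρ_nat_W (K : DerivedCategory (Sheaf J AddCommGrpCat.{u})) (q : ℤ) {V W : C} (i : W ⟶ V)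
    (y : CohCx.HDU K q V) :
    ρ K q W ((DerivedCategory.singleFunctor (Sheaf J AddCommGrpCat.{u}) 0).map
      (CohCx.freeSheafMap J i) ≫ y) = ((CohCx.HD K q).obj.map i.op).hom (ρ K q V y) := by
  rw [ρ_apply, ρ_apply, hmap_precomp, CohFree.evalGen_freeSheafMap_comp]

theorem ρ_bijective_of_single (Z : DerivedCategory (Sheaf J AddCommGrpCat.{u})) (q : ℤ)
    (hGE : Z.IsGE q) (hLE : Z.IsLE q) (W : C) : Function.Bijective (ρ Z q W) :=
  (CohFree.homEquivSect J W (CohCx.HD Z q)).bijective.comp
    (hmap_bijective_of_single _ Z q hGE hLE)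

theorem sec_inv_cancel {F G : Sheaf J AddCommGrpCat.{u}} (φ : F ⟶ G) [IsIso φ] (W : C)
    (t : G.obj.obj (op W)) : sec J φ W (sec J (inv φ) W t) = t := by
  rw [← sec_comp, IsIso.inv_hom_id, sec_id]

/-- Classes of degree above the amplitude vanish locally. -/
theorem locally_zero (X' : DerivedCategory (Sheaf J AddCommGrpCat.{u})) (j : ℤ)
    (hX : X'.IsLE (j - 1)) (V : C) (x : CohCx.HDU X' j V) :
    ∃ T ∈ J V, ∀ (W : C) (i : W ⟶ V), T i →
      (DerivedCategory.singleFunctor (Sheaf J AddCommGrpCat.{u}) 0).map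
        (CohCx.freeSheafMap J i) ≫ x = 0 := by
  obtain ⟨M, hM, ⟨e⟩⟩ := exists_kinj_model X'
  haveI := hM
  obtain ⟨a, ha, hcls⟩ := cls_surjective (CohCx.freeSheaf J V) M j (x ≫ (e.inv)⟦j⟧')
  have hz : IsZero (M.homology j) := by
    haveI := hX
    exact IsZero.of_iso (isZero_of_isLE X' (j - 1) j (by omega))
      (((homologyFunctorFactors _ j).app M).symm ≪≫ (homologyFunctor _ j).mapIso e)
  have hex : (M.sc' (j - 1) j (j + 1)).Exact :=
    (M.exactAt_iff' (j - 1) j (j + 1) (by simp) (by simp)).1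
      ((M.exactAt_iff_isZero_homology j).2 hz)
  obtain ⟨T, hT, hT'⟩ := locally_of_exact J _ hex V (CohFree.evalGen J V _ a) (by
    change sec J (M.d j (j + 1)) V (CohFree.evalGen J V _ a) = 0
    rw [← evalGen_comp, ha]
    exact map_zero _)
  refine ⟨T, hT, fun W i hi => ?_⟩
  obtain ⟨(r : (M.X (j - 1)).obj.obj (op W)), hr⟩ := hT' W i hi
  have hr' : sec J (M.d (j - 1) j) W r =
      ((M.X j).obj.map i.op).hom (CohFree.evalGen J V _ a) := hr
  have h0 : (DerivedCategory.singleFunctor (Sheaf J AddCommGrpCat.{u}) 0).map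
      (CohCx.freeSheafMap J i) ≫ cls (CohCx.freeSheaf J V) M j a ha =
      cls (CohCx.freeSheaf J W) M j (CohCx.freeSheafMap J i ≫ a)
        (by rw [Category.assoc, ha, comp_zero]) :=
    cls_precomp (CohCx.freeSheaf J V) M j (CohCx.freeSheafMap J i) a ha
  have hc : cls (CohCx.freeSheaf J W) M j (CohCx.freeSheafMap J i ≫ a)
      (by rw [Category.assoc, ha, comp_zero]) = 0 := by
    rw [cls_eq_zero_iff _ M j _ _ (j - 1) (by simp)]
    refine ⟨CohFree.ofSect J W _ r, ?_⟩
    rw [← ofSect_comp, hr', ofSect_map, CohFree.ofSect_evalGen]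
  have h1 : ((DerivedCategory.singleFunctor (Sheaf J AddCommGrpCat.{u}) 0).map
      (CohCx.freeSheafMap J i) ≫ x) ≫ (e.inv)⟦j⟧' = 0 :=
    (Category.assoc _ _ _).trans ((congrArg (fun w =>
      (DerivedCategory.singleFunctor (Sheaf J AddCommGrpCat.{u}) 0).map
        (CohCx.freeSheafMap J i) ≫ w) hcls.symm).trans (h0.trans hc))
  rw [← cancel_mono ((e.inv)⟦j⟧'), zero_comp]
  exact h1

/-- Every section of `H^q(K)` is locally the image under `ρ` of a cohomology class. -/
theorem ρ_locally_surjective (K : DerivedCategory (Sheaf J AddCommGrpCat.{u})) (q : ℤ) (V : C)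
    (γ : (CohCx.HD K q).obj.obj (op V)) :
    ∃ T ∈ J V, ∀ (W : C) (i : W ⟶ V), T i →
      ∃ y : CohCx.HDU K q W, ρ K q W y = ((CohCx.HD K q).obj.map i.op).hom γ := by
  have hι := isIso_homology_truncLTι K (q + 1) q (by omega)
  have hπ := isIso_homology_truncGEπ ((TStructure.t.truncLT (q + 1)).obj K) q q le_rfl
  have hT2 : Pretriangulated.Triangle.mk
      ((TStructure.t.truncLTι q).app ((TStructure.t.truncLT (q + 1)).obj K))
      ((TStructure.t.truncGEπ q).app ((TStructure.t.truncLT (q + 1)).obj K))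
      ((TStructure.t.truncGEδLT q).app ((TStructure.t.truncLT (q + 1)).obj K)) ∈
      Pretriangulated.distinguishedTriangles :=
    TStructure.t.triangleLTGE_distinguished q _
  -- the section transported to `Z`
  obtain ⟨z, hz⟩ := (ρ_bijective_of_single
    ((TStructure.t.truncGE q).obj ((TStructure.t.truncLT (q + 1)).obj K)) q inferInstance
    inferInstance V).2
    (sec J ((homologyFunctor _ q).map
      ((TStructure.t.truncGEπ q).app ((TStructure.t.truncLT (q + 1)).obj K))) V
      (sec J (inv ((homologyFunctor _ q).map ((TStructure.t.truncLTι (q + 1)).app K))) V γ))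
  -- the obstruction
  have hLE : ((TStructure.t.truncLT q).obj ((TStructure.t.truncLT (q + 1)).obj K)).IsLE
      (q + 1 - 1) := TStructure.t.isLE_of_le _ (q - 1) _ (by omega)
  obtain ⟨T, hT, hT'⟩ := locally_zero
    ((TStructure.t.truncLT q).obj ((TStructure.t.truncLT (q + 1)).obj K)) (q + 1) hLE V
    ((preadditiveCoyoneda.obj (op ((DerivedCategory.singleFunctor
      (Sheaf J AddCommGrpCat.{u}) 0).obj (CohCx.freeSheaf J V)))).homologySequenceδ
      (Pretriangulated.Triangle.mk
        ((TStructure.t.truncLTι q).app ((TStructure.t.truncLT (q + 1)).obj K))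
        ((TStructure.t.truncGEπ q).app ((TStructure.t.truncLT (q + 1)).obj K))
        ((TStructure.t.truncGEδLT q).app ((TStructure.t.truncLT (q + 1)).obj K)))
      q (q + 1) rfl z)
  refine ⟨T, hT, fun W i hi => ?_⟩
  have hδ : (preadditiveCoyoneda.obj (op ((DerivedCategory.singleFunctor
      (Sheaf J AddCommGrpCat.{u}) 0).obj (CohCx.freeSheaf J W)))).homologySequenceδ
      (Pretriangulated.Triangle.mk
        ((TStructure.t.truncLTι q).app ((TStructure.t.truncLT (q + 1)).obj K))
        ((TStructure.t.truncGEπ q).app ((TStructure.t.truncLT (q + 1)).obj K))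
        ((TStructure.t.truncGEδLT q).app ((TStructure.t.truncLT (q + 1)).obj K))) q (q + 1) rfl
      ((DerivedCategory.singleFunctor (Sheaf J AddCommGrpCat.{u}) 0).map
        (CohCx.freeSheafMap J i) ≫ z) = 0 := by
    have h1 := hT' W i hi
    refine (Pretriangulated.preadditiveCoyoneda_homologySequenceδ_apply
      (Pretriangulated.Triangle.mk
        ((TStructure.t.truncLTι q).app ((TStructure.t.truncLT (q + 1)).obj K))
        ((TStructure.t.truncGEπ q).app ((TStructure.t.truncLT (q + 1)).obj K))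
        ((TStructure.t.truncGEδLT q).app ((TStructure.t.truncLT (q + 1)).obj K)))
      q (q + 1) rfl _).trans ?_
    refine (Category.assoc _ _ _).trans ?_
    refine Eq.trans ?_ h1
    exact congrArg (fun w => (DerivedCategory.singleFunctor (Sheaf J AddCommGrpCat.{u}) 0).map
        (CohCx.freeSheafMap J i) ≫ w)
      (Pretriangulated.preadditiveCoyoneda_homologySequenceδ_apply
      (Pretriangulated.Triangle.mk
        ((TStructure.t.truncLTι q).app ((TStructure.t.truncLT (q + 1)).obj K))
        ((TStructure.t.truncGEπ q).app ((TStructure.t.truncLT (q + 1)).obj K))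
        ((TStructure.t.truncGEδLT q).app ((TStructure.t.truncLT (q + 1)).obj K)))
      q (q + 1) rfl z).symm
  have ex := (preadditiveCoyoneda.obj (op ((DerivedCategory.singleFunctor
      (Sheaf J AddCommGrpCat.{u}) 0).obj (CohCx.freeSheaf J W)))).homologySequence_exact₃ _ hT2
      q (q + 1) rfl
  rw [ShortComplex.ab_exact_iff] at ex
  obtain ⟨(xW : (DerivedCategory.singleFunctor (Sheaf J AddCommGrpCat.{u}) 0).obj
      (CohCx.freeSheaf J W) ⟶ ((TStructure.t.truncLT (q + 1)).obj K)⟦q⟧), hxW⟩ := ex _ hδ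
  have hxW' : xW ≫ ((TStructure.t.truncGEπ q).app ((TStructure.t.truncLT (q + 1)).obj K))⟦q⟧' =
      (DerivedCategory.singleFunctor (Sheaf J AddCommGrpCat.{u}) 0).map
        (CohCx.freeSheafMap J i) ≫ z := hxW
  refine ⟨xW ≫ ((TStructure.t.truncLTι (q + 1)).app K)⟦q⟧', ?_⟩
  have e3 : ρ K q W (xW ≫ ((TStructure.t.truncLTι (q + 1)).app K)⟦q⟧') =
      sec J ((homologyFunctor _ q).map ((TStructure.t.truncLTι (q + 1)).app K)) W
        (ρ ((TStructure.t.truncLT (q + 1)).obj K) q W xW) :=
    ρ_nat_K ((TStructure.t.truncLTι (q + 1)).app K) q W xW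
  rw [e3]
  have h2 : sec J ((homologyFunctor _ q).map
      ((TStructure.t.truncGEπ q).app ((TStructure.t.truncLT (q + 1)).obj K))) W
      (ρ ((TStructure.t.truncLT (q + 1)).obj K) q W xW) =
      sec J ((homologyFunctor _ q).map
      ((TStructure.t.truncGEπ q).app ((TStructure.t.truncLT (q + 1)).obj K))) W
      (sec J (inv ((homologyFunctor _ q).map ((TStructure.t.truncLTι (q + 1)).app K))) W
        (((CohCx.HD K q).obj.map i.op).hom γ)) := by
    have e1 : ρ ((TStructure.t.truncGE q).obj ((TStructure.t.truncLT (q + 1)).obj K)) q W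
        (xW ≫ ((TStructure.t.truncGEπ q).app ((TStructure.t.truncLT (q + 1)).obj K))⟦q⟧') =
        sec J ((homologyFunctor _ q).map
          ((TStructure.t.truncGEπ q).app ((TStructure.t.truncLT (q + 1)).obj K))) W
          (ρ ((TStructure.t.truncLT (q + 1)).obj K) q W xW) :=
      ρ_nat_K ((TStructure.t.truncGEπ q).app ((TStructure.t.truncLT (q + 1)).obj K)) q W xW
    have e2 : ρ ((TStructure.t.truncGE q).obj ((TStructure.t.truncLT (q + 1)).obj K)) q W
        ((DerivedCategory.singleFunctor (Sheaf J AddCommGrpCat.{u}) 0).map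
          (CohCx.freeSheafMap J i) ≫ z) =
        ((CohCx.HD ((TStructure.t.truncGE q).obj ((TStructure.t.truncLT (q + 1)).obj K))
          q).obj.map i.op).hom
          (ρ ((TStructure.t.truncGE q).obj ((TStructure.t.truncLT (q + 1)).obj K)) q V z) :=
      ρ_nat_W _ q i z
    rw [← e1, hxW', e2, hz]
    exact (sec_map J ((homologyFunctor _ q).map
        ((TStructure.t.truncGEπ q).app ((TStructure.t.truncLT (q + 1)).obj K))) i _).symm.trans
      (congrArg (sec J ((homologyFunctor _ q).map
        ((TStructure.t.truncGEπ q).app ((TStructure.t.truncLT (q + 1)).obj K))) W)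
        (sec_map J (inv ((homologyFunctor _ q).map ((TStructure.t.truncLTι (q + 1)).app K)))
          i γ).symm)
  have h3 := sec_injective_of_mono J ((homologyFunctor _ q).map
      ((TStructure.t.truncGEπ q).app ((TStructure.t.truncLT (q + 1)).obj K))) W h2
  rw [h3]
  exact sec_inv_cancel ((homologyFunctor _ q).map ((TStructure.t.truncLTι (q + 1)).app K)) W _

/-- `H^q(R lim K_n) ≅ lim H^q(K_n)` under acyclicity and Mittag-Leffler type hypotheses on a
covering class. -/
theorem cohomology_sheaves_of_rlim (K : ℕ → DerivedCategory (Sheaf J AddCommGrpCat.{u}))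
    (t : ∀ n, K (n + 1) ⟶ K n) [HasProduct K] (L : DerivedCategory (Sheaf J AddCommGrpCat.{u}))
    (a : ∀ n, L ⟶ K n) (hL : CohCx.IsRlimVia K t L a) (B : Set C)
    (hB : ∀ U : C, ∃ (ι : Type u) (Y : ι → C) (f : ∀ i, Y i ⟶ U),
      Sieve.ofArrows Y f ∈ J U ∧ ∀ i, Y i ∈ B)
    (h1 : ∀ U ∈ B, ∀ (p : ℕ) (q : ℤ) (n : ℕ),
      Subsingleton (CohSite.HU (CohCx.HD (K n) q) (p + 1) U))
    (h2 : ∀ U ∈ B, ∀ (q : ℤ), CohCx.LimOneIsZero (fun n => (CohCx.HD (K n) q).obj.obj (op U))
      (fun n => (((DerivedCategory.homologyFunctor _ q).map (t n)).hom.app (op U)).hom))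
    (q : ℤ) :
    Nonempty (CohCx.HD L q ≅ limit (CohCx.opSequence (fun n => CohCx.HD (K n) q)
      (fun n => (DerivedCategory.homologyFunctor _ q).map (t n)))) := by
  have hρK : ∀ (n : ℕ) (U : C), U ∈ B → ∀ j : ℤ, Function.Bijective (ρ (K n) j U) :=
    fun n U hU j => ρ_bijective_of_B (K n) B hB (fun U hU p q => h1 U hU p q n) U hU j
  have hα : ∀ n, (homologyFunctor _ q).map (a (n + 1)) ≫ (homologyFunctor _ q).map (t n) =
      (homologyFunctor _ q).map (a n) := fun n => by
    rw [← Functor.map_comp, isRlimVia_comp K t L a hL]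
  let cπ : (Functor.const ℕᵒᵖ).obj (CohCx.HD L q) ⟶
      CohCx.opSequence (fun n => CohCx.HD (K n) q)
        (fun n => (DerivedCategory.homologyFunctor _ q).map (t n)) :=
    NatTrans.ofOpSequence (fun n => (homologyFunctor _ q).map (a n)) (fun n => by
      rw [Functor.ofOpSequence_map_homOfLE_succ]
      exact (Category.id_comp _).trans (hα n).symm)
  obtain ⟨Ψ, hΨ⟩ : ∃ Ψ : CohCx.HD L q ⟶ limit (CohCx.opSequence (fun n => CohCx.HD (K n) q)
      (fun n => (DerivedCategory.homologyFunctor _ q).map (t n))),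
      ∀ n : ℕ, Ψ ≫ limit.π _ (op n) = (homologyFunctor _ q).map (a n) :=
    ⟨limit.lift _ (Cone.mk _ cπ), fun n => limit.lift_π _ _⟩
  have hw : ∀ n : ℕ, limit.π (CohCx.opSequence (fun n => CohCx.HD (K n) q)
      (fun n => (DerivedCategory.homologyFunctor _ q).map (t n))) (op (n + 1)) ≫
      (homologyFunctor _ q).map (t n) = limit.π _ (op n) := fun n => by
    have := limit.w (CohCx.opSequence (fun n => CohCx.HD (K n) q)
      (fun n => (DerivedCategory.homologyFunctor _ q).map (t n)))
      (homOfLE (Nat.le_add_right n 1)).op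
    rw [Functor.ofOpSequence_map_homOfLE_succ] at this
    exact this
  have hext : ∀ (W : C) (x y : (limit (CohCx.opSequence (fun n => CohCx.HD (K n) q)
      (fun n => (DerivedCategory.homologyFunctor _ q).map (t n)))).obj.obj (op W)),
      (∀ n : ℕ, sec J (limit.π _ (op n)) W x = sec J (limit.π _ (op n)) W y) → x = y := by
    intro W x y hxy
    refine Concrete.isLimit_ext _ (isLimitOfPreserves
      (sheafToPresheaf J AddCommGrpCat.{u} ⋙ (evaluation Cᵒᵖ AddCommGrpCat.{u}).obj (op W))
      (limit.isLimit (CohCx.opSequence (fun n => CohCx.HD (K n) q)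
        (fun n => (DerivedCategory.homologyFunctor _ q).map (t n))))) x y (fun j => ?_)
    induction j using Opposite.rec with
    | _ n => exact hxy n
  have hkill : ∀ (W : C), W ∈ B → ∀ y : CohCx.HDU L q W,
      (∀ n, sec J ((homologyFunctor _ q).map (a n)) W (ρ L q W y) = 0) → y = 0 := by
    intro W hW y hy
    have hya : ∀ n, y ≫ (a n)⟦q⟧' = 0 := fun n => (hρK n W hW q).1 (by
      rw [ρ_nat_K, hy n, map_zero])
    have hlim : CohCx.LimOneIsZero (fun n => CohCx.HDU (K n) (q - 1) W)
        (fun n => Preadditive.rightComp _ ((CategoryTheory.shiftFunctor _ (q - 1)).map (t n))) :=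
      limOne_transport _ _ _ _ (h2 W hW (q - 1)) (fun n => ρ (K n) (q - 1) W)
        (fun n => hρK n W hW (q - 1)) (fun n y => ρ_nat_K (t n) (q - 1) W y)
    exact (Groth.Agent.S0943.rlim_hom_lifts K t L a hL _ q).2 hlim y hya
  have hmono : Mono Ψ := by
    apply Sheaf.mono_of_injective
    intro X
    induction X using Opposite.rec with
    | _ U =>
      refine (injective_iff_map_eq_zero (sec J Ψ U)).2 (fun γ hγ => ?_)
      have hαγ : ∀ n, sec J ((homologyFunctor _ q).map (a n)) U γ = 0 := fun n => by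
        have e0 := congrArg (fun φ => sec J φ U γ) (hΨ n)
        have e : sec J (limit.π (CohCx.opSequence (fun n => CohCx.HD (K n) q)
            (fun n => (DerivedCategory.homologyFunctor _ q).map (t n))) (op n)) U (sec J Ψ U γ) =
            sec J ((homologyFunctor _ q).map (a n)) U γ := e0
        rw [← e, hγ, map_zero]
        rfl
      obtain ⟨T, hT, hT'⟩ := ρ_locally_surjective L q U γ
      obtain ⟨ι, Y, f, hfT, hcov, hYB⟩ := refine_in_B B hB U T hT
      refine (CohCx.HD L q).isSeparated U _ hcov γ 0 (fun W g hg => ?_)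
      obtain ⟨i, k, rfl⟩ := (Sieve.mem_ofArrows_iff Y f g).1 hg
      have h0 : ((CohCx.HD L q).obj.map (f i).op).hom γ = 0 := by
        obtain ⟨y, hy⟩ := hT' (Y i) (f i) (hfT i)
        have hy0 : y = 0 := hkill (Y i) (hYB i) y (fun n => by
          rw [hy]
          exact (sec_map J ((homologyFunctor _ q).map (a n)) (f i) γ).trans
            (by rw [hαγ n, map_zero]))
        rw [← hy, hy0, map_zero]
      rw [op_comp, Functor.map_comp, ConcreteCategory.comp_apply]
      erw [h0]
      rw [map_zero, map_zero]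
  have hepi : Epi Ψ := by
    rw [← Sheaf.isLocallySurjective_iff_epi']
    constructor
    intro U s
    obtain ⟨ι, Y, f, hcov, hYB⟩ := hB U
    refine J.superset_covering ?_ hcov
    intro W g hg
    obtain ⟨i, k, rfl⟩ := (Sieve.mem_ofArrows_iff Y f g).1 hg
    apply Sieve.downward_closed
    have hsn : ∀ n : ℕ, sec J ((homologyFunctor _ q).map (t n)) (Y i)
        (sec J (limit.π _ (op (n + 1))) (Y i) (((limit (CohCx.opSequence
          (fun n => CohCx.HD (K n) q)
          (fun n => (DerivedCategory.homologyFunctor _ q).map (t n)))).obj.map (f i).op).hom s)) =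
        sec J (limit.π _ (op n)) (Y i) (((limit (CohCx.opSequence
          (fun n => CohCx.HD (K n) q)
          (fun n => (DerivedCategory.homologyFunctor _ q).map (t n)))).obj.map (f i).op).hom s) :=
      fun n => by
        have e0 := congrArg (fun φ => sec J φ (Y i) (((limit (CohCx.opSequence
          (fun n => CohCx.HD (K n) q)
          (fun n => (DerivedCategory.homologyFunctor _ q).map (t n)))).obj.map (f i).op).hom s))
          (hw n)
        exact e0
    have hyn : ∀ n : ℕ, ∃ y : CohCx.HDU (K n) q (Y i), ρ (K n) q (Y i) y =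
        sec J (limit.π _ (op n)) (Y i) (((limit (CohCx.opSequence
          (fun n => CohCx.HD (K n) q)
          (fun n => (DerivedCategory.homologyFunctor _ q).map (t n)))).obj.map (f i).op).hom s) :=
      fun n => (hρK n (Y i) (hYB i) q).2 _
    choose yn hyn using hyn
    have hcompat : ∀ n, yn (n + 1) ≫ (t n)⟦q⟧' = yn n := fun n =>
      (hρK n (Y i) (hYB i) q).1 (by rw [ρ_nat_K, hyn, hyn, hsn])
    obtain ⟨y, hy⟩ := (Groth.Agent.S0943.rlim_hom_lifts K t L a hL _ q).1 yn hcompat
    refine ⟨ρ L q (Y i) y, ?_⟩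
    change sec J Ψ (Y i) (ρ L q (Y i) y) = _
    apply hext
    intro n
    have e0 := congrArg (fun φ => sec J φ (Y i) (ρ L q (Y i) y)) (hΨ n)
    have e7 : sec J (limit.π (CohCx.opSequence (fun n => CohCx.HD (K n) q)
        (fun n => (DerivedCategory.homologyFunctor _ q).map (t n))) (op n)) (Y i)
        (sec J Ψ (Y i) (ρ L q (Y i) y)) =
        sec J ((homologyFunctor _ q).map (a n)) (Y i) (ρ L q (Y i) y) := e0
    have e8 : sec J ((homologyFunctor _ q).map (a n)) (Y i) (ρ L q (Y i) y) =
        ρ (K n) q (Y i) (yn n) := by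
      rw [← ρ_nat_K, hy]
    exact e7.trans (e8.trans (hyn n))
  haveI := isIso_of_mono_of_epi Ψ
  exact ⟨asIso Ψ⟩

end Groth.Agent.H33.HMapLim
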