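import Groth.Agent.H33.RHomExact
import Groth.Agent.H31.KFlatRing
import Groth.Agent.H31.KFlatBounded
import Groth.Agent.H35.Devissage

/-!
# K-flatness of `Hom•(P, K)` for `P` perfect and `K` K-flat (helper33)
-/

set_option autoImplicit false
set_option linter.unusedSectionVars false
universe u
open CategoryTheory CategoryTheory.Limits MonoidalCategory HomologicalComplex CochainComplex
open CochainComplex.HomComplex
attribute [local instance] HasDerivedCategory.standard

namespace Groth.Agent.H33.HomKFlat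
open Groth.Agent.H33.TensorHom Groth.Agent.H33.RHomExact Groth.Agent.H31 Groth.Agent.H31.KFlat
open Groth.Agent.H31.KFlatRing

variable {A : Type u} [CommRing A]

/-- precomposition with a cochain, as a linear map on cochains. -/
noncomputable def precompGen {P' P : DRing.Cx A} {m : ℤ} (c : Cochain P' P m) (L : DRing.Cx A)
    (i j : ℤ) (h : m + i = j) : Cochain P L i →ₗ[A] Cochain P' L j where
  toFun z := c.comp z h
  map_add' z z' := by simp
  map_smul' a z := by simp

lemma homCxPre_id (P L : DRing.Cx A) : homCxPre (𝟙 P) L = 𝟙 _ := by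
  refine hom_ext_uval _ _ (fun n p q hq z x => ?_)
  rw [uval_homCxPre, uval_id]
  rfl

/-- `Hom•(-, K)` preserves homotopies. -/
lemma homCxPre_homotopy {P' P : DRing.Cx A} {u v : P' ⟶ P} (h : Homotopy u v) (K : DRing.Cx A) :
    Nonempty (Homotopy (homCxPre u K) (homCxPre v K)) := by
  obtain ⟨η, hη⟩ := Cochain.equivHomotopy u v h
  let Z : Cochain (DRing.homCx P K) (DRing.homCx P' K) (-1) :=
    Cochain.mk (fun p q hpq => ModuleCat.ofHom (p.negOnePow • precompGen η K p q (by omega)))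
  refine ⟨(Cochain.equivHomotopy _ _).symm ⟨Z, ?_⟩⟩
  refine Cochain.ext _ _ (fun p q hpq => ?_)
  obtain rfl : p = q := by omega
  rw [Cochain.add_v, δ_v (-1) 0 (by omega) Z p p (by omega) (p - 1) (p + 1) (by omega) (by omega),
    Cochain.ofHom_v, Cochain.ofHom_v]
  refine ModuleCat.hom_ext (LinearMap.ext (fun (z : Cochain P K p) => ?_))
  show (Cochain.ofHom u).comp z (zero_add p) =
    (δ (p - 1) p (p.negOnePow • η.comp z (by omega)) +
      (0 : ℤ).negOnePow • ((p + 1).negOnePow • η.comp (δ p (p + 1) z) (by omega))) +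
      (Cochain.ofHom v).comp z (zero_add p)
  rw [hη, Cochain.add_comp, δ_units_smul, δ_comp η z (show -1 + p = p - 1 by omega) 0 (p + 1) p
    (by omega) (by omega) rfl, Int.negOnePow_zero, one_smul, Int.negOnePow_succ, smul_add,
    smul_smul, Units.neg_smul, ← Int.negOnePow_add]
  have h1 : (p + p).negOnePow = 1 := Int.negOnePow_even _ ⟨p, rfl⟩
  rw [h1, one_smul]
  abel

/-- K-flatness passes to homotopy retracts. -/
lemma isKFlat_of_homotopy_retract {X Y : DRing.Cx A} (i : Y ⟶ X) (r : X ⟶ Y)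
    (h : Homotopy (i ≫ r) (𝟙 Y)) (hX : DRing.IsKFlat A X) : DRing.IsKFlat A Y := by
  intro L hL n
  have H : Homotopy (L ◁ (i ≫ r)) (L ◁ 𝟙 Y) :=
    mapBifunctorMapHomotopy₂ (𝟙 L) h (curriedTensor (ModuleCat.{u} A)) (ComplexShape.up ℤ)
  have e := H.homologyMap_eq n
  rw [MonoidalCategory.whiskerLeft_id, homologyMap_id, MonoidalCategory.whiskerLeft_comp,
    homologyMap_comp] at e
  rw [IsZero.iff_id_eq_zero, ← e, (hX L hL n).eq_of_tgt (homologyMap (L ◁ i) n) 0, zero_comp]

lemma isKFlat_of_iso {X Y : DRing.Cx A} (e : X ≅ Y) (hX : DRing.IsKFlat A X) :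
    DRing.IsKFlat A Y :=
  isKFlat_of_homotopy_retract e.inv e.hom (Homotopy.ofEq e.inv_hom_id) hX

/-- two maps from a K-projective complex with the same image in `D(A)` are homotopic. -/
lemma homotopy_of_Q_map_eq {P L : DRing.Cx A} [P.IsKProjective] (f g : P ⟶ L)
    (h : (DerivedCategory.Q : DRing.Cx A ⥤ Dual.D A).map f = DerivedCategory.Q.map g) :
    Nonempty (Homotopy f g) := by
  refine ⟨HomotopyCategory.homotopyOfEq f g ?_⟩
  apply (CochainComplex.IsKProjective.Qh_map_bijective P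
    ((HomotopyCategory.quotient (ModuleCat.{u} A) (ComplexShape.up ℤ)).obj L)).injective
  have nat := fun φ : P ⟶ L => (DerivedCategory.quotientCompQhIso (ModuleCat.{u} A)).hom.naturality φ
  have h1 : ∀ φ : P ⟶ L, DerivedCategory.Qh.map
      ((HomotopyCategory.quotient (ModuleCat.{u} A) (ComplexShape.up ℤ)).map φ) =
      (DerivedCategory.quotientCompQhIso (ModuleCat.{u} A)).hom.app P ≫ DerivedCategory.Q.map φ ≫
        (DerivedCategory.quotientCompQhIso (ModuleCat.{u} A)).inv.app L := by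
    intro φ
    rw [← Category.assoc, ← nat φ, Category.assoc, Iso.hom_inv_id_app, Category.comp_id]
    rfl
  rw [h1 f, h1 g, h]

/-- invariance of K-flatness of `Hom•(-, K)` under isomorphisms in `D(A)` of bounded above
complexes of projectives. -/
lemma isKFlat_homCx_of_iso_Q {E P : DRing.Cx A} (hE : BPC E) (hP : BPC P)
    (e : (DerivedCategory.Q : DRing.Cx A ⥤ Dual.D A).obj E ≅ DerivedCategory.Q.obj P)
    (K : DRing.Cx A) (h : DRing.IsKFlat A (DRing.homCx E K)) :
    DRing.IsKFlat A (DRing.homCx P K) := by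
  haveI := hE.isKProjective
  haveI := hP.isKProjective
  obtain ⟨φ, hφ⟩ := exists_Q_map_eq_of_isKProjective E P e.hom
  obtain ⟨ψ, hψ⟩ := exists_Q_map_eq_of_isKProjective P E e.inv
  obtain ⟨H⟩ := homotopy_of_Q_map_eq (ψ ≫ φ) (𝟙 P) (by
    rw [Functor.map_comp, hφ, hψ, e.inv_hom_id, CategoryTheory.Functor.map_id])
  obtain ⟨H'⟩ := homCxPre_homotopy H K
  refine isKFlat_of_homotopy_retract (homCxPre φ K) (homCxPre ψ K) ?_ h
  rw [← homCxPre_comp]
  exact H'.trans (Homotopy.ofEq (homCxPre_id P K))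

/-! ### degreewise split short exact sequences -/

/-- the degreewise splitting of `homSC`. -/
lemma homSC_splitting (S : ShortComplex (DRing.Cx A))
    (σ : ∀ n : ℤ, (S.map (HomologicalComplex.eval (ModuleCat.{u} A)
      (ComplexShape.up ℤ) n)).Splitting) (M : DRing.Cx A) (n : ℤ) :
    Nonempty ((homSC S M).map (HomologicalComplex.eval (ModuleCat.{u} A)
      (ComplexShape.up ℤ) n)).Splitting := by
  obtain ⟨r, s, fr, sg, hid⟩ : ∃ (r : ∀ p, S.X₂.X p ⟶ S.X₁.X p) (s : ∀ p, S.X₃.X p ⟶ S.X₂.X p),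
      (∀ p, S.f.f p ≫ r p = 𝟙 (S.X₁.X p)) ∧ (∀ p, s p ≫ S.g.f p = 𝟙 (S.X₃.X p)) ∧
      (∀ p, r p ≫ S.f.f p + S.g.f p ≫ s p = 𝟙 (S.X₂.X p)) :=
    ⟨fun p => (σ p).r, fun p => (σ p).s, fun p => (σ p).f_r, fun p => (σ p).s_g,
      fun p => (σ p).id⟩
  refine ⟨{ r := ModuleCat.ofHom (precompGen (Cochain.ofHoms s) M n n (zero_add n))
            s := ModuleCat.ofHom (precompGen (Cochain.ofHoms r) M n n (zero_add n))
            f_r := ?_, s_g := ?_, id := ?_ }⟩
  · refine ModuleCat.hom_ext (LinearMap.ext (fun (z : Cochain S.X₃ M n) => ?_))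
    show (Cochain.ofHoms s).comp ((Cochain.ofHom S.g).comp z (zero_add n)) (zero_add n) = z
    refine Cochain.ext _ _ (fun p q hpq => ?_)
    rw [Cochain.zero_cochain_comp_v, Cochain.zero_cochain_comp_v, Cochain.ofHoms_v,
      Cochain.ofHom_v, ← Category.assoc, sg, Category.id_comp]
  · refine ModuleCat.hom_ext (LinearMap.ext (fun (z : Cochain S.X₁ M n) => ?_))
    show (Cochain.ofHom S.f).comp ((Cochain.ofHoms r).comp z (zero_add n)) (zero_add n) = z
    refine Cochain.ext _ _ (fun p q hpq => ?_)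
    rw [Cochain.zero_cochain_comp_v, Cochain.zero_cochain_comp_v, Cochain.ofHoms_v,
      Cochain.ofHom_v, ← Category.assoc, fr, Category.id_comp]
  · refine ModuleCat.hom_ext (LinearMap.ext (fun (z : Cochain S.X₂ M n) => ?_))
    show (Cochain.ofHom S.g).comp ((Cochain.ofHoms s).comp z (zero_add n)) (zero_add n) +
      (Cochain.ofHoms r).comp ((Cochain.ofHom S.f).comp z (zero_add n)) (zero_add n) = z
    refine Cochain.ext _ _ (fun p q hpq => ?_)
    rw [Cochain.add_v, Cochain.zero_cochain_comp_v, Cochain.zero_cochain_comp_v,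
      Cochain.zero_cochain_comp_v, Cochain.zero_cochain_comp_v, Cochain.ofHoms_v,
      Cochain.ofHoms_v, Cochain.ofHom_v, Cochain.ofHom_v, ← Category.assoc, ← Category.assoc,
      ← Preadditive.add_comp, add_comm, hid, Category.id_comp]

/-- `Hom•(-, M)` K-flat at the ends of a degreewise split short exact sequence implies K-flat
in the middle. -/
theorem isKFlat_homCx_X₂ (S : ShortComplex (DRing.Cx A))
    (σ : ∀ n : ℤ, (S.map (HomologicalComplex.eval (ModuleCat.{u} A)
      (ComplexShape.up ℤ) n)).Splitting) (M : DRing.Cx A)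
    (h₁ : DRing.IsKFlat A (DRing.homCx S.X₁ M)) (h₃ : DRing.IsKFlat A (DRing.homCx S.X₃ M)) :
    DRing.IsKFlat A (DRing.homCx S.X₂ M) := by
  rw [KFlatRing.isKFlat_iff] at h₁ h₃ ⊢
  intro L hL
  have key := shortExact_map_obj_of_split (curriedTensor (ModuleCat.{u} A)) L (homSC S M)
    (fun n => homSC_splitting S σ M n)
  exact key.acyclic_X₂ (h₃ L hL) (h₁ L hL)

/-! ### functoriality in the first variable -/

lemma isKFlat_homCx_of_retract {P P' : DRing.Cx A} (i : P ⟶ P') (r : P' ⟶ P) (h : i ≫ r = 𝟙 P)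
    (K : DRing.Cx A) (hP' : DRing.IsKFlat A (DRing.homCx P' K)) :
    DRing.IsKFlat A (DRing.homCx P K) :=
  isKFlat_of_homotopy_retract (homCxPre r K) (homCxPre i K)
    (Homotopy.ofEq (by rw [← homCxPre_comp, h, homCxPre_id])) hP'

lemma isKFlat_homCx_of_iso {P P' : DRing.Cx A} (e : P ≅ P') (K : DRing.Cx A)
    (hP' : DRing.IsKFlat A (DRing.homCx P' K)) : DRing.IsKFlat A (DRing.homCx P K) :=
  isKFlat_homCx_of_retract e.hom e.inv e.hom_inv_id K hP'

lemma isKFlat_homCx_of_isZero {P : DRing.Cx A} (hP : IsZero P) (K : DRing.Cx A)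
    (hK : DRing.IsKFlat A K) : DRing.IsKFlat A (DRing.homCx P K) :=
  isKFlat_of_homotopy_retract (0 : _ ⟶ K) 0 (Homotopy.ofEq (by
    rw [zero_comp, ← homCxPre_id, hP.eq_of_src (𝟙 P) 0, homCxPre_zero])) hK

/-! ### shifts of the unit -/

lemma isKFlat_shift {K : DRing.Cx A} (hK : DRing.IsKFlat A K) (n : ℤ) :
    DRing.IsKFlat A (K⟦n⟧) := by
  rw [KFlatRing.isKFlat_iff] at hK ⊢
  intro L hL
  let e1 := (((curriedTensor (ModuleCat.{u} A)).map₂CochainComplex.obj L).commShiftIso n).app K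
  exact (KFlat.acyclic_iff_of_iso e1).2 ((KFlat.acyclic_shift_iff _ n).2 (hK L hL))

lemma nat_aux {C : Type*} [Category C] {X1 X2 Y1 Y2 Z1 Z2 : C} (w : X1 ⟶ X2) (a : X1 ⟶ Y1)
    (a' : X2 ⟶ Y2) (m : Y1 ⟶ Y2) (r : Y1 ⟶ Z1) (r' : Y2 ⟶ Z2) (g : Z1 ⟶ Z2)
    (h1 : a ≫ m = w ≫ a') (h2 : r ≫ g = m ≫ r') : w ≫ a' ≫ r' = (a ≫ r) ≫ g := by
  rw [Category.assoc, h2, ← Category.assoc a, h1, Category.assoc]

/-- `- ⊗ 𝟙⟦n⟧ ≅ (-)⟦n⟧`. -/
noncomputable def tensorRightUnitShiftIso (n : ℤ) :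
    tensorRight ((𝟙_ (DRing.Cx A))⟦n⟧) ≅ CategoryTheory.shiftFunctor (DRing.Cx A) n :=
  NatIso.ofComponents (fun X =>
    ((((curriedTensor (ModuleCat.{u} A)).map₂CochainComplex.obj X).commShiftIso n).app
      (𝟙_ (DRing.Cx A)) :) ≪≫ (CategoryTheory.shiftFunctor (DRing.Cx A) n).mapIso (ρ_ X))
    (fun {X X'} f => by
      have h1 : ((((curriedTensor (ModuleCat.{u} A)).map₂CochainComplex.obj X).commShiftIso n).hom.app
          (𝟙_ (DRing.Cx A))) ≫ (f ▷ 𝟙_ (DRing.Cx A))⟦n⟧' =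
          (f ▷ (𝟙_ (DRing.Cx A))⟦n⟧) ≫
            ((((curriedTensor (ModuleCat.{u} A)).map₂CochainComplex.obj X').commShiftIso n).hom.app
              (𝟙_ (DRing.Cx A))) :=
        NatTrans.shift_app_comm ((curriedTensor (ModuleCat.{u} A)).map₂CochainComplex.map f) n
          (𝟙_ (DRing.Cx A))
      show (f ▷ (𝟙_ (DRing.Cx A))⟦n⟧) ≫
        ((((curriedTensor (ModuleCat.{u} A)).map₂CochainComplex.obj X').commShiftIso n).hom.app
              (𝟙_ (DRing.Cx A))) ≫ ((ρ_ X').hom)⟦n⟧' =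
        (((((curriedTensor (ModuleCat.{u} A)).map₂CochainComplex.obj X).commShiftIso n).hom.app
          (𝟙_ (DRing.Cx A))) ≫ ((ρ_ X).hom)⟦n⟧') ≫ f⟦n⟧'
      have h2 : ((ρ_ X).hom)⟦n⟧' ≫ f⟦n⟧' = (f ▷ 𝟙_ (DRing.Cx A))⟦n⟧' ≫ ((ρ_ X').hom)⟦n⟧' := by
        rw [← CategoryTheory.Functor.map_comp, ← CategoryTheory.Functor.map_comp,
          rightUnitor_naturality]
      exact nat_aux _ _ _ _ _ _ _ h1 h2)

/-- `Hom•(𝟙⟦n⟧, K) ≅ K⟦-n⟧`, by uniqueness of right adjoints. -/
noncomputable def homCxUnitShiftIso (n : ℤ) (K : DRing.Cx A) :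
    DRing.homCx ((𝟙_ (DRing.Cx A))⟦n⟧) K ≅ K⟦-n⟧ :=
  ((conjugateIsoEquiv (tensorHomAdj ((𝟙_ (DRing.Cx A))⟦n⟧))
    (shiftEquiv' (DRing.Cx A) n (-n) (add_neg_cancel n)).toAdjunction)
      (tensorRightUnitShiftIso n).symm).app K

/-- the single complex functors -/
noncomputable abbrev Sg (d : ℤ) : ModuleCat.{u} A ⥤ DRing.Cx A :=
  HomologicalComplex.single (ModuleCat.{u} A) (ComplexShape.up ℤ) d

lemma isKFlat_homCx_single_unit (d : ℤ) (K : DRing.Cx A) (hK : DRing.IsKFlat A K) :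
    DRing.IsKFlat A (DRing.homCx ((Sg d).obj (𝟙_ (ModuleCat.{u} A))) K) := by
  have e : (𝟙_ (DRing.Cx A))⟦-d⟧ ≅ (Sg d).obj (𝟙_ (ModuleCat.{u} A)) :=
    ((CochainComplex.singleFunctors (ModuleCat.{u} A)).shiftIso (-d) d 0 (by omega)).app
      (𝟙_ (ModuleCat.{u} A))
  exact isKFlat_homCx_of_iso e.symm K
    (isKFlat_of_iso (homCxUnitShiftIso (-d) K).symm (isKFlat_shift hK _))

/-! ### modules -/

lemma isKFlat_homCx_single_biprod (d : ℤ) (K : DRing.Cx A) (N₁ N₂ : ModuleCat.{u} A)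
    (h₁ : DRing.IsKFlat A (DRing.homCx ((Sg d).obj N₁) K))
    (h₂ : DRing.IsKFlat A (DRing.homCx ((Sg d).obj N₂) K)) :
    DRing.IsKFlat A (DRing.homCx ((Sg d).obj (N₁ ⊞ N₂)) K) :=
  isKFlat_homCx_X₂ ((ShortComplex.mk (biprod.inl : N₁ ⟶ _) (biprod.snd : _ ⟶ N₂)
      (by simp)).map (Sg d))
    (fun n => ((ShortComplex.Splitting.ofHasBinaryBiproduct N₁ N₂).map (Sg d)).map
      (HomologicalComplex.eval (ModuleCat.{u} A) (ComplexShape.up ℤ) n)) K h₁ h₂

lemma isKFlat_homCx_single_free (d : ℤ) (K : DRing.Cx A) (hK : DRing.IsKFlat A K) (n : ℕ) :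
    DRing.IsKFlat A (DRing.homCx ((Sg d).obj (ModuleCat.of A (Fin n → A))) K) := by
  induction n with
  | zero =>
    exact isKFlat_homCx_of_isZero ((Sg d).map_isZero (ModuleCat.isZero_of_subsingleton _)) K hK
  | succ n ih =>
    have e : ModuleCat.of A (Fin (n + 1) → A) ≅
        (ModuleCat.of A A ⊞ ModuleCat.of A (Fin n → A) : ModuleCat.{u} A) :=
      (LinearEquiv.toModuleIso (Fin.consLinearEquiv (R := A) (fun _ : Fin (n + 1) => A) :
        (A × (Fin n → A)) ≃ₗ[A] (Fin (n + 1) → A))).symm ≪≫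
        (ModuleCat.biprodIsoProd (ModuleCat.of A A) (ModuleCat.of A (Fin n → A))).symm
    exact isKFlat_homCx_of_iso ((Sg d).mapIso e) K
      (isKFlat_homCx_single_biprod d K _ _ (isKFlat_homCx_single_unit d K hK) ih)

lemma isKFlat_homCx_single (d : ℤ) (K : DRing.Cx A) (hK : DRing.IsKFlat A K) (N : ModuleCat.{u} A)
    [Module.Finite A N] [Module.Projective A N] :
    DRing.IsKFlat A (DRing.homCx ((Sg d).obj N) K) := by
  obtain ⟨n, f, hf⟩ := Module.Finite.exists_fin' A N
  obtain ⟨g, hg⟩ := Module.projective_lifting_property f LinearMap.id hf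
  refine isKFlat_homCx_of_retract ((Sg d).map (ModuleCat.ofHom g)) ((Sg d).map (ModuleCat.ofHom f))
    ?_ K (isKFlat_homCx_single_free d K hK n)
  rw [← CategoryTheory.Functor.map_comp, ← ModuleCat.ofHom_comp, hg]
  exact (Sg d).map_id N

/-! ### bounded complexes of finite projective modules -/

theorem isKFlat_homCx_of_bounded (K : DRing.Cx A) (hK : DRing.IsKFlat A K) (c : ℤ) :
    ∀ (n : ℕ) (E : DRing.Cx A) (d : ℤ), (∀ i, (i < c ∨ d < i) → IsZero (E.X i)) → d - c < n →
      (∀ i, Module.Finite A (E.X i) ∧ Module.Projective A (E.X i)) →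
      DRing.IsKFlat A (DRing.homCx E K) := by
  have base : ∀ (E : DRing.Cx A) (d : ℤ), (∀ i, (i < c ∨ d < i) → IsZero (E.X i)) → d < c →
      DRing.IsKFlat A (DRing.homCx E K) := by
    intro E d hE hdc
    exact isKFlat_homCx_of_isZero
      (Groth.Agent.H35.Devissage.isZero_of_forall_isZero_X E (fun i => hE i (by omega))) K hK
  intro n
  induction n with
  | zero =>
    intro E d hE hn _
    exact base E d hE (by omega)
  | succ n ih =>
    intro E d hE hn h
    by_cases hdc : d < c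
    · exact base E d hE hdc
    · obtain ⟨E', g, p, w, hS, hz, hiso⟩ :=
        Groth.Agent.H35.Devissage.exists_top_cell_ses E d (hE (d + 1) (Or.inr (by omega)))
      have hE' : ∀ i, (i < c ∨ d - 1 < i) → IsZero (E'.X i) := by
        intro i hi
        by_cases hid : i = d
        · subst hid; exact hz
        · have := hiso i hid
          exact IsZero.of_iso (hE i (by omega)) (asIso (p.f i)).symm
      have h' : ∀ i, Module.Finite A (E'.X i) ∧ Module.Projective A (E'.X i) := by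
        intro i
        by_cases hid : i = d
        · subst hid
          haveI : Subsingleton (E'.X i) := ModuleCat.subsingleton_of_isZero hz
          exact ⟨inferInstance, inferInstance⟩
        · have := hiso i hid
          obtain ⟨h1, h2⟩ := h i
          exact ⟨Module.Finite.equiv (asIso (p.f i)).toLinearEquiv,
            Module.Projective.of_equiv (asIso (p.f i)).toLinearEquiv⟩
      have h₃ : DRing.IsKFlat A (DRing.homCx E' K) :=
        ih E' (d - 1) hE' (by push_cast at hn; omega) h'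
      have h₁ : DRing.IsKFlat A (DRing.homCx ((Sg d).obj (E.X d)) K) := by
        obtain ⟨h1, h2⟩ := h d
        exact isKFlat_homCx_single d K hK (E.X d)
      have hdeg := (HomologicalComplex.shortExact_iff_degreewise_shortExact _).1 hS
      have σ : ∀ i : ℤ, Nonempty (((ShortComplex.mk g p w).map
          (HomologicalComplex.eval (ModuleCat.{u} A) (ComplexShape.up ℤ) i)).Splitting) := by
        intro i
        by_cases hid : i = d
        · subst hid
          have hm : Mono (g.f i) := (hdeg i).mono_f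
          have he : Epi (g.f i) := (hdeg i).exact.epi_f (hz.eq_of_tgt _ _)
          exact ⟨ShortComplex.Splitting.ofIsIsoOfIsZero _ (isIso_of_mono_of_epi (g.f i)) hz⟩
        · exact ⟨ShortComplex.Splitting.ofIsZeroOfIsIso _
            (HomologicalComplex.isZero_single_obj_X (ComplexShape.up ℤ) d (E.X d) i hid)
            (hiso i hid)⟩
      exact isKFlat_homCx_X₂ (ShortComplex.mk g p w) (fun i => (σ i).some) K h₁ h₃

/-- **Main theorem.** -/
theorem isKFlat_homCx_of_isPerfect (P K : DRing.Cx A) (b : ℤ) (hPb : DRing.VanishesAbove P b)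
    (hPp : ∀ i : ℤ, Module.Projective A (P.X i))
    (hperf : DRing.IsPerfect A (DRing.toD P)) (hK : DRing.IsKFlat A K) :
    DRing.IsKFlat A (DRing.homCx P K) := by
  obtain ⟨E, a, b', hE, hfp, ⟨e⟩⟩ := hperf
  have hEK : DRing.IsKFlat A (DRing.homCx E K) :=
    isKFlat_homCx_of_bounded K hK a (b' - a + 1).toNat E b' hE (by omega) hfp
  exact isKFlat_homCx_of_iso_Q ⟨⟨b', fun i hi => hE i (Or.inr hi)⟩, fun i => (hfp i).2⟩
    ⟨⟨b, hPb⟩, hPp⟩ e K hEK

end Groth.Agent.H33.HomKFlat
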