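import Groth.Agent.H33.RHomCxKInj
import Groth.Agent.S6996
import Groth.Agent.S0476

/-!
# `Hom•(-, I)` preserves quasi-isomorphisms for `I` K-injective; model independence of `RHomCx`
(helper33)

* `quasiIso_homCxPre`: for `φ : P ⟶ E` a quasi-isomorphism and `I` K-injective,
  `Hom•(E, I) ⟶ Hom•(P, I)` is a quasi-isomorphism.
* `nonempty_RHomCx_iso_of_model`: if `P` is K-projective and `Q P ≅ Q E` then
  `RHomCx E (Q L) ≅ Q (Hom•(P, L))` for every complex `L`.
-/

set_option autoImplicit false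
set_option linter.unusedSectionVars false
universe u
open CategoryTheory CategoryTheory.Limits MonoidalCategory HomologicalComplex CochainComplex
open CochainComplex.HomComplex
attribute [local instance] HasDerivedCategory.standard

namespace Groth.Agent.H33.HomQis
open Groth.Agent.H33.TensorHom Groth.Agent.H33.RHomCxKInj

variable {A : Type u} [CommRing A]

theorem cocycle_coboundary' {M I : CochainComplex (ModuleCat.{u} A) ℤ} [I.IsKInjective]
    (hM : M.Acyclic) (n m : ℤ) (hm : m + 1 = n) (z : Cochain M I n) (k : ℤ) (hk : n + 1 = k)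
    (hz : δ n k z = 0) : ∃ β : Cochain M I m, δ m n β = z := by
  let zc : Cocycle M I n := Cocycle.mk z k hk hz
  have hM' : HomotopyCategory.subcategoryAcyclic (ModuleCat.{u} A)
      ((HomotopyCategory.quotient _ _).obj M) := by
    rwa [HomotopyCategory.quotient_obj_mem_subcategoryAcyclic_iff_acyclic]
  have h0 : CohomologyClass.toHom (CohomologyClass.mk zc) = 0 :=
    IsKInjective.rightOrthogonal (I⟦n⟧) (CohomologyClass.toHom (CohomologyClass.mk zc)) hM'
  rw [CohomologyClass.toHom_mk_eq_zero_iff, mem_coboundaries_iff zc m hm] at h0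
  obtain ⟨β, hβ⟩ := h0
  exact ⟨β, hβ⟩

open CochainComplex.mappingCone in
theorem desc_decomp {P E I : CochainComplex (ModuleCat.{u} A) ℤ} (φ : P ⟶ E) (m n : ℤ)
    (hm : m + 1 = n) (γ : Cochain (mappingCone φ) I n) :
    ∃ (a : Cochain P I m) (b : Cochain E I n), γ = descCochain φ a b hm :=
  ⟨(inl φ).comp γ (by omega), (Cochain.ofHom (inr φ)).comp γ (zero_add n),
    (ext_cochain_from_iff φ m n hm).2 ⟨by simp, by simp⟩⟩

open CochainComplex.mappingCone in
theorem δ_desc {P E I : CochainComplex (ModuleCat.{u} A) ℤ} (φ : P ⟶ E) (m n k : ℤ)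
    (hm : m + 1 = n) (hk : n + 1 = k) (a : Cochain P I m) (b : Cochain E I n) :
    δ n k (descCochain φ a b hm) =
      descCochain φ (δ m n a + k.negOnePow • (Cochain.ofHom φ).comp b (zero_add n))
        (δ n k b) hk := by
  rw [δ_descCochain φ a b hm k hk]
  rfl

open CochainComplex.mappingCone in
theorem desc_inj {P E I : CochainComplex (ModuleCat.{u} A) ℤ} (φ : P ⟶ E) (m n : ℤ)
    (hm : m + 1 = n) (a a' : Cochain P I m) (b b' : Cochain E I n)
    (h : descCochain φ a b hm = descCochain φ a' b' hm) : a = a' ∧ b = b' := by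
  constructor
  · have := congrArg (fun c => (inl φ).comp c (show -1 + n = m by omega)) h
    simpa using this
  · have := congrArg (fun c => (Cochain.ofHom (inr φ)).comp c (zero_add n)) h
    simpa using this

open CochainComplex.mappingCone in
theorem desc_zero {P E I : CochainComplex (ModuleCat.{u} A) ℤ} (φ : P ⟶ E) (m n : ℤ)
    (hm : m + 1 = n) : descCochain φ (0 : Cochain P I m) (0 : Cochain E I n) hm = 0 := by
  simp [descCochain]

open CochainComplex.mappingCone in
theorem key_inj' {P E I : CochainComplex (ModuleCat.{u} A) ℤ} [I.IsKInjective] (φ : P ⟶ E)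
    [QuasiIso φ] (n m : ℤ) (hm : m + 1 = n) (k : ℤ) (hk : n + 1 = k)
    (x : Cochain E I n) (hx : δ n k x = 0) (w : Cochain P I m)
    (hw : δ m n w = (Cochain.ofHom φ).comp x (zero_add n)) :
    ∃ v : Cochain E I m, δ m n v = x := by
  have hC := Groth.Agent.S6996.acyclic_mappingCone φ
  have hγ : δ n k (descCochain φ (-(k.negOnePow • w)) x hm) = 0 := by
    rw [δ_desc φ m n k hm hk, hx, δ_neg, δ_units_smul, hw, neg_add_cancel]
    exact desc_zero φ n k hk
  obtain ⟨β, hβ⟩ := cocycle_coboundary' hC n m hm _ k hk hγ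
  have hm' : (m - 1) + 1 = m := by omega
  obtain ⟨a', b', rfl⟩ := desc_decomp φ (m - 1) m hm' β
  rw [δ_desc φ (m - 1) m n hm' hm] at hβ
  obtain ⟨-, h2⟩ := desc_inj φ m n hm _ _ _ _ hβ
  exact ⟨b', h2⟩

open CochainComplex.mappingCone in
theorem key_surj' {P E I : CochainComplex (ModuleCat.{u} A) ℤ} [I.IsKInjective] (φ : P ⟶ E)
    [QuasiIso φ] (n m : ℤ) (hm : m + 1 = n) (k : ℤ) (hk : n + 1 = k)
    (y : Cochain P I n) (hy : δ n k y = 0) :
    ∃ (x : Cochain E I n) (w : Cochain P I m), δ n k x = 0 ∧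
      y = (Cochain.ofHom φ).comp x (zero_add n) + δ m n w := by
  have hC := Groth.Agent.S6996.acyclic_mappingCone φ
  have hk' : k + 1 = k + 1 := rfl
  have hζ : δ k (k + 1) (descCochain φ y (0 : Cochain E I k) hk) = 0 := by
    rw [δ_desc φ n k (k + 1) hk hk', hy, δ_zero, Cochain.comp_zero, smul_zero, add_zero]
    exact desc_zero φ k (k + 1) hk'
  obtain ⟨β, hβ⟩ := cocycle_coboundary' hC k n hk _ (k + 1) hk' hζ
  obtain ⟨a, b, rfl⟩ := desc_decomp φ m n hm β
  rw [δ_desc φ m n k hm hk] at hβ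
  obtain ⟨h1, h2⟩ := desc_inj φ n k hk _ _ _ _ hβ
  refine ⟨k.negOnePow • b, a, ?_, ?_⟩
  · rw [δ_units_smul, h2, smul_zero]
  · rw [← h1, Cochain.comp_units_smul, add_comm]

/-- `Hom•(-, I)` sends quasi-isomorphisms to quasi-isomorphisms for `I` K-injective. -/
theorem quasiIso_homCxPre {P E : DRing.Cx A} (φ : P ⟶ E) [QuasiIso φ] (I : DRing.Cx A)
    [I.IsKInjective] : QuasiIso (homCxPre φ I) := by
  apply Groth.Agent.S6996.quasiIso_of_elementwise
  · intro n m hm k hk x hx hw
    obtain ⟨w, hw⟩ := hw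
    obtain ⟨v, hv⟩ := key_inj' (I := I) φ n m hm k hk x hx w hw
    exact ⟨v, hv⟩
  · intro n m hm k hk y hy
    obtain ⟨x, w, hx, hxy⟩ := key_surj' (I := I) φ n m hm k hk y hy
    exact ⟨x, w, hx, hxy⟩

/-- Model independence: `RHomCx E (Q L) ≅ Q (Hom•(P, L))` for `P` K-projective with
`Q P ≅ Q E`. -/
theorem nonempty_RHomCx_iso_of_model (E P : DRing.Cx A) [DRing.HasRHomCx E] [P.IsKProjective]
    (e : (DerivedCategory.Q : DRing.Cx A ⥤ Dual.D A).obj P ≅ DerivedCategory.Q.obj E)
    (L : DRing.Cx A) :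
    Nonempty ((DRing.RHomCx E).obj (DerivedCategory.Q.obj L) ≅
      DerivedCategory.Q.obj (DRing.homCx P L)) := by
  obtain ⟨φ, hφ⟩ := Groth.Agent.H33.RHomExact.exists_Q_map_eq_of_isKProjective P E e.hom
  haveI : IsIso ((DerivedCategory.Q : DRing.Cx A ⥤ Dual.D A).map φ) := by
    rw [hφ]; infer_instance
  haveI : QuasiIso φ := (DerivedCategory.isIso_Q_map_iff_quasiIso (C := ModuleCat.{u} A) φ).1 inferInstance
  obtain ⟨I, s, hI, hs, -, -⟩ := Groth.Agent.S0476.result L
  haveI := hI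
  haveI := hs
  haveI : IsIso ((DerivedCategory.Q : DRing.Cx A ⥤ Dual.D A).map s) :=
    (DerivedCategory.isIso_Q_map_iff_quasiIso (C := ModuleCat.{u} A) s).2 hs
  haveI : QuasiIso (homCxPre φ I) := quasiIso_homCxPre φ I
  haveI : IsIso ((DerivedCategory.Q : DRing.Cx A ⥤ Dual.D A).map (homCxPre φ I)) :=
    (DerivedCategory.isIso_Q_map_iff_quasiIso (C := ModuleCat.{u} A) _).2 inferInstance
  haveI : QuasiIso (DRing.homCxMap P s) := Groth.Agent.S6996.quasiIso_homCxMap P s
  haveI : IsIso ((DerivedCategory.Q : DRing.Cx A ⥤ Dual.D A).map (DRing.homCxMap P s)) :=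
    (DerivedCategory.isIso_Q_map_iff_quasiIso (C := ModuleCat.{u} A) _).2 inferInstance
  exact ⟨(DRing.RHomCx E).mapIso (asIso (DerivedCategory.Q.map s)) ≪≫ unitIso E I ≪≫
    asIso (DerivedCategory.Q.map (homCxPre φ I)) ≪≫
    (asIso (DerivedCategory.Q.map (DRing.homCxMap P s))).symm⟩

end Groth.Agent.H33.HomQis
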