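import Mathlib
import Groth.Agent.H69.DirColim
import Groth.Agent.H15.NilPair.Base
import Groth.Agent.H15.NilPair.Sys
import Groth.Agent.H15.IntPair.Sys
set_option autoImplicit false
universe u
open CategoryTheory MvPolynomial Limits
open Groth.Agent.H69 Groth.Agent.H15.IntPair
open Groth.Agent.H15.NilPair (PS IT Cq mkq mkq_surjective mkq_eq_zero mkq_eq_zero_iff fp tr tr_mkq
  tr_refl tr_trans toE toE_mkq toE_tr gen_top X_mem_PS PS_mono dirNat)
open scoped Classical

namespace Groth.Agent.H33.IntPair_Me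

section gen
variable {A V : Type u} [CommRing A]

theorem isNilpotent_ker_tr {S S' : Finset V} {T T' : Finset (MvPolynomial V A)} (hS : S ⊆ S')
    (hS' : S' ⊆ S) (hT : T ⊆ T')
    (hnil : ∀ y : PS A S, (y : MvPolynomial V A) ∈ T' → IsNilpotent (mkq S T y)) :
    IsNilpotent (RingHom.ker (tr (A := A) hS hT).toRingHom) := by
  set g : PS A S' →ₐ[A] Cq S T :=
    (mkq S T).comp (Subalgebra.inclusion (PS_mono (A := A) hS')) with hg
  have hfin : Set.Finite {x : PS A S' | (x : MvPolynomial V A) ∈ T'} :=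
    Set.Finite.preimage (Subtype.val_injective.injOn) T'.finite_toSet
  have hfg : (IT S' T').FG := Submodule.fg_span hfin
  have hfg' : ((IT S' T').map g.toRingHom).FG := hfg.map g.toRingHom
  have hle : IT S' T' ≤ Ideal.comap g.toRingHom (nilradical (Cq S T)) := by
    apply Ideal.span_le.mpr
    intro y hy
    rw [SetLike.mem_coe, Ideal.mem_comap, mem_nilradical]
    exact hnil (Subalgebra.inclusion (PS_mono (A := A) hS') y) hy
  have hle' : (IT S' T').map g.toRingHom ≤ nilradical (Cq S T) :=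
    Ideal.map_le_iff_le_comap.mpr hle
  have hI' : IsNilpotent ((IT S' T').map g.toRingHom) :=
    (Ideal.FG.isNilpotent_iff_le_nilradical hfg').mpr hle'
  have hker : RingHom.ker (tr (A := A) hS hT).toRingHom ≤ (IT S' T').map g.toRingHom := by
    intro x hx
    have hx0 := RingHom.mem_ker.mp hx
    obtain ⟨⟨q, hq⟩, rfl⟩ := mkq_surjective S T x
    have hx1 : tr hS hT (mkq S T ⟨q, hq⟩) = 0 := hx0
    rw [tr_mkq] at hx1
    have hmem := (mkq_eq_zero_iff _).mp hx1
    exact Ideal.mem_map_of_mem g.toRingHom hmem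
  obtain ⟨n, hn⟩ := hI'
  refine ⟨n, ?_⟩
  rw [Ideal.zero_eq_bot, eq_bot_iff, ← Ideal.zero_eq_bot, ← hn]
  exact Ideal.pow_right_mono hker n

end gen

variable {A B C : Type u} [CommRing A] [CommRing B] [CommRing C] [Algebra A B] [Algebra A C]
  [Algebra B C] [IsScalarTower A B C]

theorem phi_nil (h : Function.Surjective (algebraMap B C))
    (hn : IsNilpotent (RingHom.ker (algebraMap B C))) (j : J A B C) :
    IsNilpotent (RingHom.ker (phi j).toRingHom) := by
  have hS : j.1.S = ∅ := j.2.2.2.2.2.2.1 h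
  have h8 := j.2.2.2.2.2.2.2.2 h hn
  have hWC : j.1.WC ⊆ j.1.WB := (Raw.WC_eq_WB_of_S hS).subset
  have key := isNilpotent_ker_tr (A := A) (Raw.WB_sub_WC (j := j.1)) hWC
    (Raw.TB_sub_TCC (j := j.1)) (by
      intro y hy
      have hy' : (y : MvPolynomial (B ⊕ C) A) ∈ j.1.TC ∪ j.1.TB := hy
      rcases Finset.mem_union.mp hy' with h1 | h1
      · exact h8 y h1
      · rw [mkq_eq_zero y h1]; exact IsNilpotent.zero)
  exact key

end Groth.Agent.H33.IntPair_Me
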