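import Groth.Agent.H31.StupidTower

/-!
# The tower of canonical truncations of a cochain complex (helper33)

For a cochain complex `K` in an abelian category, `ctower K : ℕ ⥤ CochainComplex A ℤ` is the
tower of canonical truncations `τ_{≤ m} K` (realised as subcomplexes of `K` through kernels of
suitable maps, avoiding dependent case distinctions on objects), and `ctowerCocone K` is a colimit
cocone with point `K`.
-/

set_option autoImplicit false

namespace Groth.Agent.H33.KerTower

open CategoryTheory Limits HomologicalComplex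

variable {A : Type*} [Category A] [Abelian A]

section Generic

lemma ι_eq_zero_of_mono {X Y : A} (f : X ⟶ Y) [Mono f] : kernel.ι f = 0 := by
  rw [← cancel_mono f, kernel.condition, zero_comp]

lemma ι_comp_eq_zero_of_eq_comp_mono {X Y Z : A} (f : X ⟶ Z) (g : X ⟶ Y) (i : Y ⟶ Z) [Mono i]
    (hf : f = g ≫ i) : kernel.ι f ≫ g = 0 := by
  rw [← cancel_mono i, Category.assoc, ← hf, kernel.condition, zero_comp]

lemma isIso_ι_of_eq_zero {X Y : A} (f : X ⟶ Y) (h : f = 0) : IsIso (kernel.ι f) := by
  subst h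
  infer_instance

lemma isZero_kernel_of_mono {X Y : A} (f : X ⟶ Y) [Mono f] : IsZero (kernel f) :=
  IsZero.of_mono_eq_zero (kernel.ι f) (ι_eq_zero_of_mono f)

variable (K : CochainComplex A ℤ) {Y : ℤ → A} (e : ∀ q, K.X q ⟶ Y q)
  (he : ∀ q q', (kernel.ι (e q) ≫ K.d q q') ≫ e q' = 0)

/-- the subcomplex of `K` given by the kernels of a family of maps -/
noncomputable def sub : CochainComplex A ℤ where
  X q := kernel (e q)
  d q q' := kernel.lift (e q') (kernel.ι (e q) ≫ K.d q q') (he q q')
  shape q q' h := by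
    rw [← cancel_mono (kernel.ι (e q')), kernel.lift_ι, K.shape q q' h, comp_zero, zero_comp]
  d_comp_d' q q' q'' _ _ := by
    rw [← cancel_mono (kernel.ι (e q'')), Category.assoc, kernel.lift_ι,
      kernel.lift_ι_assoc, Category.assoc, K.d_comp_d, comp_zero, zero_comp]

/-- the inclusion of the subcomplex -/
noncomputable def subι : sub K e he ⟶ K where
  f q := kernel.ι (e q)
  comm' q q' _ := (kernel.lift_ι _ _ _).symm

lemma subι_f (q : ℤ) : (subι K e he).f q = kernel.ι (e q) := rfl

instance (q : ℤ) : Mono ((subι K e he).f q) :=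
  inferInstanceAs (Mono (kernel.ι (e q)))

instance : Mono (subι K e he) := HomologicalComplex.mono_of_mono_f _ (fun _ => inferInstance)

variable {Y' : ℤ → A} (e' : ∀ q, K.X q ⟶ Y' q)
  (he' : ∀ q q', (kernel.ι (e' q) ≫ K.d q q') ≫ e' q' = 0)

/-- the map between two such subcomplexes -/
noncomputable def subMap (h : ∀ q, kernel.ι (e q) ≫ e' q = 0) : sub K e he ⟶ sub K e' he' where
  f q := kernel.lift (e' q) (kernel.ι (e q)) (h q)
  comm' q q' _ := by
    show kernel.lift (e' q) (kernel.ι (e q)) (h q) ≫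
        kernel.lift (e' q') (kernel.ι (e' q) ≫ K.d q q') (he' q q') =
      kernel.lift (e q') (kernel.ι (e q) ≫ K.d q q') (he q q') ≫
        kernel.lift (e' q') (kernel.ι (e q')) (h q')
    rw [← cancel_mono (kernel.ι (e' q'))]
    simp only [Category.assoc, kernel.lift_ι, kernel.lift_ι_assoc]

lemma subMap_ι (h : ∀ q, kernel.ι (e q) ≫ e' q = 0) :
    subMap K e he e' he' h ≫ subι K e' he' = subι K e he := by
  ext q
  exact kernel.lift_ι _ _ _

lemma hom_ext_sub {M : CochainComplex A ℤ} (f g : M ⟶ sub K e he)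
    (h : f ≫ subι K e he = g ≫ subι K e he) : f = g :=
  (cancel_mono (subι K e he)).1 h

end Generic

section Canonical

variable (K : CochainComplex A ℤ)

/-- the maps whose kernels define the canonical truncation `τ_{≤ m} K` -/
noncomputable def ce (m : ℕ) (q : ℤ) : K.X q ⟶ K.X q ⊞ K.X (q + 1) :=
  if q < (m : ℤ) then 0 else
    if q = (m : ℤ) then K.d q (q + 1) ≫ biprod.inr else biprod.inl

lemma ce_lt {m : ℕ} {q : ℤ} (h : q < (m : ℤ)) : ce K m q = 0 := if_pos h

lemma ce_eq {m : ℕ} {q : ℤ} (h : q = (m : ℤ)) : ce K m q = K.d q (q + 1) ≫ biprod.inr := by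
  unfold ce
  rw [if_neg (by omega), if_pos h]

lemma ce_gt {m : ℕ} {q : ℤ} (h : (m : ℤ) < q) : ce K m q = biprod.inl := by
  unfold ce
  rw [if_neg (by omega), if_neg (by omega)]

lemma ι_ce_gt {m : ℕ} {q : ℤ} (h : (m : ℤ) < q) : kernel.ι (ce K m q) = 0 := by
  haveI : Mono (ce K m q) := by
    rw [ce_gt K h]
    infer_instance
  exact ι_eq_zero_of_mono _

lemma ι_ce_d {m : ℕ} {q : ℤ} (h : q = (m : ℤ)) : kernel.ι (ce K m q) ≫ K.d q (q + 1) = 0 :=
  ι_comp_eq_zero_of_eq_comp_mono _ _ biprod.inr (ce_eq K h)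

lemma ce_cond (m : ℕ) (q q' : ℤ) : (kernel.ι (ce K m q) ≫ K.d q q') ≫ ce K m q' = 0 := by
  by_cases hr : q + 1 = q'
  · subst hr
    rcases lt_trichotomy (q + 1) (m : ℤ) with h | h | h
    · rw [ce_lt K h, comp_zero]
    · rw [ce_eq K h, Category.assoc, K.d_comp_d_assoc, zero_comp, comp_zero]
    · rcases eq_or_lt_of_le (show (m : ℤ) ≤ q by omega) with h' | h'
      · rw [ι_ce_d K h'.symm, zero_comp]
      · rw [ι_ce_gt K h', zero_comp, zero_comp]
  · rw [K.shape q q' hr, comp_zero, zero_comp]

lemma ce_mono {m m' : ℕ} (h : m ≤ m') (q : ℤ) : kernel.ι (ce K m q) ≫ ce K m' q = 0 := by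
  rcases lt_trichotomy q (m' : ℤ) with h1 | h1 | h1
  · rw [ce_lt K h1, comp_zero]
  · rcases eq_or_lt_of_le h with h2 | h2
    · subst h2
      exact kernel.condition _
    · rw [ι_ce_gt K (by omega), zero_comp]
  · rw [ι_ce_gt K (by omega), zero_comp]

/-- the tower of canonical truncations -/
noncomputable def ctower : ℕ ⥤ CochainComplex A ℤ where
  obj m := sub K (ce K m) (ce_cond K m)
  map {m m'} f := subMap K _ _ _ _ (ce_mono K (leOfHom f))
  map_id m := by
    apply hom_ext_sub
    rw [subMap_ι, Category.id_comp]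
  map_comp f g := by
    apply hom_ext_sub
    rw [subMap_ι, Category.assoc, subMap_ι, subMap_ι]

/-- the cocone of the tower of canonical truncations, with point `K` -/
noncomputable def ctowerCocone : Cocone (ctower K) where
  pt := K
  ι :=
    { app := fun m => subι K (ce K m) (ce_cond K m)
      naturality := fun m m' f =>
        (subMap_ι K _ _ _ _ (ce_mono K (leOfHom f))).trans (Category.comp_id _).symm }

theorem isColimit_ctowerCocone : Nonempty (IsColimit (ctowerCocone K)) := by
  have h : ∀ q : ℤ, Nonempty (IsColimit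
      ((eval A (ComplexShape.up ℤ) q).mapCocone (ctowerCocone K))) := fun q =>
    Groth.Agent.H31.Tower.isColimit_of_eventually_isIso _ _ (q + 1).toNat (fun m hm => by
      show IsIso (kernel.ι (ce K m q))
      exact isIso_ι_of_eq_zero _ (ce_lt K (by omega)))
  exact ⟨isColimitOfEval _ _ (fun q => (h q).some)⟩

lemma isZero_ctower_X (m : ℕ) (q : ℤ) (h : (m : ℤ) < q) : IsZero (((ctower K).obj m).X q) := by
  show IsZero (kernel (ce K m q))
  haveI : Mono (ce K m q) := by
    rw [ce_gt K h]
    infer_instance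
  exact isZero_kernel_of_mono _

end Canonical

end Groth.Agent.H33.KerTower
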