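import Mathlib
import Groth.Prelude.Def_LinSer
import Groth.Prelude.Def_Pic

set_option autoImplicit false
universe u
open CategoryTheory AlgebraicGeometry Opposite

namespace Groth.Agent.H33.LSO_INJ

lemma map_map' {X : TopCat} (F : TopCat.Presheaf Ab X) {U₀ U₁ U₂ : TopologicalSpace.Opens X}
    (i₁ : U₁ ⟶ U₀) (i₂ : U₂ ⟶ U₁) (i : U₂ ⟶ U₀) (s : F.obj (op U₀)) :
    F.map i₂.op (F.map i₁.op s) = F.map i.op s := by
  have e : i = i₂ ≫ i₁ := Subsingleton.elim _ _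
  rw [e, op_comp, F.map_comp]; rfl

theorem eq_zero_of_germ_eq_zero (C : Scheme.{u}) [IsIntegral C] (L : C.Modules)
    (hL : PicF.IsInvertible L) (p : C) (σ : LinSer.Sect C L)
    (h : L.presheaf.germ ⊤ p trivial σ = 0) : σ = 0 := by
  let s : Γ(L, (⊤ : C.Opens)) := σ
  suffices hs : s = 0 from hs
  have h' : L.presheaf.germ ⊤ p trivial s =
      L.presheaf.germ ⊤ p trivial (0 : Γ(L, (⊤ : C.Opens))) := by
    rw [map_zero]; exact h
  obtain ⟨W, hpW, iU, iV, hW⟩ := TopCat.Presheaf.germ_eq L.presheaf (U := ⊤) (V := ⊤) p trivial trivial s 0 h'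
  rw [map_zero] at hW
  apply TopCat.Presheaf.section_ext ⟨L.presheaf, L.isSheaf⟩ ⊤ s 0
  intro x hx
  rw [map_zero]
  obtain ⟨U, hxU, ⟨φ⟩⟩ := hL x
  haveI : Nonempty U.toScheme := ⟨⟨x, hxU⟩⟩
  haveI : IsIntegral U.toScheme := isIntegral_of_isOpenImmersion U.ι
  set sU : Γ(L.restrict U.ι, (⊤ : U.toScheme.Opens)) :=
    L.presheaf.map (homOfLE (le_top : U.ι ''ᵁ ⊤ ≤ ⊤)).op s with hsU
  let V' : U.toScheme.Opens := U.ι ⁻¹ᵁ W
  haveI hV'ne : Nonempty V' := by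
    obtain ⟨y, hyU, hyW⟩ := nonempty_preirreducible_inter U.2 W.2 ⟨x, hxU⟩ ⟨p, hpW⟩
    exact ⟨⟨⟨y, hyU⟩, hyW⟩⟩
  have hle : U.ι ''ᵁ V' ≤ W := by
    rintro _ ⟨y, hy, rfl⟩; exact hy
  have hres : (L.restrict U.ι).presheaf.map (homOfLE (le_top : V' ≤ ⊤)).op sU = 0 := by
    have h1 : (L.restrict U.ι).presheaf.map (homOfLE (le_top : V' ≤ ⊤)).op sU =
        L.presheaf.map (homOfLE hle).op (L.presheaf.map iU.op s) := by
      have hle2 : U.ι ''ᵁ V' ≤ (⊤ : C.Opens) := le_top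
      rw [hsU]
      show L.presheaf.map ((U.ι.opensFunctor).map (homOfLE (le_top : V' ≤ ⊤))).op
        (L.presheaf.map (homOfLE (le_top : U.ι ''ᵁ ⊤ ≤ ⊤)).op s) = _
      rw [map_map' L.presheaf _ _ (homOfLE hle2), map_map' L.presheaf _ _ (homOfLE hle2)]
    rw [h1, hW, map_zero]
    rfl
  have hnat := congrArg (fun g => g sU)
    (φ.hom.mapPresheaf.naturality (homOfLE (le_top : V' ≤ ⊤)).op)
  simp only [ConcreteCategory.comp_apply, Scheme.Modules.mapPresheaf_app] at hnat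
  rw [hres, map_zero] at hnat
  have hinj : Function.Injective
      ((Coh.structureModule U.toScheme).presheaf.map (homOfLE (le_top : V' ≤ ⊤)).op) :=
    map_injective_of_isIntegral U.toScheme (homOfLE (le_top : V' ≤ ⊤))
  have hf : φ.hom.app ⊤ sU = 0 := hinj (by rw [← hnat, map_zero])
  have hsU0 : sU = 0 := by
    have h2 : φ.inv.app ⊤ (φ.hom.app ⊤ sU) = sU := by
      rw [← ConcreteCategory.comp_apply, ← Scheme.Modules.Hom.comp_app, φ.hom_inv_id]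
      rfl
    rw [← h2, hf, map_zero]
  have hxU' : x ∈ U.ι ''ᵁ (⊤ : U.toScheme.Opens) := ⟨⟨x, hxU⟩, trivial, rfl⟩
  have hg : L.presheaf.germ ⊤ x hx s = L.presheaf.germ (U.ι ''ᵁ ⊤) x hxU' sU := by
    rw [hsU, TopCat.Presheaf.germ_res_apply]
  rw [hg, hsU0]
  exact map_zero _

end Groth.Agent.H33.LSO_INJ
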