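import Groth.Agent.H33.BrownD

/-!
# A Leray-type acyclicity lemma for maps out of `P[0]` in the derived category

For an object `P` of an abelian category with `Ext` groups, a complex `Ac` whose terms are
`Ext(P, -)`-acyclic, and a monomorphic quasi-isomorphism `q : Ac ⟶ E` to a K-injective complex with
injective terms such that the cycle objects of `cokernel q` are `Ext^1(P, -)`-acyclic in degree
`-1`, every morphism `Q(P[0]) ⟶ Q(Ac)` in the derived category is the image of a morphism of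
complexes (`leray_lift`).  The cycle condition holds when everything is bounded below
(`zk_acyc_of_bounded`) or when `Ext^p(P, -) = 0` for `p > d` (`zk_acyc_of_cd`).

Also: coproducts in the derived category against a "core" finite factorization statement
(`bijective_of_core`).
-/

set_option autoImplicit false
universe w' w v u

namespace Groth.Agent.H33.Leray

open CategoryTheory Limits Abelian

section ExtLemmas

variable {A : Type u} [Category.{v} A] [Abelian A] [HasExt.{w} A]

/-- `X` is acyclic for the functors `Ext^p(P, -)`, `p > 0`. -/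
def Acyc (P X : A) : Prop := ∀ p : ℕ, Subsingleton (Ext P X (p + 1))

theorem ext_subsingleton_of_isZero (P : A) {Z : A} (hZ : IsZero Z) (p : ℕ) :
    Subsingleton (Ext P Z p) := by
  have h0 : ∀ x : Ext P Z p, x = 0 := fun x =>
    calc x = x.comp (Ext.mk₀ (𝟙 Z)) (add_zero p) := (Ext.comp_mk₀_id x).symm
      _ = x.comp (Ext.mk₀ (0 : Z ⟶ Z)) (add_zero p) := by rw [hZ.eq_of_src (𝟙 Z) 0]
      _ = 0 := by rw [Ext.mk₀_zero, Ext.comp_zero]
  exact ⟨fun x y => by rw [h0 x, h0 y]⟩

theorem ext_subsingleton_X₃ (P : A) {S : ShortComplex A} (hS : S.ShortExact) (p : ℕ)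
    (h2 : Subsingleton (Ext P S.X₂ p)) (h1 : Subsingleton (Ext P S.X₁ (p + 1))) :
    Subsingleton (Ext P S.X₃ p) := by
  have h0 : ∀ x : Ext P S.X₃ p, x = 0 := by
    intro x
    obtain ⟨x₂, hx₂⟩ := Ext.covariant_sequence_exact₃ P hS x rfl (h1.elim _ _)
    rw [← hx₂, h2.elim x₂ 0, Ext.zero_comp]
  exact ⟨fun x y => by rw [h0 x, h0 y]⟩

theorem hom_surjective_of_ext_one (P : A) {S : ShortComplex A} (hS : S.ShortExact)
    (h1 : Subsingleton (Ext P S.X₁ 1)) (φ : P ⟶ S.X₃) : ∃ ψ : P ⟶ S.X₂, ψ ≫ S.g = φ := by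
  obtain ⟨x₂, hx₂⟩ := Ext.covariant_sequence_exact₃ P hS (Ext.mk₀ φ) (zero_add 1)
    (h1.elim _ _)
  obtain ⟨ψ, rfl⟩ := (Ext.mk₀_bijective P S.X₂).2 x₂
  refine ⟨ψ, (Ext.mk₀_bijective P S.X₃).1 ?_⟩
  rw [← hx₂]
  exact (Ext.mk₀_comp_mk₀ ψ S.g).symm

end ExtLemmas

section Cycles

variable {A : Type u} [Category.{v} A] [Abelian A] (N : CochainComplex A ℤ)

/-- The cycle objects of a complex, as kernels. -/
noncomputable abbrev Zk (n : ℤ) : A := kernel (N.d n (n + 1))

/-- The short complex `0 ⟶ Z^n ⟶ N^n ⟶ Z^{n+1} ⟶ 0`. -/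
noncomputable def cyclesSeq (n : ℤ) : ShortComplex A :=
  ShortComplex.mk (kernel.ι (N.d n (n + 1)))
    (kernel.lift (N.d (n + 1) (n + 1 + 1)) (N.d n (n + 1)) (N.d_comp_d _ _ _))
    (by
      rw [← cancel_mono (kernel.ι (N.d (n + 1) (n + 1 + 1))), Category.assoc, kernel.lift_ι,
        kernel.condition, zero_comp])

theorem cyclesSeq_shortExact (n : ℤ) (h : N.ExactAt (n + 1)) : (cyclesSeq N n).ShortExact := by
  have hex : (N.sc' n (n + 1) (n + 1 + 1)).Exact :=
    (N.exactAt_iff' n (n + 1) (n + 1 + 1) (by simp) (by simp)).1 h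
  have hepi : Epi (kernel.lift (N.d (n + 1) (n + 1 + 1)) (N.d n (n + 1)) (N.d_comp_d _ _ _)) :=
    hex.epi_kernelLift
  have hker : IsLimit (KernelFork.ofι (cyclesSeq N n).f (cyclesSeq N n).zero) :=
    isKernelOfComp (kernel.ι (N.d (n + 1) (n + 1 + 1))) (N.d n (n + 1))
      (kernelIsKernel (N.d n (n + 1))) _ (kernel.lift_ι _ _ _)
  exact ShortComplex.ShortExact.mk' (ShortComplex.exact_of_f_is_kernel _ hker)
    (by dsimp [cyclesSeq]; infer_instance) hepi

variable [HasExt.{w} A]

theorem zk_acyc_of_bounded (P : A) (b : ℤ) [N.IsStrictlyGE b] (hN : N.Acyclic)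
    (hA : ∀ n, Acyc P (N.X n)) : ∀ n, Acyc P (Zk N n) := by
  have hz : ∀ n, n < b → Acyc P (Zk N n) := fun n hn p =>
    ext_subsingleton_of_isZero P
      (IsZero.of_mono (kernel.ι (N.d n (n + 1))) (N.isZero_of_isStrictlyGE b n hn)) _
  have key : ∀ m : ℤ, b - 1 ≤ m → Acyc P (Zk N m) := by
    intro m hm
    induction m, hm using Int.le_induction with
    | base => exact hz _ (by omega)
    | succ m hm ih =>
      intro p
      exact ext_subsingleton_X₃ P (cyclesSeq_shortExact N m (hN _)) (p + 1) (hA m p) (ih (p + 1))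
  intro n
  by_cases hn : n < b
  · exact hz n hn
  · exact key n (by omega)

theorem zk_acyc_of_cd (P : A) (d : ℕ)
    (hd : ∀ (F : A) (p : ℕ), d < p → Subsingleton (Ext P F p)) (hN : N.Acyclic)
    (hA : ∀ n, Acyc P (N.X n)) : ∀ n, Acyc P (Zk N n) := by
  have key : ∀ (k : ℕ) (p : ℕ), d < p + 1 + k → ∀ n, Subsingleton (Ext P (Zk N n) (p + 1)) := by
    intro k
    induction k with
    | zero => intro p hp n; exact hd _ _ (by omega)
    | succ k ih =>
      intro p hp n
      have h3 : Subsingleton (Ext P (Zk N (n - 1 + 1)) (p + 1)) :=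
        ext_subsingleton_X₃ P (cyclesSeq_shortExact N (n - 1) (hN _)) (p + 1) (hA (n - 1) p)
          (ih (p + 1) (by omega) (n - 1))
      have e : n - 1 + 1 = n := by omega
      rw [e] at h3
      exact h3
  intro n p
  exact key d p (by omega) n

end Cycles

section Coker

variable {A : Type u} [Category.{v} A] [Abelian A] {Ac E : CochainComplex A ℤ} (q : Ac ⟶ E)
  [Mono q]

theorem cokerSES : (ShortComplex.cokernelSequence q).ShortExact :=
  ShortComplex.ShortExact.mk' (ShortComplex.cokernelSequence_exact q)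
    (show Mono q from inferInstance) inferInstance

theorem cokerSES_eval (n : ℤ) :
    (ShortComplex.mk (q.f n) ((cokernel.π q).f n)
      (by rw [← HomologicalComplex.comp_f, cokernel.condition,
        HomologicalComplex.zero_f])).ShortExact :=
  (cokerSES q).map_of_exact (HomologicalComplex.eval A (ComplexShape.up ℤ) n)

theorem coker_acyclic [QuasiIso q] : (cokernel q).Acyclic :=
  (cokerSES q).acyclic_X₃ (show QuasiIso (ShortComplex.cokernelSequence q).f from
    inferInstanceAs (QuasiIso q))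

variable [HasExt.{w} A]

theorem coker_acyc (P : A) (hE : ∀ n, Injective (E.X n)) (hA : ∀ n, Acyc P (Ac.X n)) (n : ℤ) :
    Acyc P ((cokernel q).X n) := by
  intro p
  haveI := hE n
  have h2 : Subsingleton (Ext P (E.X n) (p + 1)) :=
    ⟨fun x y => by rw [Ext.eq_zero_of_injective x, Ext.eq_zero_of_injective y]⟩
  exact ext_subsingleton_X₃ P (cokerSES_eval q n) (p + 1) h2 (hA n (p + 1))

/-- The diagram chase: a cycle of `Hom(P, E)` is, up to a boundary, the image of a cycle of
`Hom(P, Ac)`. -/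
theorem chase [QuasiIso q] (P : A) (n m k : ℤ) (hnm : n + 1 = m) (hmk : m + 1 = k)
    (hA1 : Subsingleton (Ext P (Ac.X n) 1))
    (hZ : Subsingleton (Ext P (Zk (cokernel q) n) 1))
    (e : P ⟶ E.X m) (he : e ≫ E.d m k = 0) :
    ∃ (s : P ⟶ Ac.X m) (w : P ⟶ E.X n), s ≫ Ac.d m k = 0 ∧ e = s ≫ q.f m + w ≫ E.d n m := by
  subst hnm hmk
  have hN : (cokernel q).Acyclic := coker_acyclic q
  have hebar : (e ≫ (cokernel.π q).f (n + 1)) ≫ (cokernel q).d (n + 1) (n + 1 + 1) = 0 := by
    rw [Category.assoc, (cokernel.π q).comm, ← Category.assoc, he, zero_comp]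
  obtain ⟨(n' : P ⟶ (cokernel q).X n), hn'⟩ := hom_surjective_of_ext_one P
    (cyclesSeq_shortExact (cokernel q) n (hN _)) hZ
    (kernel.lift ((cokernel q).d (n + 1) (n + 1 + 1)) _ hebar)
  have hn'1 : (n' : P ⟶ (cokernel q).X n) ≫
      kernel.lift ((cokernel q).d (n + 1) (n + 1 + 1)) ((cokernel q).d n (n + 1))
        ((cokernel q).d_comp_d _ _ _) =
      kernel.lift ((cokernel q).d (n + 1) (n + 1 + 1)) _ hebar := hn'
  have hn'' : (n' : P ⟶ (cokernel q).X n) ≫ (cokernel q).d n (n + 1) =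
      e ≫ (cokernel.π q).f (n + 1) := by
    have h1 := congrArg (fun z => z ≫ kernel.ι ((cokernel q).d (n + 1) (n + 1 + 1))) hn'1
    simp only [Category.assoc, kernel.lift_ι] at h1
    exact h1
  obtain ⟨(w : P ⟶ E.X n), hw⟩ := hom_surjective_of_ext_one P (cokerSES_eval q n) hA1 n'
  have hw' : (w : P ⟶ E.X n) ≫ (cokernel.π q).f n = n' := hw
  have h0 : (e - w ≫ E.d n (n + 1)) ≫ (cokernel.π q).f (n + 1) = 0 := by
    rw [Preadditive.sub_comp, Category.assoc, ← (cokernel.π q).comm, ← Category.assoc, hw', hn'',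
      sub_self]
  haveI : Mono (q.f (n + 1)) := (cokerSES_eval q (n + 1)).mono_f
  haveI : Mono (q.f (n + 1 + 1)) := (cokerSES_eval q (n + 1 + 1)).mono_f
  obtain ⟨(s : P ⟶ Ac.X (n + 1)), hs⟩ :=
    (cokerSES_eval q (n + 1)).exact.lift' (e - w ≫ E.d n (n + 1)) h0
  have hs' : (s : P ⟶ Ac.X (n + 1)) ≫ q.f (n + 1) = e - w ≫ E.d n (n + 1) := hs
  refine ⟨s, w, ?_, ?_⟩
  · rw [← cancel_mono (q.f (n + 1 + 1)), Category.assoc, ← q.comm, ← Category.assoc, hs',
      Preadditive.sub_comp, he, Category.assoc, E.d_comp_d, comp_zero, sub_zero, zero_comp]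
  · rw [hs']
    abel

end Coker

section Homotopy

variable {A : Type u} [Category.{v} A] [Abelian A]

/-- The complex `P[0]`. -/
noncomputable abbrev sg (P : A) : CochainComplex A ℤ :=
  (HomologicalComplex.single A (ComplexShape.up ℤ) 0).obj P

/-- Two maps out of `P[0]` differing in degree `0` by a boundary are homotopic. -/
noncomputable def homotopyOfSingle (P : A) {E : CochainComplex A ℤ} (f f' : sg P ⟶ E)
    (w : P ⟶ E.X (-1))
    (h : f.f 0 = (HomologicalComplex.singleObjXSelf (ComplexShape.up ℤ) 0 P).hom ≫ w ≫ E.d (-1) 0 +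
      f'.f 0) : Homotopy f f' where
  hom i j := if hij : i = 0 ∧ j = -1 then
      eqToHom (by rw [hij.1]) ≫ (HomologicalComplex.singleObjXSelf (ComplexShape.up ℤ) 0 P).hom ≫
        w ≫ eqToHom (by rw [hij.2])
    else 0
  zero i j hij := by
    rw [dif_neg]
    rintro ⟨rfl, rfl⟩
    exact hij (by simp)
  comm i := by
    by_cases hi : i = 0
    · subst hi
      rw [dNext_eq _ (show (ComplexShape.up ℤ).Rel 0 1 by simp),
        prevD_eq _ (show (ComplexShape.up ℤ).Rel (-1) 0 by simp),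
        HomologicalComplex.single_obj_d, zero_comp, zero_add, dif_pos ⟨rfl, rfl⟩]
      simp only [eqToHom_refl, Category.comp_id, Category.id_comp, Category.assoc]
      exact h
    · exact (HomologicalComplex.isZero_single_obj_X (ComplexShape.up ℤ) 0 P i hi).eq_of_src _ _

end Homotopy

section LerayLift

variable {A : Type u} [Category.{v} A] [Abelian A] [HasExt.{w} A] [HasDerivedCategory.{w'} A]

open DerivedCategory

/-- Leray's acyclicity lemma, in the form of a lifting statement. -/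
theorem leray_lift (P : A) {Ac E : CochainComplex A ℤ} (q : Ac ⟶ E) [Mono q] [QuasiIso q]
    [E.IsKInjective] (hA1 : Subsingleton (Ext P (Ac.X (-1)) 1))
    (hZ : Subsingleton (Ext P (Zk (cokernel q) (-1)) 1))
    (g : Q.obj (sg P) ⟶ Q.obj Ac) : ∃ σ : sg P ⟶ Ac, Q.map σ = g := by
  obtain ⟨f, hf⟩ := Groth.Agent.H33.BrownD.exists_Q_map_eq_of_isKInjective (sg P) E (g ≫ Q.map q)
  have he : ((HomologicalComplex.singleObjXSelf (ComplexShape.up ℤ) 0 P).inv ≫ f.f 0) ≫
      E.d 0 1 = 0 := by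
    rw [Category.assoc, f.comm, HomologicalComplex.single_obj_d, zero_comp, comp_zero]
  obtain ⟨s, w, hs, hw⟩ := chase q P (-1) 0 1 (by norm_num) (by norm_num) hA1 hZ _ he
  let σ : sg P ⟶ Ac := HomologicalComplex.mkHomFromSingle s (fun k hk => by
    obtain rfl : k = 1 := by
      have : (0 : ℤ) + 1 = k := hk
      omega
    exact hs)
  refine ⟨σ, ?_⟩
  have hH : Homotopy f (σ ≫ q) := homotopyOfSingle P f (σ ≫ q) w (by
    rw [HomologicalComplex.comp_f, HomologicalComplex.mkHomFromSingle_f, Category.assoc,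
      ← Preadditive.comp_add, add_comm, ← hw, Iso.hom_inv_id_assoc])
  have h1 : Q.map f = Q.map (σ ≫ q) := DerivedCategory.Q_map_eq_of_homotopy A hH
  haveI : IsIso (Q.map q) := (DerivedCategory.isIso_Q_map_iff_quasiIso A q).2 inferInstance
  rw [← cancel_mono (Q.map q), ← Functor.map_comp, ← h1, hf]

end LerayLift

end Groth.Agent.H33.Leray
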