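import Groth.Agent.H33.Leray
import Groth.Prelude.Def_CohSite
import Groth.Prelude.Def_CohCx

/-!
# Maps out of `ℤ[h_U]` into direct sums in the derived category of abelian sheaves

If `F ↦ H^p(U, F)` commutes with direct sums for all `p`, then maps from `ℤ[h_U][0]` into a
direct sum `⊕ M_i` in the derived category factor through finite subsums, when the `M_i` are
uniformly bounded below (`core_bounded`) or when `U` has finite cohomological dimension
(`core_cd`).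
-/

set_option autoImplicit false
universe v u

namespace Groth.Agent.H33.LeraySite

open CategoryTheory Limits Abelian Opposite DerivedCategory Groth.Agent.H33.Leray

/-- The range of a cocone leg, as a subgroup of the point. -/
def legRange {ι : Type u} {K : Discrete ι ⥤ AddCommGrpCat.{u}} (c : Cocone K) (i : ι) :
    AddSubgroup c.pt := (c.ι.app ⟨i⟩).hom.range

theorem mem_legRange {ι : Type u} {K : Discrete ι ⥤ AddCommGrpCat.{u}} (c : Cocone K) (i : ι)
    (x : c.pt) : x ∈ legRange c i ↔ ∃ y : K.obj ⟨i⟩, (c.ι.app ⟨i⟩).hom y = x := Iff.rfl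

theorem iSup_range_eq_top {ι : Type u} (K : Discrete ι ⥤ AddCommGrpCat.{u}) (c : Cocone K)
    (hc : IsColimit c) : (⨆ i : ι, legRange c i) = ⊤ := by
  let S : AddSubgroup c.pt := ⨆ i : ι, legRange c i
  let π : c.pt ⟶ AddCommGrpCat.of (c.pt ⧸ S) := AddCommGrpCat.ofHom (QuotientAddGroup.mk' S)
  have hπ : π = 0 := hc.hom_ext (fun j => by
    obtain ⟨i⟩ := j
    rw [comp_zero]
    ext x
    have hle : legRange c i ≤ S := le_iSup (fun i : ι => legRange c i) i
    have hx : (c.ι.app ⟨i⟩).hom x ∈ S := hle ((mem_legRange c i _).2 ⟨x, rfl⟩)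
    change (QuotientAddGroup.mk' S) ((c.ι.app ⟨i⟩).hom x) = 0
    rw [QuotientAddGroup.mk'_apply, QuotientAddGroup.eq_zero_iff]
    exact hx)
  rw [eq_top_iff]
  intro x _
  have h1 : (QuotientAddGroup.mk' S) x = 0 := by
    change π.hom x = 0
    rw [hπ]
    rfl
  exact (QuotientAddGroup.eq_zero_iff x).1 h1

theorem eq_sum_of_mem_closure {D : Type*} [Category D] [Preadditive D] {ι : Type*} {T Y : D}
    {X : ι → D} (inj : ∀ i, X i ⟶ Y) (pr : ∀ i, Y ⟶ X i) (h1 : ∀ i, inj i ≫ pr i = 𝟙 _)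
    (h2 : ∀ i j, i ≠ j → inj i ≫ pr j = 0) (t : T ⟶ Y)
    (ht : t ∈ AddSubgroup.closure {f | ∃ (i : ι) (g : T ⟶ X i), f = g ≫ inj i}) :
    ∃ s : Finset ι, (∀ i, i ∉ s → t ≫ pr i = 0) ∧ t = ∑ i ∈ s, (t ≫ pr i) ≫ inj i := by
  classical
  induction ht using AddSubgroup.closure_induction with
  | mem f hf =>
    obtain ⟨i, g, rfl⟩ := hf
    refine ⟨{i}, ?_, ?_⟩
    · intro j hj
      have hij : i ≠ j := by
        rintro rfl
        simp at hj
      rw [Category.assoc, h2 i j hij, comp_zero]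
    · rw [Finset.sum_singleton, Category.assoc g (inj i) (pr i), h1 i, Category.comp_id]
  | zero => exact ⟨∅, by simp, by simp⟩
  | add f₁ f₂ _ _ h₁ h₂ =>
    obtain ⟨s₁, h₁, e₁⟩ := h₁
    obtain ⟨s₂, h₂, e₂⟩ := h₂
    refine ⟨s₁ ∪ s₂, ?_, ?_⟩
    · intro i hi
      rw [Finset.mem_union, not_or] at hi
      rw [Preadditive.add_comp, h₁ i hi.1, h₂ i hi.2, add_zero]
    · have a₁ : f₁ = ∑ i ∈ s₁ ∪ s₂, (f₁ ≫ pr i) ≫ inj i :=
        e₁.trans (Finset.sum_subset Finset.subset_union_left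
          (fun i _ hi => by rw [h₁ i hi, Limits.zero_comp]))
      have a₂ : f₂ = ∑ i ∈ s₁ ∪ s₂, (f₂ ≫ pr i) ≫ inj i :=
        e₂.trans (Finset.sum_subset Finset.subset_union_right
          (fun i _ hi => by rw [h₂ i hi, Limits.zero_comp]))
      simp only [Preadditive.add_comp, Finset.sum_add_distrib]
      exact congrArg₂ (· + ·) a₁ a₂
  | neg f _ h =>
    obtain ⟨s, h, e⟩ := h
    refine ⟨s, ?_, ?_⟩
    · intro i hi
      rw [Preadditive.neg_comp, h i hi, neg_zero]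
    · simp only [Preadditive.neg_comp, Finset.sum_neg_distrib]
      exact congrArg (- ·) e

theorem isZero_of_cofan {D : Type*} [Category D] [HasZeroMorphisms D] {ι : Type*} {F : ι → D}
    (c : Cofan F) (hc : IsColimit c) (hF : ∀ i, IsZero (F i)) : IsZero c.pt := by
  rw [IsZero.iff_id_eq_zero]
  exact Cofan.IsColimit.hom_ext hc _ _ (fun i => (hF i).eq_of_src _ _)

section General

theorem bijective_of_forall_mem_finHom {D : Type u} [Category.{v} D] [Preadditive D] (K : D)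
    {ι : Type v} (X : ι → D) [HasCoproduct X]
    (h : ∀ f : K ⟶ ∐ X, f ∈ Groth.Agent.H6.finHom K X) :
    Function.Bijective (CohDer.homSumToHomCoprod K X) := by
  constructor
  · rw [injective_iff_map_eq_zero]
    intro x hx
    refine DFinsupp.ext (fun i => ?_)
    rw [← Groth.Agent.H6.homSumToHomCoprod_comp_sigmaπ x i, hx, Limits.zero_comp]
    rfl
  · intro f
    have hle : Groth.Agent.H6.finHom K X ≤ (CohDer.homSumToHomCoprod K X).range := by
      classical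
      apply (AddSubgroup.closure_le _).2
      rintro _ ⟨i, g, rfl⟩
      exact ⟨DirectSum.of _ i g, Groth.Agent.H6.homSumToHomCoprod_of i g⟩
    exact hle (h f)

variable {A : Type u} [Category.{v} A] [Abelian A] [IsGrothendieckAbelian.{v} A]
  [HasDerivedCategory.{v} A]

theorem bijective_of_core (K : DerivedCategory A) {I : Type v} (M : I → DerivedCategory A)
    [HasCoproduct M] (I_ : I → CochainComplex A ℤ) (e : ∀ i, Q.obj (I_ i) ≅ M i)
    (hcore : ∀ g : K ⟶ Q.obj (∐ I_), ∃ (s : Finset I) (gi : ∀ i, K ⟶ Q.obj (I_ i)),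
      g = ∑ i ∈ s, gi i ≫ Q.map (Sigma.ι I_ i)) :
    Function.Bijective (CohDer.homSumToHomCoprod K M) := by
  refine bijective_of_forall_mem_finHom K M (fun f => ?_)
  have hc : IsColimit (Cofan.mk (Q.obj (∐ I_)) (fun i => Q.map (Sigma.ι I_ i))) :=
    Groth.Agent.H6.DSum.isColimitQ' I_ id Function.bijective_id
  let φ : Q.obj (∐ I_) ⟶ ∐ M := Cofan.IsColimit.desc hc (fun i => (e i).hom ≫ Sigma.ι M i)
  have hφ : ∀ i, Q.map (Sigma.ι I_ i) ≫ φ = (e i).hom ≫ Sigma.ι M i :=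
    fun i => Cofan.IsColimit.fac hc _ i
  let ψ : ∐ M ⟶ Q.obj (∐ I_) := Sigma.desc (fun i => (e i).inv ≫ Q.map (Sigma.ι I_ i))
  have hψφ : ψ ≫ φ = 𝟙 _ := by
    apply Sigma.hom_ext
    intro i
    rw [Sigma.ι_desc_assoc, Category.assoc, hφ, Iso.inv_hom_id_assoc, Category.comp_id]
  obtain ⟨s, gi, hg⟩ := hcore (f ≫ ψ)
  have hf : f = ∑ i ∈ s, (gi i ≫ (e i).hom) ≫ Sigma.ι M i := by
    calc f = (f ≫ ψ) ≫ φ := by rw [Category.assoc, hψφ, Category.comp_id]
      _ = (∑ i ∈ s, gi i ≫ Q.map (Sigma.ι I_ i)) ≫ φ := by rw [hg]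
      _ = ∑ i ∈ s, (gi i ≫ Q.map (Sigma.ι I_ i)) ≫ φ := Preadditive.sum_comp _ _ _
      _ = _ := Finset.sum_congr rfl (fun i _ => by rw [Category.assoc, hφ, Category.assoc])
  rw [hf]
  exact AddSubgroup.sum_mem _ (fun i _ => Groth.Agent.H6.comp_ι_mem_finHom i _)

end General

section Site

variable {C : Type u} [SmallCategory C] (J : GrothendieckTopology C) (U : C)

/-- The functor `F ↦ H^p(U, F)`. -/
noncomputable abbrev Gp (p : ℕ) : Sheaf J AddCommGrpCat.{u} ⥤ AddCommGrpCat.{u} :=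
  (Sheaf.cohomologyPresheafFunctor J p).flip.obj (op U)

theorem ext_subsingleton_of_cofan (p : ℕ) {ι : Type u}
    [PreservesColimitsOfShape (Discrete ι) (Gp J U p)]
    (F : ι → Sheaf J AddCommGrpCat.{u}) (c : Cofan F) (hc : IsColimit c)
    (hF : ∀ i, Subsingleton (Ext (CohCx.freeSheaf J U) (F i) p)) :
    Subsingleton (Ext (CohCx.freeSheaf J U) c.pt p) := by
  have top := iSup_range_eq_top _ ((Gp J U p).mapCocone c) (isColimitOfPreserves (Gp J U p) hc)
  have h0 : ∀ x : Ext (CohCx.freeSheaf J U) c.pt p, x = 0 := by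
    intro x
    have hx : (x : ((Gp J U p).mapCocone c).pt) ∈
        ⨆ i : ι, legRange ((Gp J U p).mapCocone c) i := by
      rw [top]
      exact AddSubgroup.mem_top _
    refine AddSubgroup.iSup_induction _ (C := fun z => z = 0) hx ?_ rfl ?_
    · intro i z hz
      obtain ⟨y, rfl⟩ := (mem_legRange ((Gp J U p).mapCocone c) i z).1 hz
      have hy : y = 0 := (hF i).elim _ _
      rw [hy, map_zero]
      rfl
    · rintro a b rfl rfl
      exact add_zero 0
  exact ⟨fun x y => by rw [h0 x, h0 y]⟩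

theorem hom_mem_closure {ι : Type u} [PreservesColimitsOfShape (Discrete ι) (Gp J U 0)]
    (F : ι → Sheaf J AddCommGrpCat.{u}) (c : Cofan F) (hc : IsColimit c)
    (t : CohCx.freeSheaf J U ⟶ c.pt) :
    t ∈ AddSubgroup.closure {f | ∃ (i : ι) (g : CohCx.freeSheaf J U ⟶ F i), f = g ≫ c.inj i} := by
  have top := iSup_range_eq_top _ ((Gp J U 0).mapCocone c) (isColimitOfPreserves (Gp J U 0) hc)
  have hx : ((Ext.mk₀ t : Ext (CohCx.freeSheaf J U) c.pt 0) : ((Gp J U 0).mapCocone c).pt) ∈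
      ⨆ i : ι, legRange ((Gp J U 0).mapCocone c) i := by
    rw [top]
    exact AddSubgroup.mem_top _
  have key : ∃ t' : CohCx.freeSheaf J U ⟶ c.pt,
      (Ext.mk₀ t : Ext (CohCx.freeSheaf J U) c.pt 0) = Ext.mk₀ t' ∧
      t' ∈ AddSubgroup.closure
        {f | ∃ (i : ι) (g : CohCx.freeSheaf J U ⟶ F i), f = g ≫ c.inj i} := by
    refine AddSubgroup.iSup_induction _
      (C := fun z => ∃ t' : CohCx.freeSheaf J U ⟶ c.pt,
        (z : Ext (CohCx.freeSheaf J U) c.pt 0) = Ext.mk₀ t' ∧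
        t' ∈ AddSubgroup.closure
          {f | ∃ (i : ι) (g : CohCx.freeSheaf J U ⟶ F i), f = g ≫ c.inj i}) hx ?_ ?_ ?_
    · intro i z hz
      obtain ⟨y, rfl⟩ := (mem_legRange ((Gp J U 0).mapCocone c) i z).1 hz
      obtain ⟨g, rfl⟩ := (Ext.mk₀_bijective (CohCx.freeSheaf J U) (F i)).2 y
      exact ⟨g ≫ c.inj i, Ext.mk₀_comp_mk₀ g (c.inj i),
        AddSubgroup.subset_closure ⟨i, g, rfl⟩⟩
    · exact ⟨0, (Ext.mk₀_zero _ _).symm, zero_mem _⟩
    · rintro a b ⟨ta, rfl, ha⟩ ⟨tb, rfl, hb⟩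
      exact ⟨ta + tb, (Ext.mk₀_add ta tb).symm, add_mem ha hb⟩
  obtain ⟨t', h1, h2⟩ := key
  rwa [(Ext.mk₀_bijective _ _).1 h1]

variable [HasDerivedCategory.{u} (Sheaf J AddCommGrpCat.{u})]

theorem core (h : ∀ (p : ℕ) (ι : Type u), PreservesColimitsOfShape (Discrete ι) (Gp J U p))
    {I : Type u} (I_ : I → CochainComplex (Sheaf J AddCommGrpCat.{u}) ℤ)
    (hinj : ∀ i n, Injective ((I_ i).X n))
    (hL : (∀ n, Acyc (CohCx.freeSheaf J U) ((∐ I_).X n)) →
      ∀ g : Q.obj (sg (CohCx.freeSheaf J U)) ⟶ Q.obj (∐ I_),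
        ∃ σ : sg (CohCx.freeSheaf J U) ⟶ ∐ I_, Q.map σ = g)
    (g : Q.obj (sg (CohCx.freeSheaf J U)) ⟶ Q.obj (∐ I_)) :
    ∃ (s : Finset I) (gi : ∀ i, Q.obj (sg (CohCx.freeSheaf J U)) ⟶ Q.obj (I_ i)),
      g = ∑ i ∈ s, gi i ≫ Q.map (Sigma.ι I_ i) := by
  classical
  have hcn : ∀ n : ℤ, IsColimit (Cofan.mk ((∐ I_).X n) (fun i => (Sigma.ι I_ i).f n)) := fun n =>
    isColimitCofanMkObjOfIsColimit (HomologicalComplex.eval _ (ComplexShape.up ℤ) n) I_
      (Sigma.ι I_) (coproductIsCoproduct I_)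
  have hacyc : ∀ n, Acyc (CohCx.freeSheaf J U) ((∐ I_).X n) := fun n p => by
    haveI := h (p + 1) I
    refine ext_subsingleton_of_cofan J U (p + 1) (fun i => (I_ i).X n) _ (hcn n) (fun i => ?_)
    haveI := hinj i n
    exact ⟨fun x y => by rw [Ext.eq_zero_of_injective x, Ext.eq_zero_of_injective y]⟩
  obtain ⟨σ, rfl⟩ := hL hacyc g
  haveI := h 0 I
  have ht := hom_mem_closure J U (fun i => (I_ i).X 0) _ (hcn 0)
    ((HomologicalComplex.singleObjXSelf (ComplexShape.up ℤ) (0 : ℤ)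
      (CohCx.freeSheaf J U)).inv ≫ σ.f 0)
  obtain ⟨s, -, hs⟩ := eq_sum_of_mem_closure (fun i => (Sigma.ι I_ i).f 0)
    (fun i => (Groth.Agent.H6.sigmaπ I_ i).f 0)
    (fun i => by
      rw [← HomologicalComplex.comp_f, Groth.Agent.H6.ι_sigmaπ_self, HomologicalComplex.id_f])
    (fun i j hij => by
      rw [← HomologicalComplex.comp_f, Groth.Agent.H6.ι_sigmaπ_of_ne hij,
        HomologicalComplex.zero_f]) _ ht
  have e2 : σ.f 0 = (HomologicalComplex.singleObjXSelf (ComplexShape.up ℤ) (0 : ℤ)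
      (CohCx.freeSheaf J U)).hom ≫ ((HomologicalComplex.singleObjXSelf (ComplexShape.up ℤ) (0 : ℤ)
      (CohCx.freeSheaf J U)).inv ≫ σ.f 0) := by
    rw [Iso.hom_inv_id_assoc]
  have hσ : σ = ∑ i ∈ s, (σ ≫ Groth.Agent.H6.sigmaπ I_ i) ≫ Sigma.ι I_ i := by
    apply HomologicalComplex.from_single_hom_ext
    have e1 : (∑ i ∈ s, (σ ≫ Groth.Agent.H6.sigmaπ I_ i) ≫ Sigma.ι I_ i).f 0 =
        ∑ i ∈ s, ((σ ≫ Groth.Agent.H6.sigmaπ I_ i) ≫ Sigma.ι I_ i).f 0 :=
      (HomologicalComplex.eval _ (ComplexShape.up ℤ) 0).map_sum _ _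
    rw [e1]
    refine e2.trans ((congrArg (fun z => (HomologicalComplex.singleObjXSelf (ComplexShape.up ℤ)
      (0 : ℤ) (CohCx.freeSheaf J U)).hom ≫ z) hs).trans ?_)
    rw [Preadditive.comp_sum]
    refine Finset.sum_congr rfl (fun i _ => ?_)
    simp only [HomologicalComplex.comp_f, Category.assoc, Iso.hom_inv_id_assoc]
  refine ⟨s, fun i => Q.map (σ ≫ Groth.Agent.H6.sigmaπ I_ i), ?_⟩
  conv_lhs => rw [hσ]
  rw [Functor.map_sum]
  exact Finset.sum_congr rfl (fun i _ => Functor.map_comp _ _ _)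

theorem core_bounded
    (h : ∀ (p : ℕ) (ι : Type u), PreservesColimitsOfShape (Discrete ι) (Gp J U p))
    {I : Type u} (I_ : I → CochainComplex (Sheaf J AddCommGrpCat.{u}) ℤ) (a : ℤ)
    (hGE : ∀ i, (I_ i).IsStrictlyGE a) (hinj : ∀ i n, Injective ((I_ i).X n))
    (g : Q.obj (sg (CohCx.freeSheaf J U)) ⟶ Q.obj (∐ I_)) :
    ∃ (s : Finset I) (gi : ∀ i, Q.obj (sg (CohCx.freeSheaf J U)) ⟶ Q.obj (I_ i)),
      g = ∑ i ∈ s, gi i ≫ Q.map (Sigma.ι I_ i) := by
  refine core J U h I_ hinj (fun hacyc g => ?_) g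
  haveI : (∐ I_).IsStrictlyGE a := by
    rw [CochainComplex.isStrictlyGE_iff]
    intro n hn
    exact isZero_of_cofan _ (isColimitCofanMkObjOfIsColimit
      (HomologicalComplex.eval _ (ComplexShape.up ℤ) n) I_ (Sigma.ι I_) (coproductIsCoproduct I_))
      (fun i => (I_ i).isZero_of_isStrictlyGE a n hn)
  obtain ⟨E, q, hq1, hq2, hE, hE'⟩ :=
    CochainComplex.Plus.modelCategoryQuillen.exists_mono_quasiIso_injective (∐ I_) (a - 1) a
      (by omega)
  haveI := hq1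
  haveI := hq2
  haveI := hE'
  haveI : ∀ n, Injective (E.X n) := hE
  haveI : E.IsKInjective := CochainComplex.isKInjective_of_injective E (a - 1)
  haveI : (cokernel q).IsStrictlyGE (a - 1) := by
    rw [CochainComplex.isStrictlyGE_iff]
    intro n hn
    haveI : Epi ((cokernel.π q).f n) := (cokerSES_eval q n).epi_g
    exact IsZero.of_epi ((cokernel.π q).f n) (E.isZero_of_isStrictlyGE (a - 1) n hn)
  have hZ := zk_acyc_of_bounded (cokernel q) (CohCx.freeSheaf J U) (a - 1) (coker_acyclic q)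
    (coker_acyc q _ hE hacyc) (-1) 0
  exact leray_lift _ q (hacyc (-1) 0) hZ g

theorem core_cd (h : ∀ (p : ℕ) (ι : Type u), PreservesColimitsOfShape (Discrete ι) (Gp J U p))
    (d : ℕ) (hd : ∀ (F : Sheaf J AddCommGrpCat.{u}) (p : ℕ), d < p →
      Subsingleton (Ext (CohCx.freeSheaf J U) F p))
    {I : Type u} (I_ : I → CochainComplex (Sheaf J AddCommGrpCat.{u}) ℤ)
    (hinj : ∀ i n, Injective ((I_ i).X n))
    (g : Q.obj (sg (CohCx.freeSheaf J U)) ⟶ Q.obj (∐ I_)) :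
    ∃ (s : Finset I) (gi : ∀ i, Q.obj (sg (CohCx.freeSheaf J U)) ⟶ Q.obj (I_ i)),
      g = ∑ i ∈ s, gi i ≫ Q.map (Sigma.ι I_ i) := by
  refine core J U h I_ hinj (fun hacyc g => ?_) g
  obtain ⟨E, q, hE1, hq, hmono, hE⟩ := Groth.Agent.S0476.result (∐ I_)
  haveI := hE1
  haveI := hq
  haveI : Mono q := HomologicalComplex.mono_of_mono_f q hmono
  have hZ := zk_acyc_of_cd (cokernel q) (CohCx.freeSheaf J U) d hd (coker_acyclic q)
    (coker_acyc q _ hE hacyc) (-1) 0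
  exact leray_lift _ q (hacyc (-1) 0) hZ g

end Site

end Groth.Agent.H33.LeraySite
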