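import Mathlib
import Groth.Prelude.Def_CohCx

/-!
# Cohomology of a termwise limit of complexes of abelian groups

Elementwise homological algebra for inverse systems of complexes of abelian groups, used for
the cohomology sheaves of a limit of complexes of sheaves.
-/

set_option autoImplicit false
universe u

namespace Groth.Agent.H33.LimCxAlg

open CategoryTheory Limits

section Seq

theorem exists_extension (A : ℕ → Type u) [∀ n, Zero (A n)] (n₀ : ℕ) (c' : ∀ k, A (n₀ + k)) :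
    ∃ c : ∀ n, A n, ∀ k, c (n₀ + k) = c' k := by
  refine ⟨fun n => if h : n₀ ≤ n then (Nat.add_sub_of_le h) ▸ c' (n - n₀) else 0, fun k => ?_⟩
  have hk : n₀ ≤ n₀ + k := Nat.le_add_right _ _
  have key : ∀ (j : ℕ) (_ : j = k) (e : n₀ + j = n₀ + k), e ▸ c' j = c' k := by
    intro j hj e
    subst hj
    rfl
  simp only [dif_pos hk]
  exact key (n₀ + k - n₀) (by omega) _

theorem limOne_shift (A : ℕ → Type u) [∀ n, AddCommGroup (A n)] (t : ∀ n, A (n + 1) →+ A n)
    (h : CohCx.LimOneIsZero A t) (n₀ : ℕ) :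
    CohCx.LimOneIsZero (fun k => A (n₀ + k)) (fun k => t (n₀ + k)) := by
  intro c'
  obtain ⟨c, hc⟩ := exists_extension A n₀ c'
  obtain ⟨a, ha⟩ := h c
  refine ⟨fun k => a (n₀ + k), funext fun k => ?_⟩
  have h1 : a (n₀ + k) - t (n₀ + k) (a (n₀ + k + 1)) = c (n₀ + k) := congrFun ha (n₀ + k)
  rw [hc k] at h1
  exact h1

theorem exists_compatible_of_eventually {A : ℕ → Type u} (t : ∀ n, A (n + 1) → A n) :
    ∀ (n₀ : ℕ) (c : ∀ n, A n), (∀ n, n₀ ≤ n → t n (c (n + 1)) = c n) →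
    ∃ b : ∀ n, A n, (∀ n, n₀ ≤ n → b n = c n) ∧ ∀ n, t n (b (n + 1)) = b n := by
  classical
  intro n₀
  induction n₀ with
  | zero =>
    intro c hc
    exact ⟨c, fun _ _ => rfl, fun n => hc n (Nat.zero_le _)⟩
  | succ n₀ ih =>
    intro c hc
    obtain ⟨b, hb1, hb2⟩ := ih (Function.update c n₀ (t n₀ (c (n₀ + 1)))) (fun n hn => by
      by_cases h : n = n₀
      · subst h
        rw [Function.update_self, Function.update_of_ne (by omega)]
      · rw [Function.update_of_ne (by omega), Function.update_of_ne h]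
        exact hc n (by omega))
    refine ⟨b, fun n hn => ?_, hb2⟩
    rw [hb1 n (by omega), Function.update_of_ne (by omega)]

theorem eq_of_eventually_eq {A : ℕ → Type u} (t : ∀ n, A (n + 1) → A n) (u v : ∀ n, A n)
    (hu : ∀ n, t n (u (n + 1)) = u n) (hv : ∀ n, t n (v (n + 1)) = v n) (n₀ : ℕ)
    (h : ∀ n, n₀ ≤ n → u n = v n) : ∀ n, u n = v n := by
  have key : ∀ k n, n + k = n₀ → u n = v n := by
    intro k
    induction k with
    | zero => intro n hn; exact h n (by omega)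
    | succ k ih => intro n hn; rw [← hu n, ← hv n, ih (n + 1) (by omega)]
  intro n
  by_cases hn : n₀ ≤ n
  · exact h n hn
  · exact key (n₀ - n) n (by omega)

end Seq

section Elt

/-- The test object `ℤ`. -/
abbrev Zt : AddCommGrpCat.{u} := AddCommGrpCat.of (ULift.{u} ℤ)

/-- The morphism `ℤ ⟶ G` attached to an element. -/
def elt {G : AddCommGrpCat.{u}} (g : G) : Zt.{u} ⟶ G :=
  AddCommGrpCat.ofHom ((zmultiplesHom G g).comp AddEquiv.ulift.toAddMonoidHom)

theorem elt_one {G : AddCommGrpCat.{u}} (g : G) : (elt g).hom ⟨1⟩ = g := by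
  change (zmultiplesHom G g) (1 : ℤ) = g
  rw [zmultiplesHom_apply, one_zsmul]

theorem hom_ext_Zt {G : AddCommGrpCat.{u}} (f f' : Zt.{u} ⟶ G) (h : f.hom ⟨1⟩ = f'.hom ⟨1⟩) :
    f = f' := by
  ext ⟨n⟩
  have hn : (ULift.up n : ULift.{u} ℤ) = n • ULift.up 1 := by
    apply ULift.ext
    simp
  change f.hom (ULift.up n) = f'.hom (ULift.up n)
  rw [hn, map_zsmul, map_zsmul, h]

theorem elt_comp {G H : AddCommGrpCat.{u}} (g : G) (f : G ⟶ H) : elt g ≫ f = elt (f.hom g) :=
  hom_ext_Zt _ _ (by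
    change f.hom ((elt g).hom ⟨1⟩) = (elt (f.hom g)).hom ⟨1⟩
    rw [elt_one, elt_one])

theorem elt_zero {G : AddCommGrpCat.{u}} : elt (0 : G) = 0 :=
  hom_ext_Zt _ _ (by
    rw [elt_one]
    rfl)

theorem elt_add {G : AddCommGrpCat.{u}} (g g' : G) : elt (g + g') = elt g + elt g' :=
  hom_ext_Zt _ _ (by
    rw [elt_one]
    change _ = (elt g).hom ⟨1⟩ + (elt g').hom ⟨1⟩
    rw [elt_one, elt_one])

theorem elt_sub {G : AddCommGrpCat.{u}} (g g' : G) : elt (g - g') = elt g - elt g' :=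
  hom_ext_Zt _ _ (by
    rw [elt_one]
    change _ = (elt g).hom ⟨1⟩ - (elt g').hom ⟨1⟩
    rw [elt_one, elt_one])

theorem elt_up_one : elt (ULift.up 1 : Zt.{u}) = 𝟙 Zt.{u} :=
  hom_ext_Zt _ _ (by
    rw [elt_one]
    rfl)

theorem exists_preimage {A' : AddCommGrpCat.{u}} (π : A' ⟶ Zt.{u}) [Epi π] :
    ∃ a' : A', π.hom a' = ⟨1⟩ :=
  (AddCommGrpCat.epi_iff_surjective π).1 inferInstance ⟨1⟩

end Elt

section Cyc

variable (K : CochainComplex AddCommGrpCat.{u} ℤ)

/-- The class of a cycle, as a morphism from `ℤ`. -/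
noncomputable def cycHom (j k : ℤ) (hjk : j + 1 = k) (z : K.X j) (hz : (K.d j k).hom z = 0) :
    Zt.{u} ⟶ K.homology j :=
  K.liftCycles (elt z) k ((ComplexShape.up ℤ).next_eq' hjk)
    (by rw [elt_comp, hz, elt_zero]) ≫ K.homologyπ j

/-- The class of a cycle. -/
noncomputable def cyc (j k : ℤ) (hjk : j + 1 = k) (z : K.X j) (hz : (K.d j k).hom z = 0) :
    K.homology j := (cycHom K j k hjk z hz).hom ⟨1⟩

theorem cycHom_eq (j k : ℤ) (hjk : j + 1 = k) (z : K.X j) (hz : (K.d j k).hom z = 0) :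
    cycHom K j k hjk z hz = elt (cyc K j k hjk z hz) :=
  hom_ext_Zt _ _ (by rw [elt_one]; rfl)

theorem cycHom_of_fac (j k : ℤ) (hjk : j + 1 = k) (z : K.X j) (hz : (K.d j k).hom z = 0)
    {A' : AddCommGrpCat.{u}} (a : Zt.{u} ⟶ A') (z' : A' ⟶ K.X j) (hz' : z' ≫ K.d j k = 0)
    (h : elt z = a ≫ z') :
    cycHom K j k hjk z hz =
      a ≫ K.liftCycles z' k ((ComplexShape.up ℤ).next_eq' hjk) hz' ≫ K.homologyπ j := by
  unfold cycHom
  rw [← Category.assoc]
  congr 1
  rw [← cancel_mono (K.iCycles j), Category.assoc, K.liftCycles_i, K.liftCycles_i, h]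

theorem cyc_surjective (j k : ℤ) (hjk : j + 1 = k) (h : K.homology j) :
    ∃ (z : K.X j) (hz : (K.d j k).hom z = 0), cyc K j k hjk z hz = h := by
  obtain ⟨A', π, hπ, z, hz, fac⟩ := K.eq_liftCycles_homologyπ_up_to_refinements (elt h) k
    ((ComplexShape.up ℤ).next_eq' hjk)
  obtain ⟨a', ha'⟩ := exists_preimage π
  have hz0 : (K.d j k).hom (z.hom a') = 0 := congrArg (fun f => f.hom a') hz
  refine ⟨z.hom a', hz0, ?_⟩
  have h1 : elt a' ≫ π = 𝟙 Zt.{u} := by rw [elt_comp, ha', elt_up_one]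
  have h2 := cycHom_of_fac K j k hjk (z.hom a') hz0 (elt a') z hz (elt_comp a' z).symm
  unfold cyc
  rw [h2, ← fac, ← Category.assoc, h1, Category.id_comp, elt_one]

theorem cyc_eq_zero_iff (i j k : ℤ) (hij : i + 1 = j) (hjk : j + 1 = k) (z : K.X j)
    (hz : (K.d j k).hom z = 0) :
    cyc K j k hjk z hz = 0 ↔ ∃ b : K.X i, (K.d i j).hom b = z := by
  have key : cyc K j k hjk z hz = 0 ↔ cycHom K j k hjk z hz = 0 := by
    rw [cycHom_eq]
    constructor
    · intro h
      rw [h, elt_zero]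
    · intro h
      have := congrArg (fun f => f.hom ⟨1⟩) h
      rw [← elt_one (cyc K j k hjk z hz)]
      exact this
  rw [key]
  unfold cycHom
  rw [K.liftCycles_comp_homologyπ_eq_zero_iff_up_to_refinements i j k
    ((ComplexShape.up ℤ).prev_eq' hij) ((ComplexShape.up ℤ).next_eq' hjk)]
  constructor
  · rintro ⟨A', π, hπ, x₁, fac⟩
    obtain ⟨a', ha'⟩ := exists_preimage π
    refine ⟨x₁.hom a', ?_⟩
    have h1 : (elt z).hom (π.hom a') = (K.d i j).hom (x₁.hom a') :=
      congrArg (fun f => f.hom a') fac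
    rw [ha', elt_one] at h1
    exact h1.symm
  · rintro ⟨b, rfl⟩
    exact ⟨Zt.{u}, 𝟙 _, inferInstance, elt b, by rw [Category.id_comp, elt_comp]⟩

theorem cyc_sub (j k : ℤ) (hjk : j + 1 = k) (z z' : K.X j) (hz : (K.d j k).hom z = 0)
    (hz' : (K.d j k).hom z' = 0) :
    cyc K j k hjk (z - z') (by rw [map_sub, hz, hz', sub_zero]) =
      cyc K j k hjk z hz - cyc K j k hjk z' hz' := by
  have h : cycHom K j k hjk (z - z') (by rw [map_sub, hz, hz', sub_zero]) =
      cycHom K j k hjk z hz - cycHom K j k hjk z' hz' := by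
    unfold cycHom
    rw [← Preadditive.sub_comp]
    congr 1
    rw [← cancel_mono (K.iCycles j), Preadditive.sub_comp, K.liftCycles_i, K.liftCycles_i,
      K.liftCycles_i, elt_sub]
  have := congrArg (fun f => f.hom ⟨1⟩) h
  exact this

theorem cyc_congr (j k : ℤ) (hjk : j + 1 = k) (z z' : K.X j) (hz : (K.d j k).hom z = 0)
    (h : z = z') : cyc K j k hjk z hz = cyc K j k hjk z' (h ▸ hz) := by
  subst h
  rfl

theorem cyc_map {K K' : CochainComplex AddCommGrpCat.{u} ℤ} (φ : K ⟶ K') (j k : ℤ)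
    (hjk : j + 1 = k) (z : K.X j) (hz : (K.d j k).hom z = 0) :
    (HomologicalComplex.homologyMap φ j).hom (cyc K j k hjk z hz) =
      cyc K' j k hjk ((φ.f j).hom z) (by
        have h1 : (K'.d j k).hom ((φ.f j).hom z) = (φ.f k).hom ((K.d j k).hom z) :=
          congrArg (fun f => f.hom z) (φ.comm j k)
        rw [h1, hz, map_zero]) := by
  have h : cycHom K j k hjk z hz ≫ HomologicalComplex.homologyMap φ j =
      cycHom K' j k hjk ((φ.f j).hom z) (by
        have h1 : (K'.d j k).hom ((φ.f j).hom z) = (φ.f k).hom ((K.d j k).hom z) :=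
          congrArg (fun f => f.hom z) (φ.comm j k)
        rw [h1, hz, map_zero]) := by
    unfold cycHom
    rw [Category.assoc, HomologicalComplex.homologyπ_naturality, ← Category.assoc,
      HomologicalComplex.liftCycles_comp_cyclesMap]
    congr 1
    rw [← cancel_mono (K'.iCycles j), K'.liftCycles_i, K'.liftCycles_i, elt_comp]
  have := congrArg (fun f => f.hom ⟨1⟩) h
  exact this

end Cyc

section CycTotal

variable (K : CochainComplex AddCommGrpCat.{u} ℤ)

open Classical in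
/-- The class of an element (zero if the element is not a cycle). -/
noncomputable def cyc' (j k : ℤ) (hjk : j + 1 = k) (z : K.X j) : K.homology j :=
  if hz : (K.d j k).hom z = 0 then cyc K j k hjk z hz else 0

theorem cyc'_eq (j k : ℤ) (hjk : j + 1 = k) (z : K.X j) (hz : (K.d j k).hom z = 0) :
    cyc' K j k hjk z = cyc K j k hjk z hz := dif_pos hz

theorem cyc'_surjective (j k : ℤ) (hjk : j + 1 = k) (h : K.homology j) :
    ∃ z : K.X j, (K.d j k).hom z = 0 ∧ cyc' K j k hjk z = h := by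
  obtain ⟨z, hz, rfl⟩ := cyc_surjective K j k hjk h
  exact ⟨z, hz, cyc'_eq K j k hjk z hz⟩

theorem cyc'_eq_zero_iff (i j k : ℤ) (hij : i + 1 = j) (hjk : j + 1 = k) (z : K.X j)
    (hz : (K.d j k).hom z = 0) :
    cyc' K j k hjk z = 0 ↔ ∃ b : K.X i, (K.d i j).hom b = z := by
  rw [cyc'_eq K j k hjk z hz]
  exact cyc_eq_zero_iff K i j k hij hjk z hz

theorem cyc'_sub (j k : ℤ) (hjk : j + 1 = k) (z z' : K.X j) (hz : (K.d j k).hom z = 0)
    (hz' : (K.d j k).hom z' = 0) :
    cyc' K j k hjk (z - z') = cyc' K j k hjk z - cyc' K j k hjk z' := by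
  rw [cyc'_eq K j k hjk z hz, cyc'_eq K j k hjk z' hz',
    cyc'_eq K j k hjk (z - z') (by rw [map_sub, hz, hz', sub_zero])]
  exact cyc_sub K j k hjk z z' hz hz'

theorem cyc'_map {K K' : CochainComplex AddCommGrpCat.{u} ℤ} (φ : K ⟶ K') (j k : ℤ)
    (hjk : j + 1 = k) (z : K.X j) (hz : (K.d j k).hom z = 0) :
    (HomologicalComplex.homologyMap φ j).hom (cyc' K j k hjk z) =
      cyc' K' j k hjk ((φ.f j).hom z) := by
  have h1 : (K'.d j k).hom ((φ.f j).hom z) = 0 := by
    have h1 : (K'.d j k).hom ((φ.f j).hom z) = (φ.f k).hom ((K.d j k).hom z) :=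
      congrArg (fun f => f.hom z) (φ.comm j k)
    rw [h1, hz, map_zero]
  rw [cyc'_eq K j k hjk z hz, cyc'_eq K' j k hjk _ h1]
  exact cyc_map φ j k hjk z hz

end CycTotal

section Main

variable (K : ℕ → CochainComplex AddCommGrpCat.{u} ℤ) (τ : ∀ n, K (n + 1) ⟶ K n)

theorem tau_d (n : ℕ) (j k : ℤ) (x : (K (n + 1)).X j) :
    ((K n).d j k).hom (((τ n).f j).hom x) = ((τ n).f k).hom (((K (n + 1)).d j k).hom x) :=
  congrArg (fun f => f.hom x) ((τ n).comm j k)

theorem d_d (n : ℕ) (i j k : ℤ) (x : (K n).X i) :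
    ((K n).d j k).hom (((K n).d i j).hom x) = 0 :=
  congrArg (fun f => f.hom x) ((K n).d_comp_d i j k)

/-- `R¹ lim` of the cycles vanishes. -/
theorem limOne_cycles (i j k : ℤ) (hij : i + 1 = j) (hjk : j + 1 = k)
    (ha : CohCx.LimOneIsZero (fun n => (K n).X i) (fun n => ((τ n).f i).hom))
    (hb : CohCx.LimOneIsZero (fun n => (K n).homology j)
      (fun n => (HomologicalComplex.homologyMap (τ n) j).hom))
    (e : ∀ n, (K n).X j) (he : ∀ n, ((K n).d j k).hom (e n) = 0) :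
    ∃ z' : ∀ n, (K n).X j, (∀ n, ((K n).d j k).hom (z' n) = 0) ∧
      ∀ n, e n = z' n - ((τ n).f j).hom (z' (n + 1)) := by
  obtain ⟨g, hg⟩ := hb (fun n => cyc' (K n) j k hjk (e n))
  have hg' : ∀ n, g n - (HomologicalComplex.homologyMap (τ n) j).hom (g (n + 1)) =
      cyc' (K n) j k hjk (e n) := fun n => congrFun hg n
  choose w hw0 hw1 using fun n => cyc'_surjective (K n) j k hjk (g n)
  have hτw : ∀ n, ((K n).d j k).hom (((τ n).f j).hom (w (n + 1))) = 0 := fun n => by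
    rw [tau_d, hw0, map_zero]
  have hb' : ∀ n, ∃ b : (K n).X i,
      ((K n).d i j).hom b = e n - (w n - ((τ n).f j).hom (w (n + 1))) := fun n => by
    have hcyc : ((K n).d j k).hom (e n - (w n - ((τ n).f j).hom (w (n + 1)))) = 0 := by
      rw [map_sub, map_sub, he, hw0, hτw, sub_zero, sub_zero]
    rw [← cyc'_eq_zero_iff (K n) i j k hij hjk _ hcyc,
      cyc'_sub (K n) j k hjk _ _ (he n) (by rw [map_sub, hw0, hτw, sub_zero]),
      cyc'_sub (K n) j k hjk _ _ (hw0 n) (hτw n), hw1 n,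
      ← cyc'_map (τ n) j k hjk _ (hw0 (n + 1)), hw1 (n + 1), hg' n, sub_self]
  choose b hb0 using hb'
  obtain ⟨c, hc⟩ := ha b
  have hc' : ∀ n, c n - ((τ n).f i).hom (c (n + 1)) = b n := fun n => congrFun hc n
  refine ⟨fun n => w n + ((K n).d i j).hom (c n), fun n => ?_, fun n => ?_⟩
  · change ((K n).d j k).hom (w n + ((K n).d i j).hom (c n)) = 0
    rw [map_add, hw0, d_d, add_zero]
  · change e n = w n + ((K n).d i j).hom (c n) -
      ((τ n).f j).hom (w (n + 1) + ((K (n + 1)).d i j).hom (c (n + 1)))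
    have h1 := hb0 n
    rw [← hc' n, map_sub, tau_d] at h1
    rw [map_add]
    have h2 : e n = (w n - ((τ n).f j).hom (w (n + 1))) +
        (((K n).d i j).hom (c n) - ((τ n).f j).hom (((K (n + 1)).d i j).hom (c (n + 1)))) := by
      rw [h1]
      abel
    rw [h2]
    abel

theorem inj_step_of_isIso (n : ℕ) (j k l : ℤ) (hjk : j + 1 = k) (hkl : k + 1 = l)
    (hc : IsIso (HomologicalComplex.homologyMap (τ n) k))
    (z : (K (n + 1)).X k) (hz : ((K (n + 1)).d k l).hom z = 0)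
    (hb : ∃ b : (K n).X j, ((K n).d j k).hom b = ((τ n).f k).hom z) :
    ∃ b' : (K (n + 1)).X j, ((K (n + 1)).d j k).hom b' = z := by
  have hτz : ((K n).d k l).hom (((τ n).f k).hom z) = 0 := by rw [tau_d, hz, map_zero]
  have hbij : Function.Bijective (HomologicalComplex.homologyMap (τ n) k).hom :=
    ConcreteCategory.bijective_of_isIso _
  rw [← cyc'_eq_zero_iff (K (n + 1)) j k l hjk hkl z hz]
  have h1 : (HomologicalComplex.homologyMap (τ n) k).hom (cyc' (K (n + 1)) k l hkl z) = 0 := by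
    rw [cyc'_map (τ n) k l hkl z hz, cyc'_eq_zero_iff (K n) j k l hjk hkl _ hτz]
    exact hb
  exact hbij.1 (h1.trans (map_zero _).symm)

theorem surj_step_of_isIso (n : ℕ) (j k l : ℤ) (hjk : j + 1 = k) (hkl : k + 1 = l)
    (hc : IsIso (HomologicalComplex.homologyMap (τ n) k))
    (y : (K n).X k) (hy : ((K n).d k l).hom y = 0) :
    ∃ z : (K (n + 1)).X k, ((K (n + 1)).d k l).hom z = 0 ∧
      ∃ b : (K n).X j, y = ((τ n).f k).hom z + ((K n).d j k).hom b := by
  have hbij : Function.Bijective (HomologicalComplex.homologyMap (τ n) k).hom :=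
    ConcreteCategory.bijective_of_isIso _
  obtain ⟨h, hh⟩ := hbij.2 (cyc' (K n) k l hkl y)
  obtain ⟨z, hz, rfl⟩ := cyc'_surjective (K (n + 1)) k l hkl h
  have hτz : ((K n).d k l).hom (((τ n).f k).hom z) = 0 := by rw [tau_d, hz, map_zero]
  rw [cyc'_map (τ n) k l hkl z hz] at hh
  have h0 : cyc' (K n) k l hkl (y - ((τ n).f k).hom z) = 0 := by
    rw [cyc'_sub (K n) k l hkl _ _ hy hτz, hh, sub_self]
  obtain ⟨b, hb⟩ := (cyc'_eq_zero_iff (K n) j k l hjk hkl _
    (by rw [map_sub, hy, hτz, sub_zero])).1 h0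
  exact ⟨z, hz, b, by rw [hb]; abel⟩

theorem lim_inj (i j k l : ℤ) (hij : i + 1 = j) (hjk : j + 1 = k) (hkl : k + 1 = l)
    (ha : CohCx.LimOneIsZero (fun n => (K n).X i) (fun n => ((τ n).f i).hom))
    (hb : CohCx.LimOneIsZero (fun n => (K n).homology j)
      (fun n => (HomologicalComplex.homologyMap (τ n) j).hom))
    (hc : ∀ n, IsIso (HomologicalComplex.homologyMap (τ n) k))
    (x : ∀ n, (K n).X k) (hx : ∀ n, ((τ n).f k).hom (x (n + 1)) = x n)
    (hdx : ∀ n, ((K n).d k l).hom (x n) = 0)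
    (y : (K 0).X j) (hy : ((K 0).d j k).hom y = x 0) :
    ∃ b : ∀ n, (K n).X j, (∀ n, ((τ n).f j).hom (b (n + 1)) = b n) ∧
      ∀ n, ((K n).d j k).hom (b n) = x n := by
  have h1 : ∀ n, ∃ b' : (K n).X j, ((K n).d j k).hom b' = x n := by
    intro n
    induction n with
    | zero => exact ⟨y, hy⟩
    | succ n ih =>
      exact inj_step_of_isIso K τ n j k l hjk hkl (hc n) (x (n + 1)) (hdx (n + 1))
        (by rw [hx n]; exact ih)
  choose b' hb' using h1
  have he : ∀ n, ((K n).d j k).hom (b' n - ((τ n).f j).hom (b' (n + 1))) = 0 := fun n => by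
    rw [map_sub, tau_d, hb', hb', hx, sub_self]
  obtain ⟨z', hz'0, hz'1⟩ := limOne_cycles K τ i j k hij hjk ha hb
    (fun n => b' n - ((τ n).f j).hom (b' (n + 1))) he
  refine ⟨fun n => b' n - z' n, fun n => ?_, fun n => ?_⟩
  · change ((τ n).f j).hom (b' (n + 1) - z' (n + 1)) = b' n - z' n
    have h2 := hz'1 n
    rw [map_sub]
    have h3 : ((τ n).f j).hom (b' (n + 1)) =
        b' n - (z' n - ((τ n).f j).hom (z' (n + 1))) := by
      rw [← h2]
      abel
    rw [h3]
    abel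
  · change ((K n).d j k).hom (b' n - z' n) = x n
    rw [map_sub, hb', hz'0, sub_zero]

/-- A sequence of cycles lifting a given cycle along isomorphisms on cohomology. -/
noncomputable def cycleSeq (j k l : ℤ) (hjk : j + 1 = k) (hkl : k + 1 = l)
    (hc : ∀ n, IsIso (HomologicalComplex.homologyMap (τ n) k))
    (y : (K 0).X k) (hy : ((K 0).d k l).hom y = 0) :
    ∀ n, {z : (K n).X k // ((K n).d k l).hom z = 0}
  | 0 => ⟨y, hy⟩
  | n + 1 =>
    ⟨(surj_step_of_isIso K τ n j k l hjk hkl (hc n)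
        (cycleSeq j k l hjk hkl hc y hy n).1 (cycleSeq j k l hjk hkl hc y hy n).2).choose,
      (surj_step_of_isIso K τ n j k l hjk hkl (hc n)
        (cycleSeq j k l hjk hkl hc y hy n).1 (cycleSeq j k l hjk hkl hc y hy n).2).choose_spec.1⟩

theorem cycleSeq_spec (j k l : ℤ) (hjk : j + 1 = k) (hkl : k + 1 = l)
    (hc : ∀ n, IsIso (HomologicalComplex.homologyMap (τ n) k))
    (y : (K 0).X k) (hy : ((K 0).d k l).hom y = 0) (n : ℕ) :
    ∃ b : (K n).X j, (cycleSeq K τ j k l hjk hkl hc y hy n).1 =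
      ((τ n).f k).hom (cycleSeq K τ j k l hjk hkl hc y hy (n + 1)).1 + ((K n).d j k).hom b :=
  (surj_step_of_isIso K τ n j k l hjk hkl (hc n)
    (cycleSeq K τ j k l hjk hkl hc y hy n).1 (cycleSeq K τ j k l hjk hkl hc y hy n).2).choose_spec.2

theorem lim_surj (j k l : ℤ) (hjk : j + 1 = k) (hkl : k + 1 = l)
    (ha : CohCx.LimOneIsZero (fun n => (K n).X j) (fun n => ((τ n).f j).hom))
    (hc : ∀ n, IsIso (HomologicalComplex.homologyMap (τ n) k))
    (y : (K 0).X k) (hy : ((K 0).d k l).hom y = 0) :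
    ∃ (x : ∀ n, (K n).X k) (y₁ : (K 0).X j), (∀ n, ((τ n).f k).hom (x (n + 1)) = x n) ∧
      (∀ n, ((K n).d k l).hom (x n) = 0) ∧ y = x 0 + ((K 0).d j k).hom y₁ := by
  choose c hc' using cycleSeq_spec K τ j k l hjk hkl hc y hy
  obtain ⟨a, ha'⟩ := ha (fun n => - c n)
  have ha'' : ∀ n, a n - ((τ n).f j).hom (a (n + 1)) = - c n := fun n => congrFun ha' n
  refine ⟨fun n => (cycleSeq K τ j k l hjk hkl hc y hy n).1 + ((K n).d j k).hom (a n), - a 0,
    fun n => ?_, fun n => ?_, ?_⟩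
  · change ((τ n).f k).hom ((cycleSeq K τ j k l hjk hkl hc y hy (n + 1)).1 +
      ((K (n + 1)).d j k).hom (a (n + 1))) =
      (cycleSeq K τ j k l hjk hkl hc y hy n).1 + ((K n).d j k).hom (a n)
    have h3 : ((τ n).f j).hom (a (n + 1)) = a n + c n := by
      have h4 := ha'' n
      rw [sub_eq_iff_eq_add] at h4
      rw [h4]
      abel
    rw [map_add, ← tau_d, h3, map_add, hc' n]
    abel
  · change ((K n).d k l).hom ((cycleSeq K τ j k l hjk hkl hc y hy n).1 +
      ((K n).d j k).hom (a n)) = 0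
    rw [map_add, (cycleSeq K τ j k l hjk hkl hc y hy n).2, d_d, add_zero]
  · change y = y + ((K 0).d j k).hom (a 0) + ((K 0).d j k).hom (- a 0)
    rw [map_neg]
    abel

end Main

end Groth.Agent.H33.LimCxAlg
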