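import Groth.Agent.H33.LimCxAlg
import Groth.Agent.H5.HDU.Site

/-!
# Cohomology sheaves of a termwise limit of complexes of abelian sheaves

`isIso_homologyMap_limit_π`: for an inverse system `F_n` of complexes of abelian sheaves on a site,
a covering class `B` and an index `n₀` such that on `B` the systems of sections in degrees
`m-2`, `m-1` and of `H^{m-1}` have vanishing `R¹ lim`, and `H^m(F_n(U)) → H^m(F_{n₀}(U))` is an
isomorphism for `n ≥ n₀`, the map `H^m(lim F_n) → H^m(F_{n₀})` is an isomorphism.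
-/

set_option autoImplicit false
universe u

namespace Groth.Agent.H33.LimCxSite

open CategoryTheory Limits Opposite Groth.Agent.H5.HDULib Groth.Agent.H33.LimCxAlg

variable {C : Type u} [SmallCategory C] (J : GrothendieckTopology C)

theorem res_comp (G : Sheaf J AddCommGrpCat.{u}) {U V W : C} (f : V ⟶ U) (k : W ⟶ V)
    (x : G.obj.obj (op U)) :
    (G.obj.map (k ≫ f).op).hom x = (G.obj.map k.op).hom ((G.obj.map f.op).hom x) := by
  rw [op_comp, Functor.map_comp]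
  rfl

/-- A refinement lemma: local liftings of sections assemble into morphisms from an
epimorphic cover. -/
theorem exists_refinement {A Y₁ Y₂ : Sheaf J AddCommGrpCat.{u}}
    (R : ∀ W : C, A.obj.obj (op W) → Y₁.obj.obj (op W) → Y₂.obj.obj (op W) → Prop)
    (hR : ∀ (U : C) (s : A.obj.obj (op U)), ∃ T ∈ J U, ∀ (W : C) (g : W ⟶ U), T g →
      ∃ y₁ y₂, R W ((A.obj.map g.op).hom s) y₁ y₂) :
    ∃ (A' : Sheaf J AddCommGrpCat.{u}) (π : A' ⟶ A) (_ : Epi π) (ψ₁ : A' ⟶ Y₁) (ψ₂ : A' ⟶ Y₂),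
      ∀ (Z : Sheaf J AddCommGrpCat.{u}) (u : A ⟶ Z) (v₁ : Y₁ ⟶ Z) (v₂ : Y₂ ⟶ Z),
        (∀ W s y₁ y₂, R W s y₁ y₂ → sec J u W s + sec J v₁ W y₁ + sec J v₂ W y₂ = 0) →
        π ≫ u + ψ₁ ≫ v₁ + ψ₂ ≫ v₂ = 0 := by
  let Idx := Σ W : C, {p : A.obj.obj (op W) × Y₁.obj.obj (op W) × Y₂.obj.obj (op W) //
    R W p.1 p.2.1 p.2.2}
  let G : Idx → Sheaf J AddCommGrpCat.{u} := fun idx => CohCx.freeSheaf J idx.1
  let π : ∐ G ⟶ A := Sigma.desc (fun idx => CohFree.ofSect J idx.1 A idx.2.1.1)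
  let ψ₁ : ∐ G ⟶ Y₁ := Sigma.desc (fun idx => CohFree.ofSect J idx.1 Y₁ idx.2.1.2.1)
  let ψ₂ : ∐ G ⟶ Y₂ := Sigma.desc (fun idx => CohFree.ofSect J idx.1 Y₂ idx.2.1.2.2)
  have hπ : Epi π := by
    rw [← Sheaf.isLocallySurjective_iff_epi']
    constructor
    intro U s
    obtain ⟨T, hT, hT'⟩ := hR U s
    refine J.superset_covering ?_ hT
    intro W g hg
    obtain ⟨y₁, y₂, hy⟩ := hT' W g hg
    let idx : Idx := ⟨W, ⟨((A.obj.map g.op).hom s, y₁, y₂), hy⟩⟩
    refine ⟨CohFree.evalGen J W (∐ G) (Sigma.ι G idx), ?_⟩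
    change sec J π W (CohFree.evalGen J W (∐ G) (Sigma.ι G idx)) = (A.obj.map g.op).hom s
    rw [← evalGen_comp, Sigma.ι_desc, CohFree.evalGen_ofSect]
  refine ⟨∐ G, π, hπ, ψ₁, ψ₂, fun Z u v₁ v₂ h => ?_⟩
  apply Sigma.hom_ext
  intro idx
  rw [comp_zero, Preadditive.comp_add, Preadditive.comp_add, Sigma.ι_desc_assoc,
    Sigma.ι_desc_assoc, Sigma.ι_desc_assoc, ← ofSect_comp, ← ofSect_comp, ← ofSect_comp,
    ← ofSect_add, ← ofSect_add, h idx.1 _ _ _ idx.2.2, ofSect_zero]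

theorem mono_homologyMap_of_local {K L : CochainComplex (Sheaf J AddCommGrpCat.{u}) ℤ}
    (φ : K ⟶ L) (i j k : ℤ) (hij : i + 1 = j) (hjk : j + 1 = k)
    (h : ∀ (U : C) (x : (K.X j).obj.obj (op U)) (y : (L.X i).obj.obj (op U)),
      sec J (K.d j k) U x = 0 → sec J (φ.f j) U x = sec J (L.d i j) U y →
      ∃ T ∈ J U, ∀ (W : C) (g : W ⟶ U), T g →
        ∃ x₁ : (K.X i).obj.obj (op W), sec J (K.d i j) W x₁ = ((K.X j).obj.map g.op).hom x) :
    Mono (HomologicalComplex.homologyMap φ j) := by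
  rw [HomologicalComplex.mono_homologyMap_iff_up_to_refinements φ i j k
    ((ComplexShape.up ℤ).prev_eq' hij) ((ComplexShape.up ℤ).next_eq' hjk)]
  intro A x₂ hx₂ y₁ hy
  obtain ⟨A', π, hπ, ψ₁, ψ₂, hlin⟩ := exists_refinement J (A := A) (Y₁ := K.X i) (Y₂ := K.X i)
    (fun W s x₁ _ => sec J x₂ W s + sec J (K.d i j) W x₁ = 0) (fun U s => by
      obtain ⟨T, hT, hT'⟩ := h U (sec J x₂ U s) (sec J y₁ U s)
        (by rw [← sec_comp, hx₂, sec_zero]) (by rw [← sec_comp, ← sec_comp, hy])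
      refine ⟨T, hT, fun W g hg => ?_⟩
      obtain ⟨x₁, hx₁⟩ := hT' W g hg
      refine ⟨-x₁, 0, ?_⟩
      rw [map_neg, hx₁, sec_map, add_neg_cancel])
  have h1 := hlin (K.X j) x₂ (K.d i j) 0 (fun W s x₁ y hr => by
    rw [sec_zero, add_zero]
    exact hr)
  rw [comp_zero, add_zero] at h1
  refine ⟨A', π, hπ, -ψ₁, ?_⟩
  rw [Preadditive.neg_comp, eq_neg_iff_add_eq_zero]
  exact h1

theorem epi_homologyMap_of_local {K L : CochainComplex (Sheaf J AddCommGrpCat.{u}) ℤ}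
    (φ : K ⟶ L) (i j k : ℤ) (hij : i + 1 = j) (hjk : j + 1 = k)
    (h : ∀ (U : C) (y : (L.X j).obj.obj (op U)), sec J (L.d j k) U y = 0 →
      ∃ T ∈ J U, ∀ (W : C) (g : W ⟶ U), T g →
        ∃ (x : (K.X j).obj.obj (op W)) (y₁ : (L.X i).obj.obj (op W)),
          sec J (K.d j k) W x = 0 ∧
          ((L.X j).obj.map g.op).hom y = sec J (φ.f j) W x + sec J (L.d i j) W y₁) :
    Epi (HomologicalComplex.homologyMap φ j) := by
  rw [HomologicalComplex.epi_homologyMap_iff_up_to_refinements φ i j k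
    ((ComplexShape.up ℤ).prev_eq' hij) ((ComplexShape.up ℤ).next_eq' hjk)]
  intro A y₂ hy₂
  obtain ⟨A', π, hπ, ψ₁, ψ₂, hlin⟩ := exists_refinement J (A := A) (Y₁ := K.X j) (Y₂ := L.X i)
    (fun W s x y₁ => sec J y₂ W s + sec J (φ.f j) W x + sec J (L.d i j) W y₁ = 0 ∧
      sec J (K.d j k) W x = 0) (fun U s => by
      obtain ⟨T, hT, hT'⟩ := h U (sec J y₂ U s) (by rw [← sec_comp, hy₂, sec_zero])
      refine ⟨T, hT, fun W g hg => ?_⟩
      obtain ⟨x, y₁, hx, hxy⟩ := hT' W g hg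
      refine ⟨-x, -y₁, ?_, ?_⟩
      · rw [map_neg, map_neg, sec_map, hxy]
        abel
      · rw [map_neg, hx, neg_zero])
  have h1 := hlin (L.X j) y₂ (φ.f j) (L.d i j) (fun W s x y₁ hr => hr.1)
  have h2 := hlin (K.X k) 0 (K.d j k) 0 (fun W s x y₁ hr => by
    rw [sec_zero, sec_zero, zero_add, add_zero]
    exact hr.2)
  rw [comp_zero, comp_zero, zero_add, add_zero] at h2
  refine ⟨A', π, hπ, -ψ₁, ?_, -ψ₂, ?_⟩
  · rw [Preadditive.neg_comp, h2, neg_zero]
  · rw [Preadditive.neg_comp, Preadditive.neg_comp, ← neg_add, eq_neg_iff_add_eq_zero,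
      ← add_assoc]
    exact h1

section LimitSections

variable (F : ℕ → CochainComplex (Sheaf J AddCommGrpCat.{u}) ℤ) (t : ∀ n, F (n + 1) ⟶ F n)

/-- Sections over `U` in degree `j`. -/
noncomputable abbrev Φ (U : C) (j : ℤ) :
    CochainComplex (Sheaf J AddCommGrpCat.{u}) ℤ ⥤ AddCommGrpCat.{u} :=
  HomologicalComplex.eval _ (ComplexShape.up ℤ) j ⋙ sheafToPresheaf J AddCommGrpCat.{u} ⋙
    (evaluation Cᵒᵖ AddCommGrpCat.{u}).obj (op U)

/-- The limit complex. -/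
noncomputable abbrev Lim : CochainComplex (Sheaf J AddCommGrpCat.{u}) ℤ :=
  limit (CohCx.opSequence F t)

/-- The projections of the limit. -/
noncomputable abbrev pr (n : ℕ) : Lim J F t ⟶ F n := limit.π (CohCx.opSequence F t) (op n)

theorem pr_succ (n : ℕ) : pr J F t (n + 1) ≫ t n = pr J F t n := by
  have := limit.w (CohCx.opSequence F t) (homOfLE (Nat.le_add_right n 1)).op
  rw [Functor.ofOpSequence_map_homOfLE_succ] at this
  exact this

theorem pr_compat (U : C) (j : ℤ) (n : ℕ) (x : ((Lim J F t).X j).obj.obj (op U)) :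
    sec J ((t n).f j) U (sec J ((pr J F t (n + 1)).f j) U x) = sec J ((pr J F t n).f j) U x := by
  rw [← sec_comp, ← HomologicalComplex.comp_f, pr_succ]

theorem lim_sections_ext (U : C) (j : ℤ) (x y : ((Lim J F t).X j).obj.obj (op U))
    (h : ∀ n, sec J ((pr J F t n).f j) U x = sec J ((pr J F t n).f j) U y) : x = y := by
  refine Concrete.isLimit_ext _ (isLimitOfPreserves (Φ J U j)
    (limit.isLimit (CohCx.opSequence F t))) x y (fun k => ?_)
  induction k using Opposite.rec with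
  | _ n => exact h n

theorem lim_sections_exists (U : C) (j : ℤ) (x : ∀ n, ((F n).X j).obj.obj (op U))
    (hx : ∀ n, sec J ((t n).f j) U (x (n + 1)) = x n) :
    ∃ ξ : ((Lim J F t).X j).obj.obj (op U), ∀ n, sec J ((pr J F t n).f j) U ξ = x n := by
  let hl := isLimitOfPreserves (Φ J U j) (limit.isLimit (CohCx.opSequence F t))
  let cπ : (Functor.const ℕᵒᵖ).obj Zt.{u} ⟶ CohCx.opSequence F t ⋙ Φ J U j :=
    NatTrans.ofOpSequence (fun n => elt (x n)) (fun n => by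
      rw [Functor.comp_map, Functor.ofOpSequence_map_homOfLE_succ]
      change 𝟙 _ ≫ elt (x n) = elt (x (n + 1)) ≫ (Φ J U j).map (t n)
      exact (Category.id_comp _).trans ((congrArg elt (hx n).symm).trans
        (elt_comp (G := (Φ J U j).obj (F (n + 1))) (x (n + 1)) ((Φ J U j).map (t n))).symm))
  refine ⟨(hl.lift (Cone.mk Zt.{u} cπ)).hom ⟨1⟩, fun n => ?_⟩
  have fac := hl.fac (Cone.mk Zt.{u} cπ) (op n)
  have h1 := congrArg (fun f => f.hom ⟨1⟩) fac
  exact h1.trans (elt_one (x n))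

theorem pr_d (U : C) (i j : ℤ) (n : ℕ) (x : ((Lim J F t).X i).obj.obj (op U)) :
    sec J ((F n).d i j) U (sec J ((pr J F t n).f i) U x) =
      sec J ((pr J F t n).f j) U (sec J ((Lim J F t).d i j) U x) := by
  rw [← sec_comp, ← sec_comp, (pr J F t n).comm i j]

theorem isIso_step (U : C) (m : ℤ) (n₀ : ℕ)
    (hc : ∀ k : ℕ, IsIso (HomologicalComplex.homologyMap
      ((CohCx.sectCx J U).map (CohCx.transition F t n₀ k)) m)) (k : ℕ) :
    IsIso (HomologicalComplex.homologyMap ((CohCx.sectCx J U).map (t (n₀ + k))) m) := by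
  have h2 : IsIso (HomologicalComplex.homologyMap ((CohCx.sectCx J U).map (t (n₀ + k))) m ≫
      HomologicalComplex.homologyMap
        ((CohCx.sectCx J U).map (CohCx.transition F t n₀ k)) m) := by
    rw [← HomologicalComplex.homologyMap_comp, ← Functor.map_comp]
    exact hc (k + 1)
  have h3 := hc k
  exact IsIso.of_isIso_comp_right _ (HomologicalComplex.homologyMap
    ((CohCx.sectCx J U).map (CohCx.transition F t n₀ k)) m)

theorem key_inj (m : ℤ) (n₀ : ℕ) (U : C)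
    (ha : CohCx.LimOneIsZero (fun n => ((F n).X (m - 2)).obj.obj (op U))
      (fun n => (((t n).f (m - 2)).hom.app (op U)).hom))
    (hb : CohCx.LimOneIsZero
      (fun n => ((CohCx.sectCx J U).obj (F n)).homology (m - 1))
      (fun n => (HomologicalComplex.homologyMap ((CohCx.sectCx J U).map (t n)) (m - 1)).hom))
    (hc : ∀ k : ℕ, IsIso (HomologicalComplex.homologyMap
      ((CohCx.sectCx J U).map (CohCx.transition F t n₀ k)) m))
    (x : ((Lim J F t).X m).obj.obj (op U)) (hx : sec J ((Lim J F t).d m (m + 1)) U x = 0)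
    (y : ((F n₀).X (m - 1)).obj.obj (op U))
    (hxy : sec J ((pr J F t n₀).f m) U x = sec J ((F n₀).d (m - 1) m) U y) :
    ∃ β : ((Lim J F t).X (m - 1)).obj.obj (op U),
      sec J ((Lim J F t).d (m - 1) m) U β = x := by
  have hdx : ∀ k : ℕ, sec J ((F (n₀ + k)).d m (m + 1)) U
      (sec J ((pr J F t (n₀ + k)).f m) U x) = 0 := fun k => by
    rw [pr_d, hx, map_zero]
  obtain ⟨b, hb1, hb2⟩ := lim_inj (fun k => (CohCx.sectCx J U).obj (F (n₀ + k)))
    (fun k => (CohCx.sectCx J U).map (t (n₀ + k))) (m - 2) (m - 1) m (m + 1)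
    (by omega) (by omega) rfl
    (limOne_shift (fun n => ((F n).X (m - 2)).obj.obj (op U))
      (fun n => (((t n).f (m - 2)).hom.app (op U)).hom) ha n₀)
    (limOne_shift (fun n => ((CohCx.sectCx J U).obj (F n)).homology (m - 1))
      (fun n => (HomologicalComplex.homologyMap ((CohCx.sectCx J U).map (t n)) (m - 1)).hom)
      hb n₀)
    (isIso_step J F t U m n₀ hc)
    (fun k => sec J ((pr J F t (n₀ + k)).f m) U x)
    (fun k => pr_compat J F t U m (n₀ + k) x) hdx y hxy.symm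
  obtain ⟨c, hc'⟩ := exists_extension (fun n => ((F n).X (m - 1)).obj.obj (op U)) n₀ b
  obtain ⟨b', hb'1, hb'2⟩ := exists_compatible_of_eventually
    (A := fun n => ((F n).X (m - 1)).obj.obj (op U))
    (fun n z => sec J ((t n).f (m - 1)) U z) n₀ c (fun n hn => by
      obtain ⟨k, rfl⟩ := Nat.exists_eq_add_of_le hn
      have e1 : c (n₀ + k + 1) = b (k + 1) := hc' (k + 1)
      change sec J ((t (n₀ + k)).f (m - 1)) U (c (n₀ + k + 1)) = c (n₀ + k)
      rw [e1, hc' k]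
      exact hb1 k)
  obtain ⟨β, hβ⟩ := lim_sections_exists J F t U (m - 1) b' hb'2
  have key := eq_of_eventually_eq (A := fun n => ((F n).X m).obj.obj (op U))
    (fun n z => sec J ((t n).f m) U z)
    (fun n => sec J ((pr J F t n).f m) U (sec J ((Lim J F t).d (m - 1) m) U β))
    (fun n => sec J ((pr J F t n).f m) U x)
    (fun n => pr_compat J F t U m n _) (fun n => pr_compat J F t U m n _) n₀
    (fun n hn => by
      obtain ⟨k, rfl⟩ := Nat.exists_eq_add_of_le hn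
      rw [← pr_d, hβ, hb'1 _ hn, hc' k]
      exact hb2 k)
  exact ⟨β, lim_sections_ext J F t U m _ _ key⟩

theorem key_surj (m : ℤ) (n₀ : ℕ) (U : C)
    (ha : CohCx.LimOneIsZero (fun n => ((F n).X (m - 1)).obj.obj (op U))
      (fun n => (((t n).f (m - 1)).hom.app (op U)).hom))
    (hc : ∀ k : ℕ, IsIso (HomologicalComplex.homologyMap
      ((CohCx.sectCx J U).map (CohCx.transition F t n₀ k)) m))
    (y : ((F n₀).X m).obj.obj (op U)) (hy : sec J ((F n₀).d m (m + 1)) U y = 0) :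
    ∃ (ξ : ((Lim J F t).X m).obj.obj (op U)) (y₁ : ((F n₀).X (m - 1)).obj.obj (op U)),
      sec J ((Lim J F t).d m (m + 1)) U ξ = 0 ∧
      y = sec J ((pr J F t n₀).f m) U ξ + sec J ((F n₀).d (m - 1) m) U y₁ := by
  obtain ⟨xs, y₁, hx1, hx2, hx3⟩ := lim_surj (fun k => (CohCx.sectCx J U).obj (F (n₀ + k)))
    (fun k => (CohCx.sectCx J U).map (t (n₀ + k))) (m - 1) m (m + 1) (by omega) rfl
    (limOne_shift (fun n => ((F n).X (m - 1)).obj.obj (op U))
      (fun n => (((t n).f (m - 1)).hom.app (op U)).hom) ha n₀)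
    (isIso_step J F t U m n₀ hc) y hy
  obtain ⟨c, hc'⟩ := exists_extension (fun n => ((F n).X m).obj.obj (op U)) n₀ xs
  obtain ⟨b', hb'1, hb'2⟩ := exists_compatible_of_eventually
    (A := fun n => ((F n).X m).obj.obj (op U))
    (fun n z => sec J ((t n).f m) U z) n₀ c (fun n hn => by
      obtain ⟨k, rfl⟩ := Nat.exists_eq_add_of_le hn
      have e1 : c (n₀ + k + 1) = xs (k + 1) := hc' (k + 1)
      change sec J ((t (n₀ + k)).f m) U (c (n₀ + k + 1)) = c (n₀ + k)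
      rw [e1, hc' k]
      exact hx1 k)
  obtain ⟨ξ, hξ⟩ := lim_sections_exists J F t U m b' hb'2
  have key := eq_of_eventually_eq (A := fun n => ((F n).X (m + 1)).obj.obj (op U))
    (fun n z => sec J ((t n).f (m + 1)) U z)
    (fun n => sec J ((pr J F t n).f (m + 1)) U (sec J ((Lim J F t).d m (m + 1)) U ξ))
    (fun n => sec J ((pr J F t n).f (m + 1)) U 0)
    (fun n => pr_compat J F t U (m + 1) n _) (fun n => pr_compat J F t U (m + 1) n _) n₀
    (fun n hn => by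
      obtain ⟨k, rfl⟩ := Nat.exists_eq_add_of_le hn
      rw [← pr_d, hξ, hb'1 _ hn, hc' k, map_zero]
      exact hx2 k)
  refine ⟨ξ, y₁, lim_sections_ext J F t U (m + 1) _ _ key, ?_⟩
  have e0 : c n₀ = xs 0 := hc' 0
  rw [hξ, hb'1 n₀ le_rfl, e0]
  exact hx3

end LimitSections

theorem mono_homologyMap_of_basis {K L : CochainComplex (Sheaf J AddCommGrpCat.{u}) ℤ}
    (φ : K ⟶ L) (i j k : ℤ) (hij : i + 1 = j) (hjk : j + 1 = k) (B : Set C)
    (hB : ∀ U : C, ∃ (ι : Type u) (Y : ι → C) (f : ∀ i, Y i ⟶ U),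
      Sieve.ofArrows Y f ∈ J U ∧ ∀ i, Y i ∈ B)
    (h : ∀ U ∈ B, ∀ (x : (K.X j).obj.obj (op U)) (y : (L.X i).obj.obj (op U)),
      sec J (K.d j k) U x = 0 → sec J (φ.f j) U x = sec J (L.d i j) U y →
      ∃ x₁ : (K.X i).obj.obj (op U), sec J (K.d i j) U x₁ = x) :
    Mono (HomologicalComplex.homologyMap φ j) := by
  refine mono_homologyMap_of_local J φ i j k hij hjk (fun U x y hx hxy => ?_)
  obtain ⟨ι, Y, f, hcov, hYB⟩ := hB U
  refine ⟨Sieve.ofArrows Y f, hcov, fun W g hg => ?_⟩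
  obtain ⟨i₀, a, rfl⟩ := (Sieve.mem_ofArrows_iff Y f g).1 hg
  obtain ⟨x₁, hx₁⟩ := h (Y i₀) (hYB i₀) (((K.X j).obj.map (f i₀).op).hom x)
    (((L.X i).obj.map (f i₀).op).hom y)
    (by rw [sec_map, hx, map_zero]) (by rw [sec_map, sec_map, hxy])
  refine ⟨((K.X i).obj.map a.op).hom x₁, ?_⟩
  rw [sec_map, hx₁, res_comp]

theorem epi_homologyMap_of_basis {K L : CochainComplex (Sheaf J AddCommGrpCat.{u}) ℤ}
    (φ : K ⟶ L) (i j k : ℤ) (hij : i + 1 = j) (hjk : j + 1 = k) (B : Set C)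
    (hB : ∀ U : C, ∃ (ι : Type u) (Y : ι → C) (f : ∀ i, Y i ⟶ U),
      Sieve.ofArrows Y f ∈ J U ∧ ∀ i, Y i ∈ B)
    (h : ∀ U ∈ B, ∀ (y : (L.X j).obj.obj (op U)), sec J (L.d j k) U y = 0 →
      ∃ (x : (K.X j).obj.obj (op U)) (y₁ : (L.X i).obj.obj (op U)),
        sec J (K.d j k) U x = 0 ∧ y = sec J (φ.f j) U x + sec J (L.d i j) U y₁) :
    Epi (HomologicalComplex.homologyMap φ j) := by
  refine epi_homologyMap_of_local J φ i j k hij hjk (fun U y hy => ?_)
  obtain ⟨ι, Y, f, hcov, hYB⟩ := hB U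
  refine ⟨Sieve.ofArrows Y f, hcov, fun W g hg => ?_⟩
  obtain ⟨i₀, a, rfl⟩ := (Sieve.mem_ofArrows_iff Y f g).1 hg
  obtain ⟨x, y₁, hx, hxy⟩ := h (Y i₀) (hYB i₀) (((L.X j).obj.map (f i₀).op).hom y)
    (by rw [sec_map, hy, map_zero])
  refine ⟨((K.X j).obj.map a.op).hom x, ((L.X i).obj.map a.op).hom y₁, ?_, ?_⟩
  · rw [sec_map, hx, map_zero]
  · rw [res_comp, hxy, map_add, sec_map, sec_map]

/-- The cohomology sheaf of a termwise limit of complexes. -/
theorem isIso_homologyMap_limit_π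
    (F : ℕ → CochainComplex (Sheaf J AddCommGrpCat.{u}) ℤ) (t : ∀ n, F (n + 1) ⟶ F n) (m : ℤ)
    (B : Set C)
    (hB : ∀ U : C, ∃ (ι : Type u) (Y : ι → C) (f : ∀ i, Y i ⟶ U),
      Sieve.ofArrows Y f ∈ J U ∧ ∀ i, Y i ∈ B)
    (n₀ : ℕ)
    (ha : ∀ U ∈ B, ∀ j : ℤ, (j = m - 2 ∨ j = m - 1) →
      CohCx.LimOneIsZero (fun n => ((F n).X j).obj.obj (op U))
        (fun n => (((t n).f j).hom.app (op U)).hom))
    (hb : ∀ U ∈ B, CohCx.LimOneIsZero
      (fun n => ((CohCx.sectCx J U).obj (F n)).homology (m - 1))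
      (fun n => (HomologicalComplex.homologyMap ((CohCx.sectCx J U).map (t n)) (m - 1)).hom))
    (hc : ∀ U ∈ B, ∀ k : ℕ, IsIso (HomologicalComplex.homologyMap
      ((CohCx.sectCx J U).map (CohCx.transition F t n₀ k)) m)) :
    IsIso (HomologicalComplex.homologyMap (limit.π (CohCx.opSequence F t) (op n₀)) m) := by
  have hmono : Mono (HomologicalComplex.homologyMap
      (limit.π (CohCx.opSequence F t) (op n₀)) m) :=
    mono_homologyMap_of_basis J (pr J F t n₀) (m - 1) m (m + 1) (by omega) rfl B hB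
      (fun U hU x y hx hxy => key_inj J F t m n₀ U (ha U hU (m - 2) (Or.inl rfl)) (hb U hU)
        (hc U hU) x hx y hxy)
  have hepi : Epi (HomologicalComplex.homologyMap
      (limit.π (CohCx.opSequence F t) (op n₀)) m) :=
    epi_homologyMap_of_basis J (pr J F t n₀) (m - 1) m (m + 1) (by omega) rfl B hB
      (fun U hU y hy => key_surj J F t m n₀ U (ha U hU (m - 1) (Or.inr rfl)) (hc U hU) y hy)
  exact isIso_of_mono_of_epi _

end Groth.Agent.H33.LimCxSite
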