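import Mathlib.CategoryTheory.Localization.Triangulated
import Mathlib.CategoryTheory.Localization.CalculusOfFractions
import Mathlib.CategoryTheory.Localization.CalculusOfFractions.Preadditive
import Mathlib.CategoryTheory.Triangulated.Subcategory

/-! Helper lemmas on localizations of (pre)triangulated categories (helper33). -/

set_option autoImplicit false
universe v u v' u' v'' u''

namespace Groth.Agent.H33

open CategoryTheory CategoryTheory.Limits CategoryTheory.Pretriangulated

section General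

variable {D : Type u} [Category.{v} D] {E : Type u'} [Category.{v'} E]
  {E' : Type u''} [Category.{v''} E']

lemma isZero_map_equivalence (e : E ≌ E') (X : E) : IsZero (e.functor.obj X) ↔ IsZero X := by
  constructor
  · intro h
    exact IsZero.of_full_of_faithful_of_isZero e.functor X h
  · intro h
    apply IsZero.of_full_of_faithful_of_isZero e.inverse
    exact IsZero.of_iso h (e.unitIso.app X).symm

lemma isZero_obj_iff_of_isLocalization (S : MorphismProperty D) (Q : D ⥤ E) [Q.IsLocalization S]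
    (Q' : D ⥤ E') [Q'.IsLocalization S] (Z : D) : IsZero (Q.obj Z) ↔ IsZero (Q'.obj Z) := by
  let e := Localization.uniq Q Q' S
  let iso : Q ⋙ e.functor ≅ Q' := Localization.compUniqFunctor Q Q' S
  rw [← isZero_map_equivalence e (Q.obj Z)]
  exact (iso.app Z).isZero_iff

lemma isIso_map_iff_of_isLocalization (S : MorphismProperty D) (Q : D ⥤ E) [Q.IsLocalization S]
    (Q' : D ⥤ E') [Q'.IsLocalization S] {X Y : D} (f : X ⟶ Y) :
    IsIso (Q.map f) ↔ IsIso (Q'.map f) := by
  let e := Localization.uniq Q Q' S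
  let iso : Q ⋙ e.functor ≅ Q' := Localization.compUniqFunctor Q Q' S
  rw [← NatIso.isIso_map_iff iso f]
  dsimp
  exact (isIso_iff_of_reflects_iso (Q.map f) e.functor).symm

end General

section Tri

variable {D : Type u} [Category.{v} D] [Preadditive D] [HasZeroObject D] [HasShift D ℤ]
    [∀ n : ℤ, (shiftFunctor D n).Additive] [Pretriangulated D]
    (S : MorphismProperty D) [S.HasLeftCalculusOfFractions] [S.HasRightCalculusOfFractions]
    [S.IsCompatibleWithTriangulation]

set_option backward.defeqAttrib.useBackward true in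
set_option backward.isDefEq.respectTransparency false in
lemma isIso_Q_map_iff_isZero_cone (T : Triangle D) (hT : T ∈ distTriang D) :
    IsIso (S.Q.map T.mor₁) ↔ IsZero (S.Q.obj T.obj₃) := by
  have h := S.Q.map_distinguished T hT
  exact (Triangle.isZero₃_iff_isIso₁ _ h).symm

variable {E : Type u'} [Category.{v'} E] (Q : D ⥤ E) [Q.IsLocalization S]

include S in
lemma isIso_map_iff_isZero_cone (T : Triangle D) (hT : T ∈ distTriang D) :
    IsIso (Q.map T.mor₁) ↔ IsZero (Q.obj T.obj₃) := by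
  rw [isIso_map_iff_of_isLocalization S Q S.Q, isZero_obj_iff_of_isLocalization S Q S.Q]
  exact isIso_Q_map_iff_isZero_cone S T hT

/-- retracts of objects killed by `Q` are killed by `Q` -/
lemma isZero_obj_of_retract {X Y : D} (i : X ⟶ Y) (r : Y ⟶ X) (h : i ≫ r = 𝟙 X)
    (hY : IsZero (Q.obj Y)) : IsZero (Q.obj X) := by
  refine ⟨fun W => ⟨⟨⟨Q.map i ≫ hY.to_ W⟩, fun f => ?_⟩⟩, fun W => ⟨⟨⟨hY.from_ W ≫ Q.map r⟩, fun f => ?_⟩⟩⟩
  · have : f = Q.map i ≫ (Q.map r ≫ f) := by
      rw [← Category.assoc, ← Q.map_comp, h, Q.map_id, Category.id_comp]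
    rw [this]
    congr 1
    exact hY.eq_of_src _ _
  · have : f = (f ≫ Q.map i) ≫ Q.map r := by
      rw [Category.assoc, ← Q.map_comp, h, Q.map_id, Category.comp_id]
    rw [this]
    congr 1
    exact hY.eq_of_tgt _ _

lemma isZero_obj_iff_exists_zero_left (Z : D) :
    IsZero (Q.obj Z) ↔ ∃ Z' : D, S (0 : Z ⟶ Z') := by
  rw [isZero_obj_iff_of_isLocalization S Q S.Q]
  constructor
  · intro h
    have h1 : S.Q.map (𝟙 Z) = S.Q.map (0 : Z ⟶ Z) := h.eq_of_src _ _
    rw [MorphismProperty.map_eq_iff_postcomp S.Q S] at h1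
    obtain ⟨Z', s, hs, hfac⟩ := h1
    rw [Category.id_comp, zero_comp] at hfac
    exact ⟨Z', by rwa [← hfac]⟩
  · rintro ⟨Z', hs⟩
    have : IsIso (S.Q.map (0 : Z ⟶ Z')) := Localization.inverts S.Q S _ hs
    rw [IsZero.iff_id_eq_zero, ← cancel_mono (S.Q.map (0 : Z ⟶ Z')), zero_comp, Category.id_comp]
    exact S.Q.map_zero _ _

lemma isZero_obj_iff_exists_zero_right (Z : D) :
    IsZero (Q.obj Z) ↔ ∃ Z' : D, S (0 : Z' ⟶ Z) := by
  rw [isZero_obj_iff_of_isLocalization S Q S.Q]
  constructor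
  · intro h
    have h1 : S.Q.map (𝟙 Z) = S.Q.map (0 : Z ⟶ Z) := h.eq_of_src _ _
    rw [MorphismProperty.map_eq_iff_precomp S.Q S] at h1
    obtain ⟨Z', s, hs, hfac⟩ := h1
    rw [Category.comp_id, comp_zero] at hfac
    exact ⟨Z', by rwa [← hfac]⟩
  · rintro ⟨Z', hs⟩
    have : IsIso (S.Q.map (0 : Z' ⟶ Z)) := Localization.inverts S.Q S _ hs
    rw [IsZero.iff_id_eq_zero, ← cancel_epi (S.Q.map (0 : Z' ⟶ Z)), comp_zero, Category.comp_id]
    exact S.Q.map_zero _ _

set_option backward.defeqAttrib.useBackward true in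
set_option backward.isDefEq.respectTransparency false in
/-- the triangle `Z' ⟶ Z ⟶ Z ⊞ Z'⟦1⟧ ⟶ Z'⟦1⟧` with first map zero is distinguished -/
lemma zero_triangle_distinguished (Z' Z : D) :
    Triangle.mk (0 : Z' ⟶ Z) (biprod.inl : Z ⟶ Z ⊞ (shiftFunctor D (1 : ℤ)).obj Z')
      biprod.snd ∈ distTriang D := by
  obtain ⟨W, g, h, hT⟩ := distinguished_cocone_triangle (0 : Z' ⟶ Z)
  obtain ⟨e, he₁, he₂⟩ := exists_iso_binaryBiproduct_of_distTriang _ (rot_of_distTriang _ hT)
    (by simp)
  dsimp at e he₁ he₂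
  refine isomorphic_distinguished _ hT _ ?_
  exact Triangle.isoMk _ _ (Iso.refl _) (Iso.refl _) e.symm (by simp)
    (by dsimp; rw [← he₁]; simp) (by dsimp; rw [he₂]; simp)

end Tri

end Groth.Agent.H33
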