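import Mathlib

/-!
# Helper library (helper33, for helper63's S16678 squad): (E1) the maximal étale subalgebra of a
connected algebra over a field.
-/

set_option autoImplicit false
universe u
open scoped TensorProduct

namespace Groth.Agent.H33.MaxEtale

/-- the range of an étale algebra over a field is étale -/
theorem etale_range (k : Type u) [Field k] (R : Type u) [CommRing R] [Algebra k R]
    (B : Type u) [CommRing B] [Algebra k B] [Algebra.Etale k B] (φ : B →ₐ[k] R) :
    Algebra.Etale k φ.range := by
  haveI : Algebra.FormallyUnramified k φ.range :=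
    Algebra.FormallyUnramified.of_surjective φ.rangeRestrict φ.rangeRestrict_surjective
  haveI : Algebra.FiniteType k B := inferInstance
  haveI : Algebra.FiniteType k φ.range :=
    Algebra.FiniteType.of_surjective φ.rangeRestrict φ.rangeRestrict_surjective
  haveI : Algebra.FormallyEtale k φ.range := Algebra.FormallyEtale.of_formallyUnramified_of_field k _
  exact ⟨inferInstance, Algebra.FinitePresentation.of_finiteType.mp inferInstance⟩

theorem etale_sup (k : Type u) [Field k] (R : Type u) [CommRing R] [Algebra k R]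
    (E₁ E₂ : Subalgebra k R) [Algebra.Etale k E₁] [Algebra.Etale k E₂] :
    Algebra.Etale k ↥(E₁ ⊔ E₂) := by
  haveI : Algebra.Etale k (E₁ ⊗[k] E₂) := Algebra.Etale.comp k E₁ (E₁ ⊗[k] E₂)
  have h := etale_range k R (E₁ ⊗[k] E₂) (Algebra.TensorProduct.productMap E₁.val E₂.val)
  rw [Algebra.TensorProduct.productMap_range, Subalgebra.range_val, Subalgebra.range_val] at h
  exact h

theorem finite_of_etale (k : Type u) [Field k] (E : Type u) [CommRing E] [Algebra k E]
    [Algebra.Etale k E] : Module.Finite k E := by
  haveI : Algebra.FiniteType k E := inferInstance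
  exact Algebra.FormallyUnramified.finite_of_free k E

/-- a reduced Artinian ring with only trivial idempotents is a field -/
theorem isUnit_of_ne_zero {E : Type u} [CommRing E] [IsArtinianRing E] [IsReduced E]
    (hconn : ∀ e : E, IsIdempotentElem e → e = 0 ∨ e = 1) (x : E) (hx : x ≠ 0) : IsUnit x := by
  -- the chain (x^n) stabilizes
  let f : ℕ →o (Ideal E)ᵒᵈ :=
    ⟨fun n => OrderDual.toDual (Ideal.span {x ^ n}), fun m n hmn => by
      show Ideal.span {x ^ n} ≤ Ideal.span {x ^ m}
      rw [Ideal.span_singleton_le_span_singleton]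
      exact pow_dvd_pow x hmn⟩
  obtain ⟨n, hn⟩ := IsArtinian.monotone_stabilizes f
  have h1 : Ideal.span {x ^ n} = Ideal.span {x ^ (n + 1)} :=
    congrArg OrderDual.ofDual (hn (n + 1) (Nat.le_succ n))
  have h2 : x ^ n ∈ Ideal.span {x ^ (n + 1)} := by
    rw [← h1]; exact Ideal.mem_span_singleton_self _
  obtain ⟨y, hy⟩ := Ideal.mem_span_singleton'.1 h2
  -- hy : y * x ^ (n+1) = x ^ n
  have h3 : x ^ n * (x * y) = x ^ n := by
    calc x ^ n * (x * y) = y * x ^ (n + 1) := by ring
      _ = x ^ n := hy
  have h4 : ∀ j : ℕ, x ^ n * (x * y) ^ j = x ^ n := by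
    intro j
    induction j with
    | zero => rw [pow_zero, mul_one]
    | succ j ih => rw [pow_succ, ← mul_assoc, ih, h3]
  have he : IsIdempotentElem ((x * y) ^ n) := by
    show (x * y) ^ n * (x * y) ^ n = (x * y) ^ n
    have : (x * y) ^ n * (x * y) ^ n = y ^ n * (x ^ n * (x * y) ^ n) := by
      rw [mul_pow]; ring
    rw [this, h4, mul_pow]; ring
  rcases hconn _ he with h0 | h1'
  · exfalso
    have : x ^ n = 0 := by rw [← h4 n, h0, mul_zero]
    exact hx (IsReduced.eq_zero x ⟨n, this⟩)
  · rcases Nat.eq_zero_or_pos n with hn0 | hnpos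
    · subst hn0
      rw [pow_zero, zero_add, pow_one] at hy
      exact IsUnit.of_mul_eq_one y (by rw [mul_comm]; exact hy)
    · have : IsUnit ((x * y) ^ n) := by rw [h1']; exact isUnit_one
      have h5 : IsUnit (x * y) := (isUnit_pow_iff (Nat.pos_iff_ne_zero.1 hnpos)).1 this
      exact isUnit_of_mul_isUnit_left h5

theorem exists_max_etale_subalgebra (k : Type u) [Field k] (R : Type u) [CommRing R] [Algebra k R]
    [Nontrivial R] (hconn : ∀ e : R, IsIdempotentElem e → e = 0 ∨ e = 1)
    (K' : Type u) [Field K'] [Algebra k K'] [Module.Finite k K'] (π : R →ₐ[k] K') :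
    ∃ E : Subalgebra k R, IsField E ∧ Algebra.Etale k E ∧
      ∀ (B : Type u) [CommRing B] [Algebra k B] [Algebra.Etale k B] (φ : B →ₐ[k] R),
        φ.range ≤ E := by
  classical
  -- (iii) good subalgebras are fields of bounded dimension
  have hfield : ∀ E : Subalgebra k R, Algebra.Etale k E → IsField E ∧
      Module.finrank k E ≤ Module.finrank k K' := by
    intro E hE
    haveI := hE
    haveI : Module.Finite k E := finite_of_etale k E
    haveI : IsArtinianRing E := IsArtinianRing.of_finite k E
    haveI : IsReduced E := Algebra.FormallyUnramified.isReduced_of_field k E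
    have hconnE : ∀ e : E, IsIdempotentElem e → e = 0 ∨ e = 1 := by
      intro e he
      have he' : IsIdempotentElem (e : R) := by
        show (e : R) * (e : R) = e
        rw [← Subalgebra.coe_mul, he.eq]
      rcases hconn _ he' with h | h
      · left; exact Subtype.ext h
      · right; exact Subtype.ext h
    have hunit : ∀ x : E, x ≠ 0 → IsUnit x := isUnit_of_ne_zero hconnE
    refine ⟨⟨⟨0, 1, fun h => ?_⟩, mul_comm, fun {x} hx => ?_⟩, ?_⟩
    · have : ((0 : E) : R) = ((1 : E) : R) := congrArg Subtype.val h
      simp at this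
    · obtain ⟨u, rfl⟩ := hunit x hx
      exact ⟨↑u⁻¹, u.mul_inv⟩
    · apply LinearMap.finrank_le_finrank_of_injective (f := (π.comp E.val).toLinearMap)
      intro x y hxy
      by_contra hne
      have hsub : x - y ≠ 0 := sub_ne_zero.2 hne
      obtain ⟨u, hu⟩ := hunit _ hsub
      have h0 : (π.comp E.val) (x - y) = 0 := by
        rw [map_sub]; exact sub_eq_zero.2 hxy
      have h1 : (π.comp E.val) ((x - y) * ↑u⁻¹) = 1 := by
        rw [← hu, u.mul_inv, map_one]
      rw [map_mul, h0, zero_mul] at h1
      exact zero_ne_one h1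
  -- (iv) a good subalgebra of maximal dimension
  let N := Module.finrank k K'
  let P : ℕ → Prop := fun n => ∃ E : Subalgebra k R, Algebra.Etale k E ∧ Module.finrank k E = n
  have hE₀ : Algebra.Etale k (Algebra.ofId k R).range := etale_range k R k (Algebra.ofId k R)
  have hP₀ : P (Module.finrank k (Algebra.ofId k R).range) := ⟨_, hE₀, rfl⟩
  have hle₀ := (hfield _ hE₀).2
  obtain ⟨E, hE, hEn⟩ := Nat.findGreatest_spec (P := P) hle₀ hP₀
  refine ⟨E, (hfield E hE).1, hE, ?_⟩
  intro B _ _ _ φ
  haveI := hE
  haveI : Algebra.Etale k φ.range := etale_range k R B φ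
  have hsup : Algebra.Etale k ↥(E ⊔ φ.range) := etale_sup k R E φ.range
  have hle : Module.finrank k ↥(E ⊔ φ.range) ≤ Module.finrank k E := by
    rw [hEn]
    exact Nat.le_findGreatest (hfield _ hsup).2 ⟨_, hsup, rfl⟩
  haveI := hsup
  haveI : Module.Finite k ↥(E ⊔ φ.range) := finite_of_etale k _
  have heq : E = E ⊔ φ.range := Subalgebra.eq_of_le_of_finrank_le le_sup_left hle
  rw [heq]
  exact le_sup_right

end Groth.Agent.H33.MaxEtale
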