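import Mathlib
import Groth.Agent.H69.DirColim
import Groth.Agent.H15.NilPair.Base
import Groth.Agent.H15.NilPair.Defs
import Groth.Agent.H15.NilPair.Sys
set_option autoImplicit false
universe u
open CategoryTheory MvPolynomial Limits
open Groth.Agent.H69 Groth.Agent.H15.NilPair
open scoped Classical

namespace Groth.Agent.H33.NilPair_M2

section gen
variable {A V : Type u} [CommRing A]

theorem nil_of_tr_eq_zero {S S' : Finset V} {T T' : Finset (MvPolynomial V A)} (hS : S ⊆ S')
    (hS' : S' ⊆ S) (hT : T ⊆ T')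
    (hnil : ∀ y : PS A S, (y : MvPolynomial V A) ∈ T' → IsNilpotent (mkq S T y))
    (x : Cq S T) (hx : tr hS hT x = 0) : IsNilpotent x := by
  obtain ⟨⟨q, hq⟩, rfl⟩ := mkq_surjective S T x
  rw [tr_mkq] at hx
  have hmem := (mkq_eq_zero_iff _).mp hx
  have hle : IT S' T' ≤ Ideal.comap
      ((mkq S T).comp (Subalgebra.inclusion (PS_mono (A := A) hS'))).toRingHom
      (nilradical (Cq S T)) := by
    apply Ideal.span_le.mpr
    intro y hy
    rw [SetLike.mem_coe, Ideal.mem_comap, mem_nilradical]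
    exact hnil (Subalgebra.inclusion (PS_mono (A := A) hS') y) hy
  have hfin := hle hmem
  rw [Ideal.mem_comap, mem_nilradical] at hfin
  exact hfin

end gen

variable {R B D D' P : Type u} [CommRing R] [CommRing B] [CommRing D] [CommRing D'] [CommRing P]
  [Algebra R B] [Algebra R D] [Algebra R D'] [Algebra R P]
variable {f : B →ₐ[R] D} {i : D' →ₐ[R] D} {q₁ : P →ₐ[R] B} {q₂ : P →ₐ[R] D'}

theorem phi_nil (hf : Function.Surjective f) (hfn : ∀ x ∈ RingHom.ker f.toRingHom, IsNilpotent x)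
    (j : J f i q₁ q₂) : ∀ x ∈ RingHom.ker (phi j).toRingHom, IsNilpotent x := by
  intro x hx
  have hS : j.1.S = ∅ := j.2.2.2.2.2.1 hf
  have h6 := j.2.2.2.2.2.2.1 hf hfn
  have hWD : j.1.WD ⊆ j.1.WB := by
    unfold Raw.WD Raw.WB
    rw [hS]
  have hx0 := RingHom.mem_ker.mp hx
  have hx1 : tr (A := R) (Raw.WB_sub_WD (j := j.1)) (Raw.TB_sub_TD (j := j.1)) x = 0 := hx0
  refine nil_of_tr_eq_zero Raw.WB_sub_WD hWD Raw.TB_sub_TD ?_ x hx1
  intro y hy
  have hy' : (y : MvPolynomial (P ⊕ D') R) ∈ j.1.T' ∪ j.1.TB ∪ j.1.N := hy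
  rcases Finset.mem_union.mp hy' with h | h
  · rcases Finset.mem_union.mp h with h | h
    · exact h6 y (Finset.mem_union_left _ h)
    · rw [mkq_eq_zero y h]; exact IsNilpotent.zero
  · exact h6 y (Finset.mem_union_right _ h)

end Groth.Agent.H33.NilPair_M2
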