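import Mathlib
import Groth.Agent.H8.FreeMod

/-!
# (P4) for helper70's S19520 squad: a free module has global sections spanning all its sections
-/

set_option autoImplicit false
universe u
open CategoryTheory CategoryTheory.Limits AlgebraicGeometry

namespace Groth.Agent.H33.OmegaRank_P4

open Groth.Agent.H8

/-- the section `1` of the structure module. -/
noncomputable def one (X : Scheme.{u}) (V : X.Opens) : Γ(Coh.structureModule X, V) :=
  (1 : Γ(X, V))

lemma map_one' (X : Scheme.{u}) {V W : X.Opens} (h : W ≤ V) :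
    (Coh.structureModule X).presheaf.map (homOfLE h).op (one X V) = one X W :=
  map_one (X.presheaf.map (homOfLE h).op).hom

/-- a function viewed as a section of the structure module. -/
def toO (X : Scheme.{u}) (V : X.Opens) (r : Γ(X, V)) : Γ(Coh.structureModule X, V) := r

lemma smul_one' (X : Scheme.{u}) (V : X.Opens) (r : Γ(X, V)) :
    r • one X V = toO X V r :=
  mul_one r

lemma map_app {X : Scheme.{u}} {M N : X.Modules} (τ : M ⟶ N) {V W : X.Opens} (h : W ≤ V)
    (y : Γ(M, V)) :
    N.presheaf.map (homOfLE h).op (τ.app V y) = τ.app W (M.presheaf.map (homOfLE h).op y) :=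
  (ConcreteCategory.congr_hom (τ.mapPresheaf.naturality (homOfLE h).op) y).symm

theorem exists_global_spanning {X : Scheme.{u}} {P : X.Modules} {d : ℕ}
    (φ : P ≅ FlatMod.freeMod X d) :
    ∃ e : Fin d → Γ(P, ⊤), ∀ W : X.Opens,
      Submodule.span Γ(X, W)
        (Set.range fun i => P.presheaf.map (homOfLE (le_top : W ≤ ⊤)).op (e i)) = ⊤ := by
  refine ⟨fun i => φ.inv.app ⊤ ((freeι X d i).app ⊤ (one X ⊤)), fun W => ?_⟩
  have hres : ∀ i, P.presheaf.map (homOfLE (le_top : W ≤ ⊤)).op
      (φ.inv.app ⊤ ((freeι X d i).app ⊤ (one X ⊤))) =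
      φ.inv.app W ((freeι X d i).app W (one X W)) := by
    intro i
    rw [map_app, map_app, map_one']
  rw [eq_top_iff]
  intro x _
  have hx : x = φ.inv.app W (φ.hom.app W x) := by
    have h := congrArg (fun ψ : P ⟶ P => ψ.app W x) φ.hom_inv_id
    exact h.symm
  have hy : φ.hom.app W x = ∑ i, (freeι X d i).app W
      (toO X W ((sectionsFreeEquiv X d W (φ.hom.app W x)) i)) :=
    ((sectionsFreeEquiv X d W).symm_apply_apply (φ.hom.app W x)).symm
  rw [hx, hy, map_sum]
  refine Submodule.sum_mem _ (fun i _ => ?_)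
  rw [← smul_one' X W, Scheme.Modules.Hom.app_smul, Scheme.Modules.Hom.app_smul]
  refine Submodule.smul_mem _ _ (Submodule.subset_span ⟨i, ?_⟩)
  exact hres i

end Groth.Agent.H33.OmegaRank_P4
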