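import Mathlib
import Groth.Prelude.Def_ExtPow2

/-!
# (Q2) for helper70's S19524 squad: a nonzero section of `Λ^m E` from `m` sections of `E` which are
linearly independent on a nonempty affine open of an integral scheme.
-/

set_option autoImplicit false
universe u
open CategoryTheory CategoryTheory.Limits AlgebraicGeometry Opposite TopologicalSpace

namespace Groth.Agent.H33.OmegaWedge_Q2

open scoped nonZeroDivisors in
/-- over a domain, the wedge of linearly independent vectors is nonzero. -/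
lemma ιMulti_ne_zero {B : Type*} [CommRing B] [IsDomain B] {M : Type*} [AddCommGroup M]
    [Module B M] {m : ℕ} (v : Fin m → M) (hv : LinearIndependent B v) :
    exteriorPower.ιMulti B m v ≠ 0 := by
  classical
  let K := FractionRing B
  let V := LocalizedModule B⁰ M
  let f : M →ₗ[B] V := LocalizedModule.mkLinearMap B⁰ M
  have hv' : LinearIndependent K (f ∘ v) := hv.of_isLocalizedModule K B⁰ f
  obtain ⟨g, hg⟩ := LinearMap.exists_leftInverse_of_injective
    (Finsupp.linearCombination K (f ∘ v)) (LinearMap.ker_eq_bot.mpr hv')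
  let Lm : V →ₗ[K] (Fin m → K) := (Finsupp.linearEquivFunOnFinite K K (Fin m)).toLinearMap ∘ₗ g
  let ℓ : M →ₗ[B] (Fin m → K) := (Lm.restrictScalars B) ∘ₗ f
  have hℓ : ∀ j, ℓ (v j) = Pi.single j 1 := by
    intro j
    have h1 : f (v j) = Finsupp.linearCombination K (f ∘ v) (Finsupp.single j 1) := by
      rw [Finsupp.linearCombination_single, one_smul]
      rfl
    show (Finsupp.linearEquivFunOnFinite K K (Fin m)) (g (f (v j))) = _
    rw [h1]
    have h2 := LinearMap.congr_fun hg (Finsupp.single j 1)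
    simp only [LinearMap.comp_apply, LinearMap.id_apply] at h2
    rw [h2, Finsupp.linearEquivFunOnFinite_single]
  let D : (Fin m → K) [⋀^Fin m]→ₗ[B] K :=
    { (Matrix.detRowAlternating (R := K) (n := Fin m)).toMultilinearMap.restrictScalars B with
      map_eq_zero_of_eq' := fun w i j h hij =>
        (Matrix.detRowAlternating (R := K) (n := Fin m)).map_eq_zero_of_eq w h hij }
  let G : M [⋀^Fin m]→ₗ[B] K := D.compLinearMap ℓ
  intro h0
  have h1 : exteriorPower.alternatingMapLinearEquiv G (exteriorPower.ιMulti B m v) = G v :=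
    exteriorPower.alternatingMapLinearEquiv_apply_ιMulti G v
  rw [h0, map_zero] at h1
  have h2 : G v = 1 := by
    show Matrix.det (fun j => ℓ (v j)) = 1
    have h3 : (fun j => ℓ (v j)) = (1 : Matrix (Fin m) (Fin m) K) := by
      funext j i
      rw [hℓ j, Matrix.one_apply]
      simp [Pi.single_apply, eq_comm]
    rw [h3, Matrix.det_one]
  rw [h2] at h1
  exact zero_ne_one h1

lemma map_map' {X : Scheme.{u}} (P : TopCat.Presheaf Ab X) {A B C : X.Opens} (h1 : B ≤ A)
    (h2 : C ≤ B) (x : P.obj (op A)) :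
    P.map (homOfLE h2).op (P.map (homOfLE h1).op x) = P.map (homOfLE (h2.trans h1)).op x := by
  rw [← ConcreteCategory.comp_apply, ← P.map_comp]
  rfl

lemma le_iSup_affine {X : Scheme.{u}} (V : X.Opens) :
    V ≤ ⨆ a : {W' : X.affineOpens // W'.1 ≤ V}, a.1.1 := by
  intro x hx
  obtain ⟨W', hW', hxW', hle⟩ := Opens.isBasis_iff_nbhd.mp X.isBasis_affineOpens hx
  exact Opens.mem_iSup.mpr ⟨⟨⟨W', hW'⟩, hle⟩, hxW'⟩

theorem exists_section_ne_zero {X : Scheme.{u}} [IsIntegral X] {E L : X.Modules} (m : ℕ)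
    (hL : ExtPow.IsExtPow m E L) (U : X.Opens) (s : Fin m → Γ(E, U))
    (W : X.Opens) (hW : IsAffineOpen W) (hWU : W ≤ U) (hWne : (W : Set X).Nonempty)
    (hs : LinearIndependent Γ(X, W) (fun j => E.presheaf.map (homOfLE hWU).op (s j))) :
    ∃ t : Γ(L, U), t ≠ 0 := by
  obtain ⟨φ, hφ⟩ := hL
  -- local sections on affine opens below `U`
  let sf : ∀ i : {W' : X.affineOpens // W'.1 ≤ U}, Γ(L, i.1.1) := fun i =>
    (φ i.1).symm (exteriorPower.ιMulti _ m (fun j => E.val.map (homOfLE i.2).op (s j)))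
  have hres : ∀ (i k : {W' : X.affineOpens // W'.1 ≤ U}) (h : k.1.1 ≤ i.1.1),
      L.presheaf.map (homOfLE h).op (sf i) = sf k := by
    intro i k h
    have h1 := hφ i.1 k.1 h (fun j => E.val.map (homOfLE i.2).op (s j))
    have h2 : (fun j => E.val.map (homOfLE h).op (E.val.map (homOfLE i.2).op (s j))) =
        (fun j => E.val.map (homOfLE k.2).op (s j)) := by
      funext j
      exact map_map' E.presheaf i.2 h (s j)
    rw [h2] at h1
    exact h1
  let F : TopCat.Sheaf Ab X := ⟨L.presheaf, L.isSheaf⟩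
  have hcompat : TopCat.Presheaf.IsCompatible F.1
      (fun i : {W' : X.affineOpens // W'.1 ≤ U} => i.1.1) sf := by
    intro i k
    refine F.eq_of_locally_eq'
      (U := fun a : {W' : X.affineOpens // W'.1 ≤ i.1.1 ⊓ k.1.1} => a.1.1) (i.1.1 ⊓ k.1.1)
      (fun a => homOfLE a.2) (le_iSup_affine _) _ _ ?_
    intro a
    have hai : a.1.1 ≤ i.1.1 := a.2.trans inf_le_left
    have hak : a.1.1 ≤ k.1.1 := a.2.trans inf_le_right
    have e1 := hres i ⟨a.1, hai.trans i.2⟩ hai
    have e2 := hres k ⟨a.1, hai.trans i.2⟩ hak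
    have l1 : F.1.map (homOfLE a.2).op (F.1.map (TopologicalSpace.Opens.infLELeft i.1.1 k.1.1).op (sf i)) =
        L.presheaf.map (homOfLE hai).op (sf i) := map_map' L.presheaf inf_le_left a.2 (sf i)
    have l2 : F.1.map (homOfLE a.2).op (F.1.map (TopologicalSpace.Opens.infLERight i.1.1 k.1.1).op (sf k)) =
        L.presheaf.map (homOfLE hak).op (sf k) := map_map' L.presheaf inf_le_right a.2 (sf k)
    rw [l1, l2, e1, e2]
  obtain ⟨t, ht, -⟩ := F.existsUnique_gluing' (fun i : {W' : X.affineOpens // W'.1 ≤ U} => i.1.1) U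
    (fun i => homOfLE i.2) (le_iSup_affine U) sf hcompat
  refine ⟨t, ?_⟩
  intro h0
  have hW' := ht ⟨⟨W, hW⟩, hWU⟩
  rw [h0, map_zero] at hW'
  haveI : Nonempty W := ⟨⟨hWne.some, hWne.some_mem⟩⟩
  haveI : IsDomain Γ(X, W) := IsIntegral.component_integral W
  have key := ιMulti_ne_zero (B := Γ(X, W)) (M := E.val.obj (op W))
    (fun j => E.val.map (homOfLE hWU).op (s j)) hs
  apply key
  have h3 : (φ ⟨W, hW⟩).symm (exteriorPower.ιMulti _ m
      (fun j => E.val.map (homOfLE hWU).op (s j))) = 0 := hW'.symm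
  exact (LinearEquiv.map_eq_zero_iff _).1 h3

end Groth.Agent.H33.OmegaWedge_Q2
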