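import Groth.Agent.H88.Frame
import Groth.Agent.H88.PnGlobal

/-!
# Helper library (helper33, for helper88's S7797 squad): (U2) an isomorphism of sums of twists
respects the counting function.
-/

set_option autoImplicit false
universe u
open CategoryTheory CategoryTheory.Limits AlgebraicGeometry Opposite TopologicalSpace
open Groth.Agent.H18.TensorGen (IsGen)
open Groth.Agent.H88.Frame Groth.Agent.H88.PicPn Groth.Agent.H88.TwistGenN Groth.Agent.H88.MonoFrac Groth.Agent.H88.ProjChart

namespace Groth.Agent.H33.P1CardLe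

section Abstract

variable {𝒞 : Type*} [Category 𝒞] [Preadditive 𝒞] (O : ℤ → 𝒞)
  {R : Type*} [CommRing R] [Nontrivial R]
  (c : ∀ a b : ℤ, (O a ⟶ O b) → R)
  (c_add : ∀ a b (f g : O a ⟶ O b), c a b (f + g) = c a b f + c a b g)
  (c_comp : ∀ a b b' (f : O a ⟶ O b) (g : O b ⟶ O b'), c a b' (f ≫ g) = c a b f * c b b' g)
  (c_id : ∀ a, c a a (𝟙 (O a)) = 1)

/-- Kronecker delta morphisms -/
noncomputable def δm {r : ℕ} (d : Fin r → ℤ) (i j : Fin r) : O (d i) ⟶ O (d j) :=
  if h : i = j then eqToHom (by rw [h]) else 0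

theorem δm_self {r : ℕ} (d : Fin r → ℤ) (i : Fin r) : δm O d i i = 𝟙 _ := by
  unfold δm
  rw [dif_pos rfl]
  rfl

theorem δm_ne {r : ℕ} (d : Fin r → ℤ) {i j : Fin r} (h : i ≠ j) : δm O d i j = 0 := by
  unfold δm
  rw [dif_neg h]

/-- the projections of a finite coproduct -/
noncomputable def πm {r : ℕ} (d : Fin r → ℤ) [HasCoproduct (fun i => O (d i))] (j : Fin r) :
    (∐ fun i => O (d i)) ⟶ O (d j) :=
  Sigma.desc (fun i => δm O d i j)

theorem ι_πm {r : ℕ} (d : Fin r → ℤ) [HasCoproduct (fun i => O (d i))] (i j : Fin r) :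
    Sigma.ι (fun i => O (d i)) i ≫ πm O d j = δm O d i j := by
  unfold πm
  rw [Sigma.ι_desc]

theorem sum_πm_ι {r : ℕ} (d : Fin r → ℤ) [HasCoproduct (fun i => O (d i))] :
    ∑ j, πm O d j ≫ Sigma.ι (fun i => O (d i)) j = 𝟙 _ := by
  apply Sigma.hom_ext
  intro i
  rw [Preadditive.comp_sum, Category.comp_id, Finset.sum_eq_single i]
  · rw [← Category.assoc, ι_πm, δm_self, Category.id_comp]
  · intro b _ hb
    rw [← Category.assoc, ι_πm, δm_ne O d (Ne.symm hb), zero_comp]
  · intro h
    exact absurd (Finset.mem_univ i) h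

include c_add in
theorem c_zero (a b : ℤ) : c a b 0 = 0 := by
  have h := c_add a b 0 0
  rw [add_zero] at h
  exact (add_eq_left.1 h.symm)

include c_add in
theorem c_sum (a b : ℤ) {ι : Type*} (s : Finset ι) (f : ι → (O a ⟶ O b)) :
    c a b (∑ i ∈ s, f i) = ∑ i ∈ s, c a b (f i) := by
  classical
  induction s using Finset.induction_on with
  | empty => rw [Finset.sum_empty, Finset.sum_empty]; exact c_zero O c c_add a b
  | insert x s hx ih => rw [Finset.sum_insert hx, Finset.sum_insert hx, c_add, ih]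

include c_add c_id in
theorem c_δm {r : ℕ} (d : Fin r → ℤ) (i j : Fin r) :
    c (d i) (d j) (δm O d i j) = if i = j then 1 else 0 := by
  by_cases h : i = j
  · subst h
    rw [δm_self, c_id, if_pos rfl]
  · rw [δm_ne O d h, c_zero O c c_add, if_neg h]

include c_add c_comp c_id in
theorem card_le_abstract {r : ℕ} (d d' : Fin r → ℤ)
    [HasCoproduct (fun i => O (d i))] [HasCoproduct (fun i => O (d' i))]
    (e : (∐ fun i => O (d i)) ≅ ∐ fun i => O (d' i))
    (hvan : ∀ a b : ℤ, b < a → ∀ ψ : O a ⟶ O b, ψ = 0) (t : ℤ) :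
    (Finset.univ.filter (fun i => t ≤ d i)).card ≤ (Finset.univ.filter (fun i => t ≤ d' i)).card := by
  classical
  let C : Matrix (Fin r) (Fin r) R := fun j i =>
    c (d i) (d' j) (Sigma.ι (fun i => O (d i)) i ≫ e.hom ≫ πm O d' j)
  let C' : Matrix (Fin r) (Fin r) R := fun i j =>
    c (d' j) (d i) (Sigma.ι (fun i => O (d' i)) j ≫ e.inv ≫ πm O d i)
  have hCC : C' * C = 1 := by
    ext i l
    show ∑ j, C' i j * C j l = (1 : Matrix (Fin r) (Fin r) R) i l
    have h1 : ∀ j, C' i j * C j l = c (d l) (d i)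
        ((Sigma.ι (fun i => O (d i)) l ≫ e.hom ≫ πm O d' j) ≫
          (Sigma.ι (fun i => O (d' i)) j ≫ e.inv ≫ πm O d i)) := by
      intro j
      rw [c_comp, mul_comm]
    simp_rw [h1]
    rw [← c_sum O c c_add]
    have h2 : ∑ j, (Sigma.ι (fun i => O (d i)) l ≫ e.hom ≫ πm O d' j) ≫
          (Sigma.ι (fun i => O (d' i)) j ≫ e.inv ≫ πm O d i) =
        Sigma.ι (fun i => O (d i)) l ≫ e.hom ≫
          (∑ j, πm O d' j ≫ Sigma.ι (fun i => O (d' i)) j) ≫ e.inv ≫ πm O d i := by
      simp only [Preadditive.comp_sum, Preadditive.sum_comp, Category.assoc]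
    rw [h2, sum_πm_ι, Category.id_comp, e.hom_inv_id_assoc, ι_πm, c_δm O c c_add c_id,
      Matrix.one_apply]
    simp only [eq_comm]
  have hvanC : ∀ j i, d' j < d i → C j i = 0 := by
    intro j i h
    show c (d i) (d' j) (Sigma.ι (fun i => O (d i)) i ≫ e.hom ≫ πm O d' j) = 0
    rw [hvan _ _ h (Sigma.ι (fun i => O (d i)) i ≫ e.hom ≫ πm O d' j), c_zero O c c_add]
  -- the injective linear map
  let I := {i : Fin r // t ≤ d i}
  let J := {j : Fin r // t ≤ d' j}
  let f : (I → R) →ₗ[R] (J → R) :=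
    { toFun := fun v j => ∑ i : I, C j.1 i.1 * v i
      map_add' := fun v w => by
        funext j
        simp only [Pi.add_apply, mul_add, Finset.sum_add_distrib]
      map_smul' := fun a v => by
        funext j
        simp only [Pi.smul_apply, smul_eq_mul, RingHom.id_apply, Finset.mul_sum]
        refine Finset.sum_congr rfl (fun i _ => ?_)
        ring }
  have hf : Function.Injective f := by
    rw [← LinearMap.ker_eq_bot, LinearMap.ker_eq_bot']
    intro v hv
    let vbar : Fin r → R := fun i => if h : t ≤ d i then v ⟨i, h⟩ else 0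
    have hvbar : ∀ i : I, vbar i.1 = v i := by
      intro i
      show (if h : t ≤ d i.1 then v ⟨i.1, h⟩ else 0) = v i
      rw [dif_pos i.2]
    have hsum : ∀ j : Fin r, (C.mulVec vbar) j = ∑ i : I, C j i.1 * v i := by
      intro j
      show ∑ i, C j i * vbar i = _
      rw [← Finset.sum_filter_add_sum_filter_not Finset.univ (fun i => t ≤ d i)]
      have h0 : ∑ i ∈ Finset.univ.filter (fun i => ¬ t ≤ d i), C j i * vbar i = 0 := by
        apply Finset.sum_eq_zero
        intro i hi
        have hi' : ¬ t ≤ d i := (Finset.mem_filter.1 hi).2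
        show C j i * (if h : t ≤ d i then v ⟨i, h⟩ else 0) = 0
        rw [dif_neg hi', mul_zero]
      rw [h0, add_zero]
      rw [Finset.sum_subtype (Finset.univ.filter (fun i => t ≤ d i)) (p := fun i => t ≤ d i)
        (fun x => by simp) (fun i => C j i * vbar i)]
      refine Finset.sum_congr rfl (fun i _ => ?_)
      rw [hvbar]
    have hCv : C.mulVec vbar = 0 := by
      funext j
      rw [hsum j]
      by_cases hj : t ≤ d' j
      · have := congrFun hv ⟨j, hj⟩
        exact this
      · apply Finset.sum_eq_zero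
        intro i _
        rw [hvanC j i.1 (lt_of_lt_of_le (not_le.1 hj) i.2), zero_mul]
    have hvb : vbar = 0 := by
      have h1 : (C' * C).mulVec vbar = vbar := by rw [hCC, Matrix.one_mulVec]
      rw [← h1, ← Matrix.mulVec_mulVec, hCv, Matrix.mulVec_zero]
    funext i
    rw [← hvbar i, hvb]
    rfl
  have hcard := _root_.card_le_of_injective R f hf
  rw [Fintype.card_subtype, Fintype.card_subtype] at hcard
  exact hcard

end Abstract

section Concrete

variable (n : ℕ) (k : Type u) [Field k]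

local notation "𝒫" => CohB1.polyGrading n k
local notation "U0" => U n k 0

/-- the generator of `O(a)` on the chart `U 0` -/
noncomputable def gen (a : ℤ) : Γ(Twist.twist 𝒫 a, U0) := αN 𝒫 (hT n k 0) a

theorem isGen_gen (a : ℤ) : IsGen (Twist.twist 𝒫 a) U0 (gen n k a) := isGen_αN 𝒫 (hT n k 0) a

/-- the coefficient of a morphism `O(a) ⟶ O(b)` on the chart `U 0` -/
noncomputable def coef (a b : ℤ) (ψ : Twist.twist 𝒫 a ⟶ Twist.twist 𝒫 b) :
    Γ(Proj 𝒫, U0) :=
  (Equiv.ofBijective _ (isGen_gen n k b).self).symm (ψ.app U0 (gen n k a))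

theorem coef_spec (a b : ℤ) (ψ : Twist.twist 𝒫 a ⟶ Twist.twist 𝒫 b) :
    coef n k a b ψ • gen n k b = ψ.app U0 (gen n k a) :=
  (Equiv.ofBijective _ (isGen_gen n k b).self).apply_symm_apply (ψ.app U0 (gen n k a))

theorem coef_eq (a b : ℤ) (ψ : Twist.twist 𝒫 a ⟶ Twist.twist 𝒫 b) (x : Γ(Proj 𝒫, U0))
    (hx : x • gen n k b = ψ.app U0 (gen n k a)) : coef n k a b ψ = x :=
  (isGen_gen n k b).self.1 ((coef_spec n k a b ψ).trans hx.symm)

theorem coef_add (a b : ℤ) (f g : Twist.twist 𝒫 a ⟶ Twist.twist 𝒫 b) :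
    coef n k a b (f + g) = coef n k a b f + coef n k a b g := by
  apply coef_eq
  rw [add_smul, coef_spec, coef_spec]
  rfl

theorem coef_comp (a b b' : ℤ) (f : Twist.twist 𝒫 a ⟶ Twist.twist 𝒫 b)
    (g : Twist.twist 𝒫 b ⟶ Twist.twist 𝒫 b') :
    coef n k a b' (f ≫ g) = coef n k a b f * coef n k b b' g := by
  apply coef_eq
  have h1 : (f ≫ g).app U0 (gen n k a) = g.app U0 (f.app U0 (gen n k a)) := rfl
  rw [h1, ← coef_spec n k a b f, Scheme.Modules.Hom.app_smul, ← coef_spec n k b b' g, mul_smul]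

theorem coef_id (a : ℤ) : coef n k a a (𝟙 _) = 1 := by
  apply coef_eq
  rw [one_smul]
  rfl

instance : Nontrivial Γ(Proj 𝒫, U0) := (Θ n k 0).injective.nontrivial

/-- (U2) an iso of sums of twists respects the counting function -/
theorem card_le_of_iso {r : ℕ} (d d' : Fin r → ℤ)
    (e : (∐ fun i => Twist.twist (CohB1.polyGrading n k) (d i)) ≅
      ∐ fun i => Twist.twist (CohB1.polyGrading n k) (d' i))
    (hvan : ∀ a b : ℤ, b < a → ∀ ψ : Twist.twist (CohB1.polyGrading n k) a ⟶
      Twist.twist (CohB1.polyGrading n k) b, ψ = 0) (t : ℤ) :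
    (Finset.univ.filter (fun i => t ≤ d i)).card ≤ (Finset.univ.filter (fun i => t ≤ d' i)).card :=
  card_le_abstract (fun a => Twist.twist (CohB1.polyGrading n k) a) (coef n k)
    (coef_add n k) (coef_comp n k) (coef_id n k) d d' e hvan t

end Concrete

end Groth.Agent.H33.P1CardLe
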