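import Groth.Agent.H33.SplitFactor
import Mathlib.CategoryTheory.Abelian.Refinements

/-! Pseudo-coherence over an abelian category (SGA 6 I), base lemmas: factorization of an
`n`-quasi-isomorphism (helper33). -/

set_option autoImplicit false
universe v u

namespace Groth.Agent.H33.PCoh

open CategoryTheory CategoryTheory.Limits HomologicalComplex CochainComplex

variable {C : Type u} [Category.{v} C] [Abelian C]

/-- `u` is an `n`-quasi-isomorphism: iso on `H^i` for `i > n`, epi on `H^n` -/
def IsNQI (n : ℤ) {E F : CochainComplex C ℤ} (u : E ⟶ F) : Prop :=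
  (∀ i : ℤ, n < i → IsIso (HomologicalComplex.homologyMap u i)) ∧
    Epi (HomologicalComplex.homologyMap u n)

lemma acyclic_of_homotopy_id_zero {D : CochainComplex C ℤ} (h : Homotopy (𝟙 D) 0) :
    D.Acyclic := by
  intro i
  rw [HomologicalComplex.exactAt_iff_isZero_homology, IsZero.iff_id_eq_zero,
    ← HomologicalComplex.homologyMap_id, h.homologyMap_eq i,
    HomologicalComplex.homologyMap_zero]

set_option backward.isDefEq.respectTransparency false in
/-- the cone of the identity: an acyclic complex receiving a termwise split monomorphism -/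
lemma exists_contractible_mono (E : CochainComplex C ℤ) :
    ∃ (D : CochainComplex C ℤ) (j : E ⟶ D), Mono j ∧ D.Acyclic := by
  refine ⟨mappingCone (𝟙 E), mappingCone.inr (𝟙 E), ?_, ?_⟩
  · apply HomologicalComplex.mono_of_mono_f
    intro i
    exact mono_of_mono_fac (mappingCone.inr_f_snd_v (𝟙 E) i)
  · exact acyclic_of_homotopy_id_zero
      (mappingCone.liftHomotopy _ _ _ (mappingCone.snd _) 0 (by simp) (by simp))

/-- factorization of an `n`-quasi-isomorphism as a termwise mono which is an iso in degrees `≥ n`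
followed by a quasi-isomorphism -/
theorem factor_nqis (n : ℤ) {E F : CochainComplex C ℤ} (u : E ⟶ F)
    (hiso : ∀ i : ℤ, n < i → IsIso (HomologicalComplex.homologyMap u i))
    (hepi : Epi (HomologicalComplex.homologyMap u n)) :
    ∃ (E' : CochainComplex C ℤ) (v : E ⟶ E') (u' : E' ⟶ F), v ≫ u' = u ∧ QuasiIso u' ∧
      (∀ i : ℤ, Mono (v.f i)) ∧ (∀ i : ℤ, n ≤ i → IsIso (v.f i)) := by
  obtain ⟨D, j, hj, hD⟩ := exists_contractible_mono E
  -- the enlarged target
  obtain ⟨ũ, hũ⟩ : ∃ ũ : E ⟶ D ⊞ F, ũ = biprod.lift j u := ⟨_, rfl⟩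
  have hũ1 : ũ ≫ biprod.fst = j := by rw [hũ, biprod.lift_fst]
  have hũ2 : ũ ≫ (biprod.snd : D ⊞ F ⟶ F) = u := by rw [hũ, biprod.lift_snd]
  have hũm : Mono ũ := mono_of_mono_fac hũ1
  have hpr : QuasiIso (biprod.snd : D ⊞ F ⟶ F) := by
    have hS : (ShortComplex.mk (biprod.inl : D ⟶ D ⊞ F) (biprod.snd : D ⊞ F ⟶ F)
        (by simp)).ShortExact :=
      (ShortComplex.Splitting.ofHasBinaryBiproduct D F).shortExact
    exact LeftRes.quasiIso_g_of_acyclic hS hD
  -- homology of ũ
  have hcomp : ∀ i : ℤ, HomologicalComplex.homologyMap ũ i ≫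
      HomologicalComplex.homologyMap (biprod.snd : D ⊞ F ⟶ F) i =
      HomologicalComplex.homologyMap u i := by
    intro i
    rw [← HomologicalComplex.homologyMap_comp, hũ2]
  have hpri : ∀ i : ℤ, IsIso (HomologicalComplex.homologyMap (biprod.snd : D ⊞ F ⟶ F) i) :=
    fun i => inferInstance
  have hiso' : ∀ i : ℤ, n < i → IsIso (HomologicalComplex.homologyMap ũ i) := by
    intro i hi
    have h1 := hiso i hi
    have h2 := hpri i
    rw [← hcomp i] at h1
    exact IsIso.of_isIso_comp_right _ (HomologicalComplex.homologyMap (biprod.snd : D ⊞ F ⟶ F) i)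
  have hepi' : ∀ i : ℤ, n ≤ i → Epi (HomologicalComplex.homologyMap ũ i) := by
    intro i hi
    have h2 := hpri i
    have h3 : Epi (HomologicalComplex.homologyMap u i) := by
      rcases hi.eq_or_lt with rfl | hi'
      · exact hepi
      · have := hiso i hi'
        infer_instance
    have h4 : HomologicalComplex.homologyMap ũ i = HomologicalComplex.homologyMap u i ≫
        inv (HomologicalComplex.homologyMap (biprod.snd : D ⊞ F ⟶ F) i) := by
      rw [← hcomp i, Category.assoc, IsIso.hom_inv_id, Category.comp_id]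
    rw [h4]
    infer_instance
  -- the cokernel
  have hS : (ShortComplex.mk ũ (cokernel.π ũ) (cokernel.condition ũ)).ShortExact :=
    ShortComplex.ShortExact.mk'
      (ShortComplex.exact_of_g_is_cokernel _ (cokernelIsCokernel ũ))
      (by dsimp; infer_instance) (by dsimp; infer_instance)
  have hGle : (cokernel ũ).IsLE (n - 1) := by
    rw [CochainComplex.isLE_iff]
    intro i hi
    refine hS.exactAt_X₃ i (hepi' i (by omega)) (fun k hk => ?_)
    have hk' : i + 1 = k := hk
    have := hiso' k (by omega)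
    infer_instance
  have hT := (cokernel ũ).shortComplexTruncLE_shortExact (n - 1)
  have hqf : QuasiIso ((cokernel ũ).shortComplexTruncLE (n - 1)).f :=
    (inferInstance : QuasiIso ((cokernel ũ).ιTruncLE (n - 1)))
  have hG'' : ((cokernel ũ).shortComplexTruncLE (n - 1)).X₃.Acyclic := hT.acyclic_X₃ hqf
  obtain ⟨q, hq⟩ : ∃ q : cokernel ũ ⟶ ((cokernel ũ).shortComplexTruncLE (n - 1)).X₃,
      q = ((cokernel ũ).shortComplexTruncLE (n - 1)).g := ⟨_, rfl⟩
  have hqepi : Epi q := by rw [hq]; exact hT.epi_g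
  have hγq : Epi (cokernel.π ũ ≫ q) := epi_comp _ _
  have hS' : (ShortComplex.mk (kernel.ι (cokernel.π ũ ≫ q)) (cokernel.π ũ ≫ q)
      (kernel.condition _)).ShortExact :=
    ShortComplex.ShortExact.mk'
      (ShortComplex.exact_of_f_is_kernel _ (kernelIsKernel _))
      (by dsimp; infer_instance) (by dsimp; infer_instance)
  have hι' : QuasiIso (kernel.ι (cokernel.π ũ ≫ q)) := LeftRes.quasiIso_f_of_acyclic hS' hG''
  have hv0 : ũ ≫ cokernel.π ũ ≫ q = 0 := by
    rw [← Category.assoc, cokernel.condition, zero_comp]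
  obtain ⟨v, hv⟩ : ∃ v : E ⟶ kernel (cokernel.π ũ ≫ q), v ≫ kernel.ι _ = ũ :=
    ⟨kernel.lift _ ũ hv0, kernel.lift_ι _ _ _⟩
  have hvm : Mono v := mono_of_mono_fac hv
  refine ⟨kernel (cokernel.π ũ ≫ q), v, kernel.ι _ ≫ biprod.snd, ?_, ?_, ?_, ?_⟩
  · rw [← Category.assoc, hv, hũ2]
  · exact quasiIso_comp (hφ := hι') (hφ' := hpr) _ _
  · intro i
    infer_instance
  · intro i hi
    have hm : Mono (v.f i) := inferInstance
    have hmι : Mono ((kernel.ι (cokernel.π ũ ≫ q)).f i) := inferInstance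
    have hepi : Epi (v.f i) := by
      rw [epi_iff_surjective_up_to_refinements]
      intro T x
      have hx : (x ≫ (kernel.ι (cokernel.π ũ ≫ q)).f i ≫ (cokernel.π ũ).f i) ≫ q.f i = 0 := by
        rw [Category.assoc, Category.assoc, ← HomologicalComplex.comp_f,
          ← HomologicalComplex.comp_f, kernel.condition, HomologicalComplex.zero_f, comp_zero]
      have ex1 := (hT.map_of_exact (HomologicalComplex.eval C (ComplexShape.up ℤ) i)).exact
      have hqf : q.f i = ((cokernel ũ).shortComplexTruncLE (n - 1)).g.f i := by rw [hq]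
      rw [hqf] at hx
      obtain ⟨A₁, π₁, hπ₁, z, hz⟩ := ex1.exact_up_to_refinements
        (x ≫ (kernel.ι (cokernel.π ũ ≫ q)).f i ≫ (cokernel.π ũ).f i) hx
      have hz' : π₁ ≫ (x ≫ (kernel.ι (cokernel.π ũ ≫ q)).f i ≫ (cokernel.π ũ).f i) =
          z ≫ ((cokernel ũ).ιTruncLE (n - 1)).f i := hz
      have hz0 : z = 0 :=
        (((cokernel ũ).truncLE (n - 1)).isZero_of_isStrictlyLE (n - 1) i (by omega)).eq_of_tgt _ _
      have h1 : (π₁ ≫ x ≫ (kernel.ι (cokernel.π ũ ≫ q)).f i) ≫ (cokernel.π ũ).f i = 0 := by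
        rw [hz0, zero_comp] at hz'
        rw [Category.assoc, Category.assoc]
        exact hz'
      have ex2 := (hS.map_of_exact (HomologicalComplex.eval C (ComplexShape.up ℤ) i)).exact
      obtain ⟨A₂, π₂, hπ₂, y, hy⟩ := ex2.exact_up_to_refinements
        (π₁ ≫ x ≫ (kernel.ι (cokernel.π ũ ≫ q)).f i) h1
      refine ⟨A₂, π₂ ≫ π₁, epi_comp _ _, y, ?_⟩
      rw [← cancel_mono ((kernel.ι (cokernel.π ũ ≫ q)).f i)]
      have hy' : π₂ ≫ π₁ ≫ x ≫ (kernel.ι (cokernel.π ũ ≫ q)).f i = y ≫ ũ.f i := hy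
      rw [Category.assoc, Category.assoc, hy', Category.assoc, ← HomologicalComplex.comp_f, hv]
      rfl
    exact isIso_of_mono_of_epi _

end Groth.Agent.H33.PCoh
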