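import Groth.Agent.H33.PCohTerm
import Mathlib.CategoryTheory.Abelian.Refinements

/-! Pseudo-coherence over an abelian category (SGA 6 I): the case where the objects of the
subcategory are coherent (helper33). -/

set_option autoImplicit false
universe w v u

namespace Groth.Agent.H33.PCoh

open CategoryTheory CategoryTheory.Limits CategoryTheory.Pretriangulated CochainComplex
open ZeroObject

section Basic

variable {C : Type u} [Category.{v} C] [Abelian C] {P : ObjectProperty C}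

/-- coherent object relative to `P` -/
def IsCoh (P : ObjectProperty C) (M : C) : Prop :=
  _root_.PCoh.IsOfFiniteType P M ∧
    ∀ (E : C) (u : E ⟶ M), P E → _root_.PCoh.IsOfFiniteType P (kernel u)

lemma finiteType_of_epi {A B : C} (f : A ⟶ B) [Epi f] (h : _root_.PCoh.IsOfFiniteType P A) :
    _root_.PCoh.IsOfFiniteType P B := by
  obtain ⟨T, p, hT, hp⟩ := h
  exact ⟨T, p ≫ f, hT, epi_comp _ _⟩

lemma finiteType_of_iso {A B : C} (e : A ≅ B) (h : _root_.PCoh.IsOfFiniteType P A) :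
    _root_.PCoh.IsOfFiniteType P B :=
  finiteType_of_epi e.hom h

/-- if objects of `P` are coherent, `P` is quasi-stable under kernels of epimorphisms -/
lemma quasiStable_of_coh
    (hcoh : ∀ (X E : C) (u : E ⟶ X), P X → P E → _root_.PCoh.IsOfFiniteType P (kernel u)) :
    _root_.PCoh.IsQuasiStableUnderKernels P := by
  intro K hex _ hP
  have h0 : (K.sc' 0 0 1).Exact :=
    (K.exactAt_iff' 0 0 1 CochainComplex.prev_nat_zero
      ((ComplexShape.up ℕ).next_eq' (show (ComplexShape.up ℕ).Rel 0 1 by simp))).1 (hex 0)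
  have h1 : (K.sc' 0 1 2).Exact :=
    (K.exactAt_iff' 0 1 2 ((ComplexShape.up ℕ).prev_eq' (show (ComplexShape.up ℕ).Rel 0 1 by simp))
      ((ComplexShape.up ℕ).next_eq' (show (ComplexShape.up ℕ).Rel 1 2 by simp))).1 (hex 1)
  have hm : Mono (K.d 0 1) := h0.mono_g (K.shape 0 0 (by simp))
  have hker : IsLimit (KernelFork.ofι (K.d 0 1) (K.d_comp_d 0 1 2)) := by
    haveI : Mono (K.sc' 0 1 2).f := hm
    exact h1.fIsKernel
  have e : kernel (K.d 1 2) ≅ K.X 0 :=
    (kernelIsKernel (K.d 1 2)).conePointUniqueUpToIso hker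
  exact finiteType_of_iso e (hcoh (K.X 2) (K.X 1) (K.d 1 2) (hP 2 (by omega)) (hP 1 le_rfl))

/-- cohomology of a complex whose terms are coherent objects of `P` is of finite type -/
lemma finiteType_homology
    (hcoh : ∀ (X E : C) (u : E ⟶ X), P X → P E → _root_.PCoh.IsOfFiniteType P (kernel u))
    (E : CochainComplex C ℤ) (i : ℤ) (h1 : P (E.X i)) (h2 : P (E.X (i + 1))) :
    _root_.PCoh.IsOfFiniteType P (E.homology i) := by
  have e : kernel (E.d i (i + 1)) ≅ E.cycles i :=
    (kernelIsKernel (E.d i (i + 1))).conePointUniqueUpToIso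
      (E.cyclesIsKernel i (i + 1) (by simp))
  exact finiteType_of_epi (e.hom ≫ E.homologyπ i) (hcoh (E.X (i + 1)) (E.X i) (E.d i (i + 1)) h2 h1)

/-- cohomology of a complex whose terms are coherent objects of `P` is coherent -/
lemma finiteType_kernel_homology (hsum : ∀ X Y : C, P X → P Y → P (X ⨯ Y))
    [P.IsClosedUnderIsomorphisms]
    (hql : _root_.PCoh.IsQuasiLiftable P)
    (hcoh : ∀ (X E : C) (u : E ⟶ X), P X → P E → _root_.PCoh.IsOfFiniteType P (kernel u))
    (E : CochainComplex C ℤ) (i : ℤ) (h0 : P (E.X (i - 1))) (h1 : P (E.X i))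
    {T : C} (hT : P T) (v : T ⟶ E.homology i) :
    _root_.PCoh.IsOfFiniteType P (kernel v) := by
  obtain ⟨A', π', hπ', x, hx⟩ :=
    (epi_iff_surjective_up_to_refinements (E.homologyπ i)).1 inferInstance v
  obtain ⟨T', w, hT', hw⟩ := hql A' T π' hπ' hT
  obtain ⟨α, β, hα, hαβ⟩ : ∃ (α : T' ⟶ T) (β : T' ⟶ E.cycles i),
      Epi α ∧ α ≫ v = β ≫ E.homologyπ i :=
    ⟨w ≫ π', w ≫ x, hw, by rw [Category.assoc, Category.assoc, hx]⟩
  have hS : (ShortComplex.mk (E.toCycles (i - 1) i) (E.homologyπ i)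
      (E.toCycles_comp_homologyπ (i - 1) i)).Exact :=
    ShortComplex.exact_of_g_is_cokernel _ (E.homologyIsCokernel (i - 1) i (by simp))
  obtain ⟨ψ', hψ'⟩ : ∃ ψ' : T' ⊞ E.X (i - 1) ⟶ E.cycles i,
      ψ' = biprod.desc β (E.toCycles (i - 1) i) := ⟨_, rfl⟩
  have hψπ : ψ' ≫ E.homologyπ i = biprod.fst ≫ α ≫ v := by
    rw [hψ']
    apply biprod.hom_ext'
    · rw [biprod.inl_desc_assoc, biprod.inl_fst_assoc, hαβ]
    · rw [biprod.inr_desc_assoc, biprod.inr_fst_assoc, zero_comp, E.toCycles_comp_homologyπ]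
  have hPB : P (T' ⊞ E.X (i - 1)) :=
    P.prop_of_iso (biprod.isoProd _ _).symm (hsum _ _ hT' h0)
  obtain ⟨T'', p, hT'', hp⟩ := hcoh (E.X i) (T' ⊞ E.X (i - 1)) (ψ' ≫ E.iCycles i) h1 hPB
  have hk : kernel.ι (ψ' ≫ E.iCycles i) ≫ ψ' = 0 := by
    rw [← cancel_mono (E.iCycles i), Category.assoc, kernel.condition, zero_comp]
  have hγ0 : (kernel.ι (ψ' ≫ E.iCycles i) ≫ biprod.fst ≫ α) ≫ v = 0 := by
    rw [Category.assoc, Category.assoc, ← hψπ, ← Category.assoc, hk, zero_comp]
  have hγ : Epi (kernel.lift v _ hγ0) := by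
    rw [epi_iff_surjective_up_to_refinements]
    intro A y
    obtain ⟨A₁, π₁, hπ₁, x₁, hx₁⟩ :=
      (epi_iff_surjective_up_to_refinements α).1 hα (y ≫ kernel.ι v)
    have h0' : (x₁ ≫ β) ≫ E.homologyπ i = 0 := by
      have h1' : (x₁ ≫ α) ≫ v = 0 := by
        rw [← hx₁]; simp
      rw [Category.assoc, ← hαβ, ← Category.assoc, h1']
    obtain ⟨A₂, π₂, hπ₂, x₂, hx₂⟩ := hS.exact_up_to_refinements (x₁ ≫ β) h0'
    have hx₂' : π₂ ≫ x₁ ≫ β = x₂ ≫ E.toCycles (i - 1) i := hx₂
    have hz : biprod.lift (π₂ ≫ x₁) (-x₂) ≫ ψ' ≫ E.iCycles i = 0 := by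
      have hz' : biprod.lift (π₂ ≫ x₁) (-x₂) ≫ ψ' = 0 := by
        rw [hψ', biprod.lift_desc, Category.assoc, hx₂']; simp
      rw [← Category.assoc, hz', zero_comp]
    refine ⟨A₂, π₂ ≫ π₁, epi_comp _ _,
      kernel.lift _ (biprod.lift (π₂ ≫ x₁) (-x₂)) hz, ?_⟩
    rw [← cancel_mono (kernel.ι v)]
    simp only [Category.assoc, kernel.lift_ι, kernel.lift_ι_assoc, biprod.lift_fst_assoc]
    rw [hx₁]
  exact ⟨T'', p ≫ kernel.lift v _ hγ0, hT'', epi_comp _ _⟩

end Basic

section Der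

variable {C : Type u} [Category.{v} C] [Abelian C] [HasDerivedCategory.{w} C]
  {P : ObjectProperty C} [P.IsClosedUnderIsomorphisms] [P.ContainsZero]

/-- an object of `P` placed in degree `0` is pseudo-coherent -/
lemma isNPC_single_of_prop {T : C} (hT : P T) (m : ℤ) :
    IsNPC P m ((DerivedCategory.singleFunctor C 0).obj T) := by
  refine ⟨(CochainComplex.singleFunctor C 0).obj T, ⟨⟨0, fun i hi => ?_⟩, fun i _ => ?_⟩,
    ⟨((DerivedCategory.singleFunctorIsoCompQ C 0).app T).symm⟩⟩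
  · exact HomologicalComplex.isZero_single_obj_X (ComplexShape.up ℤ) 0 T i (by omega)
  · by_cases hi : i = 0
    · subst hi
      exact P.prop_of_iso (HomologicalComplex.singleObjXSelf (ComplexShape.up ℤ) 0 T).symm hT
    · exact P.prop_of_isZero
        (HomologicalComplex.isZero_single_obj_X (ComplexShape.up ℤ) 0 T i hi)

/-- an object of finite type placed in degree `0` is `0`-pseudo-coherent -/
lemma isNPC_zero_single_of_finiteType (hsum : ∀ X Y : C, P X → P Y → P (X ⨯ Y))
    (hql : _root_.PCoh.IsQuasiLiftable P) {M : C} (hM : _root_.PCoh.IsOfFiniteType P M) :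
    IsNPC P 0 ((DerivedCategory.singleFunctor C 0).obj M) :=
  isNPC_of_finiteType hsum hql 0 _ (fun i hi => isZero_homology_single 0 i (by omega) M)
    (finiteType_of_iso (homologySingleIso 0 M).symm hM)

/-- a coherent object placed in degree `0` is pseudo-coherent -/
theorem isNPC_single_of_coh (hsum : ∀ X Y : C, P X → P Y → P (X ⨯ Y))
    (hql : _root_.PCoh.IsQuasiLiftable P)
    (hcoh : ∀ (X E : C) (u : E ⟶ X), P X → P E → _root_.PCoh.IsOfFiniteType P (kernel u)) :
    ∀ (k : ℕ) (M : C), IsCoh P M → ∀ m : ℤ, -(k : ℤ) ≤ m →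
      IsNPC P m ((DerivedCategory.singleFunctor C 0).obj M) := by
  have hqs := quasiStable_of_coh hcoh
  intro k
  induction k with
  | zero =>
    intro M hM m hm
    obtain ⟨hft, _⟩ := hM
    exact (isNPC_zero_single_of_finiteType hsum hql hft).mono (by push_cast at hm; omega)
  | succ k ih =>
    intro M hM m hm
    obtain ⟨⟨T₀, p, hT₀, hp⟩, hker⟩ := hM
    have hK : IsCoh P (kernel p) := by
      refine And.intro (hker T₀ p hT₀) (fun T v hT => ?_)
      exact finiteType_of_iso (kernelCompMono v (kernel.ι p))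
        (hcoh T₀ T (v ≫ kernel.ι p) hT₀ hT)
    have hS : (ShortComplex.mk (kernel.ι p) p (kernel.condition p)).ShortExact :=
      ShortComplex.ShortExact.mk'
        (ShortComplex.exact_of_f_is_kernel _ (kernelIsKernel p))
        (by dsimp; infer_instance) (by dsimp; infer_instance)
    have hT := hS.singleTriangle_distinguished
    have h₁ : IsNPC P (m + 1) ((DerivedCategory.singleFunctor C 0).obj (kernel p)) :=
      ih (kernel p) hK (m + 1) (by push_cast at hm ⊢; omega)
    have h₂ : IsNPC P m ((DerivedCategory.singleFunctor C 0).obj T₀) :=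
      isNPC_single_of_prop hT₀ m
    exact IsNPC.obj₃ hsum hqs hql m _ hT h₁ h₂

end Der

end Groth.Agent.H33.PCoh
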