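import Groth.Agent.H33.PCohTerm
import Mathlib.Algebra.Homology.Augment

/-! Pseudo-coherence over an abelian category (SGA 6 I): objects of `n`-finite presentation
(helper33). -/

set_option autoImplicit false
universe w v u

namespace Groth.Agent.H33.PCoh

open CategoryTheory CategoryTheory.Limits CategoryTheory.Pretriangulated
open ZeroObject

variable {C : Type u} [Category.{v} C] [Abelian C]

/-! ### `ℕ`-indexed chain complexes -/
section Chain

lemma exactAt_zero_iff (K : ChainComplex C ℕ) : K.ExactAt 0 ↔ Epi (K.d 1 0) := by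
  rw [HomologicalComplex.exactAt_iff' K 1 0 0 (by simp) (by simp)]
  exact ShortComplex.exact_iff_epi _ (K.shape 0 0 (by simp))

lemma exactAt_succ_iff (K : ChainComplex C ℕ) (j : ℕ) :
    K.ExactAt (j + 1) ↔ (K.sc' (j + 2) (j + 1) j).Exact :=
  HomologicalComplex.exactAt_iff' K (j + 2) (j + 1) j (by simp) (by simp)

lemma exactAt_augment_add_two (K : ChainComplex C ℕ) {X : C} (f : K.X 0 ⟶ X)
    (w : K.d 1 0 ≫ f = 0) (j : ℕ) :
    (ChainComplex.augment K f w).ExactAt (j + 2) ↔ K.ExactAt (j + 1) := by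
  show (ChainComplex.augment K f w).ExactAt (j + 1 + 1) ↔ _
  rw [exactAt_succ_iff, exactAt_succ_iff]
  exact Iff.rfl

lemma exactAt_truncate_succ (K : ChainComplex C ℕ) (j : ℕ) :
    (ChainComplex.truncate.obj K).ExactAt (j + 1) ↔ K.ExactAt (j + 2) := by
  show _ ↔ K.ExactAt (j + 1 + 1)
  rw [exactAt_succ_iff, exactAt_succ_iff]
  exact Iff.rfl

lemma exact_of_epi_lift {X Y Z : C} (f : X ⟶ Y) (g : Y ⟶ Z) (w : f ≫ g = 0)
    (p : X ⟶ kernel g) (hp : p ≫ kernel.ι g = f) [Epi p] : (ShortComplex.mk f g w).Exact := by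
  rw [ShortComplex.exact_iff_epi_kernel_lift]
  show Epi (kernel.lift g f w)
  have : kernel.lift g f w = p := by
    rw [← cancel_mono (kernel.ι g), kernel.lift_ι, hp]
  rw [this]
  infer_instance

lemma epi_lift_of_exact {X Y Z : C} (f : X ⟶ Y) (g : Y ⟶ Z) (w : f ≫ g = 0)
    (h : (ShortComplex.mk f g w).Exact) : Epi (kernel.lift g f w) :=
  (ShortComplex.exact_iff_epi_kernel_lift _).1 h

lemma exact_comp_mono {X Y Z Z' : C} (f : X ⟶ Y) (g : Y ⟶ Z) (i : Z ⟶ Z') [Mono i]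
    (g' : Y ⟶ Z') (hg : g ≫ i = g') (w : f ≫ g = 0) (w' : f ≫ g' = 0) :
    (ShortComplex.mk f g w).Exact ↔ (ShortComplex.mk f g' w').Exact := by
  subst hg
  let φ : ShortComplex.mk f g w ⟶ ShortComplex.mk f (g ≫ i) w' :=
    { τ₁ := 𝟙 X
      τ₂ := 𝟙 Y
      τ₃ := i
      comm₁₂ := by
        show 𝟙 X ≫ f = f ≫ 𝟙 Y
        rw [Category.id_comp, Category.comp_id]
      comm₂₃ := by
        show 𝟙 Y ≫ g ≫ i = g ≫ i
        rw [Category.id_comp] }
  have : Epi φ.τ₁ := (inferInstance : Epi (𝟙 X))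
  have : IsIso φ.τ₂ := (inferInstance : IsIso (𝟙 Y))
  have : Mono φ.τ₃ := (inferInstance : Mono i)
  exact ShortComplex.exact_iff_of_epi_of_isIso_of_mono φ

/-- the complex `… → K₃ → K₂ → ker(K₁ → K₀)` -/
noncomputable def kerShift (K : ChainComplex C ℕ) : ChainComplex C ℕ :=
  ChainComplex.augment (ChainComplex.truncate.obj (ChainComplex.truncate.obj K))
    (X := kernel (K.d 1 0))
    (show K.X 2 ⟶ kernel (K.d 1 0) from kernel.lift (K.d 1 0) (K.d 2 1) (K.d_comp_d 2 1 0))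
    (by
      show K.d 3 2 ≫ kernel.lift (K.d 1 0) (K.d 2 1) (K.d_comp_d 2 1 0) = 0
      rw [← cancel_mono (kernel.ι (K.d 1 0)), Category.assoc, kernel.lift_ι, zero_comp]
      exact K.d_comp_d 3 2 1)

lemma kerShift_exactAt_zero (K : ChainComplex C ℕ) (h : K.ExactAt 1) :
    (kerShift K).ExactAt 0 := by
  rw [exactAt_zero_iff]
  exact epi_lift_of_exact (K.d 2 1) (K.d 1 0) (K.d_comp_d 2 1 0) ((exactAt_succ_iff K 0).1 h)

lemma kerShift_exactAt_one (K : ChainComplex C ℕ) (h : K.ExactAt 2) :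
    (kerShift K).ExactAt 1 := by
  rw [exactAt_succ_iff (kerShift K) 0]
  have h' : (ShortComplex.mk (K.d 3 2) (K.d 2 1) (K.d_comp_d 3 2 1)).Exact :=
    (exactAt_succ_iff K 1).1 h
  exact (exact_comp_mono (K.d 3 2) (kernel.lift (K.d 1 0) (K.d 2 1) (K.d_comp_d 2 1 0))
    (kernel.ι (K.d 1 0)) (K.d 2 1) (kernel.lift_ι _ _ _)
    (by
      rw [← cancel_mono (kernel.ι (K.d 1 0)), Category.assoc, kernel.lift_ι, zero_comp]
      exact K.d_comp_d 3 2 1) (K.d_comp_d 3 2 1)).2 h'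

lemma kerShift_exactAt_add_two (K : ChainComplex C ℕ) (j : ℕ) (h : K.ExactAt (j + 3)) :
    (kerShift K).ExactAt (j + 2) := by
  refine (exactAt_augment_add_two _ _ _ j).2 ?_
  refine (exactAt_truncate_succ _ j).2 ?_
  exact (exactAt_truncate_succ K (j + 1)).2 h

/-- splicing `… → K₂ → K₁ → E → F` when `K₀ ≅ ker(E → F)` -/
noncomputable def splice (K : ChainComplex C ℕ) {E F : C} (π : E ⟶ F) (e : K.X 0 ≅ kernel π) :
    ChainComplex C ℕ :=
  ChainComplex.augment (ChainComplex.augment (ChainComplex.truncate.obj K) (X := E)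
    (show K.X 1 ⟶ E from K.d 1 0 ≫ e.hom ≫ kernel.ι π)
    (by
      show K.d 2 1 ≫ K.d 1 0 ≫ e.hom ≫ kernel.ι π = 0
      rw [K.d_comp_d_assoc, zero_comp])) (X := F) π
    (by
      show (K.d 1 0 ≫ e.hom ≫ kernel.ι π) ≫ π = 0
      rw [Category.assoc, Category.assoc, kernel.condition, comp_zero, comp_zero])

lemma splice_exactAt_zero (K : ChainComplex C ℕ) {E F : C} (π : E ⟶ F) [Epi π]
    (e : K.X 0 ≅ kernel π) : (splice K π e).ExactAt 0 := by
  rw [exactAt_zero_iff]
  exact (inferInstance : Epi π)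

lemma splice_exactAt_one (K : ChainComplex C ℕ) {E F : C} (π : E ⟶ F)
    (e : K.X 0 ≅ kernel π) (h : K.ExactAt 0) : (splice K π e).ExactAt 1 := by
  rw [exactAt_succ_iff (splice K π e) 0]
  have : Epi (K.d 1 0) := (exactAt_zero_iff K).1 h
  exact exact_of_epi_lift (K.d 1 0 ≫ e.hom ≫ kernel.ι π) π
    (by rw [Category.assoc, Category.assoc, kernel.condition, comp_zero, comp_zero])
    (K.d 1 0 ≫ e.hom) (by rw [Category.assoc])

lemma splice_exactAt_two (K : ChainComplex C ℕ) {E F : C} (π : E ⟶ F)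
    (e : K.X 0 ≅ kernel π) (h : K.ExactAt 1) : (splice K π e).ExactAt 2 := by
  rw [exactAt_succ_iff (splice K π e) 1]
  have h' : (ShortComplex.mk (K.d 2 1) (K.d 1 0) (K.d_comp_d 2 1 0)).Exact :=
    (exactAt_succ_iff K 0).1 h
  exact (exact_comp_mono (K.d 2 1) (K.d 1 0) (e.hom ≫ kernel.ι π)
    (K.d 1 0 ≫ e.hom ≫ kernel.ι π) rfl (K.d_comp_d 2 1 0)
    (by rw [K.d_comp_d_assoc, zero_comp])).1 h'

lemma splice_exactAt_add_three (K : ChainComplex C ℕ) {E F : C} (π : E ⟶ F)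
    (e : K.X 0 ≅ kernel π) (j : ℕ) (h : K.ExactAt (j + 2)) :
    (splice K π e).ExactAt (j + 3) := by
  refine (exactAt_augment_add_two _ _ _ (j + 1)).2 ?_
  refine (exactAt_augment_add_two _ _ _ j).2 ?_
  exact (exactAt_truncate_succ K j).2 h

end Chain

/-! ### objects of `n`-finite presentation -/

/-- `F` is of `n`-finite presentation -/
def FP (P : ObjectProperty C) : ℕ → C → Prop
  | 0, F => _root_.PCoh.IsOfFiniteType P F
  | n + 1, F => ∃ (E : C) (π : E ⟶ F), P E ∧ Epi π ∧ FP P n (kernel π)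

variable {P : ObjectProperty C}

lemma FP.of_iso : ∀ (n : ℕ) {F F' : C} (_ : F ≅ F'), FP P n F → FP P n F'
  | 0, _, _, e, ⟨E, π, hE, hπ⟩ => ⟨E, π ≫ e.hom, hE, by have := hπ; infer_instance⟩
  | n + 1, _, _, e, ⟨E, π, hE, hπ, h⟩ =>
    ⟨E, π ≫ e.hom, hE, by have := hπ; infer_instance,
      FP.of_iso n (kernelCompMono π e.hom).symm h⟩

/-- the chain complex formulation -/
def CC (P : ObjectProperty C) (n : ℕ) (F : C) : Prop :=
  ∃ K : ChainComplex C ℕ, Nonempty (K.X 0 ≅ F) ∧ (∀ j : ℕ, j ≤ n → K.ExactAt j) ∧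
    (∀ j : ℕ, n + 1 < j → IsZero (K.X j)) ∧ (∀ j : ℕ, 1 ≤ j → j ≤ n + 1 → P (K.X j))

lemma FP_of_complex : ∀ (n : ℕ) (K : ChainComplex C ℕ), (∀ j : ℕ, j ≤ n → K.ExactAt j) →
    (∀ j : ℕ, 1 ≤ j → j ≤ n + 1 → P (K.X j)) → FP P n (K.X 0)
  | 0, K, hex, hP => ⟨K.X 1, K.d 1 0, hP 1 le_rfl le_rfl, (exactAt_zero_iff K).1 (hex 0 le_rfl)⟩
  | n + 1, K, hex, hP => by
    refine ⟨K.X 1, K.d 1 0, hP 1 le_rfl (by omega), (exactAt_zero_iff K).1 (hex 0 (by omega)), ?_⟩
    refine FP_of_complex n (kerShift K) (fun j hj => ?_) (fun j hj1 hj2 => ?_)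
    · rcases j with _ | _ | j
      · exact kerShift_exactAt_zero K (hex 1 (by omega))
      · exact kerShift_exactAt_one K (hex 2 (by omega))
      · exact kerShift_exactAt_add_two K j (hex (j + 3) (by omega))
    · obtain ⟨j, rfl⟩ : ∃ k, j = k + 1 := ⟨j - 1, by omega⟩
      exact hP (j + 2) (by omega) (by omega)

lemma CC_of_FP [P.IsClosedUnderIsomorphisms] : ∀ (n : ℕ) (F : C), FP P n F → CC P n F
  | 0, F, ⟨E, π, hE, hπ⟩ => by
    refine ⟨ChainComplex.augment ((ChainComplex.single₀ C).obj E) (X := F) π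
      (by rw [HomologicalComplex.single_obj_d]; exact zero_comp), ⟨Iso.refl _⟩,
      fun j hj => ?_, fun j hj => ?_, fun j hj1 hj2 => ?_⟩
    · obtain rfl : j = 0 := by omega
      rw [exactAt_zero_iff]
      exact hπ
    · obtain ⟨j, rfl⟩ : ∃ k, j = k + 2 := ⟨j - 2, by omega⟩
      exact HomologicalComplex.isZero_single_obj_X (ComplexShape.down ℕ) 0 E (j + 1) (by omega)
    · obtain rfl : j = 1 := by omega
      exact hE
  | n + 1, F, ⟨E, π, hE, hπ, h⟩ => by
    obtain ⟨K, ⟨e⟩, hex, hz, hP⟩ := CC_of_FP n (kernel π) h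
    refine ⟨splice K π e, ⟨Iso.refl _⟩, fun j hj => ?_, fun j hj => ?_, fun j hj1 hj2 => ?_⟩
    · rcases j with _ | _ | _ | j
      · have := hπ
        exact splice_exactAt_zero K π e
      · exact splice_exactAt_one K π e (hex 0 (by omega))
      · exact splice_exactAt_two K π e (hex 1 (by omega))
      · exact splice_exactAt_add_three K π e j (hex (j + 2) (by omega))
    · obtain ⟨j, rfl⟩ : ∃ k, j = k + 2 := ⟨j - 2, by omega⟩
      exact hz (j + 1) (by omega)
    · rcases j with _ | _ | j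
      · omega
      · exact hE
      · exact hP (j + 1) (by omega) (by omega)

/-! ### comparison with pseudo-coherence -/

variable [HasDerivedCategory.{w} C]

lemma isNPC_single_of_prop [P.IsClosedUnderIsomorphisms] [P.ContainsZero] {E : C} (hE : P E)
    (k : ℤ) : IsNPC P k ((DerivedCategory.singleFunctor C 0).obj E) := by
  refine ⟨(CochainComplex.singleFunctor C 0).obj E, ⟨⟨0, fun i hi =>
    HomologicalComplex.isZero_single_obj_X (ComplexShape.up ℤ) 0 E i (by omega)⟩,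
    fun i _ => ?_⟩, ⟨((DerivedCategory.singleFunctorIsoCompQ C 0).app E).symm⟩⟩
  by_cases hi : i = 0
  · subst hi
    exact P.prop_of_iso (HomologicalComplex.singleObjXSelf (ComplexShape.up ℤ) 0 E).symm hE
  · exact P.prop_of_isZero
      (HomologicalComplex.isZero_single_obj_X (ComplexShape.up ℤ) 0 E i hi)

/-- the short exact sequence `0 → ker π → E → F → 0` -/
lemma kernel_shortExact {E F : C} (π : E ⟶ F) [Epi π] :
    (ShortComplex.mk (kernel.ι π) π (kernel.condition π)).ShortExact :=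
  ShortComplex.ShortExact.mk' (ShortComplex.exact_of_f_is_kernel _ (kernelIsKernel π))
    (by dsimp; infer_instance) (by dsimp; infer_instance)

section

variable [P.IsClosedUnderIsomorphisms] [P.ContainsZero]
  (hsum : ∀ X Y : C, P X → P Y → P (X ⨯ Y)) (hqs : _root_.PCoh.IsQuasiStableUnderKernels P)
  (hql : _root_.PCoh.IsQuasiLiftable P)

include hsum hqs hql

lemma isNPC_of_FP : ∀ (n : ℕ) (F : C), FP P n F →
    IsNPC P (-(n : ℤ)) ((DerivedCategory.singleFunctor C 0).obj F)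
  | 0, F, ⟨E, π, hE, hπ⟩ => by
    have h : IsNPC P 0 ((DerivedCategory.singleFunctor C 0).obj F) :=
      isNPC_of_finiteType hsum hql 0 _ (fun i hi => isZero_homology_single 0 i (by omega) F)
        ⟨E, π ≫ (homologySingleIso 0 F).inv, hE, by have := hπ; infer_instance⟩
    simpa using h
  | n + 1, F, ⟨E, π, hE, hπ, h⟩ => by
    have := hπ
    have ih := isNPC_of_FP n (kernel π) h
    have hS := kernel_shortExact π
    have h₁ : IsNPC P (-((n + 1 : ℕ) : ℤ) + 1) hS.singleTriangle.obj₁ := by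
      rw [show -((n + 1 : ℕ) : ℤ) + 1 = -(n : ℤ) by push_cast; ring]
      exact ih
    exact IsNPC.obj₃ hsum hqs hql _ hS.singleTriangle hS.singleTriangle_distinguished h₁
      (isNPC_single_of_prop hE _)

lemma FP_of_isNPC : ∀ (n : ℕ) (F : C),
    IsNPC P (-(n : ℤ)) ((DerivedCategory.singleFunctor C 0).obj F) → FP P n F
  | 0, F, h => finiteType_of_single hqs (by simpa using h)
  | n + 1, F, h => by
    obtain ⟨E, π, hE, hπ⟩ := finiteType_of_single hqs
      (h.mono (by have : (0 : ℤ) ≤ ((n + 1 : ℕ) : ℤ) := Int.natCast_nonneg _; omega))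
    have := hπ
    refine ⟨E, π, hE, hπ, FP_of_isNPC n (kernel π) ?_⟩
    have hS := kernel_shortExact π
    have h₁ := IsNPC.obj₁ hsum hqs hql (-((n + 1 : ℕ) : ℤ)) hS.singleTriangle
      hS.singleTriangle_distinguished (isNPC_single_of_prop hE _) h
    rw [show -((n + 1 : ℕ) : ℤ) + 1 = -(n : ℤ) by push_cast; ring] at h₁
    exact h₁

/-- `F` has a presentation of length `n + 1` by members of `P` iff `F` in degree `0` is
`(-n)`-pseudo-coherent -/
theorem CC_iff_isNPC (n : ℕ) (F : C) :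
    CC P n F ↔ IsNPC P (-(n : ℤ)) ((DerivedCategory.singleFunctor C 0).obj F) := by
  constructor
  · rintro ⟨K, ⟨e⟩, hex, -, hP⟩
    exact isNPC_of_FP hsum hqs hql n F (FP.of_iso n e (FP_of_complex n K hex hP))
  · intro h
    exact CC_of_FP n F (FP_of_isNPC hsum hqs hql n F h)

end

end Groth.Agent.H33.PCoh
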