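import Groth.Agent.H33.PCohTerm
import Groth.Agent.S5617

/-! Pseudo-coherence over an abelian category (SGA 6 I): behaviour under a triangulated functor
between derived categories with bounded amplitude (helper33). -/

set_option autoImplicit false
universe w v u w' v' u'

namespace Groth.Agent.H33.PCoh

open CategoryTheory CategoryTheory.Limits CategoryTheory.Pretriangulated CochainComplex
open ZeroObject

section TopSES

variable {C : Type u} [Category.{v} C] [Abelian C]

/-- split off the top term of a bounded above complex -/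
lemma exists_top_ses (F : CochainComplex C ℤ) (t : ℤ) (hbt : ∀ i, t < i → IsZero (F.X i)) :
    ∃ (G : CochainComplex C ℤ) (φ : (CochainComplex.singleFunctor C t).obj (F.X t) ⟶ F)
      (π : F ⟶ G) (w : φ ≫ π = 0), (ShortComplex.mk φ π w).ShortExact ∧ IsZero (G.X t) ∧
        ∀ i, i ≠ t → IsIso (π.f i) := by
  obtain ⟨φ, hφ⟩ : ∃ φ : (CochainComplex.singleFunctor C t).obj (F.X t) ⟶ F,
      φ.f t = (HomologicalComplex.singleObjXSelf (ComplexShape.up ℤ) t (F.X t)).hom :=
    ⟨HomologicalComplex.mkHomFromSingle (𝟙 (F.X t)) (fun k hk => (hbt k (by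
      have : t + 1 = k := hk
      omega)).eq_of_tgt _ _), by
      rw [HomologicalComplex.mkHomFromSingle_f, Category.comp_id]⟩
  have hSz : ∀ i, i ≠ t → IsZero (((CochainComplex.singleFunctor C t).obj (F.X t)).X i) :=
    fun i hi => HomologicalComplex.isZero_single_obj_X (ComplexShape.up ℤ) t (F.X t) i hi
  have hφf : ∀ i, Mono (φ.f i) := fun i => by
    by_cases hi : i = t
    · rw [hi, hφ]; infer_instance
    · exact ⟨fun g h _ => (hSz i hi).eq_of_tgt _ _⟩
  have hφmono : Mono φ := HomologicalComplex.mono_of_mono_f φ hφf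
  have hS : (ShortComplex.mk φ (cokernel.π φ) (cokernel.condition φ)).ShortExact :=
    ShortComplex.ShortExact.mk'
      (ShortComplex.exact_of_g_is_cokernel _ (cokernelIsCokernel φ))
      (by dsimp; infer_instance) (by dsimp; infer_instance)
  have hex := fun i : ℤ => hS.map_of_exact (HomologicalComplex.eval C (ComplexShape.up ℤ) i)
  have hπiso : ∀ i, i ≠ t → IsIso ((cokernel.π φ).f i) := fun i hi => by
    have h0 : φ.f i = 0 := (hSz i hi).eq_of_src _ _
    have hm : Mono ((cokernel.π φ).f i) := (hex i).exact.mono_g h0
    have he : Epi ((cokernel.π φ).f i) := (hex i).epi_g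
    exact isIso_of_mono_of_epi _
  have hzt : IsZero ((cokernel φ).X t) := by
    have hiso : IsIso (φ.f t) := by rw [hφ]; infer_instance
    have hg0 : (cokernel.π φ).f t = 0 :=
      (hex t).exact.epi_f_iff.1 (show Epi (φ.f t) from inferInstance)
    have he : Epi ((cokernel.π φ).f t) := (hex t).epi_g
    exact IsZero.of_epi_eq_zero _ hg0
  exact ⟨cokernel φ, φ, cokernel.π φ, cokernel.condition φ, hS, hzt, hπiso⟩

end TopSES

section Fun

variable {C : Type u} [Category.{v} C] [Abelian C] [HasDerivedCategory.{w} C]
  {C' : Type u'} [Category.{v'} C'] [Abelian C'] [HasDerivedCategory.{w'} C']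
  (u : DerivedCategory C ⥤ DerivedCategory C') [u.CommShift ℤ]

/-- a functor of cohomological amplitude `≤ b` on objects acyclic in positive degrees has
amplitude `≤ b` on all bounded above objects -/
lemma isZero_homology_map_of_bound (b : ℤ)
    (hii : ∀ F : DerivedCategory C,
      (∀ i : ℤ, 0 < i → IsZero ((DerivedCategory.homologyFunctor C i).obj F)) →
      ∀ i : ℤ, b < i → IsZero ((DerivedCategory.homologyFunctor C' i).obj (u.obj F)))
    (k : ℤ) (G : DerivedCategory C)
    (hG : ∀ i : ℤ, k < i → IsZero ((DerivedCategory.homologyFunctor C i).obj G)) :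
    ∀ j : ℤ, k + b < j → IsZero ((DerivedCategory.homologyFunctor C' j).obj (u.obj G)) := by
  intro j hj
  have h1 : ∀ i : ℤ, 0 < i → IsZero ((DerivedCategory.homologyFunctor C i).obj
      ((CategoryTheory.shiftFunctor (DerivedCategory C) k).obj G)) := by
    intro i hi
    have e0 : (DerivedCategory.homologyFunctor C i).obj
        ((CategoryTheory.shiftFunctor (DerivedCategory C) k).obj G) ≅
        (DerivedCategory.homologyFunctor C (k + i)).obj G :=
      ((DerivedCategory.homologyFunctor C 0).shiftIso k i (k + i) rfl).app G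
    exact IsZero.of_iso (hG (k + i) (by omega)) e0
  have h2 := hii ((CategoryTheory.shiftFunctor (DerivedCategory C) k).obj G) h1 (j - k) (by omega)
  have e1 : (DerivedCategory.homologyFunctor C' (j - k)).obj
      (u.obj ((CategoryTheory.shiftFunctor (DerivedCategory C) k).obj G)) ≅
      (DerivedCategory.homologyFunctor C' (j - k)).obj
        ((CategoryTheory.shiftFunctor (DerivedCategory C') k).obj (u.obj G)) :=
    (DerivedCategory.homologyFunctor C' (j - k)).mapIso ((u.commShiftIso k).app G)
  have e2 : (DerivedCategory.homologyFunctor C' (j - k)).obj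
      ((CategoryTheory.shiftFunctor (DerivedCategory C') k).obj (u.obj G)) ≅
      (DerivedCategory.homologyFunctor C' j).obj (u.obj G) :=
    ((DerivedCategory.homologyFunctor C' 0).shiftIso k (j - k) j (by omega)).app (u.obj G)
  exact IsZero.of_iso h2 (e2.symm ≪≫ e1.symm)

/-- the image of an object placed in degree `t` -/
lemma isNPC_map_single (P' : ObjectProperty C') {a : ℤ} {E : C}
    (h : IsNPC P' a (u.obj ((DerivedCategory.singleFunctor C 0).obj E))) (t : ℤ) :
    IsNPC P' (a + t) (u.obj ((DerivedCategory.singleFunctor C t).obj E)) := by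
  have h' := h.shift (-t)
  rw [show a - (-t) = a + t by ring] at h'
  have e1 : (CategoryTheory.shiftFunctor (DerivedCategory C') (-t)).obj
      (u.obj ((DerivedCategory.singleFunctor C 0).obj E)) ≅
      u.obj ((CategoryTheory.shiftFunctor (DerivedCategory C) (-t)).obj
        ((DerivedCategory.singleFunctor C 0).obj E)) :=
    ((u.commShiftIso (-t)).app ((DerivedCategory.singleFunctor C 0).obj E)).symm
  have e2 : (CategoryTheory.shiftFunctor (DerivedCategory C) (-t)).obj
      ((DerivedCategory.singleFunctor C 0).obj E) ≅ (DerivedCategory.singleFunctor C t).obj E :=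
    ((DerivedCategory.singleFunctors C).shiftIso (-t) t 0 (by omega)).app E
  exact h'.of_iso (e1 ≪≫ u.mapIso e2)

/-- image under a triangulated functor of bounded amplitude of a bounded above complex with
terms in `P` in degrees `≥ m` -/
theorem isNPC_map_of_terms [u.IsTriangulated] (P : ObjectProperty C)
    [P.IsClosedUnderIsomorphisms] [P.ContainsZero] (P' : ObjectProperty C')
    [P'.IsClosedUnderIsomorphisms] [P'.ContainsZero]
    (hsum' : ∀ X Y : C', P' X → P' Y → P' (X ⨯ Y))
    (hqs' : _root_.PCoh.IsQuasiStableUnderKernels P') (hql' : _root_.PCoh.IsQuasiLiftable P')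
    (a b : ℤ)
    (hi : ∀ E : C, P E → IsNPC P' a (u.obj ((DerivedCategory.singleFunctor C 0).obj E)))
    (hii : ∀ F : DerivedCategory C,
      (∀ i : ℤ, 0 < i → IsZero ((DerivedCategory.homologyFunctor C i).obj F)) →
      ∀ i : ℤ, b < i → IsZero ((DerivedCategory.homologyFunctor C' i).obj (u.obj F)))
    (m N : ℤ) (hN : m + b ≤ N) :
    ∀ (d : ℕ) (E : CochainComplex C ℤ), (∀ i, m - 1 + d < i → IsZero (E.X i)) →
      (∀ i, m ≤ i → P (E.X i)) → (m - 1 + d) + a ≤ N →
      IsNPC P' N (u.obj (DerivedCategory.Q.obj E)) := by
  intro d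
  induction d with
  | zero =>
    intro E hb _ _
    refine isNPC_of_isZero_homology N _ (fun i hi' => ?_)
    refine isZero_homology_map_of_bound u b hii (m - 1) (DerivedCategory.Q.obj E)
      (fun j hj => ?_) i (by omega)
    have hz : IsZero (E.homology j) :=
      (E.exactAt_iff_isZero_homology j).1
        (HomologicalComplex.ExactAt.of_isZero (hb j (by push_cast; omega)))
    exact IsZero.of_iso hz ((DerivedCategory.homologyFunctorFactors C j).app E)
  | succ d ih =>
    intro E hb hP hNa
    obtain ⟨t, ht⟩ : ∃ t : ℤ, t = m + d := ⟨_, rfl⟩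
    have hbt : ∀ i, t < i → IsZero (E.X i) := fun i hi => hb i (by push_cast; omega)
    obtain ⟨G, φ, π, w, hS, hzt, hπiso⟩ := exists_top_ses E t hbt
    have h'' : IsNPC P' N (u.obj (DerivedCategory.Q.obj G)) := by
      refine ih G (fun i hi' => ?_) (fun i hi' => ?_) (by push_cast at hNa; omega)
      · by_cases hit : i = t
        · rw [hit]; exact hzt
        · have := hπiso i hit
          exact IsZero.of_iso (hbt i (by omega)) (asIso (π.f i)).symm
      · by_cases hit : i = t
        · rw [hit]; exact P.prop_of_isZero hzt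
        · have := hπiso i hit
          exact P.prop_of_iso (asIso (π.f i)) (hP i hi')
    have h' : IsNPC P' N (u.obj (DerivedCategory.Q.obj
        ((CochainComplex.singleFunctor C t).obj (E.X t)))) := by
      have h := isNPC_map_single u P' (hi (E.X t) (hP t (by omega))) t
      exact (h.mono (by push_cast at hNa; omega)).of_iso
        (u.mapIso ((DerivedCategory.singleFunctorIsoCompQ C t).app (E.X t)))
    exact IsNPC.obj₂ hsum' hqs' hql' N _
      (u.map_distinguished _ (DerivedCategory.triangleOfSES_distinguished hS)) h' h''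

end Fun

end Groth.Agent.H33.PCoh
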