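import Groth.Agent.H33.PCohDer
import Mathlib.CategoryTheory.Functor.OfSequence
import Mathlib.CategoryTheory.Limits.Constructions.EventuallyConstant
import Mathlib.Algebra.Homology.HomologicalComplexLimits

/-! Pseudo-coherence over an abelian category (SGA 6 I): the infinite descending construction of a
strictly pseudo-coherent resolution, as a colimit of a degreewise eventually constant sequence
(helper33). -/

set_option autoImplicit false
universe w v u

namespace Groth.Agent.H33.PCoh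

open CategoryTheory CategoryTheory.Limits CochainComplex
open ZeroObject

lemma ofSequence_map_induction {D : Type*} [Category D] {X : ℕ → D} (f : ∀ n, X n ⟶ X (n + 1))
    (W : ∀ ⦃A B : D⦄, (A ⟶ B) → Prop) (hid : ∀ A : D, W (𝟙 A))
    (hcomp : ∀ ⦃A B C' : D⦄ (g : A ⟶ B) (h : B ⟶ C'), W g → W h → W (g ≫ h))
    (d₀ : ℕ) (hf : ∀ d, d₀ ≤ d → W (f d)) {j : ℕ} (φ : d₀ ⟶ j) :
    W ((Functor.ofSequence f).map φ) := by
  obtain ⟨k, rfl⟩ := Nat.exists_eq_add_of_le (leOfHom φ)
  induction k with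
  | zero =>
    have h : φ = 𝟙 _ := Subsingleton.elim _ _
    rw [h, CategoryTheory.Functor.map_id]
    exact hid _
  | succ k ih =>
    have h : φ = homOfLE (Nat.le_add_right d₀ k) ≫ homOfLE (Nat.le_add_right (d₀ + k) 1) :=
      Subsingleton.elim _ _
    rw [h, CategoryTheory.Functor.map_comp, Functor.ofSequence_map_homOfLE_succ]
    exact hcomp _ _ (ih _) (hf _ (Nat.le_add_right _ _))

variable {C : Type u} [Category.{v} C] [Abelian C]

/-- the cocone of a compatible family of maps out of a sequence -/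
noncomputable def seqCocone {X : CochainComplex C ℤ} (Es : ℕ → CochainComplex C ℤ)
    (f : ∀ d, Es d ⟶ Es (d + 1)) (us : ∀ d, Es d ⟶ X)
    (hfu : ∀ d, f d ≫ us (d + 1) = us d) : Cocone (Functor.ofSequence f) where
  pt := X
  ι := NatTrans.ofSequence (F := Functor.ofSequence f) (G := (Functor.const ℕ).obj X)
    (fun d => us d) (fun d => by
      rw [Functor.ofSequence_map_homOfLE_succ]
      exact (hfu d).trans (Category.comp_id _).symm)

/-- colimit of a degreewise eventually constant sequence of better and better approximations -/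
lemma exists_colimit_of_sequence {X : CochainComplex C ℤ} (m : ℤ)
    (Es : ℕ → CochainComplex C ℤ) (f : ∀ d, Es d ⟶ Es (d + 1)) (us : ∀ d, Es d ⟶ X)
    (hfu : ∀ d, f d ≫ us (d + 1) = us d) (hfm : ∀ (d : ℕ) (i : ℤ), Mono ((f d).f i))
    (hfi : ∀ (d : ℕ) (i : ℤ), i ≠ m - d - 1 → IsIso ((f d).f i))
    (hu : ∀ d : ℕ, IsNQI (m - d) (us d)) :
    ∃ (E' : CochainComplex C ℤ) (ι : Es 0 ⟶ E') (u' : E' ⟶ X), ι ≫ u' = us 0 ∧
      (∀ i, Mono (ι.f i)) ∧ (∀ i, m ≤ i → IsIso (ι.f i)) ∧ QuasiIso u' ∧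
      ∀ i : ℤ, ∃ d : ℕ, Nonempty (E'.X i ≅ (Es d).X i) := by
  have hconst : ∀ i : ℤ, (Functor.ofSequence f ⋙
      HomologicalComplex.eval C (ComplexShape.up ℤ) i).IsEventuallyConstantFrom
        (m - i).toNat := by
    intro i j φ
    show IsIso (((Functor.ofSequence f).map φ).f i)
    refine ofSequence_map_induction f (fun A B g => IsIso (g.f i)) (fun A => ?_)
      (fun A B C' g h hg hh => ?_) _ (fun d hd => hfi d i ?_) φ
    · rw [HomologicalComplex.id_f]; infer_instance
    · rw [HomologicalComplex.comp_f]; infer_instance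
    · have := Int.self_le_toNat (m - i); omega
  have hmono : ∀ (i : ℤ) (d : ℕ) {j : ℕ} (φ : d ⟶ j),
      Mono (((Functor.ofSequence f).map φ).f i) := by
    intro i d j φ
    refine ofSequence_map_induction f (fun A B g => Mono (g.f i)) (fun A => ?_)
      (fun A B C' g h hg hh => ?_) d (fun d' _ => hfm d' i) φ
    · rw [HomologicalComplex.id_f]; infer_instance
    · rw [HomologicalComplex.comp_f]; exact mono_comp _ _
  have hcol : ∀ i : ℤ, HasColimit (Functor.ofSequence f ⋙
      HomologicalComplex.eval C (ComplexShape.up ℤ) i) := fun i => (hconst i).hasColimit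
  have hιiso : ∀ (i : ℤ) (d : ℕ), (m - i).toNat ≤ d →
      IsIso ((colimit.ι (Functor.ofSequence f) d).f i) := fun i d hd =>
    (hconst i).isIso_ι_of_isColimit' (isColimitOfPreserves
      (HomologicalComplex.eval C (ComplexShape.up ℤ) i)
      (colimit.isColimit (Functor.ofSequence f))) d (homOfLE hd)
  obtain ⟨u', hdesc⟩ : ∃ u' : colimit (Functor.ofSequence f) ⟶ X,
      ∀ d, colimit.ι (Functor.ofSequence f) d ≫ u' = us d :=
    ⟨colimit.desc (Functor.ofSequence f) (seqCocone Es f us hfu),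
      fun d => colimit.ι_desc (seqCocone Es f us hfu) d⟩
  have hq : QuasiIso u' := by
    rw [quasiIso_iff]
    intro i
    rw [quasiIsoAt_iff_isIso_homologyMap]
    obtain ⟨d, hd0, hd1, hd2, hd3⟩ : ∃ d : ℕ, (m - (i - 1)).toNat ≤ d ∧ (m - i).toNat ≤ d ∧
        (m - (i + 1)).toNat ≤ d ∧ m - (d : ℤ) < i :=
      ⟨(m - (i - 1)).toNat + 1, by omega, by omega, by omega, by
        have := Int.self_le_toNat (m - (i - 1)); push_cast; omega⟩
    have h1 : IsIso (HomologicalComplex.homologyMap (colimit.ι (Functor.ofSequence f) d) i) :=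
      isIso_homologyMap_of_isIso_f _ i (hιiso (i - 1) d hd0) (hιiso i d hd1)
        (hιiso (i + 1) d hd2)
    obtain ⟨hu1, -⟩ := hu d
    have h2 : IsIso (HomologicalComplex.homologyMap (us d) i) := hu1 i hd3
    have h3 : HomologicalComplex.homologyMap (colimit.ι (Functor.ofSequence f) d) i ≫
        HomologicalComplex.homologyMap u' i =
        HomologicalComplex.homologyMap (us d) i := by
      rw [← HomologicalComplex.homologyMap_comp, hdesc]
      rfl
    exact @IsIso.of_isIso_fac_left _ _ _ _ _ _ _ _ h1 h2 h3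
  refine ⟨colimit (Functor.ofSequence f), colimit.ι (Functor.ofSequence f) 0,
    u', hdesc 0, fun i => ?_, fun i hi => ?_, hq, fun i => ?_⟩
  · have hw := colimit.w (Functor.ofSequence f) (homOfLE (Nat.zero_le (m - i).toNat))
    rw [← hw, HomologicalComplex.comp_f]
    have h1 := hmono i 0 (homOfLE (Nat.zero_le (m - i).toNat))
    have h2 := hιiso i _ (le_refl (m - i).toNat)
    exact mono_comp' h1 inferInstance
  · exact hιiso i 0 (by omega)
  · have h2 := hιiso i _ (le_refl (m - i).toNat)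
    exact ⟨(m - i).toNat, ⟨(asIso ((colimit.ι (Functor.ofSequence f)
      (m - i).toNat).f i)).symm⟩⟩

/-- a stage of the infinite construction -/
structure Stage (P : ObjectProperty C) (X : CochainComplex C ℤ) (m B : ℤ) (d : ℕ) where
  E : CochainComplex C ℤ
  u : E ⟶ X
  hu : IsNQI (m - d) u
  hP : ∀ i, P (E.X i)
  hb : ∀ i, B < i → IsZero (E.X i)

section

variable [HasDerivedCategory.{w} C] {P : ObjectProperty C} [P.IsClosedUnderIsomorphisms]
  [P.ContainsZero]
  (hsum : ∀ X Y : C, P X → P Y → P (X ⨯ Y)) (hqs : _root_.PCoh.IsQuasiStableUnderKernels P)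
  (hql : _root_.PCoh.IsQuasiLiftable P)

include hsum hqs hql

lemma Stage.exists_next {X : CochainComplex C ℤ} {m B : ℤ}
    (hX : ∀ k, IsNPC P k (DerivedCategory.Q.obj X)) (hB : m - 1 ≤ B) {d : ℕ}
    (s : Stage P X m B d) :
    ∃ (s' : Stage P X m B (d + 1)) (ι : s.E ⟶ s'.E), ι ≫ s'.u = s.u ∧ (∀ i, Mono (ι.f i)) ∧
      (∀ i, i ≠ m - d - 1 → IsIso (ι.f i)) := by
  obtain ⟨k, hk⟩ : ∃ k : ℤ, k = m - d - 1 := ⟨_, rfl⟩
  have hk1 : m - (d : ℤ) = k + 1 := by omega
  have hu : IsNQI (k + 1) s.u := by rw [← hk1]; exact s.hu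
  have hE : IsNPC P (k + 1) (DerivedCategory.Q.obj s.E) :=
    ⟨s.E, ⟨⟨B, s.hb⟩, fun i _ => s.hP i⟩, ⟨Iso.refl _⟩⟩
  have hcone := finiteType_cone hsum hqs hql k s.u hu hE (hX k)
  obtain ⟨E₁, ι₁, u₁, hfac₁, hm₁, hiso₁, hPk, hu₁⟩ := improve P hsum hql k s.u hu hcone
  have hu₁' : IsNQI (m - ((d + 1 : ℕ) : ℤ)) u₁ := by
    have h : m - ((d + 1 : ℕ) : ℤ) = k := by omega
    rw [h]; exact hu₁
  refine ⟨⟨E₁, u₁, hu₁', fun i => ?_, fun i hi => ?_⟩, ι₁, hfac₁, hm₁,
    fun i hi => hiso₁ i (by rw [hk]; exact hi)⟩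
  · by_cases hik : i = k
    · rw [hik]; exact hPk (s.hP k)
    · have := hiso₁ i hik
      exact P.prop_of_iso (asIso (ι₁.f i)) (s.hP i)
  · have hik : i ≠ k := by omega
    have := hiso₁ i hik
    exact IsZero.of_iso (s.hb i hi) (asIso (ι₁.f i)).symm

/-- **Infinite descending induction**: an `m`-quasi-isomorphism from a strictly pseudo-coherent
complex to a complex with pseudo-coherent image extends to a quasi-isomorphism from a strictly
pseudo-coherent complex, without changing degrees `≥ m`. -/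
theorem exists_strictPCAll_qis (X : CochainComplex C ℤ)
    (hX : ∀ k, IsNPC P k (DerivedCategory.Q.obj X)) (m : ℤ) (E₀ : CochainComplex C ℤ)
    (u₀ : E₀ ⟶ X) (hu₀ : IsNQI m u₀) (hE₀ : _root_.PCoh.IsStrictPCAll P E₀) :
    ∃ (E' : CochainComplex C ℤ) (ι : E₀ ⟶ E') (u' : E' ⟶ X), ι ≫ u' = u₀ ∧
      (∀ i, Mono (ι.f i)) ∧ (∀ i, m ≤ i → IsIso (ι.f i)) ∧ _root_.PCoh.IsStrictPCAll P E' ∧
      QuasiIso u' := by
  obtain ⟨⟨b, hb⟩, hP₀⟩ := hE₀
  obtain ⟨B, hB1, hB2⟩ : ∃ B : ℤ, b ≤ B ∧ m - 1 ≤ B :=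
    ⟨max b (m - 1), le_max_left _ _, le_max_right _ _⟩
  have hu₀' : IsNQI (m - ((0 : ℕ) : ℤ)) u₀ := by
    have h : m - ((0 : ℕ) : ℤ) = m := by simp
    rw [h]; exact hu₀
  let s₀ : Stage P X m B 0 :=
    { E := E₀, u := u₀, hu := hu₀', hP := hP₀, hb := fun i hi => hb i (by omega) }
  choose nxt ι hι using (fun (d : ℕ) (s : Stage P X m B d) =>
    s.exists_next hsum hqs hql hX hB2)
  obtain ⟨stg, f, j, hj, hju, hf⟩ : ∃ (stg : ∀ d, Stage P X m B d)
      (f : ∀ d, (stg d).E ⟶ (stg (d + 1)).E) (j : E₀ ⟶ (stg 0).E), IsIso j ∧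
      j ≫ (stg 0).u = u₀ ∧ ∀ d, f d ≫ (stg (d + 1)).u = (stg d).u ∧
        (∀ i, Mono ((f d).f i)) ∧ (∀ i, i ≠ m - d - 1 → IsIso ((f d).f i)) :=
    ⟨fun d => Nat.rec s₀ (fun d s => nxt d s) d, fun d => ι d _, 𝟙 E₀, inferInstance,
      Category.id_comp _, fun d => hι d _⟩
  obtain ⟨E', ι', u', hfac, hm', hiso', hq, hX'⟩ := exists_colimit_of_sequence m
    (fun d => (stg d).E) f (fun d => (stg d).u) (fun d => (hf d).1) (fun d i => (hf d).2.1 i)
    (fun d i hi => (hf d).2.2 i hi) (fun d => (stg d).hu)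
  have hjf : ∀ i, IsIso (j.f i) := fun i =>
    (inferInstance : IsIso ((HomologicalComplex.eval C (ComplexShape.up ℤ) i).map j))
  refine ⟨E', j ≫ ι', u', by rw [Category.assoc, hfac, hju], fun i => ?_, fun i hi => ?_,
    ⟨⟨B, fun i hi => ?_⟩, fun i => ?_⟩, hq⟩
  · rw [HomologicalComplex.comp_f]
    have := hjf i
    have := hm' i
    exact mono_comp _ _
  · rw [HomologicalComplex.comp_f]
    have := hjf i
    have := hiso' i hi
    infer_instance
  · obtain ⟨d, ⟨e⟩⟩ := hX' i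
    exact IsZero.of_iso ((stg d).hb i hi) e
  · obtain ⟨d, ⟨e⟩⟩ := hX' i
    exact P.prop_of_iso e.symm ((stg d).hP i)

/-- strictly pseudo-coherent resolution of a complex with pseudo-coherent image, acyclic in
degrees `≥ m` -/
theorem exists_strictPCAll_of_isZero_homology (X : CochainComplex C ℤ)
    (hX : ∀ k, IsNPC P k (DerivedCategory.Q.obj X)) (m : ℤ)
    (h : ∀ i, m ≤ i → IsZero (X.homology i)) :
    ∃ (E' : CochainComplex C ℤ) (u' : E' ⟶ X), _root_.PCoh.IsStrictPCAll P E' ∧ QuasiIso u' ∧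
      ∀ i, m ≤ i → IsZero (E'.X i) := by
  obtain ⟨E', ι, u', hfac, hm, hiso, hE', hq⟩ := exists_strictPCAll_qis hsum hqs hql X hX m 0 0
    (isNQI_zero_of_isZero_homology X m h)
    ⟨⟨0, fun i _ => isZero_zero_X i⟩, fun i => P.prop_of_isZero (isZero_zero_X i)⟩
  refine ⟨E', u', hE', hq, fun i hi => ?_⟩
  have := hiso i hi
  exact IsZero.of_iso (isZero_zero_X i) (asIso (ι.f i)).symm

/-- a complex quasi-isomorphic to a strictly pseudo-coherent one receives a quasi-isomorphism from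
a strictly pseudo-coherent one -/
theorem exists_strictPCAll_resolution {X E : CochainComplex C ℤ}
    (hE : _root_.PCoh.IsStrictPCAll P E) (s : X ⟶ E) (hs : QuasiIso s) :
    ∃ (E' : CochainComplex C ℤ) (t : E' ⟶ X), _root_.PCoh.IsStrictPCAll P E' ∧ QuasiIso t := by
  obtain ⟨⟨b, hb⟩, hP⟩ := hE
  have : IsIso (DerivedCategory.Q.map s) := (DerivedCategory.isIso_Q_map_iff_quasiIso _ _).2 hs
  have hX : ∀ k, IsNPC P k (DerivedCategory.Q.obj X) := fun k =>
    ⟨E, ⟨⟨b, hb⟩, fun i _ => hP i⟩, ⟨(asIso (DerivedCategory.Q.map s)).symm⟩⟩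
  have hXh : ∀ i, b + 1 ≤ i → IsZero (X.homology i) := fun i hi => by
    refine IsZero.of_iso ?_ (asIso (HomologicalComplex.homologyMap s i))
    rw [← HomologicalComplex.exactAt_iff_isZero_homology]
    exact ShortComplex.exact_of_isZero_X₂ _ (hb i (by omega))
  obtain ⟨E', t, hE', ht, -⟩ := exists_strictPCAll_of_isZero_homology hsum hqs hql X hX (b + 1) hXh
  exact ⟨E', t, hE', ht⟩

end

/-- equality in the derived category gives a homotopy after precomposition by a
quasi-isomorphism -/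
lemma exists_qis_homotopy [HasDerivedCategory.{w} C] {E E' : CochainComplex C ℤ} (f g : E ⟶ E')
    (hfg : DerivedCategory.Q.map f = DerivedCategory.Q.map g) :
    ∃ (X' : CochainComplex C ℤ) (s : X' ⟶ E), QuasiIso s ∧
      Nonempty (Homotopy (s ≫ f) (s ≫ g)) := by
  have h : DerivedCategory.Qh.map ((HomotopyCategory.quotient C (ComplexShape.up ℤ)).map f) =
      DerivedCategory.Qh.map ((HomotopyCategory.quotient C (ComplexShape.up ℤ)).map g) := by
    rw [← cancel_mono ((DerivedCategory.quotientCompQhIso C).hom.app E'),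
      DerivedCategory.quotientCompQhIso_hom_naturality,
      DerivedCategory.quotientCompQhIso_hom_naturality, hfg]
  rw [MorphismProperty.map_eq_iff_precomp DerivedCategory.Qh
    (HomotopyCategory.quasiIso C (ComplexShape.up ℤ))] at h
  obtain ⟨Z, s, hs, hsfg⟩ := h
  obtain ⟨X', rfl⟩ := HomotopyCategory.quotient_obj_surjective Z
  obtain ⟨s, rfl⟩ := (HomotopyCategory.quotient _ _).map_surjective s
  rw [HomotopyCategory.quotient_map_mem_quasiIso_iff, HomologicalComplex.mem_quasiIso_iff] at hs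
  refine ⟨X', s, hs, ⟨HomotopyCategory.homotopyOfEq _ _ ?_⟩⟩
  rw [Functor.map_comp, Functor.map_comp]
  exact hsfg

end Groth.Agent.H33.PCoh
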