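import Groth.Agent.H33.PCohInf
import Groth.Agent.H33.PCohCoh
import Groth.Agent.H28.PerfBiprod
import Mathlib.Algebra.Category.ModuleCat.Projective
import Mathlib.Algebra.Category.ModuleCat.Biproducts
import Mathlib.Algebra.Category.ModuleCat.ChangeOfRings
import Mathlib.Algebra.Category.ModuleCat.EpiMono
import Mathlib.Algebra.Homology.DerivedCategory.ExactFunctor
import Mathlib.LinearAlgebra.Finsupp.VectorSpace
import Mathlib.RingTheory.Finiteness.Basic

/-! Pseudo-coherence for modules over a (possibly non-commutative) ring: the class of finite free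
modules, the infinite construction with a finiteness hypothesis on cones, and descent of
pseudo-coherence along a finite free algebra `A → R` (helper33). -/

set_option autoImplicit false
universe w v u

open CategoryTheory CategoryTheory.Limits CategoryTheory.Pretriangulated CochainComplex
open ZeroObject

namespace Groth.Agent.H33.PCoh

section Gen

variable {C : Type u} [Category.{v} C] [Abelian C] {P : ObjectProperty C}
  [P.IsClosedUnderIsomorphisms] [P.ContainsZero]
  (hsum : ∀ X Y : C, P X → P Y → P (X ⨯ Y)) (hql : _root_.PCoh.IsQuasiLiftable P)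

include hsum hql

/-- `Stage.exists_next` with the finiteness of the cones as hypothesis -/
lemma Stage.exists_next' {X : CochainComplex C ℤ} {m B : ℤ}
    (hcone : ∀ (k : ℤ) (E : CochainComplex C ℤ) (u : E ⟶ X), IsNQI (k + 1) u →
      _root_.PCoh.IsStrictPCAll P E → _root_.PCoh.IsOfFiniteType P ((mappingCone u).homology k))
    (hB : m - 1 ≤ B) {d : ℕ} (s : Stage P X m B d) :
    ∃ (s' : Stage P X m B (d + 1)) (ι : s.E ⟶ s'.E), ι ≫ s'.u = s.u ∧ (∀ i, Mono (ι.f i)) ∧
      (∀ i, i ≠ m - d - 1 → IsIso (ι.f i)) := by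
  obtain ⟨k, hk⟩ : ∃ k : ℤ, k = m - d - 1 := ⟨_, rfl⟩
  have hk1 : m - (d : ℤ) = k + 1 := by omega
  have hu : IsNQI (k + 1) s.u := by rw [← hk1]; exact s.hu
  have hc := hcone k s.E s.u hu ⟨⟨B, s.hb⟩, s.hP⟩
  obtain ⟨E₁, ι₁, u₁, hfac₁, hm₁, hiso₁, hPk, hu₁⟩ := improve P hsum hql k s.u hu hc
  have hu₁' : IsNQI (m - ((d + 1 : ℕ) : ℤ)) u₁ := by
    have h : m - ((d + 1 : ℕ) : ℤ) = k := by omega
    rw [h]; exact hu₁
  refine ⟨⟨E₁, u₁, hu₁', fun i => ?_, fun i hi => ?_⟩, ι₁, hfac₁, hm₁,
    fun i hi => hiso₁ i (by rw [hk]; exact hi)⟩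
  · by_cases hik : i = k
    · rw [hik]; exact hPk (s.hP k)
    · have := hiso₁ i hik
      exact P.prop_of_iso (asIso (ι₁.f i)) (s.hP i)
  · have hik : i ≠ k := by omega
    have := hiso₁ i hik
    exact IsZero.of_iso (s.hb i hi) (asIso (ι₁.f i)).symm

/-- infinite descending induction, with the finiteness of the cones as hypothesis -/
theorem exists_strictPCAll_qis' (X : CochainComplex C ℤ)
    (hcone : ∀ (k : ℤ) (E : CochainComplex C ℤ) (u : E ⟶ X), IsNQI (k + 1) u →
      _root_.PCoh.IsStrictPCAll P E → _root_.PCoh.IsOfFiniteType P ((mappingCone u).homology k))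
    (m : ℤ) (E₀ : CochainComplex C ℤ)
    (u₀ : E₀ ⟶ X) (hu₀ : IsNQI m u₀) (hE₀ : _root_.PCoh.IsStrictPCAll P E₀) :
    ∃ (E' : CochainComplex C ℤ) (ι : E₀ ⟶ E') (u' : E' ⟶ X), ι ≫ u' = u₀ ∧
      (∀ i, Mono (ι.f i)) ∧ (∀ i, m ≤ i → IsIso (ι.f i)) ∧ _root_.PCoh.IsStrictPCAll P E' ∧
      QuasiIso u' := by
  obtain ⟨⟨b, hb⟩, hP₀⟩ := hE₀
  obtain ⟨B, hB1, hB2⟩ : ∃ B : ℤ, b ≤ B ∧ m - 1 ≤ B :=
    ⟨max b (m - 1), le_max_left _ _, le_max_right _ _⟩
  have hu₀' : IsNQI (m - ((0 : ℕ) : ℤ)) u₀ := by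
    have h : m - ((0 : ℕ) : ℤ) = m := by simp
    rw [h]; exact hu₀
  let s₀ : Stage P X m B 0 :=
    { E := E₀, u := u₀, hu := hu₀', hP := hP₀, hb := fun i hi => hb i (by omega) }
  choose nxt ι hι using (fun (d : ℕ) (s : Stage P X m B d) =>
    s.exists_next' hsum hql hcone hB2)
  obtain ⟨stg, f, j, hj, hju, hf⟩ : ∃ (stg : ∀ d, Stage P X m B d)
      (f : ∀ d, (stg d).E ⟶ (stg (d + 1)).E) (j : E₀ ⟶ (stg 0).E), IsIso j ∧
      j ≫ (stg 0).u = u₀ ∧ ∀ d, f d ≫ (stg (d + 1)).u = (stg d).u ∧
        (∀ i, Mono ((f d).f i)) ∧ (∀ i, i ≠ m - d - 1 → IsIso ((f d).f i)) :=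
    ⟨fun d => Nat.rec s₀ (fun d s => nxt d s) d, fun d => ι d _, 𝟙 E₀, inferInstance,
      Category.id_comp _, fun d => hι d _⟩
  obtain ⟨E', ι', u', hfac, hm', hiso', hq, hX'⟩ := exists_colimit_of_sequence m
    (fun d => (stg d).E) f (fun d => (stg d).u) (fun d => (hf d).1) (fun d i => (hf d).2.1 i)
    (fun d i hi => (hf d).2.2 i hi) (fun d => (stg d).hu)
  have hjf : ∀ i, IsIso (j.f i) := fun i =>
    (inferInstance : IsIso ((HomologicalComplex.eval C (ComplexShape.up ℤ) i).map j))
  refine ⟨E', j ≫ ι', u', by rw [Category.assoc, hfac, hju], fun i => ?_, fun i hi => ?_,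
    ⟨⟨B, fun i hi => ?_⟩, fun i => ?_⟩, hq⟩
  · rw [HomologicalComplex.comp_f]
    have := hjf i
    have := hm' i
    exact mono_comp _ _
  · rw [HomologicalComplex.comp_f]
    have := hjf i
    have := hiso' i hi
    infer_instance
  · obtain ⟨d, ⟨e⟩⟩ := hX' i
    exact IsZero.of_iso ((stg d).hb i hi) e
  · obtain ⟨d, ⟨e⟩⟩ := hX' i
    exact P.prop_of_iso e.symm ((stg d).hP i)

/-- strictly pseudo-coherent resolution of a complex acyclic in degrees `≥ m`, with the finiteness
of the cones as hypothesis -/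
theorem exists_strictPCAll_of_isZero_homology' (X : CochainComplex C ℤ)
    (hcone : ∀ (k : ℤ) (E : CochainComplex C ℤ) (u : E ⟶ X), IsNQI (k + 1) u →
      _root_.PCoh.IsStrictPCAll P E → _root_.PCoh.IsOfFiniteType P ((mappingCone u).homology k))
    (m : ℤ) (h : ∀ i, m ≤ i → IsZero (X.homology i)) :
    ∃ (E' : CochainComplex C ℤ) (u' : E' ⟶ X), _root_.PCoh.IsStrictPCAll P E' ∧ QuasiIso u' ∧
      ∀ i, m ≤ i → IsZero (E'.X i) := by
  obtain ⟨E', ι, u', hfac, hm, hiso, hE', hq⟩ := exists_strictPCAll_qis' hsum hql X hcone m 0 0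
    (And.intro (fun i hi => ⟨⟨0, (isZero_zero_homology i).eq_of_src _ _,
      (h i (by omega)).eq_of_src _ _⟩⟩) ⟨fun _ _ _ => (h m le_rfl).eq_of_src _ _⟩)
    ⟨⟨0, fun i _ => isZero_zero_X i⟩, fun i => P.prop_of_isZero (isZero_zero_X i)⟩
  refine ⟨E', u', hE', hq, fun i hi => ?_⟩
  have := hiso i hi
  exact IsZero.of_iso (isZero_zero_X i) (asIso (ι.f i)).symm

end Gen

end Groth.Agent.H33.PCoh

namespace Groth.Agent.H33.PCohMod

open Groth.Agent.H33.PCoh

section Mod

variable (R : Type u) [Ring R]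

/-- finite free modules -/
def finFree : ObjectProperty (ModuleCat.{u} R) := fun M => Module.Finite R M ∧ Module.Free R M

/-- finite projective modules -/
def finProj : ObjectProperty (ModuleCat.{u} R) :=
  fun M => Module.Finite R M ∧ Module.Projective R M

instance : (finFree R).IsClosedUnderIsomorphisms where
  of_iso {X Y} e h := by
    obtain ⟨h1, h2⟩ := h
    exact ⟨Module.Finite.equiv e.toLinearEquiv, Module.Free.of_equiv e.toLinearEquiv⟩

instance : (finProj R).IsClosedUnderIsomorphisms where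
  of_iso {X Y} e h := by
    obtain ⟨h1, h2⟩ := h
    exact ⟨Module.Finite.equiv e.toLinearEquiv, Module.Projective.of_equiv e.toLinearEquiv⟩

instance : (finFree R).ContainsZero where
  exists_zero := ⟨ModuleCat.of R PUnit, ModuleCat.isZero_of_subsingleton _,
    ⟨inferInstance, inferInstance⟩⟩

instance : (finProj R).ContainsZero where
  exists_zero := ⟨ModuleCat.of R PUnit, ModuleCat.isZero_of_subsingleton _,
    ⟨inferInstance, inferInstance⟩⟩

lemma finFree_hsum : ∀ X Y : ModuleCat.{u} R, finFree R X → finFree R Y → finFree R (X ⨯ Y) := by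
  intro X Y hX hY
  obtain ⟨hX1, hX2⟩ := hX
  obtain ⟨hY1, hY2⟩ := hY
  have e : (X ⨯ Y) ≅ ModuleCat.of R (X × Y) :=
    (biprod.isoProd X Y).symm ≪≫ ModuleCat.biprodIsoProd X Y
  exact (finFree R).prop_of_iso e.symm ⟨inferInstance, inferInstance⟩

lemma finFree_hql : _root_.PCoh.IsQuasiLiftable (finFree R) := by
  intro E F u hu hF
  obtain ⟨hF1, hF2⟩ := hF
  have : Module.Projective R F := Module.Projective.of_free
  have : Projective F := (IsProjective.iff_projective _).mp inferInstance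
  refine ⟨F, Projective.factorThru (𝟙 F) u, ⟨hF1, hF2⟩, ?_⟩
  rw [Projective.factorThru_comp]
  infer_instance

lemma finiteType_iff (M : ModuleCat.{u} R) :
    _root_.PCoh.IsOfFiniteType (finFree R) M ↔ Module.Finite R M := by
  constructor
  · rintro ⟨E, π, ⟨hE1, hE2⟩, hπ⟩
    exact Module.Finite.of_surjective π.hom ((ModuleCat.epi_iff_surjective π).1 hπ)
  · intro h
    obtain ⟨k, f, hf⟩ := Module.Finite.exists_fin' R M
    exact ⟨ModuleCat.of R (Fin k → R), ModuleCat.ofHom f, ⟨inferInstance, inferInstance⟩,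
      (ModuleCat.epi_iff_surjective _).2 hf⟩

lemma finProj_hst : ∀ (E F : ModuleCat.{u} R) (u : E ⟶ F), Epi u → finProj R E → finProj R F →
    finProj R (kernel u) := by
  intro E F π hπ hE hF
  obtain ⟨hE1, hE2⟩ := hE
  obtain ⟨hF1, hF2⟩ := hF
  have : Projective F := (IsProjective.iff_projective _).mp hF2
  obtain ⟨s, hs⟩ : ∃ s : F ⟶ E, s ≫ π = 𝟙 F :=
    ⟨Projective.factorThru (𝟙 F) π, Projective.factorThru_comp _ _⟩
  obtain ⟨r, hr⟩ : ∃ r : E ⟶ kernel π, kernel.ι π ≫ r = 𝟙 _ := by
    refine ⟨kernel.lift π (𝟙 E - π ≫ s) ?_, ?_⟩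
    · rw [Preadditive.sub_comp, Category.id_comp, Category.assoc, hs, Category.comp_id,
        sub_self]
    · rw [← cancel_mono (kernel.ι π), Category.assoc, kernel.lift_ι, Preadditive.comp_sub,
        Category.comp_id, Category.id_comp, kernel.condition_assoc, zero_comp, sub_zero]
  have hH : r.hom.comp (kernel.ι π).hom = LinearMap.id := by
    rw [← ModuleCat.hom_comp, hr, ModuleCat.hom_id]
  exact ⟨Module.Finite.of_surjective r.hom
      (fun x => ⟨(kernel.ι π).hom x, LinearMap.congr_fun hH x⟩),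
    Module.Projective.of_split (kernel.ι π).hom r.hom hH⟩

lemma finFree_hqs : _root_.PCoh.IsQuasiStableUnderKernels (finFree R) := by
  intro K hex hbd hP
  obtain ⟨E, π, ⟨hE1, hE2⟩, hπ⟩ := Groth.Agent.H28.PerfB.hqs_of_hst (finProj R) (finProj_hst R)
    K hex hbd (fun i hi => ⟨(hP i hi).1, by have := (hP i hi).2; exact Module.Projective.of_free⟩)
  rw [finiteType_iff]
  exact Module.Finite.of_surjective π.hom ((ModuleCat.epi_iff_surjective π).1 hπ)

end Mod

section Restrict

attribute [local instance] HasDerivedCategory.standard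

variable (A : Type u) [CommRing A] (R : Type u) [Ring R] [Algebra A R]

/-- restriction of scalars along `A → R` -/
noncomputable abbrev resF : ModuleCat.{u} R ⥤ ModuleCat.{u} A :=
  ModuleCat.restrictScalars.{u} (algebraMap A R)

lemma finFree_restrict [Module.Finite A R] [Module.Free A R] (N : ModuleCat.{u} R)
    (h : finFree R N) : finFree A ((resF A R).obj N) := by
  obtain ⟨h1, h2⟩ := h
  let _ : Module A N := Module.compHom N (algebraMap A R)
  have : IsScalarTower A R N := IsScalarTower.of_algebraMap_smul (fun _ _ => rfl)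
  have hfin : Module.Finite A N := Module.Finite.trans R N
  have hfree : Module.Free A N := Module.Free.trans (R := A) (S := R) (M := N)
  exact ⟨hfin, hfree⟩

lemma finite_of_restrict (N : ModuleCat.{u} R) (h : Module.Finite A ((resF A R).obj N)) :
    Module.Finite R N := by
  let _ : Module A N := Module.compHom N (algebraMap A R)
  have : IsScalarTower A R N := IsScalarTower.of_algebraMap_smul (fun _ _ => rfl)
  have : Module.Finite A N := h
  exact Module.Finite.of_restrictScalars_finite A R N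

variable [PreservesFiniteLimits (resF A R)] [PreservesFiniteColimits (resF A R)]

/-- cohomology of the restriction of scalars of a complex -/
noncomputable def Hiso (K : CochainComplex (ModuleCat.{u} R) ℤ) (i : ℤ) :
    (DerivedCategory.homologyFunctor (ModuleCat.{u} A) i).obj
      ((resF A R).mapDerivedCategory.obj (DerivedCategory.Q.obj K)) ≅
      (resF A R).obj (K.homology i) :=
  (DerivedCategory.homologyFunctor _ i).mapIso ((resF A R).mapDerivedCategoryFactors.app K) ≪≫
    (DerivedCategory.homologyFunctorFactors _ i).app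
      (((resF A R).mapHomologicalComplex (ComplexShape.up ℤ)).obj K) ≪≫
    (K.sc i).mapHomologyIso (resF A R)

variable [Module.Finite A R] [Module.Free A R]

/-- finiteness of the cohomology of the cones, by descent -/
lemma hcone_restrict (X : CochainComplex (ModuleCat.{u} R) ℤ)
    (hX : ∀ k, IsNPC (finFree A) k
      ((resF A R).mapDerivedCategory.obj (DerivedCategory.Q.obj X)))
    (k : ℤ) (E : CochainComplex (ModuleCat.{u} R) ℤ) (u : E ⟶ X) (hu : IsNQI (k + 1) u)
    (hE : _root_.PCoh.IsStrictPCAll (finFree R) E) :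
    _root_.PCoh.IsOfFiniteType (finFree R) ((mappingCone u).homology k) := by
  have hT := DerivedCategory.mappingCone_triangle_distinguished u
  have hT' := (resF A R).mapDerivedCategory.map_distinguished _ hT
  have h1 : IsNPC (finFree A) (k + 1)
      ((resF A R).mapDerivedCategory.obj (DerivedCategory.Q.obj E)) := by
    obtain ⟨⟨b, hb⟩, hP⟩ := hE
    exact ⟨((resF A R).mapHomologicalComplex (ComplexShape.up ℤ)).obj E,
      ⟨⟨b, fun i hi => (resF A R).map_isZero (hb i hi)⟩,
        fun i _ => finFree_restrict A R _ (hP i)⟩,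
      ⟨((resF A R).mapDerivedCategoryFactors.app E).symm⟩⟩
  have h3 := IsNPC.obj₃ (finFree_hsum A) (finFree_hqs A) (finFree_hql A) k _ hT' h1 (hX k)
  have h3' : IsNPC (finFree A) k
      ((resF A R).mapDerivedCategory.obj (DerivedCategory.Q.obj (mappingCone u))) := h3
  have hac : ∀ i, k < i → IsZero ((DerivedCategory.homologyFunctor (ModuleCat.{u} A) i).obj
      ((resF A R).mapDerivedCategory.obj (DerivedCategory.Q.obj (mappingCone u)))) :=
    fun i hi => IsZero.of_iso
      ((resF A R).map_isZero ((isNQI_iff_cone (k + 1) u).1 hu i (by omega)))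
      (Hiso A R (mappingCone u) i)
  have hft := finiteType_of_isNPC (finFree_hqs A) k _ hac h3'
  have hft' : _root_.PCoh.IsOfFiniteType (finFree A)
      ((resF A R).obj ((mappingCone u).homology k)) :=
    finiteType_of_iso (Hiso A R (mappingCone u) k) hft
  rw [finiteType_iff] at hft' ⊢
  exact finite_of_restrict A R _ hft'

/-- descent of pseudo-coherence along a finite free algebra -/
theorem exists_finFree_resolution (M : DerivedCategory (ModuleCat.{u} R))
    (E₀ : CochainComplex (ModuleCat.{u} A) ℤ) (b : ℤ) (hvan : ∀ i, b < i → IsZero (E₀.X i))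
    (hff : ∀ i, finFree A (E₀.X i))
    (e₀ : DerivedCategory.Q.obj E₀ ≅ (resF A R).mapDerivedCategory.obj M) :
    ∃ (F : CochainComplex (ModuleCat.{u} R) ℤ) (b' : ℤ), (∀ i, b' < i → IsZero (F.X i)) ∧
      (∀ i, finFree R (F.X i)) ∧ Nonempty (DerivedCategory.Q.obj F ≅ M) := by
  obtain ⟨X, ⟨eX⟩⟩ : ∃ X : CochainComplex (ModuleCat.{u} R) ℤ,
      Nonempty (DerivedCategory.Q.obj X ≅ M) := ⟨_, ⟨DerivedCategory.Q.objObjPreimageIso M⟩⟩
  have e₁ : DerivedCategory.Q.obj E₀ ≅
      (resF A R).mapDerivedCategory.obj (DerivedCategory.Q.obj X) :=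
    e₀ ≪≫ ((resF A R).mapDerivedCategory.mapIso eX).symm
  have hX : ∀ k, IsNPC (finFree A) k
      ((resF A R).mapDerivedCategory.obj (DerivedCategory.Q.obj X)) :=
    fun k => ⟨E₀, ⟨⟨b, hvan⟩, fun i _ => hff i⟩, ⟨e₁⟩⟩
  have hXh : ∀ i, b + 1 ≤ i → IsZero (X.homology i) := by
    intro i hi
    have h1 : IsZero (E₀.homology i) := by
      rw [← HomologicalComplex.exactAt_iff_isZero_homology]
      exact ShortComplex.exact_of_isZero_X₂ _ (hvan i (by omega))
    have h2 : IsZero ((resF A R).obj (X.homology i)) :=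
      IsZero.of_iso h1 ((Hiso A R X i).symm ≪≫ (homologyIsoOfIso e₁ i).symm)
    have hs : Subsingleton ((resF A R).obj (X.homology i)) := ModuleCat.subsingleton_of_isZero h2
    have : Subsingleton (X.homology i) := hs
    exact ModuleCat.isZero_of_subsingleton _
  obtain ⟨E', u', ⟨⟨b', hb'⟩, hP'⟩, hq, -⟩ :=
    exists_strictPCAll_of_isZero_homology' (finFree_hsum R) (finFree_hql R) X
      (hcone_restrict A R X hX) (b + 1) hXh
  have : IsIso (DerivedCategory.Q.map u') := (DerivedCategory.isIso_Q_map_iff_quasiIso _ u').2 hq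
  exact ⟨E', b', hb', hP', ⟨asIso (DerivedCategory.Q.map u') ≪≫ eX⟩⟩

end Restrict

end Groth.Agent.H33.PCohMod
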