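import Groth.Agent.H33.PCohCoh
import Groth.Agent.H33.PCohInf
import Mathlib.CategoryTheory.Abelian.SerreClass.Basic
import Mathlib.CategoryTheory.Abelian.Subcategory
import Mathlib.Algebra.Homology.DerivedCategory.ExactFunctor
import Mathlib.Algebra.Homology.DerivedCategory.TStructure
import Mathlib.Algebra.Homology.DerivedCategory.Fractions

/-! The bounded above derived category of a Serre subcategory with enough "liftings"
(helper33). -/

set_option autoImplicit false
universe w w' v u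

namespace Groth.Agent.H33.PCoh

open CategoryTheory CategoryTheory.Limits CategoryTheory.Pretriangulated CochainComplex
open ZeroObject

section LiftCx

variable {A : Type u} [Category.{v} A] [Preadditive A] (P : ObjectProperty A)

/-- a complex with terms in `P` as a complex of the full subcategory -/
def liftCx (E : CochainComplex A ℤ) (hE : ∀ i, P (E.X i)) :
    CochainComplex P.FullSubcategory ℤ where
  X i := ⟨E.X i, hE i⟩
  d i j := ObjectProperty.homMk (E.d i j)
  shape i j h := by ext; exact E.shape i j h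
  d_comp_d' i j k _ _ := by ext; exact E.d_comp_d i j k

/-- the lifted complex maps to the original one -/
def liftCxIso (E : CochainComplex A ℤ) (hE : ∀ i, P (E.X i)) :
    (P.ι.mapHomologicalComplex (ComplexShape.up ℤ)).obj (liftCx P E hE) ≅ E :=
  HomologicalComplex.Hom.isoOfComponents (fun i => Iso.refl _) (fun i j _ => by
    simp only [Iso.refl_hom]
    erw [Category.id_comp, Category.comp_id]
    rfl)

lemma isZero_mk {X : A} (hX : P X) (h : IsZero X) :
    IsZero (⟨X, hX⟩ : P.FullSubcategory) := by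
  rw [IsZero.iff_id_eq_zero]
  ext
  exact (IsZero.iff_id_eq_zero _).1 h

end LiftCx

section QHomotopy

variable {C : Type u} [Category.{v} C] [Abelian C] [HasDerivedCategory.{w} C]

lemma Q_map_eq_of_homotopy {K L : CochainComplex C ℤ} (f g : K ⟶ L) (h : Homotopy f g) :
    DerivedCategory.Q.map f = DerivedCategory.Q.map g := by
  have h1 := DerivedCategory.quotientCompQhIso_hom_naturality f
  have h2 := DerivedCategory.quotientCompQhIso_hom_naturality g
  rw [HomotopyCategory.eq_of_homotopy f g h] at h1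
  rw [← cancel_epi ((DerivedCategory.quotientCompQhIso C).hom.app K), ← h1, h2]

end QHomotopy

section Sub

variable {A : Type u} [Category.{v} A] [Abelian A] [HasDerivedCategory.{w} A]
  (P : ObjectProperty A) [P.IsSerreClass] [P.IsClosedUnderKernels] [P.IsClosedUnderCokernels]
  [P.IsClosedUnderFiniteProducts]
  (hlift : ∀ (X Y : A) (π : X ⟶ Y), Epi π → P Y →
    ∃ (X' : A) (i : X' ⟶ X), Mono i ∧ P X' ∧ Epi (i ≫ π))

lemma sub_hsum : ∀ X Y : A, P X → P Y → P (X ⨯ Y) := fun X Y hX hY => P.prop_prod X Y hX hY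

include hlift in
lemma sub_hql : _root_.PCoh.IsQuasiLiftable P := by
  intro E F u hu hF
  obtain ⟨X', i, _, hX', hepi⟩ := hlift E F u hu hF
  exact ⟨X', i, hX', hepi⟩

lemma sub_finiteType {X : A} (hX : P X) : _root_.PCoh.IsOfFiniteType P X :=
  ⟨X, 𝟙 X, hX, inferInstance⟩

lemma sub_hcoh : ∀ (X E : A) (u : E ⟶ X), P X → P E →
    _root_.PCoh.IsOfFiniteType P (kernel u) :=
  fun _ _ u _ hE => sub_finiteType P (P.prop_of_mono (kernel.ι u) hE)

lemma sub_isCoh {M : A} (hM : P M) : IsCoh P M :=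
  And.intro (sub_finiteType P hM)
    (fun _ u hE => sub_finiteType P (P.prop_of_mono (kernel.ι u) hE))

include hlift in
lemma isNPC_of_homology_prop (K : DerivedCategory A) (b : ℤ) [K.IsLE b]
    (hK : ∀ n : ℤ, P ((DerivedCategory.homologyFunctor A n).obj K)) (n : ℤ) : IsNPC P n K := by
  have hqs := quasiStable_of_coh (sub_hcoh P)
  refine isNPC_of_homology (sub_hsum P) hqs (sub_hql P hlift) n (b - (n - 1)).toNat K
    (fun i hi => K.isZero_of_isLE b i (by
      have := Int.self_le_toNat (b - (n - 1))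
      omega)) (fun i hi => ?_)
  exact isNPC_single_of_coh (sub_hsum P) (sub_hql P hlift) (sub_hcoh P) (i - n).toNat _
    (sub_isCoh P (hK i)) (n - i) (by
      have := Int.self_le_toNat (i - n)
      omega)

include hlift in
/-- a bounded above object of `D(A)` with cohomology in `P` comes from a bounded above complex
of the full subcategory -/
theorem exists_liftCx_of_homology_prop (K : DerivedCategory A) (b : ℤ) [K.IsLE b]
    (hK : ∀ n : ℤ, P ((DerivedCategory.homologyFunctor A n).obj K)) :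
    ∃ M₀ : CochainComplex P.FullSubcategory ℤ, M₀.IsStrictlyLE b ∧
      Nonempty (DerivedCategory.Q.obj
        ((P.ι.mapHomologicalComplex (ComplexShape.up ℤ)).obj M₀) ≅ K) := by
  have hqs := quasiStable_of_coh (sub_hcoh P)
  obtain ⟨X, ⟨e⟩⟩ : ∃ X : CochainComplex A ℤ, Nonempty (DerivedCategory.Q.obj X ≅ K) :=
    ⟨_, ⟨DerivedCategory.Q.objObjPreimageIso K⟩⟩
  have hX : ∀ k, IsNPC P k (DerivedCategory.Q.obj X) := fun k =>
    (isNPC_of_homology_prop P hlift K b hK k).of_iso e.symm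
  have hXh : ∀ i, b + 1 ≤ i → IsZero (X.homology i) := fun i hi =>
    IsZero.of_iso (K.isZero_of_isLE b i (by omega)) (homologyIsoOfIso e i)
  obtain ⟨E', u', ⟨_, hP'⟩, hq, hz⟩ :=
    exists_strictPCAll_of_isZero_homology (sub_hsum P) hqs (sub_hql P hlift) X hX (b + 1) hXh
  have : IsIso (DerivedCategory.Q.map u') := (DerivedCategory.isIso_Q_map_iff_quasiIso _ _).2 hq
  refine ⟨liftCx P E' hP', ?_, ⟨DerivedCategory.Q.mapIso (liftCxIso P E' hP') ≪≫
    asIso (DerivedCategory.Q.map u') ≪≫ e⟩⟩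
  rw [CochainComplex.isStrictlyLE_iff]
  intro i hi
  exact isZero_mk P (hP' i) (hz i (by omega))

variable [PreservesFiniteLimits P.ι] [PreservesFiniteColimits P.ι]

lemma strictPCAll_map (M₀ : CochainComplex P.FullSubcategory ℤ) (b : ℤ) [M₀.IsStrictlyLE b] :
    _root_.PCoh.IsStrictPCAll P ((P.ι.mapHomologicalComplex (ComplexShape.up ℤ)).obj M₀) :=
  And.intro ⟨b, fun i hi => P.ι.map_isZero (M₀.isZero_of_isStrictlyLE b i hi)⟩
    (fun i => (M₀.X i).property)

include hlift in
/-- lifting a quasi-isomorphism with target a bounded above complex of the subcategory -/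
lemma exists_lift_qis (M₀ : CochainComplex P.FullSubcategory ℤ) (b : ℤ) [M₀.IsStrictlyLE b]
    {X : CochainComplex A ℤ} (s : X ⟶ (P.ι.mapHomologicalComplex (ComplexShape.up ℤ)).obj M₀)
    (hs : QuasiIso s) :
    ∃ (E₀ : CochainComplex P.FullSubcategory ℤ)
      (t : (P.ι.mapHomologicalComplex (ComplexShape.up ℤ)).obj E₀ ⟶ X), QuasiIso t := by
  have hqs := quasiStable_of_coh (sub_hcoh P)
  obtain ⟨E', t, ⟨_, hP'⟩, ht⟩ := exists_strictPCAll_resolution (sub_hsum P) hqs (sub_hql P hlift)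
    (strictPCAll_map P M₀ b) s hs
  exact ⟨liftCx P E' hP', (liftCxIso P E' hP').hom ≫ t, inferInstance⟩

variable [HasDerivedCategory.{w'} P.FullSubcategory]

include hlift in
lemma map_surjective_core (M₀ N₀ : CochainComplex P.FullSubcategory ℤ) (b : ℤ)
    [M₀.IsStrictlyLE b]
    (ψ : P.ι.mapDerivedCategory.obj (DerivedCategory.Q.obj M₀) ⟶
      P.ι.mapDerivedCategory.obj (DerivedCategory.Q.obj N₀)) :
    ∃ φ : DerivedCategory.Q.obj M₀ ⟶ DerivedCategory.Q.obj N₀,
      P.ι.mapDerivedCategory.map φ = ψ := by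
  have fac := P.ι.mapDerivedCategoryFactors
  have hnat : ∀ {X Y : CochainComplex P.FullSubcategory ℤ} (f : X ⟶ Y),
      P.ι.mapDerivedCategory.map (DerivedCategory.Q.map f) ≫ fac.hom.app Y =
        fac.hom.app X ≫ DerivedCategory.Q.map
          ((P.ι.mapHomologicalComplex (ComplexShape.up ℤ)).map f) := fun f => fac.hom.naturality f
  obtain ⟨X', s, hs, g, hψ⟩ := DerivedCategory.right_fac (fac.inv.app M₀ ≫ ψ ≫ fac.hom.app N₀)
  have hs' : QuasiIso s := (DerivedCategory.isIso_Q_map_iff_quasiIso _ s).1 hs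
  obtain ⟨E₀, t, ht⟩ := exists_lift_qis P hlift M₀ b s hs'
  obtain ⟨s₀, hs₀⟩ : ∃ s₀ : E₀ ⟶ M₀,
      (P.ι.mapHomologicalComplex (ComplexShape.up ℤ)).map s₀ = t ≫ s :=
    ⟨(P.ι.mapHomologicalComplex (ComplexShape.up ℤ)).preimage (t ≫ s),
      (P.ι.mapHomologicalComplex (ComplexShape.up ℤ)).map_preimage _⟩
  obtain ⟨g₀, hg₀⟩ : ∃ g₀ : E₀ ⟶ N₀,
      (P.ι.mapHomologicalComplex (ComplexShape.up ℤ)).map g₀ = t ≫ g :=
    ⟨(P.ι.mapHomologicalComplex (ComplexShape.up ℤ)).preimage (t ≫ g),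
      (P.ι.mapHomologicalComplex (ComplexShape.up ℤ)).map_preimage _⟩
  have hqs₀ : QuasiIso s₀ := by
    rw [← HomologicalComplex.quasiIso_map_iff_of_preservesHomology s₀ P.ι, hs₀]
    infer_instance
  have : IsIso (DerivedCategory.Q.map s₀) :=
    (DerivedCategory.isIso_Q_map_iff_quasiIso _ _).2 hqs₀
  refine ⟨inv (DerivedCategory.Q.map s₀) ≫ DerivedCategory.Q.map g₀, ?_⟩
  have h1 : DerivedCategory.Q.map (t ≫ g) =
      DerivedCategory.Q.map (t ≫ s) ≫ (fac.inv.app M₀ ≫ ψ ≫ fac.hom.app N₀) := by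
    rw [hψ, CategoryTheory.Functor.map_comp, CategoryTheory.Functor.map_comp, Category.assoc,
      IsIso.hom_inv_id_assoc]
  rw [← cancel_epi (P.ι.mapDerivedCategory.map (DerivedCategory.Q.map s₀)),
    ← CategoryTheory.Functor.map_comp, IsIso.hom_inv_id_assoc,
    ← cancel_mono (fac.hom.app N₀)]
  calc P.ι.mapDerivedCategory.map (DerivedCategory.Q.map g₀) ≫ fac.hom.app N₀
      = fac.hom.app E₀ ≫ DerivedCategory.Q.map (t ≫ g) := by rw [hnat, hg₀]
    _ = fac.hom.app E₀ ≫ DerivedCategory.Q.map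
          ((P.ι.mapHomologicalComplex (ComplexShape.up ℤ)).map s₀) ≫
            fac.inv.app M₀ ≫ ψ ≫ fac.hom.app N₀ := by rw [h1, ← hs₀]
    _ = (P.ι.mapDerivedCategory.map (DerivedCategory.Q.map s₀) ≫ fac.hom.app M₀) ≫
          fac.inv.app M₀ ≫ ψ ≫ fac.hom.app N₀ := by rw [hnat, Category.assoc]
    _ = (P.ι.mapDerivedCategory.map (DerivedCategory.Q.map s₀) ≫ ψ) ≫ fac.hom.app N₀ := by
        rw [Category.assoc, Iso.hom_inv_id_app_assoc, Category.assoc]

include hlift in
lemma map_eq_zero_core (M₀ N₀ : CochainComplex P.FullSubcategory ℤ) (b : ℤ)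
    [M₀.IsStrictlyLE b] (χ : DerivedCategory.Q.obj M₀ ⟶ DerivedCategory.Q.obj N₀)
    (hχ : P.ι.mapDerivedCategory.map χ = 0) : χ = 0 := by
  have fac := P.ι.mapDerivedCategoryFactors
  have hnat : ∀ {X Y : CochainComplex P.FullSubcategory ℤ} (f : X ⟶ Y),
      P.ι.mapDerivedCategory.map (DerivedCategory.Q.map f) ≫ fac.hom.app Y =
        fac.hom.app X ≫ DerivedCategory.Q.map
          ((P.ι.mapHomologicalComplex (ComplexShape.up ℤ)).map f) := fun f => fac.hom.naturality f
  obtain ⟨X', s, hs, g, rfl⟩ := DerivedCategory.right_fac χ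
  have hs' : QuasiIso s := (DerivedCategory.isIso_Q_map_iff_quasiIso _ s).1 hs
  have hg : DerivedCategory.Q.map ((P.ι.mapHomologicalComplex (ComplexShape.up ℤ)).map g) =
      DerivedCategory.Q.map (0 : (P.ι.mapHomologicalComplex (ComplexShape.up ℤ)).obj X' ⟶
        (P.ι.mapHomologicalComplex (ComplexShape.up ℤ)).obj N₀) := by
    have h1 : P.ι.mapDerivedCategory.map (DerivedCategory.Q.map g) = 0 := by
      have h2 : DerivedCategory.Q.map g = DerivedCategory.Q.map s ≫
          (inv (DerivedCategory.Q.map s) ≫ DerivedCategory.Q.map g) := by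
        rw [IsIso.hom_inv_id_assoc]
      rw [h2, CategoryTheory.Functor.map_comp, hχ, comp_zero]
    rw [CategoryTheory.Functor.map_zero, ← cancel_epi (fac.hom.app X'), ← hnat g, h1, zero_comp,
      comp_zero]
  obtain ⟨X₂, u, hu, ⟨hmt⟩⟩ := exists_qis_homotopy _ _ hg
  have hΦs : QuasiIso ((P.ι.mapHomologicalComplex (ComplexShape.up ℤ)).map s) := inferInstance
  obtain ⟨E₀, t, ht⟩ := exists_lift_qis P hlift M₀ b
    (u ≫ (P.ι.mapHomologicalComplex (ComplexShape.up ℤ)).map s) inferInstance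
  obtain ⟨v₀, hv₀⟩ : ∃ v₀ : E₀ ⟶ X',
      (P.ι.mapHomologicalComplex (ComplexShape.up ℤ)).map v₀ = t ≫ u :=
    ⟨(P.ι.mapHomologicalComplex (ComplexShape.up ℤ)).preimage (t ≫ u),
      (P.ι.mapHomologicalComplex (ComplexShape.up ℤ)).map_preimage _⟩
  have hqv : QuasiIso v₀ := by
    rw [← HomologicalComplex.quasiIso_map_iff_of_preservesHomology v₀ P.ι, hv₀]
    infer_instance
  have H : Homotopy ((P.ι.mapHomologicalComplex (ComplexShape.up ℤ)).map (v₀ ≫ g))
      ((P.ι.mapHomologicalComplex (ComplexShape.up ℤ)).map 0) :=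
    (Homotopy.ofEq (by rw [CategoryTheory.Functor.map_comp, hv₀, Category.assoc])).trans
      ((hmt.compLeft t).trans (Homotopy.ofEq (by simp)))
  have H₀ : Homotopy (v₀ ≫ g) 0 := P.ι.preimageHomotopy H
  have hz : DerivedCategory.Q.map (v₀ ≫ g) = 0 := by
    rw [Q_map_eq_of_homotopy _ _ H₀, CategoryTheory.Functor.map_zero]
  have : IsIso (DerivedCategory.Q.map v₀) :=
    (DerivedCategory.isIso_Q_map_iff_quasiIso _ _).2 hqv
  have hg0 : DerivedCategory.Q.map g = 0 := by
    rw [← cancel_epi (DerivedCategory.Q.map v₀), ← CategoryTheory.Functor.map_comp, hz, comp_zero]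
  rw [hg0, comp_zero]

end Sub

end Groth.Agent.H33.PCoh
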