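import Groth.Agent.H33.PCohDer
import Groth.Agent.H33.DerTrunc
import Mathlib.Algebra.Homology.DerivedCategory.ShortExact
import Mathlib.Algebra.Homology.DerivedCategory.SingleTriangle
import Mathlib.Algebra.Homology.SingleHomology

/-! Pseudo-coherence over an abelian category (SGA 6 I): criteria in terms of the terms or the
cohomology objects of a complex; enlarging the subcategory (helper33). -/

set_option autoImplicit false
universe w v u

namespace Groth.Agent.H33.PCoh

open CategoryTheory CategoryTheory.Limits CategoryTheory.Pretriangulated CochainComplex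
open ZeroObject

variable {C : Type u} [Category.{v} C] [Abelian C] [HasDerivedCategory.{w} C]
  {P : ObjectProperty C}

lemma isNPC_of_isZero [P.IsClosedUnderIsomorphisms] [P.ContainsZero] (k : ℤ)
    {F : DerivedCategory C} (hF : IsZero F) : IsNPC P k F :=
  ⟨0, isStrictPC_zero k, ⟨(DerivedCategory.Q.map_isZero (isZero_zero _)).iso hF⟩⟩

lemma isNPC_single_shift {A : C} {k : ℤ} (t : ℤ)
    (h : IsNPC P k ((DerivedCategory.singleFunctor C 0).obj A)) :
    IsNPC P (k + t) ((DerivedCategory.singleFunctor C t).obj A) := by
  have h' := h.shift (-t)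
  rw [show k - (-t) = k + t by ring] at h'
  exact h'.of_iso (((DerivedCategory.singleFunctors C).shiftIso (-t) t 0 (by omega)).app A)

/-- cohomology of a single object -/
noncomputable def homologySingleIso (t : ℤ) (A : C) :
    (DerivedCategory.homologyFunctor C t).obj ((DerivedCategory.singleFunctor C t).obj A) ≅ A :=
  (DerivedCategory.homologyFunctorFactors C t).app ((CochainComplex.singleFunctor C t).obj A) ≪≫
    HomologicalComplex.singleObjHomologySelfIso (ComplexShape.up ℤ) t A

lemma isZero_homology_single (t i : ℤ) (hi : i ≠ t) (A : C) :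
    IsZero ((DerivedCategory.homologyFunctor C i).obj
      ((DerivedCategory.singleFunctor C t).obj A)) :=
  IsZero.of_iso (HomologicalComplex.isZero_single_obj_homology (ComplexShape.up ℤ) t A i hi)
    ((DerivedCategory.homologyFunctorFactors C i).app ((CochainComplex.singleFunctor C t).obj A))

/-- an object which is `0`-pseudo-coherent in degree `0` is of finite type -/
lemma finiteType_of_single [P.IsClosedUnderIsomorphisms]
    (hqs : _root_.PCoh.IsQuasiStableUnderKernels P) {A : C}
    (h : IsNPC P 0 ((DerivedCategory.singleFunctor C 0).obj A)) :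
    _root_.PCoh.IsOfFiniteType P A := by
  obtain ⟨T, p, hT, hp⟩ := finiteType_of_isNPC hqs 0 _
    (fun i hi => isZero_homology_single 0 i (by omega) A) h
  exact ⟨T, p ≫ (homologySingleIso 0 A).hom, hT, inferInstance⟩

section

variable [P.IsClosedUnderIsomorphisms] [P.ContainsZero]
  (hsum : ∀ X Y : C, P X → P Y → P (X ⨯ Y)) (hqs : _root_.PCoh.IsQuasiStableUnderKernels P)
  (hql : _root_.PCoh.IsQuasiLiftable P)

include hsum hqs hql

/-- a bounded above complex whose terms `F^i` are `(n - i)`-pseudo-coherent is
`n`-pseudo-coherent -/
theorem isNPC_of_terms (n : ℤ) :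
    ∀ (d : ℕ) (F : CochainComplex C ℤ), (∀ i, n - 1 + d < i → IsZero (F.X i)) →
      (∀ i, n ≤ i → IsNPC P (n - i) ((DerivedCategory.singleFunctor C 0).obj (F.X i))) →
      IsNPC P n (DerivedCategory.Q.obj F) := by
  intro d
  induction d with
  | zero =>
    intro F hb _
    exact ⟨F, ⟨⟨n - 1, fun i hi => hb i (by push_cast; omega)⟩,
      fun i hi => P.prop_of_isZero (hb i (by push_cast; omega))⟩, ⟨Iso.refl _⟩⟩
  | succ d ih =>
    intro F hb hfp
    obtain ⟨t, ht⟩ : ∃ t : ℤ, t = n + d := ⟨_, rfl⟩
    have hbt : ∀ i, t < i → IsZero (F.X i) := fun i hi => hb i (by push_cast; omega)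
    obtain ⟨φ, hφ⟩ : ∃ φ : (CochainComplex.singleFunctor C t).obj (F.X t) ⟶ F,
        φ.f t = (HomologicalComplex.singleObjXSelf (ComplexShape.up ℤ) t (F.X t)).hom :=
      ⟨HomologicalComplex.mkHomFromSingle (𝟙 (F.X t)) (fun k hk => (hbt k (by
        have : t + 1 = k := hk
        omega)).eq_of_tgt _ _), by
        rw [HomologicalComplex.mkHomFromSingle_f, Category.comp_id]⟩
    have hSz : ∀ i, i ≠ t → IsZero (((CochainComplex.singleFunctor C t).obj (F.X t)).X i) :=
      fun i hi => HomologicalComplex.isZero_single_obj_X (ComplexShape.up ℤ) t (F.X t) i hi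
    have hφf : ∀ i, Mono (φ.f i) := fun i => by
      by_cases hi : i = t
      · rw [hi, hφ]; infer_instance
      · exact ⟨fun g h _ => (hSz i hi).eq_of_tgt _ _⟩
    have hφmono : Mono φ := HomologicalComplex.mono_of_mono_f φ hφf
    have hS : (ShortComplex.mk φ (cokernel.π φ) (cokernel.condition φ)).ShortExact :=
      ShortComplex.ShortExact.mk'
        (ShortComplex.exact_of_g_is_cokernel _ (cokernelIsCokernel φ))
        (by dsimp; infer_instance) (by dsimp; infer_instance)
    have hex := fun i : ℤ => hS.map_of_exact (HomologicalComplex.eval C (ComplexShape.up ℤ) i)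
    have hπiso : ∀ i, i ≠ t → IsIso ((cokernel.π φ).f i) := fun i hi => by
      have h0 : φ.f i = 0 := (hSz i hi).eq_of_src _ _
      have hm : Mono ((cokernel.π φ).f i) := (hex i).exact.mono_g h0
      have he : Epi ((cokernel.π φ).f i) := (hex i).epi_g
      exact isIso_of_mono_of_epi _
    have hzt : IsZero ((cokernel φ).X t) := by
      have hiso : IsIso (φ.f t) := by rw [hφ]; infer_instance
      have hg0 : (cokernel.π φ).f t = 0 :=
        (hex t).exact.epi_f_iff.1 (show Epi (φ.f t) from inferInstance)
      have he : Epi ((cokernel.π φ).f t) := (hex t).epi_g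
      exact IsZero.of_epi_eq_zero _ hg0
    have h'' : IsNPC P n (DerivedCategory.Q.obj (cokernel φ)) := by
      refine ih (cokernel φ) (fun i hi => ?_) (fun i hi => ?_)
      · by_cases hit : i = t
        · rw [hit]; exact hzt
        · have := hπiso i hit
          exact IsZero.of_iso (hbt i (by omega)) (asIso ((cokernel.π φ).f i)).symm
      · by_cases hit : i = t
        · rw [hit]
          exact isNPC_of_isZero _ ((DerivedCategory.singleFunctor C 0).map_isZero hzt)
        · have := hπiso i hit
          exact (hfp i hi).of_iso ((DerivedCategory.singleFunctor C 0).mapIso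
            (asIso ((cokernel.π φ).f i)))
    have h' : IsNPC P n (DerivedCategory.Q.obj ((CochainComplex.singleFunctor C t).obj (F.X t))) := by
      have h := isNPC_single_shift t (hfp t (by omega))
      rw [show n - t + t = n by ring] at h
      exact h.of_iso ((DerivedCategory.singleFunctorIsoCompQ C t).app (F.X t))
    exact IsNPC.obj₂ hsum hqs hql n _ (DerivedCategory.triangleOfSES_distinguished hS) h' h''

/-- an object with bounded above cohomology whose cohomology objects `H^i` are
`(n - i)`-pseudo-coherent is `n`-pseudo-coherent -/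
theorem isNPC_of_homology (n : ℤ) :
    ∀ (d : ℕ) (F : DerivedCategory C),
      (∀ i, n - 1 + d < i → IsZero ((DerivedCategory.homologyFunctor C i).obj F)) →
      (∀ i, n ≤ i → IsNPC P (n - i) ((DerivedCategory.singleFunctor C 0).obj
        ((DerivedCategory.homologyFunctor C i).obj F))) → IsNPC P n F := by
  intro d
  induction d with
  | zero =>
    intro F hb _
    exact isNPC_of_isZero_homology n F (fun i hi => hb i (by push_cast; omega))
  | succ d ih =>
    intro F hb hfp
    obtain ⟨t, ht⟩ : ∃ t : ℤ, t = n + d := ⟨_, rfl⟩
    have hT := (tD C).triangleLTGE_distinguished t F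
    have h' : IsNPC P n (((tD C).truncLT t).obj F) := by
      refine ih _ (fun i hi => isZero_homology_truncLT F t i (by omega)) (fun i hi => ?_)
      by_cases hit : i < t
      · have := isIso_homology_truncLTι F t i hit
        exact (hfp i hi).of_iso ((DerivedCategory.singleFunctor C 0).mapIso
          (asIso ((DerivedCategory.homologyFunctor C i).map (((tD C).truncLTι t).app F))).symm)
      · exact isNPC_of_isZero _ ((DerivedCategory.singleFunctor C 0).map_isZero
          (isZero_homology_truncLT F t i (by omega)))
    have h'' : IsNPC P n (((tD C).truncGE t).obj F) := by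
      have hge : (((tD C).truncGE t).obj F).IsGE t := by
        rw [DerivedCategory.isGE_iff]
        intro i hi
        exact isZero_homology_truncGE F t i hi
      have hle : (((tD C).truncGE t).obj F).IsLE t := by
        rw [DerivedCategory.isLE_iff]
        intro i hi
        exact isZero_homology_truncGE_of_isZero F t i (hb i (by push_cast; omega))
      obtain ⟨A, ⟨e⟩⟩ := DerivedCategory.exists_iso_singleFunctor_obj_of_isGE_of_isLE
        (((tD C).truncGE t).obj F) t
      have := isIso_homology_truncGEπ F t t le_rfl
      have eA : A ≅ (DerivedCategory.homologyFunctor C t).obj F :=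
        (homologySingleIso t A).symm ≪≫ ((DerivedCategory.homologyFunctor C t).mapIso e).symm ≪≫
          (asIso ((DerivedCategory.homologyFunctor C t).map (((tD C).truncGEπ t).app F))).symm
      have hA : IsNPC P (n - t) ((DerivedCategory.singleFunctor C 0).obj A) :=
        (hfp t (by omega)).of_iso ((DerivedCategory.singleFunctor C 0).mapIso eA.symm)
      have h := isNPC_single_shift t hA
      rw [show n - t + t = n by ring] at h
      exact h.of_iso e.symm
    exact IsNPC.obj₂ hsum hqs hql n _ hT h' h''

end

end Groth.Agent.H33.PCoh
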