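import Mathlib
import Groth.Agent.H33.UnbRes

/-! Towers of `P`-resolutions of the truncations of a complex (helper33). -/

set_option autoImplicit false
universe v u

namespace Groth.Agent.H33.PTower

open CategoryTheory CategoryTheory.Limits HomologicalComplex

variable {A : Type u} [Category.{v} A] [Abelian A]

/-- the kernel of a quasi-isomorphic epimorphism is acyclic -/
lemma acyclic_X₁_of_quasiIso {S : ShortComplex (CochainComplex A ℤ)} (hS : S.ShortExact)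
    (h : QuasiIso S.g) : S.X₁.Acyclic := by
  intro i
  rw [HomologicalComplex.exactAt_iff_isZero_homology]
  have hδ : hS.δ (i - 1) i (by simp) = 0 := by
    have : Epi (HomologicalComplex.homologyMap S.g (i - 1)) := inferInstance
    rw [← cancel_epi (HomologicalComplex.homologyMap S.g (i - 1)), comp_zero]
    exact hS.comp_δ _ _ _
  have ex1 := hS.homology_exact₁ (i - 1) i (by simp)
  have hmono : Mono (HomologicalComplex.homologyMap S.f i) := ex1.mono_g hδ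
  have hzero : HomologicalComplex.homologyMap S.f i = 0 := by
    have : Mono (HomologicalComplex.homologyMap S.g i) := inferInstance
    rw [← cancel_mono (HomologicalComplex.homologyMap S.g i), zero_comp,
      ← HomologicalComplex.homologyMap_comp, S.zero, HomologicalComplex.homologyMap_zero]
  rw [IsZero.iff_id_eq_zero, ← cancel_mono (HomologicalComplex.homologyMap S.f i), hzero,
    comp_zero, comp_zero]

lemma isZero_biprod {X Y : A} (hX : IsZero X) (hY : IsZero Y) : IsZero (X ⊞ Y) := by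
  rw [IsZero.iff_id_eq_zero]
  apply biprod.hom_ext
  · exact hX.eq_of_tgt _ _
  · exact hY.eq_of_tgt _ _

lemma isStrictlyLE_of_epi {K L : CochainComplex A ℤ} (p : K ⟶ L) (hp : ∀ i, Epi (p.f i)) (n : ℤ)
    [K.IsStrictlyLE n] : L.IsStrictlyLE n := by
  rw [CochainComplex.isStrictlyLE_iff]
  intro i hi
  have := hp i
  rw [IsZero.iff_id_eq_zero, ← cancel_epi (p.f i)]
  exact (K.isZero_of_isStrictlyLE n i hi).eq_of_src _ _

lemma isStrictlyLE_biprod (K L : CochainComplex A ℤ) (n : ℤ) [K.IsStrictlyLE n]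
    [L.IsStrictlyLE n] : (K ⊞ L).IsStrictlyLE n := by
  rw [CochainComplex.isStrictlyLE_iff]
  intro i hi
  rw [IsZero.iff_id_eq_zero, ← HomologicalComplex.id_f, ← biprod.total,
    HomologicalComplex.add_f_apply, HomologicalComplex.comp_f, HomologicalComplex.comp_f,
    (K.isZero_of_isStrictlyLE n i hi).eq_of_tgt ((biprod.fst : K ⊞ L ⟶ K).f i) 0,
    (L.isZero_of_isStrictlyLE n i hi).eq_of_tgt ((biprod.snd : K ⊞ L ⟶ L).f i) 0,
    zero_comp, zero_comp, add_zero]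

section Step

variable (P : ObjectProperty A) [P.IsClosedUnderIsomorphisms]

lemma exists_contractible (hPsum : ∀ X Y : A, P X → P Y → P (X ⊞ Y))
    (Q : CochainComplex A ℤ) (c : ℤ) [Q.IsStrictlyLE c] (hQ : ∀ i, P (Q.X i)) :
    ∃ (D : CochainComplex A ℤ) (j : Q ⟶ D),
      (∀ i, ∃ r : D.X i ⟶ Q.X i, j.f i ≫ r = 𝟙 _) ∧ D.Acyclic ∧
      (∀ i, P (D.X i)) ∧ D.IsStrictlyLE c := by
  refine ⟨UnbRes.JJ (fun m => Q.X m), UnbRes.toJJ Q (fun m => Q.X m) (fun m => 𝟙 _), ?_,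
    UnbRes.JJ_acyclic _, ?_, ?_⟩
  · intro i
    exact ⟨(biprod.fst : Q.X i ⊞ Q.X (i + 1) ⟶ Q.X i), biprod.lift_fst _ _⟩
  · intro i
    exact hPsum _ _ (hQ i) (hQ (i + 1))
  · rw [CochainComplex.isStrictlyLE_iff]
    intro i hi
    exact isZero_biprod (Q.isZero_of_isStrictlyLE c i hi)
      (Q.isZero_of_isStrictlyLE c (i + 1) (by omega))

omit [P.IsClosedUnderIsomorphisms] in
theorem factor (hP0 : ∃ Z : A, IsZero Z ∧ P Z)
    (hP : ∀ X : A, ∃ (Y : A) (π : Y ⟶ X), P Y ∧ Epi π)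
    {Q X : CochainComplex A ℤ} (u : Q ⟶ X) [Mono u] (m : ℤ) [X.IsStrictlyLE m] :
    ∃ (Q' R : CochainComplex A ℤ) (ι : Q ⟶ Q') (q : Q' ⟶ X) (σ : Q' ⟶ R) (w : ι ≫ σ = 0),
      (ShortComplex.mk ι σ w).ShortExact ∧ ι ≫ q = u ∧ QuasiIso q ∧ (∀ i, Epi (q.f i)) ∧
      R.IsStrictlyLE m ∧ (∀ i, P (R.X i)) ∧ Q'.IsStrictlyLE m := by
  have hS₀ : (ShortComplex.mk u (cokernel.π u) (cokernel.condition u)).ShortExact :=
    ShortComplex.ShortExact.mk' (ShortComplex.exact_of_g_is_cokernel _ (cokernelIsCokernel u))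
      (by dsimp; infer_instance) (by dsimp; infer_instance)
  have hpf : ∀ i, Epi ((cokernel.π u).f i) := fun i => (UnbRes.termwise hS₀ i).epi_g
  have : (cokernel u).IsStrictlyLE m := isStrictlyLE_of_epi (cokernel.π u) hpf m
  obtain ⟨R, g, hR, hRP, hgepi, hgq⟩ :=
    LeftRes.exists_resolution_int (P := P) hP hP0 (cokernel u) m
  have := hR
  have : Epi g := HomologicalComplex.epi_of_epi_f g hgepi
  have hS₁ := UnbRes.pb_shortExact_fst g u (cokernel.π u) (cokernel.condition u) hS₀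
  have hK : (ShortComplex.mk (kernel.ι g) g (kernel.condition g)).ShortExact :=
    ShortComplex.ShortExact.mk' (ShortComplex.exact_of_f_is_kernel _ (kernelIsKernel g))
      (by dsimp; infer_instance) (by dsimp; infer_instance)
  have hS₂ := UnbRes.pb_shortExact_snd (cokernel.π u) (kernel.ι g) g (kernel.condition g) hK
  have hker : (kernel g).Acyclic := acyclic_X₁_of_quasiIso hK hgq
  exact ⟨pullback g (cokernel.π u), R,
    pullback.lift 0 u (by rw [zero_comp, cokernel.condition]), pullback.snd g (cokernel.π u),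
    pullback.fst g (cokernel.π u), pullback.lift_fst _ _ _, hS₁, pullback.lift_snd _ _ _,
    LeftRes.quasiIso_g_of_acyclic hS₂ hker, fun i => (UnbRes.termwise hS₂ i).epi_g, hR, hRP,
    LeftRes.isStrictlyLE_pullback g (cokernel.π u) m⟩

omit [P.IsClosedUnderIsomorphisms] in
lemma termwise_data {Q Q' R : CochainComplex A ℤ} (ι : Q ⟶ Q') (σ : Q' ⟶ R) (w : ι ≫ σ = 0)
    (hS : (ShortComplex.mk ι σ w).ShortExact) (i : ℤ) (r : Q'.X i ⟶ Q.X i)
    (hr : ι.f i ≫ r = 𝟙 _) :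
    Nonempty (cokernel (ι.f i) ≅ R.X i) ∧ Nonempty (Q'.X i ≅ Q.X i ⊞ R.X i) := by
  have hT := UnbRes.termwise hS i
  have := hT.epi_g
  constructor
  · exact ⟨IsColimit.coconePointUniqueUpToIso (cokernelIsCokernel (ι.f i)) hT.exact.gIsCokernel⟩
  · exact ⟨(ShortComplex.Splitting.ofExactOfRetraction _ hT.exact r hr hT.epi_g).isoBinaryBiproduct⟩

lemma exists_tMap (K : CochainComplex A ℤ) (a b : ℤ) (hab : a ≤ b) :
    ∃ t : K.truncLE a ⟶ K.truncLE b, t ≫ K.ιTruncLE b = K.ιTruncLE a := by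
  have : (K.truncLE a).IsStrictlyLE b := CochainComplex.isStrictlyLE_of_le _ a b hab
  refine ⟨inv ((K.truncLE a).ιTruncLE b) ≫ CochainComplex.truncLEMap (K.ιTruncLE a) b, ?_⟩
  rw [Category.assoc, CochainComplex.ιTruncLE_naturality, IsIso.inv_hom_id_assoc]

theorem step (hP0 : ∃ Z : A, IsZero Z ∧ P Z) (hPsum : ∀ X Y : A, P X → P Y → P (X ⊞ Y))
    (hP : ∀ X : A, ∃ (Y : A) (π : Y ⟶ X), P Y ∧ Epi π) (K : CochainComplex A ℤ)
    (a b : ℤ) (hab : a ≤ b) (Q : CochainComplex A ℤ) (c : ℤ) [Q.IsStrictlyLE c]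
    (hQ : ∀ i, P (Q.X i)) (π : Q ⟶ K.truncLE a) :
    ∃ (Q' : CochainComplex A ℤ) (ι : Q ⟶ Q') (π' : Q' ⟶ K.truncLE b),
      QuasiIso π' ∧ (∀ i, Epi (π'.f i)) ∧ (∃ c' : ℤ, Q'.IsStrictlyLE c') ∧ (∀ i, P (Q'.X i)) ∧
      (∀ i, (∃ r : Q'.X i ⟶ Q.X i, ι.f i ≫ r = 𝟙 _) ∧ P (cokernel (ι.f i))) ∧
      π ≫ K.ιTruncLE a = ι ≫ π' ≫ K.ιTruncLE b := by
  obtain ⟨t, ht⟩ := exists_tMap K a b hab
  obtain ⟨D, j, hjr, hD, hDP, hDle⟩ := exists_contractible P hPsum Q c hQ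
  have := hDle
  have : (K.truncLE b).IsStrictlyLE (max b c) :=
    CochainComplex.isStrictlyLE_of_le _ b (max b c) (le_max_left _ _)
  have : D.IsStrictlyLE (max b c) :=
    CochainComplex.isStrictlyLE_of_le D c (max b c) (le_max_right _ _)
  have : (D ⊞ K.truncLE b).IsStrictlyLE (max b c) := isStrictlyLE_biprod _ _ _
  have : Mono j := HomologicalComplex.mono_of_mono_f j (fun i => by
    obtain ⟨r, hr⟩ := hjr i
    exact mono_of_mono_fac hr)
  have : Mono (biprod.lift j (π ≫ t)) := mono_of_mono_fac (biprod.lift_fst j (π ≫ t))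
  obtain ⟨Q', R, ι, q, σ, w, hS, hιq, hq, hqepi, hR, hRP, hQ'le⟩ :=
    factor P hP0 hP (biprod.lift j (π ≫ t)) (max b c)
  have hB : (ShortComplex.mk (biprod.inl : D ⟶ D ⊞ K.truncLE b) biprod.snd
      (by simp)).ShortExact :=
    (ShortComplex.Splitting.ofHasBinaryBiproduct D (K.truncLE b)).shortExact
  have hsnd : QuasiIso (biprod.snd : D ⊞ K.truncLE b ⟶ K.truncLE b) :=
    LeftRes.quasiIso_g_of_acyclic hB hD
  have hret : ∀ i, ∃ r : Q'.X i ⟶ Q.X i, ι.f i ≫ r = 𝟙 _ := by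
    intro i
    obtain ⟨r₀, hr₀⟩ := hjr i
    refine ⟨(q ≫ (biprod.fst : D ⊞ K.truncLE b ⟶ D)).f i ≫ r₀, ?_⟩
    rw [← Category.assoc, ← HomologicalComplex.comp_f, ← Category.assoc, hιq, biprod.lift_fst,
      hr₀]
  have h1 : ι ≫ q ≫ (biprod.snd : D ⊞ K.truncLE b ⟶ K.truncLE b) = π ≫ t := by
    rw [← Category.assoc, hιq, biprod.lift_snd]
  refine ⟨Q', ι, q ≫ biprod.snd, ?_, ?_, ⟨max b c, hQ'le⟩, ?_, ?_, ?_⟩
  · haveI := hq
    have := hsnd
    infer_instance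
  · intro i
    have := hqepi i
    have : Epi ((biprod.snd : D ⊞ K.truncLE b ⟶ K.truncLE b).f i) :=
      (UnbRes.termwise hB i).epi_g
    rw [HomologicalComplex.comp_f]
    infer_instance
  · intro i
    obtain ⟨r, hr⟩ := hret i
    obtain ⟨-, ⟨e⟩⟩ := termwise_data ι σ w hS i r hr
    exact P.prop_of_iso e.symm (hPsum _ _ (hQ i) (hRP i))
  · intro i
    obtain ⟨r, hr⟩ := hret i
    obtain ⟨⟨e⟩, -⟩ := termwise_data ι σ w hS i r hr
    exact ⟨⟨r, hr⟩, P.prop_of_iso e.symm (hRP i)⟩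
  · rw [← Category.assoc ι, ← Category.assoc ι, Category.assoc ι, h1, Category.assoc, ht]

end Step

section Tower

variable (P : ObjectProperty A) (K : CochainComplex A ℤ)

structure Stage (n : ℕ) where
  Q : CochainComplex A ℤ
  π : Q ⟶ K.truncLE (n : ℤ)
  qi : QuasiIso π
  epi : ∀ i, Epi (π.f i)
  bdd : ∃ b : ℤ, Q.IsStrictlyLE b
  hP : ∀ i, P (Q.X i)

variable {P K}

noncomputable def seq (s₀ : Stage P K 0) (next : ∀ n, Stage P K n → Stage P K (n + 1)) :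
    ∀ n, Stage P K n
  | 0 => s₀
  | n + 1 => next n (seq s₀ next n)

variable (P K)

theorem main [P.IsClosedUnderIsomorphisms]
    (hP0 : ∃ Z : A, IsZero Z ∧ P Z) (hPsum : ∀ X Y : A, P X → P Y → P (X ⊞ Y))
    (hP : ∀ X : A, ∃ (Y : A) (π : Y ⟶ X), P Y ∧ Epi π) :
    ∃ (Q : ℕ → CochainComplex A ℤ) (ι : ∀ n, Q n ⟶ Q (n + 1))
      (π : ∀ n : ℕ, Q n ⟶ K.truncLE (n : ℤ)),
      (∀ n, QuasiIso (π n) ∧ ∀ i, Epi ((π n).f i)) ∧
      (∀ n, ∃ b : ℤ, (Q n).IsStrictlyLE b) ∧ (∀ n i, P ((Q n).X i)) ∧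
      (∀ n i, (∃ r : (Q (n + 1)).X i ⟶ (Q n).X i, (ι n).f i ≫ r = 𝟙 _) ∧
        P (cokernel ((ι n).f i))) ∧
      (∀ n : ℕ, π n ≫ K.ιTruncLE (n : ℤ) =
        ι n ≫ π (n + 1) ≫ K.ιTruncLE ((n + 1 : ℕ) : ℤ)) := by
  have hstep : ∀ (n : ℕ) (s : Stage P K n), ∃ (s' : Stage P K (n + 1)) (ι : s.Q ⟶ s'.Q),
      (∀ i, (∃ r : s'.Q.X i ⟶ s.Q.X i, ι.f i ≫ r = 𝟙 _) ∧ P (cokernel (ι.f i))) ∧
      s.π ≫ K.ιTruncLE (n : ℤ) = ι ≫ s'.π ≫ K.ιTruncLE ((n + 1 : ℕ) : ℤ) := by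
    intro n s
    obtain ⟨c, hc⟩ := s.bdd
    have := hc
    obtain ⟨Q', ι, π', h1, h2, h3, h4, h5, h6⟩ :=
      step P hP0 hPsum hP K (n : ℤ) ((n + 1 : ℕ) : ℤ) (by exact_mod_cast Nat.le_succ n)
        s.Q c s.hP s.π
    exact ⟨⟨Q', π', h1, h2, h3, h4⟩, ι, h5, h6⟩
  obtain ⟨Q₀, π₀, hb, hP₀, hepi₀, hq₀⟩ :=
    LeftRes.exists_resolution_int (P := P) hP hP0 (K.truncLE ((0 : ℕ) : ℤ)) ((0 : ℕ) : ℤ)
  let s₀ : Stage P K 0 := ⟨Q₀, π₀, hq₀, hepi₀, ⟨_, hb⟩, hP₀⟩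
  let next : ∀ n, Stage P K n → Stage P K (n + 1) := fun n s => (hstep n s).choose
  refine ⟨fun n => (seq s₀ next n).Q, fun n => (hstep n (seq s₀ next n)).choose_spec.choose,
    fun n => (seq s₀ next n).π, fun n => ⟨(seq s₀ next n).qi, (seq s₀ next n).epi⟩,
    fun n => (seq s₀ next n).bdd, fun n i => (seq s₀ next n).hP i,
    fun n => (hstep n (seq s₀ next n)).choose_spec.choose_spec.1,
    fun n => (hstep n (seq s₀ next n)).choose_spec.choose_spec.2⟩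

end Tower

end Groth.Agent.H33.PTower
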