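import Groth.Prelude.Def_DerCA
import Mathlib.CategoryTheory.Triangulated.Pretriangulated

/-! Helper lemmas on ℕ-indexed inverse systems (helper33). -/

set_option autoImplicit false
universe v u

namespace Groth.Agent.H33

open CategoryTheory CategoryTheory.Limits Opposite

section Basic

variable {C : Type u} [Category.{v} C]

lemma tr_comp (X : ARSys.PS C) {n m k : ℕ} (h₁ : n ≤ m) (h₂ : m ≤ k) :
    ARSys.tr X h₂ ≫ ARSys.tr X h₁ = ARSys.tr X (h₁.trans h₂) := by
  dsimp [ARSys.tr]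
  rw [← X.map_comp]
  rfl

lemma tr_comp_assoc (X : ARSys.PS C) {n m k : ℕ} (h₁ : n ≤ m) (h₂ : m ≤ k) {W : C}
    (w : X.obj (op n) ⟶ W) :
    ARSys.tr X h₂ ≫ ARSys.tr X h₁ ≫ w = ARSys.tr X (h₁.trans h₂) ≫ w := by
  rw [← Category.assoc, tr_comp]

lemma tr_refl (X : ARSys.PS C) (n : ℕ) : ARSys.tr X (le_refl n) = 𝟙 _ := by
  dsimp [ARSys.tr]
  exact X.map_id _

lemma tr_naturality {X Y : ARSys.PS C} (f : X ⟶ Y) {n m : ℕ} (h : n ≤ m) :
    ARSys.tr X h ≫ f.app (op n) = f.app (op m) ≫ ARSys.tr Y h :=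
  f.naturality (homOfLE h).op

lemma tr_naturality_assoc {X Y : ARSys.PS C} (f : X ⟶ Y) {n m : ℕ} (h : n ≤ m) {W : C}
    (w : Y.obj (op n) ⟶ W) :
    ARSys.tr X h ≫ f.app (op n) ≫ w = f.app (op m) ≫ ARSys.tr Y h ≫ w := by
  rw [← Category.assoc, tr_naturality, Category.assoc]

lemma cone_tr {X : ARSys.PS C} {A : C} (c : (Functor.const ℕᵒᵖ).obj A ⟶ X) {n m : ℕ}
    (h : n ≤ m) : c.app (op m) ≫ ARSys.tr X h = c.app (op n) := by
  have := c.naturality (homOfLE h).op
  dsimp at this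
  rw [Category.id_comp] at this
  exact this.symm

lemma cone_tr_assoc {X : ARSys.PS C} {A : C} (c : (Functor.const ℕᵒᵖ).obj A ⟶ X) {n m : ℕ}
    (h : n ≤ m) {W : C} (w : X.obj (op n) ⟶ W) :
    c.app (op m) ≫ ARSys.tr X h ≫ w = c.app (op n) ≫ w := by
  rw [← Category.assoc, cone_tr]

/-- essential constancy data can be moved to any larger index -/
lemma essConstant_data_ge {X : ARSys.PS C} {A : C} {c : (Functor.const ℕᵒᵖ).obj A ⟶ X}
    (hX : DerCA.IsEssConstant X A c) (i₀ : ℕ) :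
    ∃ (i : ℕ) (_ : i₀ ≤ i) (s : X.obj (op i) ⟶ A), c.app (op i) ≫ s = 𝟙 A ∧
      ∀ j : ℕ, ∃ (k : ℕ) (hi : i ≤ k) (hj : j ≤ k),
        ARSys.tr X hj = ARSys.tr X hi ≫ s ≫ c.app (op j) := by
  obtain ⟨i, s, hs, h⟩ := hX
  refine ⟨max i i₀, le_max_right _ _, ARSys.tr X (le_max_left i i₀) ≫ s, ?_, ?_⟩
  · rw [cone_tr_assoc, hs]
  · intro j
    obtain ⟨k, hi, hj, e⟩ := h j
    refine ⟨max k i₀, max_le (hi.trans (le_max_left _ _)) (le_max_right _ _),
      hj.trans (le_max_left _ _), ?_⟩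
    rw [← tr_comp X hj (le_max_left k i₀), e, tr_comp_assoc, Category.assoc, tr_comp_assoc]

end Basic

section Tri

open CategoryTheory.Pretriangulated

variable {D : Type u} [Category.{v} D] [Preadditive D] [HasZeroObject D] [HasShift D ℤ]
    [∀ n : ℤ, (shiftFunctor D n).Additive] [Pretriangulated D]

/-- unipotent automorphism of a biproduct -/
noncomputable def unip {A Z : D} (t : Z ⟶ A) : A ⊞ Z ≅ A ⊞ Z where
  hom := biprod.lift (biprod.fst + biprod.snd ≫ t) biprod.snd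
  inv := biprod.lift (biprod.fst - biprod.snd ≫ t) biprod.snd
  hom_inv_id := by
    apply biprod.hom_ext
    · simp
    · simp
  inv_hom_id := by
    apply biprod.hom_ext
    · simp
    · simp

set_option backward.defeqAttrib.useBackward true in
set_option backward.isDefEq.respectTransparency false in
/-- a split monomorphism in a pretriangulated category is a direct summand inclusion, compatibly
with a chosen retraction -/
lemma exists_iso_biprod_of_retraction {A X : D} (c : A ⟶ X) (s : X ⟶ A) (h : c ≫ s = 𝟙 A) :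
    ∃ (Z : D) (e : X ≅ A ⊞ Z), c ≫ e.hom = biprod.inl ∧ e.hom ≫ biprod.fst = s := by
  obtain ⟨Z, g, k, hT⟩ := distinguished_cocone_triangle c
  have hmono : Mono c := mono_of_mono_fac h
  have hz : k = 0 := Triangle.mor₃_eq_zero_of_mono₁ _ hT hmono
  obtain ⟨e, he1, he2⟩ : ∃ (e : X ≅ A ⊞ Z), c ≫ e.hom = biprod.inl ∧ g = e.hom ≫ biprod.snd :=
    exists_iso_binaryBiproduct_of_distTriang _ hT hz
  have h0 : c ≫ (s - e.hom ≫ biprod.fst) = 0 := by
    rw [Preadditive.comp_sub, h, ← Category.assoc, he1, biprod.inl_fst, sub_self]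
  obtain ⟨t, ht⟩ : ∃ t : Z ⟶ A, s - e.hom ≫ biprod.fst = g ≫ t :=
    Triangle.yoneda_exact₂ _ hT _ h0
  refine ⟨Z, e ≪≫ unip t, ?_, ?_⟩
  · dsimp [unip]
    rw [← Category.assoc, he1]
    apply biprod.hom_ext
    · simp
    · simp
  · dsimp [unip]
    rw [Category.assoc, biprod.lift_fst, Preadditive.comp_add, ← Category.assoc e.hom, ← he2, ← ht]
    abel

end Tri

end Groth.Agent.H33
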