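import Groth.Agent.H33.ProSys
import Mathlib.CategoryTheory.Triangulated.Triangulated

/-! Essentially constant systems in triangulated categories (helper33). -/

set_option autoImplicit false
universe v u

namespace Groth.Agent.H33

open CategoryTheory CategoryTheory.Limits Opposite

section Retr

variable {C : Type u} [Category.{v} C]

/-- `s : X_i ⟶ A` is a retraction of the cone `c` witnessing essential constancy -/
def IsRetr (X : ARSys.PS C) (A : C) (c : (Functor.const ℕᵒᵖ).obj A ⟶ X) (i : ℕ)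
    (s : X.obj (op i) ⟶ A) : Prop :=
  c.app (op i) ≫ s = 𝟙 A ∧ ∀ j : ℕ, ∃ (k : ℕ) (hi : i ≤ k) (hj : j ≤ k),
    ARSys.tr X hj = ARSys.tr X hi ≫ s ≫ c.app (op j)

lemma isEssConstant_iff_exists_isRetr (X : ARSys.PS C) (A : C)
    (c : (Functor.const ℕᵒᵖ).obj A ⟶ X) :
    DerCA.IsEssConstant X A c ↔ ∃ (i : ℕ) (s : X.obj (op i) ⟶ A), IsRetr X A c i s := Iff.rfl

variable {X : ARSys.PS C} {A : C} {c : (Functor.const ℕᵒᵖ).obj A ⟶ X} {i : ℕ}
  {s : X.obj (op i) ⟶ A}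

lemma IsRetr.move (h : IsRetr X A c i s) {k : ℕ} (hik : i ≤ k) :
    IsRetr X A c k (ARSys.tr X hik ≫ s) := by
  refine ⟨by rw [cone_tr_assoc, h.1], fun j => ?_⟩
  obtain ⟨k', hi, hj, e⟩ := h.2 j
  refine ⟨max k' k, le_max_right _ _, hj.trans (le_max_left _ _), ?_⟩
  rw [← tr_comp X hj (le_max_left k' k), e, tr_comp_assoc, Category.assoc, tr_comp_assoc]

lemma IsRetr.surj (h : IsRetr X A c i s) {W : C} {n : ℕ} (w : X.obj (op n) ⟶ W) :
    ∃ (m : ℕ) (hi : i ≤ m) (hn : n ≤ m),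
      ARSys.tr X hn ≫ w = ARSys.tr X hi ≫ s ≫ c.app (op n) ≫ w := by
  obtain ⟨k, hi, hj, e⟩ := h.2 n
  exact ⟨k, hi, hj, by rw [e]; simp only [Category.assoc]⟩

lemma IsRetr.inj (h : IsRetr X A c i s) {W : C} (v v' : A ⟶ W) {m : ℕ} (hm : i ≤ m)
    (e : ARSys.tr X hm ≫ s ≫ v = ARSys.tr X hm ≫ s ≫ v') : v = v' := by
  have := congrArg (fun t => c.app (op m) ≫ t) e
  simp only [cone_tr_assoc, reassoc_of% h.1] at this
  simpa using this

/-- image of the retraction data under a functor -/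
lemma IsRetr.map_surj {C' : Type*} [Category C'] (F : C ⥤ C') (h : IsRetr X A c i s) {W : C'}
    {n : ℕ} (w : F.obj (X.obj (op n)) ⟶ W) :
    ∃ (m : ℕ) (hi : i ≤ m) (hn : n ≤ m),
      F.map (ARSys.tr X hn) ≫ w =
        F.map (ARSys.tr X hi) ≫ F.map s ≫ F.map (c.app (op n)) ≫ w := by
  obtain ⟨k, hi, hj, e⟩ := h.2 n
  exact ⟨k, hi, hj, by rw [e]; simp only [Functor.map_comp, Category.assoc]⟩

end Retr

section Yoneda

variable {C : Type u} [Category.{v} C] [Preadditive C]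

/-- a map from one level of an inverse system to an object which induces a bijection on
`colim Hom(Y_n, -)` exhibits the system as essentially constant -/
lemma essConstant_of_yoneda (Y : ARSys.PS C) (B : C) (k : ℕ) (t : Y.obj (op k) ⟶ B)
    (hinj : ∀ (W : C) (v : B ⟶ W) (m : ℕ) (hm : k ≤ m), ARSys.tr Y hm ≫ t ≫ v = 0 → v = 0)
    (hsurj : ∀ (W : C) (n : ℕ) (w : Y.obj (op n) ⟶ W), ∃ (v : B ⟶ W) (m : ℕ) (hk : k ≤ m)
      (hn : n ≤ m), ARSys.tr Y hn ≫ w = ARSys.tr Y hk ≫ t ≫ v) :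
    ∃ cB : (Functor.const ℕᵒᵖ).obj B ⟶ Y, DerCA.IsEssConstant Y B cB := by
  have hu : ∀ n : ℕ, ∃ (u : B ⟶ Y.obj (op n)) (m : ℕ) (hk : k ≤ m) (hn : n ≤ m),
      ARSys.tr Y hn = ARSys.tr Y hk ≫ t ≫ u := fun n => by
    obtain ⟨v, m, hk, hn, e⟩ := hsurj _ n (𝟙 _)
    exact ⟨v, m, hk, hn, by rw [← e, Category.comp_id]⟩
  choose u m hk hn hu using hu
  have hu' : ∀ (n M : ℕ) (hM : m n ≤ M),
      ARSys.tr Y ((hk n).trans hM) ≫ t ≫ u n = ARSys.tr Y ((hn n).trans hM) := fun n M hM => by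
    rw [← tr_comp Y (hk n) hM, Category.assoc, ← hu, tr_comp]
  have hcomp : ∀ (n n' : ℕ) (hnn : n ≤ n'), u n' ≫ ARSys.tr Y hnn = u n := fun n n' hnn => by
    rw [← sub_eq_zero]
    apply hinj _ _ (max (m n) (m n')) ((hk n).trans (le_max_left _ _))
    rw [Preadditive.comp_sub, Preadditive.comp_sub, sub_eq_zero]
    have h1 := hu' n (max (m n) (m n')) (le_max_left _ _)
    have h2 := hu' n' (max (m n) (m n')) (le_max_right _ _)
    rw [h1, ← Category.assoc, ← Category.assoc, Category.assoc _ t, h2, tr_comp]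
  let cB : (Functor.const ℕᵒᵖ).obj B ⟶ Y :=
    { app := fun n => u n.unop
      naturality := by
        rintro ⟨n'⟩ ⟨n⟩ φ
        have hnn : n ≤ n' := leOfHom φ.unop
        have hφ : φ = (homOfLE hnn).op := rfl
        dsimp
        rw [Category.id_comp, hφ]
        exact (hcomp n n' hnn).symm }
  refine ⟨cB, k, t, ?_, fun j => ⟨m j, hk j, hn j, hu j⟩⟩
  change u k ≫ t = 𝟙 B
  rw [← sub_eq_zero]
  apply hinj _ _ (m k) (hk k)
  rw [Preadditive.comp_sub, Preadditive.comp_sub, sub_eq_zero, Category.comp_id,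
    ← Category.assoc t, ← Category.assoc, ← hu k]

end Yoneda

section Tri

open CategoryTheory.Pretriangulated

variable {D : Type u} [Category.{v} D] [Preadditive D] [HasZeroObject D] [HasShift D ℤ]
    [∀ n : ℤ, (shiftFunctor D n).Additive] [Pretriangulated D]

set_option backward.defeqAttrib.useBackward true in
set_option backward.isDefEq.respectTransparency false in
/-- exactness of `Hom(-, W)` at the first vertex of a distinguished triangle -/
lemma yoneda_exact₁' (T : Triangle D) (hT : T ∈ distTriang D) {W : D} (v : T.obj₁ ⟶ W)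
    (hv : T.mor₃ ≫ v⟦(1 : ℤ)⟧' = 0) : ∃ v₁ : T.obj₂ ⟶ W, v = T.mor₁ ≫ v₁ := by
  obtain ⟨g', hg'⟩ := Triangle.yoneda_exact₃ _ (rot_of_distTriang _ hT) (v⟦(1 : ℤ)⟧') hv
  obtain ⟨v₁', rfl⟩ := (shiftFunctor D (1 : ℤ)).map_surjective g'
  refine ⟨-v₁', (shiftFunctor D (1 : ℤ)).map_injective ?_⟩
  rw [hg']
  dsimp
  simp

end Tri

end Groth.Agent.H33
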