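import Mathlib

/-!
# Squad lemma (ALG1) for helper32 (S10809): membership in a submodule of a free module can be
tested after a jointly faithfully flat finite family of base changes.
-/

set_option autoImplicit false
universe u
open CategoryTheory Limits TensorProduct

namespace Groth.Agent.H33.QCBC_ALG1

noncomputable abbrev bc {A : Type u} {B : Type u} [CommRing A] [CommRing B] (φ : A →+* B)
    {I : Type u} (c : I →₀ A) : I →₀ B := Finsupp.mapRange φ (map_zero _) c

variable {A : Type u} [CommRing A] {n : ℕ} (B : Fin n → Type u) [∀ a, CommRing (B a)]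
  [∀ a, Algebra A (B a)] [∀ a, Module.Flat A (B a)]

/-- (ALG1) -/
theorem mem_of_forall_mem_span
    (hsurj : ∀ p : PrimeSpectrum A, ∃ a,
      p ∈ Set.range (PrimeSpectrum.comap (algebraMap A (B a))))
    {I : Type u} (K : Submodule A (I →₀ A)) (c : I →₀ A)
    (hc : ∀ a, bc (algebraMap A (B a)) c ∈
      Submodule.span (B a) (bc (algebraMap A (B a)) '' (K : Set (I →₀ A)))) : c ∈ K := by
  classical
  let g : A →ₗ[A] (I →₀ A) ⧸ K := LinearMap.toSpanSingleton A _ (K.mkQ c)
  let J : Ideal A := LinearMap.ker g
  by_contra hcK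
  have hJ : J ≠ ⊤ := by
    intro h
    have h1 : (1 : A) ∈ J := h ▸ Submodule.mem_top
    have h2 : g 1 = 0 := h1
    rw [LinearMap.toSpanSingleton_apply, one_smul, Submodule.mkQ_apply,
      Submodule.Quotient.mk_eq_zero] at h2
    exact hcK h2
  obtain ⟨m, hm, hJm⟩ := Ideal.exists_le_maximal J hJ
  obtain ⟨a, q, hq⟩ := hsurj ⟨m, hm.isPrime⟩
  have hmap_le : J.map (algebraMap A (B a)) ≤ q.asIdeal := by
    rw [Ideal.map_le_iff_le_comap]
    intro r hr
    have h1 : r ∈ (PrimeSpectrum.comap (algebraMap A (B a)) q).asIdeal := by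
      rw [hq]
      exact hJm hr
    exact h1
  have htop : J.map (algebraMap A (B a)) = ⊤ := by
    let gbar : (A ⧸ J) →ₗ[A] (I →₀ A) ⧸ K := Submodule.liftQ J g le_rfl
    have hgbar : Function.Injective gbar := by
      rw [← LinearMap.ker_eq_bot]
      exact Submodule.ker_liftQ_eq_bot _ _ _ le_rfl
    have hT : Function.Injective (gbar.lTensor (B a)) :=
      Module.Flat.lTensor_preserves_injective_linearMap gbar hgbar
    let v : I → (B a) ⊗[A] ((I →₀ A) ⧸ K) := fun i => 1 ⊗ₜ K.mkQ (Finsupp.single i 1)
    let Θ : (I →₀ B a) →ₗ[B a] (B a) ⊗[A] ((I →₀ A) ⧸ K) := Finsupp.linearCombination (B a) v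
    have hΘ : ∀ x : I →₀ A, Θ (bc (algebraMap A (B a)) x) = 1 ⊗ₜ K.mkQ x := by
      intro x
      induction x using Finsupp.induction_linear with
      | zero =>
        have h0 : bc (algebraMap A (B a)) (0 : I →₀ A) = 0 := Finsupp.mapRange_zero
        rw [h0, map_zero, map_zero, TensorProduct.tmul_zero]
      | add x y hx hy =>
        have h0 : bc (algebraMap A (B a)) (x + y) =
            bc (algebraMap A (B a)) x + bc (algebraMap A (B a)) y :=
          Finsupp.mapRange_add (map_add _) x y
        rw [h0, map_add, hx, hy, map_add, TensorProduct.tmul_add]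
      | single i r =>
        have h0 : bc (algebraMap A (B a)) (Finsupp.single i r) =
            Finsupp.single i (algebraMap A (B a) r) := Finsupp.mapRange_single
        rw [h0]
        show Finsupp.linearCombination (B a) v (Finsupp.single i (algebraMap A (B a) r)) = _
        rw [Finsupp.linearCombination_single]
        show (algebraMap A (B a) r) • ((1 : B a) ⊗ₜ[A] K.mkQ (Finsupp.single i 1)) =
          1 ⊗ₜ K.mkQ (Finsupp.single i r)
        rw [algebraMap_smul, ← TensorProduct.tmul_smul, ← map_smul, Finsupp.smul_single,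
          smul_eq_mul, mul_one]
    have hΘc : Θ (bc (algebraMap A (B a)) c) = 0 := by
      have hle : Submodule.span (B a) (bc (algebraMap A (B a)) '' (K : Set (I →₀ A))) ≤
          LinearMap.ker Θ := by
        rw [Submodule.span_le]
        rintro _ ⟨k, hk, rfl⟩
        rw [SetLike.mem_coe, LinearMap.mem_ker, hΘ, Submodule.mkQ_apply,
          (Submodule.Quotient.mk_eq_zero K).mpr hk, TensorProduct.tmul_zero]
      exact hle (hc a)
    rw [hΘ] at hΘc
    have hg1 : gbar (1 : A ⧸ J) = K.mkQ c := by
      show g 1 = _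
      rw [LinearMap.toSpanSingleton_apply, one_smul]
    have h0 : (1 : B a) ⊗ₜ[A] (1 : A ⧸ J) = 0 := by
      apply hT
      rw [LinearMap.lTensor_tmul, map_zero, hg1]
      exact hΘc
    have h1 : (Algebra.TensorProduct.quotIdealMapEquivTensorQuot (B a) J)
        (Ideal.Quotient.mk _ 1) = 0 := by
      rw [Algebra.TensorProduct.quotIdealMapEquivTensorQuot_mk]
      exact h0
    have h2 : (Ideal.Quotient.mk (J.map (algebraMap A (B a))) 1) = 0 :=
      (map_eq_zero_iff _ (Algebra.TensorProduct.quotIdealMapEquivTensorQuot (B a) J).injective).mp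
        h1
    rw [Ideal.Quotient.eq_zero_iff_mem] at h2
    exact (Ideal.eq_top_iff_one _).mpr h2
  exact q.isPrime.ne_top (top_le_iff.mp (htop ▸ hmap_le))

end Groth.Agent.H33.QCBC_ALG1
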