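import Groth.Agent.H5.KInj.Triang
import Groth.Agent.H5.KInj.Products
import Groth.Prelude.Def_DCoh2

/-!
# Total right derived functors of product-preserving functors preserve derived limits

* `quasiIso_piMap`: in an abelian category with exact `ℕ`-indexed products, a product of
  quasi-isomorphisms is a quasi-isomorphism.
* `isLimit_Q_pi_of_exact`, `isLimit_Q_fan`: in that situation the localization functor
  `Q : C(B) ⥤ D(B)` preserves `ℕ`-indexed products.
* `preservesLimit_RF`: the total right derived functor `RF : D(A) ⥤ D(B)` of an additive functor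
  `F : A ⥤ B` commuting with `ℕ`-indexed products (`A` Grothendieck abelian, `B` with exact
  `ℕ`-indexed products) preserves `ℕ`-indexed products.
* `additive_RF`: such a derived functor is additive.
* `isRlim_RF`: it preserves derived limits.
-/

set_option autoImplicit false
universe w w' v u v' u'

namespace Groth.Agent.H33.RFProd

open CategoryTheory Limits

section Fans

variable {D : Type*} [Category D]

/-- Transport of limit fans along isomorphisms. -/
noncomputable def isLimitFanOfIsos {ι : Type*} {Y Y' : ι → D} {P P' : D}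
    (p : ∀ n, P ⟶ Y n) (p' : ∀ n, P' ⟶ Y' n) (hl : IsLimit (Fan.mk P p))
    (ε : P' ⟶ P) [IsIso ε] (εn : ∀ n, Y n ⟶ Y' n) [∀ n, IsIso (εn n)]
    (h : ∀ n, p' n = ε ≫ p n ≫ εn n) : IsLimit (Fan.mk P' p') :=
  Fan.IsLimit.mk _ (fun s => Fan.IsLimit.lift hl (fun n => s.proj n ≫ inv (εn n)) ≫ inv ε)
    (fun s n => by
      have h1 : Fan.IsLimit.lift hl (fun n => s.proj n ≫ inv (εn n)) ≫ p n =
          s.proj n ≫ inv (εn n) := Fan.IsLimit.fac hl (fun n => s.proj n ≫ inv (εn n)) n
      change (Fan.IsLimit.lift hl (fun n => s.proj n ≫ inv (εn n)) ≫ inv ε) ≫ p' n = s.proj n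
      rw [h n, Category.assoc, IsIso.inv_hom_id_assoc, ← Category.assoc, h1, Category.assoc,
        IsIso.inv_hom_id, Category.comp_id])
    (fun s m hm => by
      rw [← cancel_mono ε, Category.assoc, IsIso.inv_hom_id, Category.comp_id]
      refine Fan.IsLimit.hom_ext hl _ _ (fun n => ?_)
      have h1 : m ≫ p' n = s.proj n := hm n
      have h2 : Fan.IsLimit.lift hl (fun n => s.proj n ≫ inv (εn n)) ≫ p n =
          s.proj n ≫ inv (εn n) := Fan.IsLimit.fac hl (fun n => s.proj n ≫ inv (εn n)) n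
      change (m ≫ ε) ≫ p n = Fan.IsLimit.lift hl (fun n => s.proj n ≫ inv (εn n)) ≫ p n
      rw [h2, ← h1, h n]
      simp)

end Fans

section ExactProducts

variable {B : Type u} [Category.{v} B] [Abelian B] [HasProductsOfShape ℕ B]
  [(lim : (Discrete ℕ ⥤ B) ⥤ B).PreservesEpimorphisms]

theorem epi_piMap {X Y : ℕ → B} (p : ∀ n, X n ⟶ Y n) [∀ n, Epi (p n)] :
    Epi (Limits.Pi.map p) := by
  have : ∀ c : Discrete ℕ, Epi ((Discrete.natTrans (fun n : Discrete ℕ => p n.as) :
      Discrete.functor X ⟶ Discrete.functor Y).app c) := fun c => inferInstanceAs (Epi (p c.as))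
  have : Epi (Discrete.natTrans (fun n : Discrete ℕ => p n.as) :
      Discrete.functor X ⟶ Discrete.functor Y) := NatTrans.epi_of_epi_app _
  exact inferInstanceAs (Epi ((lim : (Discrete ℕ ⥤ B) ⥤ B).map
    (Discrete.natTrans (fun n : Discrete ℕ => p n.as) :
      Discrete.functor X ⟶ Discrete.functor Y)))

/-- Countably many epimorphisms onto `A` have a common refinement. -/
theorem exists_common_refinement {A : B} {A' : ℕ → B} (p : ∀ n, A' n ⟶ A) [∀ n, Epi (p n)] :
    ∃ (A'' : B) (q : A'' ⟶ A) (_ : Epi q) (r : ∀ n, A'' ⟶ A' n), ∀ n, r n ≫ p n = q := by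
  have := epi_piMap p
  refine ⟨pullback (Limits.Pi.map p) (Pi.lift (fun _ : ℕ => 𝟙 A)),
    pullback.snd _ _, inferInstance, fun n => pullback.fst _ _ ≫ Pi.π _ n, fun n => ?_⟩
  have h := pullback.condition (f := Limits.Pi.map p) (g := Pi.lift (fun _ : ℕ => 𝟙 A))
  have h2 := congrArg (fun f => f ≫ Pi.π (fun _ : ℕ => A) n) h
  simp only [Category.assoc, Limits.Pi.map_π, Pi.lift_π, Category.comp_id] at h2
  rw [Category.assoc]
  exact h2

theorem hom_ext_piX (M : ℕ → CochainComplex B ℤ) (j : ℤ) {A : B} (f g : A ⟶ (∏ᶜ M).X j)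
    (h : ∀ n, f ≫ (Pi.π M n).f j = g ≫ (Pi.π M n).f j) : f = g :=
  (isLimitOfPreserves (HomologicalComplex.eval B (ComplexShape.up ℤ) j)
    (productIsProduct M)).hom_ext (fun ⟨n⟩ => h n)

theorem exists_lift_piX (M : ℕ → CochainComplex B ℤ) (j : ℤ) {A : B}
    (f : ∀ n, A ⟶ (M n).X j) :
    ∃ l : A ⟶ (∏ᶜ M).X j, ∀ n, l ≫ (Pi.π M n).f j = f n := by
  let hl := isLimitOfPreserves (HomologicalComplex.eval B (ComplexShape.up ℤ) j)
    (productIsProduct M)
  let s : Cone (Discrete.functor M ⋙ HomologicalComplex.eval B (ComplexShape.up ℤ) j) :=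
    { pt := A, π := Discrete.natTrans (fun i => f i.as) }
  exact ⟨hl.lift s, fun n => hl.fac s ⟨n⟩⟩

theorem piMap_f_comp {M M' : ℕ → CochainComplex B ℤ} (u : ∀ n, M n ⟶ M' n) (n : ℕ) (j : ℤ) :
    (Limits.Pi.map u).f j ≫ (Pi.π M' n).f j = (Pi.π M n).f j ≫ (u n).f j := by
  rw [← HomologicalComplex.comp_f, ← HomologicalComplex.comp_f, Limits.Pi.map_π]

/-- With exact countable products, a countable product of quasi-isomorphisms is a
quasi-isomorphism. -/
theorem quasiIso_piMap {M M' : ℕ → CochainComplex B ℤ} (u : ∀ n, M n ⟶ M' n)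
    [∀ n, QuasiIso (u n)] : QuasiIso (Limits.Pi.map u) := by
  rw [quasiIso_iff]
  intro j
  rw [quasiIsoAt_iff_isIso_homologyMap]
  have hiso : ∀ n, IsIso (HomologicalComplex.homologyMap (u n) j) := fun n =>
    (quasiIsoAt_iff_isIso_homologyMap (u n) j).1 inferInstance
  have hmono : Mono (HomologicalComplex.homologyMap (Limits.Pi.map u) j) := by
    rw [HomologicalComplex.mono_homologyMap_iff_up_to_refinements (Limits.Pi.map u)
      (j - 1) j (j + 1) (by simp) (by simp)]
    intro A x₂ hx₂ y₁ hy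
    have key : ∀ n, ∃ (A' : B) (π : A' ⟶ A) (_ : Epi π) (x₁ : A' ⟶ (M n).X (j - 1)),
        π ≫ x₂ ≫ (Pi.π M n).f j = x₁ ≫ (M n).d (j - 1) j := by
      intro n
      have := hiso n
      have hm : Mono (HomologicalComplex.homologyMap (u n) j) := inferInstance
      rw [HomologicalComplex.mono_homologyMap_iff_up_to_refinements (u n) (j - 1) j (j + 1)
        (by simp) (by simp)] at hm
      exact hm (x₂ ≫ (Pi.π M n).f j)
        (by rw [Category.assoc, (Pi.π M n).comm, ← Category.assoc, hx₂, zero_comp])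
        (y₁ ≫ (Pi.π M' n).f (j - 1))
        (by rw [Category.assoc, ← piMap_f_comp u n j, ← Category.assoc, hy, Category.assoc,
          Category.assoc, (Pi.π M' n).comm])
    choose A' π hπ x₁ hx₁ using key
    have := hπ
    obtain ⟨A'', q, hq, r, hr⟩ := exists_common_refinement π
    obtain ⟨l, hl⟩ := exists_lift_piX M (j - 1) (fun n => r n ≫ x₁ n)
    refine ⟨A'', q, hq, l, hom_ext_piX M j _ _ (fun n => ?_)⟩
    rw [Category.assoc, Category.assoc, ← (Pi.π M n).comm, ← Category.assoc l, hl n,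
      Category.assoc, ← hx₁ n, ← Category.assoc (r n), hr n]
  have hepi : Epi (HomologicalComplex.homologyMap (Limits.Pi.map u) j) := by
    rw [HomologicalComplex.epi_homologyMap_iff_up_to_refinements (Limits.Pi.map u)
      (j - 1) j (j + 1) (by simp) (by simp)]
    intro A y₂ hy₂
    have key : ∀ n, ∃ (A' : B) (π : A' ⟶ A) (_ : Epi π) (x₂ : A' ⟶ (M n).X j)
        (_ : x₂ ≫ (M n).d j (j + 1) = 0) (y₁ : A' ⟶ (M' n).X (j - 1)),
        π ≫ y₂ ≫ (Pi.π M' n).f j = x₂ ≫ (u n).f j + y₁ ≫ (M' n).d (j - 1) j := by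
      intro n
      have := hiso n
      have he : Epi (HomologicalComplex.homologyMap (u n) j) := inferInstance
      rw [HomologicalComplex.epi_homologyMap_iff_up_to_refinements (u n) (j - 1) j (j + 1)
        (by simp) (by simp)] at he
      exact he (y₂ ≫ (Pi.π M' n).f j)
        (by rw [Category.assoc, (Pi.π M' n).comm, ← Category.assoc, hy₂, zero_comp])
    choose A' π hπ x₂ hx₂ y₁ hy₁ using key
    have := hπ
    obtain ⟨A'', q, hq, r, hr⟩ := exists_common_refinement π
    obtain ⟨lx, hlx⟩ := exists_lift_piX M j (fun n => r n ≫ x₂ n)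
    obtain ⟨ly, hly⟩ := exists_lift_piX M' (j - 1) (fun n => r n ≫ y₁ n)
    refine ⟨A'', q, hq, lx, hom_ext_piX M (j + 1) _ _ (fun n => ?_), ly,
      hom_ext_piX M' j _ _ (fun n => ?_)⟩
    · rw [Category.assoc, ← (Pi.π M n).comm, ← Category.assoc, hlx n, Category.assoc, hx₂ n,
        comp_zero, zero_comp]
    · rw [Preadditive.add_comp, Category.assoc, Category.assoc, Category.assoc,
        piMap_f_comp u n j, ← (Pi.π M' n).comm, ← Category.assoc lx, hlx n,
        ← Category.assoc ly, hly n, Category.assoc, Category.assoc, ← Preadditive.comp_add,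
        ← hy₁ n, ← Category.assoc (r n), hr n]
  exact isIso_of_mono_of_epi _

end ExactProducts

section QProducts

variable {B : Type u} [Category.{v} B] [Abelian B] [HasDerivedCategory.{w} B]

open DerivedCategory

theorem exists_quasiIso_comp_homotopy_zero {K L : CochainComplex B ℤ} (f : K ⟶ L)
    (hf : Q.map f = 0) :
    ∃ (L' : CochainComplex B ℤ) (s : L ⟶ L') (_ : QuasiIso s),
      Nonempty (Homotopy (f ≫ s) 0) := by
  have h1 : Qh.map ((HomotopyCategory.quotient B (ComplexShape.up ℤ)).map f) =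
      Qh.map ((HomotopyCategory.quotient B (ComplexShape.up ℤ)).map (0 : K ⟶ L)) := by
    rw [← cancel_mono ((quotientCompQhIso B).hom.app L), quotientCompQhIso_hom_naturality,
      quotientCompQhIso_hom_naturality, hf, Functor.map_zero]
  obtain ⟨Z, s', hs', fac⟩ := (MorphismProperty.map_eq_iff_postcomp Qh
    (HomotopyCategory.quasiIso B (ComplexShape.up ℤ)) _ _).1 h1
  obtain ⟨L', rfl⟩ := HomotopyCategory.quotient_obj_surjective Z
  obtain ⟨s, rfl⟩ := (HomotopyCategory.quotient B (ComplexShape.up ℤ)).map_surjective s'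
  rw [HomotopyCategory.quotient_map_mem_quasiIso_iff, HomologicalComplex.mem_quasiIso_iff] at hs'
  refine ⟨L', s, hs', ⟨HomotopyCategory.homotopyOfEq _ _ ?_⟩⟩
  rw [Functor.map_comp, fac, Functor.map_zero, zero_comp, Functor.map_zero]

variable [HasProductsOfShape ℕ B] [(lim : (Discrete ℕ ⥤ B) ⥤ B).PreservesEpimorphisms]

/-- With exact countable products, `Q` preserves countable products. -/
theorem isLimit_Q_pi_of_exact (M : ℕ → CochainComplex B ℤ) :
    Nonempty (IsLimit (Fan.mk (Q.obj (∏ᶜ M)) (fun n => Q.map (Pi.π M n)))) := by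
  have hzero : ∀ (X₀ : CochainComplex B ℤ) (m : Q.obj X₀ ⟶ Q.obj (∏ᶜ M)),
      (∀ n, m ≫ Q.map (Pi.π M n) = 0) → m = 0 := by
    intro X₀ m hm
    obtain ⟨X', s, hs, g, rfl⟩ := right_fac m
    have hg : ∀ n, Q.map (g ≫ Pi.π M n) = 0 := fun n => by
      have := hm n
      rw [Category.assoc, IsIso.inv_comp_eq, comp_zero, ← Functor.map_comp] at this
      exact this
    choose L' σ hσ ho using fun n => exists_quasiIso_comp_homotopy_zero _ (hg n)
    have := hσ
    have : QuasiIso (Limits.Pi.map σ) := quasiIso_piMap σ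
    have : IsIso (Q.map (Limits.Pi.map σ)) := (isIso_Q_map_iff_quasiIso _ _).2 inferInstance
    obtain ⟨h0⟩ := Groth.Agent.H5.KInj.homotopy_pi L' (g ≫ Limits.Pi.map σ) 0 (fun n => by
      obtain ⟨h⟩ := ho n
      exact ⟨(Homotopy.ofEq (by rw [Category.assoc, Limits.Pi.map_π, Category.assoc])).trans
        (h.trans (Homotopy.ofEq (by rw [zero_comp])))⟩)
    have h1 : Q.map g ≫ Q.map (Limits.Pi.map σ) = 0 := by
      rw [← Functor.map_comp, Q_map_eq_of_homotopy _ h0, Functor.map_zero]
    have h2 : Q.map g = 0 := by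
      rw [← cancel_mono (Q.map (Limits.Pi.map σ)), h1, zero_comp]
    rw [h2, comp_zero]
  have huniq : ∀ (X : DerivedCategory B) (m₁ m₂ : X ⟶ Q.obj (∏ᶜ M)),
      (∀ n, m₁ ≫ Q.map (Pi.π M n) = m₂ ≫ Q.map (Pi.π M n)) → m₁ = m₂ := by
    intro X m₁ m₂ hm
    rw [← sub_eq_zero, ← cancel_epi (Q.objObjPreimageIso X).hom, comp_zero]
    apply hzero
    intro n
    rw [Category.assoc, Preadditive.sub_comp, hm n, sub_self, comp_zero]
  have hex : ∀ (s : Fan (fun n => Q.obj (M n))), ∃ l : s.pt ⟶ Q.obj (∏ᶜ M),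
      ∀ n, l ≫ Q.map (Pi.π M n) = s.proj n := by
    intro s
    choose Y' f σ hσ hf using fun n => left_fac ((Q.objObjPreimageIso s.pt).hom ≫ s.proj n)
    have : ∀ n, QuasiIso (σ n) := fun n => (isIso_Q_map_iff_quasiIso _ _).1 (hσ n)
    have : QuasiIso (Limits.Pi.map σ) := quasiIso_piMap σ
    have : IsIso (Q.map (Limits.Pi.map σ)) := (isIso_Q_map_iff_quasiIso _ _).2 inferInstance
    refine ⟨(Q.objObjPreimageIso s.pt).inv ≫ Q.map (Pi.lift f) ≫
      inv (Q.map (Limits.Pi.map σ)), fun n => ?_⟩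
    have := hσ n
    have h1 : inv (Q.map (Limits.Pi.map σ)) ≫ Q.map (Pi.π M n) =
        Q.map (Pi.π Y' n) ≫ inv (Q.map (σ n)) := by
      rw [IsIso.inv_comp_eq, ← Category.assoc, IsIso.eq_comp_inv, ← Functor.map_comp,
        ← Functor.map_comp, Limits.Pi.map_π]
    rw [Category.assoc, Category.assoc, h1, ← Category.assoc (Q.map (Pi.lift f)),
      ← Functor.map_comp, Pi.lift_π, ← hf n, Iso.inv_hom_id_assoc]
  choose lift hlift using hex
  exact ⟨Fan.IsLimit.mk _ lift (fun s n => hlift s n) (fun s m hm =>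
    huniq _ _ _ (fun n => by rw [hlift s n]; exact hm n))⟩

theorem isLimit_Q_fan (M : ℕ → CochainComplex B ℤ) {P : CochainComplex B ℤ}
    (p : ∀ n, P ⟶ M n) (hc : IsLimit (Fan.mk P p)) :
    Nonempty (IsLimit (Fan.mk (Q.obj P) (fun n => Q.map (p n)))) := by
  obtain ⟨hl⟩ := isLimit_Q_pi_of_exact M
  let e : P ≅ ∏ᶜ M := hc.conePointUniqueUpToIso (productIsProduct M)
  have he : ∀ n, e.hom ≫ Pi.π M n = p n := fun n =>
    IsLimit.conePointUniqueUpToIso_hom_comp hc (productIsProduct M) ⟨n⟩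
  exact ⟨isLimitFanOfIsos (fun n => Q.map (Pi.π M n)) (fun n => Q.map (p n)) hl (Q.map e.hom)
    (fun n => 𝟙 _) (fun n => by rw [Category.comp_id, ← Functor.map_comp, he n])⟩

end QProducts

section Derived

open DerivedCategory Groth.Agent.H5.KInjDer

variable {A : Type u} [Category.{v} A] [Abelian A] [IsGrothendieckAbelian.{v} A]
  [HasDerivedCategory.{w} A]
  {B : Type u'} [Category.{v'} B] [Abelian B] [HasDerivedCategory.{w'} B]
  (F : A ⥤ B) [F.Additive]
  (RF : DerivedCategory A ⥤ DerivedCategory B)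
  (β : F.mapHomotopyCategory (ComplexShape.up ℤ) ⋙ DerivedCategory.Qh ⟶
    DerivedCategory.Qh ⋙ RF)
  [RF.IsRightDerivedFunctor β (HomotopyCategory.quasiIso A (ComplexShape.up ℤ))]

omit [F.Additive] [RF.IsRightDerivedFunctor β (HomotopyCategory.quasiIso A (ComplexShape.up ℤ))] in
theorem exists_kinj_model (L : DerivedCategory A) :
    ∃ (M : CochainComplex A ℤ) (_ : M.IsKInjective), Nonempty (Q.obj M ≅ L) := by
  obtain ⟨M, g, hM, hg, -, -⟩ := Groth.Agent.S0476.result (Q.objPreimage L)
  have : IsIso (Q.map g) := (isIso_Q_map_iff_quasiIso _ g).2 hg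
  exact ⟨M, hM, ⟨(asIso (Q.map g)).symm ≪≫ Q.objObjPreimageIso L⟩⟩

include F β

theorem isIso_unitC_app (I : CochainComplex A ℤ) [I.IsKInjective] :
    IsIso ((unitC F RF β).app I) := by
  have := isRightDerivedFunctor_unitC F RF β
  exact isIso_app_of_isKInjective _ (inverts_map_Q F) (unitC F RF β) I

/-- A right derived functor of an additive functor is additive. -/
theorem additive_RF : RF.Additive := by
  constructor
  intro P P' f g
  obtain ⟨Z, hZ, ⟨e⟩⟩ := exists_KI_iso P
  obtain ⟨Z', hZ', ⟨e'⟩⟩ := exists_KI_iso P'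
  obtain ⟨f₀, hf₀⟩ := exists_Qh_map_eq Z Z' hZ' (e.inv ≫ f ≫ e'.hom)
  obtain ⟨g₀, hg₀⟩ := exists_Qh_map_eq Z Z' hZ' (e.inv ≫ g ≫ e'.hom)
  have := isIso_app_of_KI _ RF β Z hZ
  have := isIso_app_of_KI _ RF β Z' hZ'
  have key : ∀ h : Z ⟶ Z', RF.map (DerivedCategory.Qh.map h) = inv (β.app Z) ≫
      (F.mapHomotopyCategory (ComplexShape.up ℤ) ⋙ DerivedCategory.Qh).map h ≫ β.app Z' := by
    intro h
    rw [IsIso.eq_inv_comp]
    exact (β.naturality h).symm
  have hF : ∀ h : Z ⟶ Z', RF.map (e.hom ≫ DerivedCategory.Qh.map h ≫ e'.inv) =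
      RF.map e.hom ≫ (inv (β.app Z) ≫
        (F.mapHomotopyCategory (ComplexShape.up ℤ) ⋙ DerivedCategory.Qh).map h ≫ β.app Z') ≫
        RF.map e'.inv := by
    intro h
    rw [RF.map_comp, RF.map_comp, key]
  have hf : f = e.hom ≫ DerivedCategory.Qh.map f₀ ≫ e'.inv := by
    rw [hf₀]
    simp
  have hg : g = e.hom ≫ DerivedCategory.Qh.map g₀ ≫ e'.inv := by
    rw [hg₀]
    simp
  have hfg : f + g = e.hom ≫ DerivedCategory.Qh.map (f₀ + g₀) ≫ e'.inv := by
    rw [Functor.map_add, Preadditive.add_comp, Preadditive.comp_add, ← hf, ← hg]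
  calc RF.map (f + g) = RF.map (e.hom ≫ DerivedCategory.Qh.map (f₀ + g₀) ≫ e'.inv) := by
        rw [hfg]
    _ = RF.map (e.hom ≫ DerivedCategory.Qh.map f₀ ≫ e'.inv) +
        RF.map (e.hom ≫ DerivedCategory.Qh.map g₀ ≫ e'.inv) := by
        rw [hF, hF, hF, Functor.map_add]
        simp only [Preadditive.add_comp, Preadditive.comp_add]
    _ = RF.map f + RF.map g := by rw [← hf, ← hg]

variable [HasProductsOfShape ℕ B] [(lim : (Discrete ℕ ⥤ B) ⥤ B).PreservesEpimorphisms]
  [PreservesLimitsOfShape (Discrete ℕ) F]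

theorem isLimit_RF_fan (I : ℕ → CochainComplex A ℤ) [∀ n, (I n).IsKInjective] :
    Nonempty (IsLimit (Fan.mk (RF.obj (Q.obj (∏ᶜ I)))
      (fun n => RF.map (Q.map (Pi.π I n))))) := by
  have : (∏ᶜ I).IsKInjective := Groth.Agent.H3.isKInjective_pi I inferInstance
  have := isIso_unitC_app F RF β (∏ᶜ I)
  have := fun n => isIso_unitC_app F RF β (I n)
  obtain ⟨hl⟩ := isLimit_Q_fan
    (fun n => (F.mapHomologicalComplex (ComplexShape.up ℤ)).obj (I n))
    (fun n => (F.mapHomologicalComplex (ComplexShape.up ℤ)).map (Pi.π I n))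
    (isLimitFanMkObjOfIsLimit (F.mapHomologicalComplex (ComplexShape.up ℤ)) I _
      (productIsProduct I))
  exact ⟨isLimitFanOfIsos _ _ hl (inv ((unitC F RF β).app (∏ᶜ I)))
    (fun n => (unitC F RF β).app (I n)) (fun n => by
      rw [IsIso.eq_inv_comp]
      exact ((unitC F RF β).naturality (Pi.π I n)).symm)⟩

/-- The derived functor preserves countable products. -/
theorem preservesLimit_RF (K : ℕ → DerivedCategory A) :
    PreservesLimit (Discrete.functor K) RF := by
  choose I hI e using fun n => exists_kinj_model (K n)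
  have := hI
  have e' : ∀ n, Q.obj (I n) ≅ K n := fun n => (e n).some
  obtain ⟨hl⟩ := Groth.Agent.H5.KInj.isLimit_Q_pi I hI
  obtain ⟨hl'⟩ := isLimit_RF_fan F RF β I
  have : PreservesLimit (Discrete.functor (fun n => Q.obj (I n))) RF :=
    preservesLimit_of_preserves_limit_cone hl ((isLimitMapConeFanMkEquiv RF _ _).symm hl')
  exact preservesLimit_of_iso_diagram RF
    (Discrete.natIso (fun n => e' n.as) :
      Discrete.functor (fun n => Q.obj (I n)) ≅ Discrete.functor K)

end Derived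

section Rlim

open Pretriangulated

set_option backward.isDefEq.respectTransparency.types false in
set_option backward.defeqAttrib.useBackward true in
/-- Abstract form (as in `Groth.Agent.S0935.isRlim_map`): a functor between pretriangulated
categories which preserves the relevant countable product, is additive, and sends middle maps of
distinguished triangles to middle maps of distinguished triangles, preserves derived limits. -/
theorem isRlim_map {T T' : Type*} [Category T] [Category T'] [Preadditive T] [Preadditive T']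
    [HasZeroObject T] [HasZeroObject T'] [HasShift T ℤ] [HasShift T' ℤ]
    [∀ n : ℤ, (shiftFunctor T n).Additive] [∀ n : ℤ, (shiftFunctor T' n).Additive]
    [Pretriangulated T] [Pretriangulated T'] (R : T ⥤ T') [R.Additive]
    (hR : ∀ {L P P' : T} (a : L ⟶ P) (φ : P ⟶ P') (c : P' ⟶ L⟦(1 : ℤ)⟧),
      Triangle.mk a φ c ∈ distTriang T →
      ∃ (a' : R.obj L ⟶ R.obj P) (c' : R.obj P' ⟶ (R.obj L)⟦(1 : ℤ)⟧),
        Triangle.mk a' (R.map φ) c' ∈ distTriang T')
    (K : ℕ → T) (t : ∀ n, K (n + 1) ⟶ K n) [HasProduct K] [HasProduct fun n => R.obj (K n)]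
    [PreservesLimit (Discrete.functor K) R]
    (L : T) (hL : DCoh.IsRlim K t L) :
    DCoh.IsRlim (fun n => R.obj (K n)) (fun n => R.map (t n)) (R.obj L) := by
  obtain ⟨a, c, h⟩ := hL
  obtain ⟨a', c', h'⟩ := hR a _ c h
  let e := PreservesProduct.iso R K
  have he : ∀ n, e.hom ≫ Pi.π (fun n => R.obj (K n)) n = R.map (Pi.π K n) := fun n => by
    simp [e, PreservesProduct.iso_hom]
  refine ⟨a' ≫ e.hom, e.inv ≫ c', isomorphic_distinguished _ h' _
    (Triangle.isoMk _ _ (Iso.refl _) e.symm e.symm ?_ ?_ ?_)⟩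
  · dsimp
    simp
  · dsimp
    rw [Iso.eq_inv_comp, ← Category.assoc, Iso.comp_inv_eq]
    apply Pi.hom_ext
    intro n
    simp only [Category.assoc, Pi.lift_π, he, ← Functor.map_comp, Preadditive.comp_sub,
      Functor.map_sub]
    rw [← Category.assoc, he, Functor.map_comp]
  · dsimp
    simp

variable {A : Type u} [Category.{v} A] [Abelian A] [IsGrothendieckAbelian.{v} A]
  [HasDerivedCategory.{w} A]
  {B : Type u'} [Category.{v'} B] [Abelian B] [HasDerivedCategory.{w'} B]
  [HasProductsOfShape ℕ B] [(lim : (Discrete ℕ ⥤ B) ⥤ B).PreservesEpimorphisms]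
  (F : A ⥤ B) [F.Additive] [PreservesLimitsOfShape (Discrete ℕ) F]
  (RF : DerivedCategory A ⥤ DerivedCategory B)
  (β : F.mapHomotopyCategory (ComplexShape.up ℤ) ⋙ DerivedCategory.Qh ⟶
    DerivedCategory.Qh ⋙ RF)
  [RF.IsRightDerivedFunctor β (HomotopyCategory.quasiIso A (ComplexShape.up ℤ))]

include F β in
/-- The total right derived functor of a functor commuting with countable products (target with
exact countable products) preserves derived limits. -/
theorem isRlim_RF (K : ℕ → DerivedCategory A) (t : ∀ n, K (n + 1) ⟶ K n) [HasProduct K]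
    [HasProduct fun n => RF.obj (K n)] (L : DerivedCategory A) (hL : DCoh.IsRlim K t L) :
    DCoh.IsRlim (fun n => RF.obj (K n)) (fun n => RF.map (t n)) (RF.obj L) := by
  have := additive_RF F RF β
  have := preservesLimit_RF F RF β K
  exact isRlim_map RF (fun a φ c h => Groth.Agent.H5.KInjDer.exists_distinguished_map
    (F.mapHomotopyCategory (ComplexShape.up ℤ) ⋙ DerivedCategory.Qh) RF β a φ c h) K t L hL

end Rlim

end Groth.Agent.H33.RFProd
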