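import Groth.Agent.H33.RHomCxKInj
import Groth.Agent.H35.LTensorCxLib
import Groth.Agent.H6.QCoprod

/-!
# Composition of `DRing.RHomCx` (helper33)

* `nonempty_rhom_rhom_iso`: `RHom(P, RHom(P', K)) ≅ RHom(P'', K)` for `P'` K-flat and
  `P ⊗ P' ≅ P''`.
* `sgTensorIso M N : M[0] ⊗ N[0] ≅ (N ⊗ M)[0]`, `isKFlat_sg`.
* `awayTensorEquiv f g : A_g ⊗ A_f ≃ₗ A_{fg}`.
-/

set_option autoImplicit false
set_option linter.unusedSectionVars false
universe u
open CategoryTheory CategoryTheory.Limits MonoidalCategory HomologicalComplex CochainComplex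
attribute [local instance] HasDerivedCategory.standard

namespace Groth.Agent.H33.RHomCxComp
open Groth.Agent.H33.RHomCxKInj Groth.Agent.H35.LTC

variable {A : Type u} [CommRing A]

/-- `RHom(P, RHom(P', K)) ≅ RHom(P'', K)` when `P'` is K-flat and `P ⊗ P' ≅ P''`. -/
theorem nonempty_rhom_rhom_iso (P P' P'' : DRing.Cx A) [DRing.HasRHomCx P] [DRing.HasRHomCx P']
    [DRing.HasRHomCx P''] (hP' : DRing.IsKFlat A P') (e : P ⊗ P' ≅ P'') (K : Dual.D A) :
    Nonempty ((DRing.RHomCx P).obj ((DRing.RHomCx P').obj K) ≅ (DRing.RHomCx P'').obj K) := by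
  obtain ⟨I, hI, ⟨eI⟩⟩ := Groth.Agent.H6.QCoprod.exists_model K
  haveI := hI
  haveI : (DRing.homCx P' I).IsKInjective := isKInjective_homCx P' I hP'
  let e1 : (DRing.RHomCx P').obj K ≅ DerivedCategory.Q.obj (DRing.homCx P' I) :=
    (DRing.RHomCx P').mapIso eI.symm ≪≫ unitIso P' I
  let e2 : (DRing.RHomCx P).obj ((DRing.RHomCx P').obj K) ≅
      DerivedCategory.Q.obj (DRing.homCx P (DRing.homCx P' I)) :=
    (DRing.RHomCx P).mapIso e1 ≪≫ unitIso P (DRing.homCx P' I)
  let e3 : DRing.homCx P (DRing.homCx P' I) ≅ DRing.homCx (P ⊗ P') I := (homHomIso P P').app I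
  let e4 : DRing.homCx (P ⊗ P') I ≅ DRing.homCx P'' I := homCxIsoOfIso e I
  let e5 : (DRing.RHomCx P'').obj K ≅ DerivedCategory.Q.obj (DRing.homCx P'' I) :=
    (DRing.RHomCx P'').mapIso eI.symm ≪≫ unitIso P'' I
  exact ⟨e2 ≪≫ DerivedCategory.Q.mapIso (e3 ≪≫ e4) ≪≫ e5.symm⟩

/-- `M[0] ⊗ N[0] ≅ (N ⊗ M)[0]`. -/
noncomputable def sgTensorIso (M N : ModuleCat.{u} A) : sg M ⊗ sg N ≅ sg (N ⊗ M) :=
  (singleTensorIso M (sg N)).symm ≪≫
    (HomologicalComplex.singleMapHomologicalComplex (tensorRight M) (ComplexShape.up ℤ) 0).app N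

/-- a flat module in degree `0` is K-flat. -/
lemma isKFlat_sg (M : ModuleCat.{u} A) [Module.Flat A M] : DRing.IsKFlat A (sg M) :=
  Groth.Agent.H31.KFlatRing.isKFlat_of_bounded_above_flat (sg M) 0
    (fun i hi => HomologicalComplex.isZero_single_obj_X _ _ _ _ (by omega))
    (fun i => by
      by_cases h : i = 0
      · subst h
        exact Module.Flat.of_linearEquiv
          (HomologicalComplex.singleObjXSelf (ComplexShape.up ℤ) 0 M).toLinearEquiv
      · exact Groth.Agent.H31.KFlatRing.flat_of_isZero _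
          (HomologicalComplex.isZero_single_obj_X _ _ _ _ h))

/-- `A_g ⊗ A_f ≃ A_{fg}`. -/
noncomputable def awayTensorEquiv (f g : A) :
    TensorProduct A (Localization.Away g) (Localization.Away f) ≃ₗ[A] Localization.Away (f * g) := by
  haveI h1 : IsLocalization (Algebra.algebraMapSubmonoid (Localization.Away g) (Submonoid.powers f))
      (TensorProduct A (Localization.Away g) (Localization.Away f)) :=
    IsLocalization.tensor (S := Localization.Away g) (Localization.Away f) (Submonoid.powers f)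
  haveI h2 : IsLocalization.Away (algebraMap A (Localization.Away g) f)
      (TensorProduct A (Localization.Away g) (Localization.Away f)) := by
    have : Algebra.algebraMapSubmonoid (Localization.Away g) (Submonoid.powers f) =
        Submonoid.powers (algebraMap A (Localization.Away g) f) := Submonoid.map_powers _ _
    rwa [this] at h1
  haveI h3 : IsLocalization.Away (f * g)
      (TensorProduct A (Localization.Away g) (Localization.Away f)) :=
    IsLocalization.Away.mul (Localization.Away g) _ g f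
  exact (IsLocalization.algEquiv (Submonoid.powers (f * g))
    (TensorProduct A (Localization.Away g) (Localization.Away f))
    (Localization.Away (f * g))).toLinearEquiv

/-- `A_f[0] ⊗ A_g[0] ≅ A_{fg}[0]`. -/
noncomputable def sgAwayIso (f g : A) :
    sg (ModuleCat.of A (Localization.Away f)) ⊗ sg (ModuleCat.of A (Localization.Away g)) ≅
      sg (ModuleCat.of A (Localization.Away (f * g))) :=
  sgTensorIso _ _ ≪≫
    (HomologicalComplex.single (ModuleCat.{u} A) (ComplexShape.up ℤ) 0).mapIso
      (awayTensorEquiv f g).toModuleIso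

end Groth.Agent.H33.RHomCxComp
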