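import Groth.Agent.H33.TensorHom
import Groth.Agent.H33.HomKFlat
import Groth.Agent.H5.KInj.Derives
import Groth.Agent.H31.KFlatRing
import Groth.Agent.H31.KFlatBounded

/-!
# Computing `DRing.RHomCx P` on K-injective complexes (helper33)

* `homCxMap_homotopy`: `Hom•(P, -)` preserves homotopies.
* `homCxQ_inverts`: `Hom•(P, -)` followed by `Q` inverts homotopy equivalences.
* `unitIso P I : RHomCx P (Q I) ≅ Q (Hom•(P, I))` for `I` K-injective.
* `isKInjective_homCx`: `Hom•(P, I)` is K-injective for `P` K-flat and `I` K-injective.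
* `homHomIso P P' : Hom•(P, Hom•(P', -)) ≅ Hom•(P ⊗ P', -)` (chain level, natural).
* `homCxIsoOfIso`: `Hom•(-, L)` sends isomorphisms to isomorphisms.
-/

set_option autoImplicit false
set_option linter.unusedSectionVars false
universe u
open CategoryTheory CategoryTheory.Limits MonoidalCategory HomologicalComplex CochainComplex
open CochainComplex.HomComplex
attribute [local instance] HasDerivedCategory.standard

namespace Groth.Agent.H33.RHomCxKInj
open Groth.Agent.H33.TensorHom Groth.Agent.H58.TensorCone Groth.Agent.H31.KFlatRing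

variable {A : Type u} [CommRing A]

/-- postcomposition with a cochain, as a linear map on cochains. -/
noncomputable def postcompGen (P : DRing.Cx A) {L L' : DRing.Cx A} {m : ℤ} (c : Cochain L L' m)
    (i j : ℤ) (h : i + m = j) : Cochain P L i →ₗ[A] Cochain P L' j where
  toFun z := z.comp c h
  map_add' z z' := by simp
  map_smul' a z := by simp

/-- `Hom•(P, -)` preserves homotopies. -/
lemma homCxMap_homotopy (P : DRing.Cx A) {L L' : DRing.Cx A} {u v : L ⟶ L'} (h : Homotopy u v) :
    Nonempty (Homotopy (DRing.homCxMap P u) (DRing.homCxMap P v)) := by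
  obtain ⟨η, hη⟩ := Cochain.equivHomotopy u v h
  let Z : Cochain (DRing.homCx P L) (DRing.homCx P L') (-1) :=
    Cochain.mk (fun p q hpq => ModuleCat.ofHom (postcompGen P η p q (by omega)))
  refine ⟨(Cochain.equivHomotopy _ _).symm ⟨Z, ?_⟩⟩
  refine Cochain.ext _ _ (fun p q hpq => ?_)
  obtain rfl : p = q := by omega
  rw [Cochain.add_v, δ_v (-1) 0 (by omega) Z p p (by omega) (p - 1) (p + 1) (by omega) (by omega),
    Cochain.ofHom_v, Cochain.ofHom_v]
  refine ModuleCat.hom_ext (LinearMap.ext (fun (z : Cochain P L p) => ?_))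
  show z.comp (Cochain.ofHom u) (add_zero p) =
    (δ (p - 1) p (z.comp η (by omega)) +
      (0 : ℤ).negOnePow • ((δ p (p + 1) z).comp η (by omega))) +
      z.comp (Cochain.ofHom v) (add_zero p)
  rw [hη, Cochain.comp_add, δ_comp z η (show p + -1 = p - 1 by omega) (p + 1) 0 p (by omega) rfl
    (by omega), Int.negOnePow_zero, one_smul, Int.negOnePow_neg, Int.negOnePow_one,
    Units.neg_smul, one_smul]
  abel

/-- `Hom•(P, -)` followed by the localization inverts homotopy equivalences. -/
lemma homCxQ_inverts (P : DRing.Cx A) :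
    (HomologicalComplex.homotopyEquivalences (ModuleCat.{u} A) (ComplexShape.up ℤ)).IsInvertedBy
      (DRing.homCxQ P) := by
  rintro K L _ ⟨e, rfl⟩
  obtain ⟨h1⟩ := homCxMap_homotopy P e.homotopyHomInvId
  obtain ⟨h2⟩ := homCxMap_homotopy P e.homotopyInvHomId
  let e' : HomotopyEquiv (DRing.homCx P K) (DRing.homCx P L) :=
    { hom := DRing.homCxMap P e.hom
      inv := DRing.homCxMap P e.inv
      homotopyHomInvId := (Homotopy.ofEq ((DRing.homCxFunctor P).map_comp e.hom e.inv).symm).trans
        (h1.trans (Homotopy.ofEq ((DRing.homCxFunctor P).map_id K)))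
      homotopyInvHomId := (Homotopy.ofEq ((DRing.homCxFunctor P).map_comp e.inv e.hom).symm).trans
        (h2.trans (Homotopy.ofEq ((DRing.homCxFunctor P).map_id L))) }
  have h : HomologicalComplex.quasiIso (ModuleCat.{u} A) (ComplexShape.up ℤ)
      (DRing.homCxMap P e.hom) :=
    homotopyEquivalences_le_quasiIso _ _ _ e'.homotopyEquivalences_hom
  exact Localization.inverts DerivedCategory.Q
    (HomologicalComplex.quasiIso (ModuleCat.{u} A) (ComplexShape.up ℤ)) _ h

/-- The unit of `RHomCx P` is an isomorphism on K-injective complexes. -/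
lemma isIso_unit_app (P : DRing.Cx A) [DRing.HasRHomCx P] (I : DRing.Cx A) [I.IsKInjective] :
    IsIso (((DRing.homCxQ P).totalRightDerivedUnit DerivedCategory.Q
      (HomologicalComplex.quasiIso (ModuleCat.{u} A) (ComplexShape.up ℤ))).app I) :=
  Groth.Agent.H5.KInjDer.isIso_app_of_isKInjective (DRing.homCxQ P) (homCxQ_inverts P) _ I

/-- `RHom(P, Q I) ≅ Q (Hom•(P, I))` for `I` K-injective. -/
noncomputable def unitIso (P : DRing.Cx A) [DRing.HasRHomCx P] (I : DRing.Cx A)
    [I.IsKInjective] :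
    (DRing.RHomCx P).obj (DerivedCategory.Q.obj I) ≅ DerivedCategory.Q.obj (DRing.homCx P I) :=
  haveI := isIso_unit_app P I
  (asIso (((DRing.homCxQ P).totalRightDerivedUnit DerivedCategory.Q
      (HomologicalComplex.quasiIso (ModuleCat.{u} A) (ComplexShape.up ℤ))).app I)).symm

/-- `Hom•(P, I)` is K-injective for `P` K-flat and `I` K-injective. -/
theorem isKInjective_homCx (P I : DRing.Cx A) (hP : DRing.IsKFlat A P) [I.IsKInjective] :
    (DRing.homCx P I).IsKInjective := by
  refine ⟨fun {M} f hM => ?_⟩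
  have hMP : (M ⊗ P).Acyclic := (isKFlat_iff P).1 hP M hM
  obtain ⟨k, hk⟩ := Cochain.equivHomotopy _ _ (IsKInjective.homotopyZero (unc f) hMP)
  let g : mappingCone ((𝟙 M) ▷ P) ⟶ I := mappingCone.desc ((𝟙 M) ▷ P) k (unc f) (by
    rw [id_whiskerRight, Category.id_comp, hk, Cochain.ofHom_zero, add_zero])
  let g' : mappingCone (𝟙 M) ⊗ P ⟶ I := coneTensorHom P (𝟙 M) ≫ g
  have h0 : mappingCone.inr (𝟙 M ▷ P) ≫ coneTensorInv P (𝟙 M) = mappingCone.inr (𝟙 M) ▷ P :=
    mappingCone.inr_desc _ _ _ _
  have h1 : (mappingCone.inr (𝟙 M) ▷ P) ≫ g' = unc f := by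
    rw [← h0, Category.assoc, ← Category.assoc (coneTensorInv P (𝟙 M)), coneTensor_inv_hom_id,
      Category.id_comp]
    exact mappingCone.inr_desc _ _ _ _
  have h2 : f = mappingCone.inr (𝟙 M) ≫ cur g' := by
    apply (curEquiv M P I).symm.injective
    show unc f = unc (mappingCone.inr (𝟙 M) ≫ cur g')
    rw [unc_comp_left, ← h1]
    congr 1
    exact ((curEquiv _ P I).left_inv g').symm
  have h3 : Homotopy (mappingCone.inr (𝟙 M)) 0 :=
    (Cochain.equivHomotopy _ _).symm ⟨mappingCone.inl (𝟙 M), by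
      rw [mappingCone.δ_inl, Category.id_comp, Cochain.ofHom_zero, add_zero]⟩
  rw [h2]
  exact ⟨(h3.compRight (cur g')).trans (Homotopy.ofEq zero_comp)⟩

/-- `Hom•(P, Hom•(P', -)) ≅ Hom•(P ⊗ P', -)`, by uniqueness of right adjoints. -/
noncomputable def homHomIso (P P' : DRing.Cx A) :
    DRing.homCxFunctor P' ⋙ DRing.homCxFunctor P ≅ DRing.homCxFunctor (P ⊗ P') :=
  Adjunction.rightAdjointUniq ((tensorHomAdj P).comp (tensorHomAdj P'))
    ((tensorHomAdj (P ⊗ P')).ofNatIsoLeft (tensorRightTensor P P'))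

/-- `Hom•(-, L)` sends isomorphisms to isomorphisms. -/
noncomputable def homCxIsoOfIso {P P' : DRing.Cx A} (e : P ≅ P') (L : DRing.Cx A) :
    DRing.homCx P L ≅ DRing.homCx P' L where
  hom := homCxPre e.inv L
  inv := homCxPre e.hom L
  hom_inv_id := by rw [← homCxPre_comp, e.hom_inv_id]; exact Groth.Agent.H33.HomKFlat.homCxPre_id P L
  inv_hom_id := by rw [← homCxPre_comp, e.inv_hom_id]; exact Groth.Agent.H33.HomKFlat.homCxPre_id P' L

end Groth.Agent.H33.RHomCxKInj
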