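import Groth.Agent.H33.RHomCxKInj
import Groth.Agent.H6.QCoprod
import Groth.Agent.S0476
import Mathlib.Algebra.Homology.DerivedCategory.Linear

/-!
# `DRing.RHomCx P` preserves distinguished triangles and is `A`-linear (helper33)

* `pc P c`: the action of `Hom•(P, -)` on cochains (`pc_ofHom`, `pc_comp`, `δ_pc`, ...).
* `coneHomIso P φ : Hom•(P, Cone φ) ≅ Cone(Hom•(P, φ))`.
* `unitIso_hom_naturality`.
* `exists_distinguished_map`: `RHomCx P` sends a distinguished triangle to a distinguished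
  triangle (with some third map).
* `RHomCx_map_smul`: `RHomCx P` is `A`-linear on scalar multiples of identities;
  `isZero_RHomCx_obj`.
-/

set_option autoImplicit false
set_option linter.unusedSectionVars false
universe u
open CategoryTheory CategoryTheory.Limits MonoidalCategory HomologicalComplex CochainComplex
open CochainComplex.HomComplex Pretriangulated
attribute [local instance] HasDerivedCategory.standard

namespace Groth.Agent.H33.RHomCxTri
open Groth.Agent.H33.TensorHom Groth.Agent.H33.RHomCxKInj DerivedCategory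

variable {A : Type u} [CommRing A] (P : DRing.Cx A)

/-! ### `Hom•(P, -)` on cochains -/

/-- the action of `Hom•(P, -)` on cochains. -/
noncomputable def pc {L L' : DRing.Cx A} {m : ℤ} (c : Cochain L L' m) :
    Cochain (DRing.homCx P L) (DRing.homCx P L') m :=
  Cochain.mk (fun p q hpq => ModuleCat.ofHom (postcompGen P c p q hpq))

lemma pc_ofHom {L L' : DRing.Cx A} (f : L ⟶ L') :
    pc P (Cochain.ofHom f) = Cochain.ofHom (DRing.homCxMap P f) := by
  refine Cochain.ext _ _ (fun p q hpq => ?_)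
  obtain rfl : p = q := by omega
  rw [Cochain.ofHom_v]
  rfl

lemma pc_comp {L L' L'' : DRing.Cx A} {m₁ m₂ m₁₂ : ℤ} (c : Cochain L L' m₁)
    (c' : Cochain L' L'' m₂) (h : m₁ + m₂ = m₁₂) :
    pc P (c.comp c' h) = (pc P c).comp (pc P c') h := by
  refine Cochain.ext _ _ (fun p q hpq => ?_)
  rw [Cochain.comp_v _ _ h p (p + m₁) q rfl (by omega)]
  refine ModuleCat.hom_ext (LinearMap.ext (fun (z : Cochain P L p) => ?_))
  show z.comp (c.comp c' h) hpq = (z.comp c rfl).comp c' (by omega)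
  exact (Cochain.comp_assoc z c c' rfl h (by omega)).symm

lemma pc_add {L L' : DRing.Cx A} {m : ℤ} (c c' : Cochain L L' m) :
    pc P (c + c') = pc P c + pc P c' := by
  refine Cochain.ext _ _ (fun p q hpq => ?_)
  refine ModuleCat.hom_ext (LinearMap.ext (fun (z : Cochain P L p) => ?_))
  show z.comp (c + c') hpq = z.comp c hpq + z.comp c' hpq
  exact Cochain.comp_add _ _ _ _

lemma pc_zero {L L' : DRing.Cx A} {m : ℤ} : pc P (0 : Cochain L L' m) = 0 := by
  refine Cochain.ext _ _ (fun p q hpq => ?_)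
  refine ModuleCat.hom_ext (LinearMap.ext (fun (z : Cochain P L p) => ?_))
  show z.comp (0 : Cochain L L' m) hpq = 0
  exact Cochain.comp_zero _ _

lemma pc_neg {L L' : DRing.Cx A} {m : ℤ} (c : Cochain L L' m) : pc P (-c) = - pc P c := by
  refine Cochain.ext _ _ (fun p q hpq => ?_)
  refine ModuleCat.hom_ext (LinearMap.ext (fun (z : Cochain P L p) => ?_))
  show z.comp (-c) hpq = -(z.comp c hpq)
  exact Cochain.comp_neg _ _ _

lemma δ_pc {L L' : DRing.Cx A} {m : ℤ} (c : Cochain L L' m) (m' : ℤ) (hm : m + 1 = m') :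
    δ m m' (pc P c) = pc P (δ m m' c) := by
  refine Cochain.ext _ _ (fun p q hpq => ?_)
  rw [δ_v m m' hm (pc P c) p q hpq (q - 1) (p + 1) rfl rfl]
  refine ModuleCat.hom_ext (LinearMap.ext (fun (z : Cochain P L p) => ?_))
  show δ (q - 1) q (z.comp c (by omega)) + m'.negOnePow • (δ p (p + 1) z).comp c (by omega) =
    z.comp (δ m m' c) hpq
  rw [δ_comp z c (show p + m = q - 1 by omega) (p + 1) m' q (by omega) rfl hm]
  subst hm
  rw [Int.negOnePow_succ, Units.neg_smul]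
  abel

lemma pc_v_comp_v {L L' L'' : DRing.Cx A} {n₁ n₂ n₁₂ : ℤ} (α : Cochain L L' n₁)
    (β : Cochain L' L'' n₂) (h : n₁ + n₂ = n₁₂) (m m₁ m₂ : ℤ) (h₁ : m + n₁ = m₁)
    (h₂ : m₁ + n₂ = m₂) :
    (pc P α).v m m₁ h₁ ≫ (pc P β).v m₁ m₂ h₂ = (pc P (α.comp β h)).v m m₂ (by omega) := by
  rw [pc_comp, Cochain.comp_v _ _ h m m₁ m₂ h₁ h₂]

lemma pc_ofHom_v {L L' : DRing.Cx A} (φ : L ⟶ L') (m : ℤ) :
    (pc P (Cochain.ofHom φ)).v m m (add_zero m) = (DRing.homCxMap P φ).f m := by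
  rw [pc_ofHom, Cochain.ofHom_v]

lemma homCxMap_id (L : DRing.Cx A) : DRing.homCxMap P (𝟙 L) = 𝟙 (DRing.homCx P L) :=
  (DRing.homCxFunctor P).map_id L

lemma homCxMap_comp {L L' L'' : DRing.Cx A} (f : L ⟶ L') (g : L' ⟶ L'') :
    DRing.homCxMap P (f ≫ g) = DRing.homCxMap P f ≫ DRing.homCxMap P g :=
  (DRing.homCxFunctor P).map_comp f g

/-! ### `Hom•(P, -)` commutes with mapping cones -/

/-- the comparison map `Hom•(P, Cone φ) ⟶ Cone(Hom•(P, φ))`. -/
noncomputable def coneHomHom {X Y : DRing.Cx A} (φ : X ⟶ Y) :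
    DRing.homCx P (mappingCone φ) ⟶ mappingCone (DRing.homCxMap P φ) :=
  mappingCone.lift (DRing.homCxMap P φ)
    (Cocycle.mk (pc P (mappingCone.fst φ).1) 2 (by omega)
      (by rw [δ_pc P _ 2 (by omega), Cocycle.δ_eq_zero, pc_zero]))
    (pc P (mappingCone.snd φ))
    (by
      rw [δ_pc P _ 1 (zero_add 1), mappingCone.δ_snd, pc_neg, pc_comp, pc_ofHom]
      exact neg_add_cancel _)

/-- the comparison map `Cone(Hom•(P, φ)) ⟶ Hom•(P, Cone φ)`. -/
noncomputable def coneHomInv {X Y : DRing.Cx A} (φ : X ⟶ Y) :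
    mappingCone (DRing.homCxMap P φ) ⟶ DRing.homCx P (mappingCone φ) :=
  mappingCone.desc (DRing.homCxMap P φ) (pc P (mappingCone.inl φ))
    (DRing.homCxMap P (mappingCone.inr φ)) (by
      rw [δ_pc P _ 0 (neg_add_cancel 1), mappingCone.δ_inl, pc_ofHom, homCxMap_comp])

lemma coneHom_hom_inv_id {X Y : DRing.Cx A} (φ : X ⟶ Y) :
    coneHomHom P φ ≫ coneHomInv P φ = 𝟙 _ := by
  refine HomologicalComplex.hom_ext _ _ (fun n => ?_)
  rw [HomologicalComplex.comp_f, HomologicalComplex.id_f]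
  unfold coneHomHom coneHomInv
  rw [mappingCone.lift_desc_f _ _ _ _ _ _ _ n (n + 1) rfl, Cocycle.mk_coe, ← pc_ofHom_v,
    pc_v_comp_v P _ _ (add_neg_cancel 1), pc_v_comp_v P _ _ (add_zero 0), ← Cochain.add_v, ← pc_add,
    mappingCone.id, pc_ofHom_v, homCxMap_id, HomologicalComplex.id_f]

lemma coneHom_inv_hom_id {X Y : DRing.Cx A} (φ : X ⟶ Y) :
    coneHomInv P φ ≫ coneHomHom P φ = 𝟙 _ := by
  refine HomologicalComplex.hom_ext _ _ (fun n => ?_)
  rw [HomologicalComplex.comp_f, HomologicalComplex.id_f]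
  unfold coneHomHom coneHomInv
  rw [mappingCone.ext_from_iff (DRing.homCxMap P φ) (n + 1) n rfl]
  constructor
  · rw [mappingCone.inl_v_desc_f_assoc, Category.comp_id,
      mappingCone.ext_to_iff (DRing.homCxMap P φ) n (n + 1) rfl]
    constructor
    · rw [Category.assoc, mappingCone.lift_f_fst_v, Cocycle.mk_coe,
        pc_v_comp_v P _ _ (neg_add_cancel 1), mappingCone.inl_fst, pc_ofHom_v, homCxMap_id,
        HomologicalComplex.id_f, mappingCone.inl_v_fst_v]
    · rw [Category.assoc, mappingCone.lift_f_snd_v, pc_v_comp_v P _ _ (add_zero (-1)),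
        mappingCone.inl_snd, pc_zero, Cochain.zero_v, mappingCone.inl_v_snd_v]
  · rw [mappingCone.inr_f_desc_f_assoc, Category.comp_id,
      mappingCone.ext_to_iff (DRing.homCxMap P φ) n (n + 1) rfl]
    constructor
    · rw [Category.assoc, mappingCone.lift_f_fst_v, Cocycle.mk_coe, ← pc_ofHom_v,
        pc_v_comp_v P _ _ (zero_add 1), mappingCone.inr_fst, pc_zero, Cochain.zero_v,
        mappingCone.inr_f_fst_v]
    · rw [Category.assoc, mappingCone.lift_f_snd_v, ← pc_ofHom_v,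
        pc_v_comp_v P _ _ (zero_add 0), mappingCone.inr_snd, pc_ofHom_v, homCxMap_id,
        HomologicalComplex.id_f, mappingCone.inr_f_snd_v]

/-- `Hom•(P, -)` commutes with mapping cones. -/
noncomputable def coneHomIso {X Y : DRing.Cx A} (φ : X ⟶ Y) :
    DRing.homCx P (mappingCone φ) ≅ mappingCone (DRing.homCxMap P φ) where
  hom := coneHomHom P φ
  inv := coneHomInv P φ
  hom_inv_id := coneHom_hom_inv_id P φ
  inv_hom_id := coneHom_inv_hom_id P φ

lemma homCxMap_inr_comp_coneHomHom {X Y : DRing.Cx A} (φ : X ⟶ Y) :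
    DRing.homCxMap P (mappingCone.inr φ) ≫ (coneHomIso P φ).hom =
      mappingCone.inr (DRing.homCxMap P φ) := by
  have h : mappingCone.inr (DRing.homCxMap P φ) ≫ coneHomInv P φ =
      DRing.homCxMap P (mappingCone.inr φ) := by
    unfold coneHomInv
    exact mappingCone.inr_desc _ _ _ _
  have h' : mappingCone.inr (DRing.homCxMap P φ) ≫ (coneHomIso P φ).inv =
      DRing.homCxMap P (mappingCone.inr φ) := h
  rw [← h', Category.assoc, Iso.inv_hom_id, Category.comp_id]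

/-! ### naturality of the unit isomorphism -/

lemma iso_sq_of_inv {C : Type*} [Category C] {X X' Y Y' : C} (a : X ≅ X') (b : Y ≅ Y')
    (f : X ⟶ Y) (f' : X' ⟶ Y') (h : f' ≫ b.inv = a.inv ≫ f) : f ≫ b.hom = a.hom ≫ f' := by
  rw [← cancel_epi a.inv, ← Category.assoc, ← h, Category.assoc, Iso.inv_hom_id, Category.comp_id,
    Iso.inv_hom_id_assoc]

lemma sq_comp {C D : Type*} [Category C] [Category D] (F : C ⥤ D) {X Y X' Y' : C} {UX UY : D}
    (m : X ⟶ Y) (ex : X ⟶ X') (ey : Y ⟶ Y') (g : X' ⟶ Y') (c : m ≫ ey = ex ≫ g)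
    (uX : F.obj X' ⟶ UX) (uY : F.obj Y' ⟶ UY) (G : UX ⟶ UY) (n : F.map g ≫ uY = uX ≫ G) :
    F.map m ≫ (F.map ey ≫ uY) = (F.map ex ≫ uX) ≫ G := by
  rw [← Category.assoc, ← F.map_comp, c, F.map_comp, Category.assoc, n, Category.assoc]

lemma comm3_aux {C : Type*} [Category C] [HasShift C ℤ] {X₃ X₁ Y₃ Y₁ : C} (a₃ : X₃ ≅ Y₃)
    (a₁ : X₁ ≅ Y₁) (m : Y₃ ⟶ Y₁⟦(1 : ℤ)⟧) :
    (a₃.hom ≫ m ≫ a₁.inv⟦(1 : ℤ)⟧') ≫ a₁.hom⟦(1 : ℤ)⟧' = a₃.hom ≫ m := by
  rw [Category.assoc, Category.assoc, ← Functor.map_comp, Iso.inv_hom_id,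
    CategoryTheory.Functor.map_id, Category.comp_id]

lemma unitIso_hom_naturality [DRing.HasRHomCx P] {I J : DRing.Cx A} [I.IsKInjective]
    [J.IsKInjective] (g : I ⟶ J) :
    (DRing.RHomCx P).map (Q.map g) ≫ (unitIso P J).hom =
      (unitIso P I).hom ≫ Q.map (DRing.homCxMap P g) :=
  iso_sq_of_inv (unitIso P I) (unitIso P J) _ _
    (((DRing.homCxQ P).totalRightDerivedUnit DerivedCategory.Q
      (HomologicalComplex.quasiIso (ModuleCat.{u} A) (ComplexShape.up ℤ))).naturality g)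

/-! ### distinguished triangles -/

/-- `RHomCx P` sends distinguished triangles to distinguished triangles (for a suitable third
map). -/
theorem exists_distinguished_map [DRing.HasRHomCx P] (T : Triangle (Dual.D A))
    (hT : T ∈ distTriang (Dual.D A)) :
    ∃ h'' : (DRing.RHomCx P).obj T.obj₃ ⟶ ((DRing.RHomCx P).obj T.obj₁)⟦(1 : ℤ)⟧,
      Triangle.mk ((DRing.RHomCx P).map T.mor₁) ((DRing.RHomCx P).map T.mor₂) h'' ∈
        distTriang (Dual.D A) := by
  obtain ⟨K, L, f, ⟨e⟩⟩ := (mem_distTriang_iff T).1 hT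
  obtain ⟨I, φK, hI, hφK, -, -⟩ := Groth.Agent.S0476.result K
  obtain ⟨J, φL, hJ, hφL, -, -⟩ := Groth.Agent.S0476.result L
  haveI := hI
  haveI := hJ
  haveI : IsIso ((Q : DRing.Cx A ⥤ Dual.D A).map φK) :=
    (isIso_Q_map_iff_quasiIso (C := ModuleCat.{u} A) φK).2 hφK
  haveI : IsIso ((Q : DRing.Cx A ⥤ Dual.D A).map φL) :=
    (isIso_Q_map_iff_quasiIso (C := ModuleCat.{u} A) φL).2 hφL
  obtain ⟨g, hg'⟩ := Groth.Agent.H6.QCoprod.exists_lift I J
    (inv (Q.map φK) ≫ Q.map f ≫ Q.map φL)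
  have hg : (Q : DRing.Cx A ⥤ Dual.D A).map φK ≫ Q.map g = Q.map f ≫ Q.map φL := by
    rw [hg', IsIso.hom_inv_id_assoc]
  have hT₀ : Q.mapTriangle.obj (CochainComplex.mappingCone.triangle f) ∈
      distTriang (Dual.D A) := (mem_distTriang_iff _).2 ⟨K, L, f, ⟨Iso.refl _⟩⟩
  have hT' : Q.mapTriangle.obj (CochainComplex.mappingCone.triangle g) ∈
      distTriang (Dual.D A) := (mem_distTriang_iff _).2 ⟨I, J, g, ⟨Iso.refl _⟩⟩
  let iK : (Q : DRing.Cx A ⥤ Dual.D A).obj K ≅ Q.obj I := asIso (Q.map φK)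
  let iL : (Q : DRing.Cx A ⥤ Dual.D A).obj L ≅ Q.obj J := asIso (Q.map φL)
  let eT : T ≅ Q.mapTriangle.obj (CochainComplex.mappingCone.triangle g) :=
    e ≪≫ isoTriangleOfIso₁₂ _ _ hT₀ hT' iK iL hg.symm
  haveI hcone : (CochainComplex.mappingCone g).IsKInjective := by
    rw [CochainComplex.isKInjective_iff_rightOrthogonal]
    exact (HomotopyCategory.subcategoryAcyclic (ModuleCat.{u} A)).rightOrthogonal.ext_of_isTriangulatedClosed₃ _
      (HomotopyCategory.mappingCone_triangleh_distinguished g)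
      (CochainComplex.IsKInjective.rightOrthogonal I) (CochainComplex.IsKInjective.rightOrthogonal J)
  have hTψ : Q.mapTriangle.obj (CochainComplex.mappingCone.triangle (DRing.homCxMap P g)) ∈
      distTriang (Dual.D A) := (mem_distTriang_iff _).2 ⟨_, _, DRing.homCxMap P g, ⟨Iso.refl _⟩⟩
  let a₁ : (DRing.RHomCx P).obj T.obj₁ ≅ Q.obj (DRing.homCx P I) :=
    (DRing.RHomCx P).mapIso (Triangle.π₁.mapIso eT) ≪≫ unitIso P I
  let a₂ : (DRing.RHomCx P).obj T.obj₂ ≅ Q.obj (DRing.homCx P J) :=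
    (DRing.RHomCx P).mapIso (Triangle.π₂.mapIso eT) ≪≫ unitIso P J
  let a₃ : (DRing.RHomCx P).obj T.obj₃ ≅ Q.obj (mappingCone (DRing.homCxMap P g)) :=
    (DRing.RHomCx P).mapIso (Triangle.π₃.mapIso eT) ≪≫ unitIso P (mappingCone g) ≪≫
      Q.mapIso (coneHomIso P g)
  have c₁ : T.mor₁ ≫ eT.hom.hom₂ = eT.hom.hom₁ ≫ Q.map g := eT.hom.comm₁
  have c₂ : T.mor₂ ≫ eT.hom.hom₃ = eT.hom.hom₂ ≫ Q.map (mappingCone.inr g) := eT.hom.comm₂
  have comm1 : (DRing.RHomCx P).map T.mor₁ ≫ a₂.hom = a₁.hom ≫ Q.map (DRing.homCxMap P g) :=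
    sq_comp (DRing.RHomCx P) T.mor₁ eT.hom.hom₁ eT.hom.hom₂ (Q.map g) c₁ (unitIso P I).hom
      (unitIso P J).hom (Q.map (DRing.homCxMap P g)) (unitIso_hom_naturality P g)
  have n₂ : (DRing.RHomCx P).map (Q.map (mappingCone.inr g)) ≫
      ((unitIso P (mappingCone g)).hom ≫ Q.map (coneHomIso P g).hom) =
      (unitIso P J).hom ≫ Q.map (mappingCone.inr (DRing.homCxMap P g)) := by
    rw [← Category.assoc, unitIso_hom_naturality, Category.assoc, ← Functor.map_comp,
      homCxMap_inr_comp_coneHomHom]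
  have comm2 : (DRing.RHomCx P).map T.mor₂ ≫ a₃.hom =
      a₂.hom ≫ Q.map (mappingCone.inr (DRing.homCxMap P g)) :=
    sq_comp (DRing.RHomCx P) T.mor₂ eT.hom.hom₂ eT.hom.hom₃ (Q.map (mappingCone.inr g)) c₂
      (unitIso P J).hom ((unitIso P (mappingCone g)).hom ≫ Q.map (coneHomIso P g).hom)
      (Q.map (mappingCone.inr (DRing.homCxMap P g))) n₂
  refine ⟨a₃.hom ≫ (Q.mapTriangle.obj (CochainComplex.mappingCone.triangle
    (DRing.homCxMap P g))).mor₃ ≫ a₁.inv⟦(1 : ℤ)⟧', ?_⟩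
  refine isomorphic_distinguished _ hTψ _ (Triangle.isoMk _ _ a₁ a₂ a₃ comm1 comm2 ?_)
  exact comm3_aux a₃ a₁ _

/-- variant of `exists_distinguished_map` with explicit maps. -/
theorem exists_distinguished_map' [DRing.HasRHomCx P] {X Y Z : Dual.D A} (f : X ⟶ Y) (g : Y ⟶ Z)
    (h : Z ⟶ X⟦(1 : ℤ)⟧) (hT : Triangle.mk f g h ∈ distTriang (Dual.D A)) :
    ∃ h'' : (DRing.RHomCx P).obj Z ⟶ ((DRing.RHomCx P).obj X)⟦(1 : ℤ)⟧,
      Triangle.mk ((DRing.RHomCx P).map f) ((DRing.RHomCx P).map g) h'' ∈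
        distTriang (Dual.D A) :=
  exists_distinguished_map P _ hT

/-! ### linearity -/

lemma homCxMap_smul_id (r : A) (L : DRing.Cx A) :
    DRing.homCxMap P (r • 𝟙 L) = r • 𝟙 (DRing.homCx P L) := by
  refine HomologicalComplex.hom_ext _ _ (fun n => ?_)
  refine ModuleCat.hom_ext (LinearMap.ext (fun (z : Cochain P L n) => ?_))
  show z.comp (Cochain.ofHom (r • 𝟙 L)) (add_zero n) = r • z
  have h : Cochain.ofHom (r • 𝟙 L) = r • Cochain.ofHom (𝟙 L) := by
    refine Cochain.ext _ _ (fun p q hpq => ?_)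
    obtain rfl : p = q := by omega
    rw [Cochain.ofHom_v, Cochain.smul_v, Cochain.ofHom_v]
    rfl
  rw [h, Cochain.comp_smul, Cochain.comp_id]

/-- `RHomCx P` is `A`-linear on scalar multiples of identities. -/
theorem RHomCx_map_smul [DRing.HasRHomCx P] (r : A) (X : Dual.D A) :
    (DRing.RHomCx P).map (r • 𝟙 X) = r • 𝟙 ((DRing.RHomCx P).obj X) := by
  obtain ⟨I, hI, ⟨e⟩⟩ := Groth.Agent.H6.QCoprod.exists_model X
  haveI := hI
  have h1 : r • 𝟙 X = e.inv ≫ Q.map (r • 𝟙 I) ≫ e.hom := by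
    rw [Functor.map_smul, CategoryTheory.Functor.map_id, Linear.smul_comp, Linear.comp_smul,
      Category.id_comp, Iso.inv_hom_id]
  have h2 : (DRing.RHomCx P).map (Q.map (r • 𝟙 I)) = r • 𝟙 _ := by
    have nat := unitIso_hom_naturality P (r • 𝟙 I)
    rw [homCxMap_smul_id] at nat
    have h3 : (Q : DRing.Cx A ⥤ Dual.D A).map (r • 𝟙 (DRing.homCx P I)) = r • 𝟙 _ := by
      rw [Functor.map_smul, CategoryTheory.Functor.map_id]
    rw [h3, Linear.comp_smul, Category.comp_id] at nat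
    rw [← cancel_mono (unitIso P I).hom, nat, Linear.smul_comp, Category.id_comp]
  rw [h1, Functor.map_comp, Functor.map_comp, h2, Linear.smul_comp, Linear.comp_smul,
    Category.id_comp, ← Functor.map_comp, Iso.inv_hom_id, CategoryTheory.Functor.map_id]

/-- `RHomCx P` preserves zero objects. -/
theorem isZero_RHomCx_obj [DRing.HasRHomCx P] {X : Dual.D A} (hX : IsZero X) :
    IsZero ((DRing.RHomCx P).obj X) := by
  rw [IsZero.iff_id_eq_zero]
  have h0 : 𝟙 X = (0 : A) • 𝟙 X := by rw [zero_smul]; exact hX.eq_of_src _ _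
  have := RHomCx_map_smul P (0 : A) X
  rw [← h0, CategoryTheory.Functor.map_id, zero_smul] at this
  exact this

end Groth.Agent.H33.RHomCxTri
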