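import Groth.Agent.H33.RHomModel

/-!
# `RHom(-, L)` sends distinguished triangles of bounded above projective objects to
distinguished triangles (helper33)

`BP x` : `x` is represented by a bounded above complex of projective modules.
`exists_model` : a pair `p, q` with `DT p q` whose end terms satisfy `BP` is modelled by a
degreewise split short exact sequence of bounded above complexes of projectives.
`DT_RHomMap` : for such a pair, `DT (RHomMap q L) (RHomMap p L)`.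
-/

set_option autoImplicit false
set_option linter.unusedSectionVars false
universe u
open CategoryTheory CategoryTheory.Limits MonoidalCategory Pretriangulated
attribute [local instance] HasDerivedCategory.standard

namespace Groth.Agent.H33.RHomExact
open DTen Groth.Agent.H33.TensorHom Groth.Agent.H35.TriChase Groth.Agent.H33.RHomModel
open DerivedCategory

variable {A : Type u} [CommRing A]

/-- bounded above with projective terms -/
def BPC (E : DRing.Cx A) : Prop :=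
  (∃ b : ℤ, DRing.VanishesAbove E b) ∧ ∀ i : ℤ, Module.Projective A (E.X i)

/-- represented by a bounded above complex of projective modules. -/
def BP (x : Dual.D A) : Prop :=
  ∃ E : DRing.Cx A, BPC E ∧ Nonempty (x ≅ Q.obj E)

lemma BPC.isKProjective {E : DRing.Cx A} (h : BPC E) : E.IsKProjective := by
  obtain ⟨⟨b, hb⟩, hp⟩ := h
  exact (GCx.ofBoundedAbove E b hb hp).kproj

lemma BPC.isKFlat {E : DRing.Cx A} (h : BPC E) : DRing.IsKFlat A E := by
  obtain ⟨⟨b, hb⟩, hp⟩ := h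
  exact (GCx.ofBoundedAbove E b hb hp).kflat

lemma BPC.shift {E : DRing.Cx A} (h : BPC E) (n : ℤ) : BPC (E⟦n⟧) := by
  obtain ⟨⟨b, hb⟩, hp⟩ := h
  exact ⟨⟨b - n, fun i hi => hb (i + n) (by omega)⟩, fun i => hp (i + n)⟩

lemma BP.of_iso {x y : Dual.D A} (e : x ≅ y) (h : BP x) : BP y := by
  obtain ⟨E, hE, ⟨e'⟩⟩ := h
  exact ⟨E, hE, ⟨e.symm ≪≫ e'⟩⟩

lemma BP.shift {x : Dual.D A} (h : BP x) (n : ℤ) : BP (x⟦n⟧) := by
  obtain ⟨E, hE, ⟨e⟩⟩ := h
  exact ⟨E⟦n⟧, hE.shift n, ⟨(shiftFunctor (Dual.D A) n).mapIso e ≪≫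
    ((Q.commShiftIso n).app E).symm⟩⟩

lemma exists_Q_map_eq_of_isKProjective (P L : DRing.Cx A)
    [P.IsKProjective] (g : Q.obj P ⟶ Q.obj L) : ∃ φ : P ⟶ L, Q.map φ = g := by
  obtain ⟨ψ, hψ⟩ := (CochainComplex.IsKProjective.Qh_map_bijective P
    ((HomotopyCategory.quotient (ModuleCat.{u} A) (ComplexShape.up ℤ)).obj L)).surjective
    ((quotientCompQhIso (ModuleCat.{u} A)).hom.app P ≫ g ≫
      (quotientCompQhIso (ModuleCat.{u} A)).inv.app L)
  obtain ⟨φ, rfl⟩ := (HomotopyCategory.quotient (ModuleCat.{u} A) (ComplexShape.up ℤ)).map_surjective ψ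
  refine ⟨φ, ?_⟩
  have nat := (quotientCompQhIso (ModuleCat.{u} A)).hom.naturality φ
  have h1 : (HomotopyCategory.quotient (ModuleCat.{u} A) (ComplexShape.up ℤ) ⋙ Qh).map φ =
      Qh.map ((HomotopyCategory.quotient (ModuleCat.{u} A) (ComplexShape.up ℤ)).map φ) := rfl
  rw [← cancel_epi ((quotientCompQhIso (ModuleCat.{u} A)).hom.app P), ← nat, h1, hψ,
    Category.assoc, Category.assoc, Iso.inv_hom_id_app, Category.comp_id]

/-- the middle term of a degreewise split sequence with `BPC` ends is `BPC`. -/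
lemma BPC.X₂ (S : ShortComplex (DRing.Cx A))
    (σ : ∀ n : ℤ, (S.map (HomologicalComplex.eval (ModuleCat.{u} A)
      (ComplexShape.up ℤ) n)).Splitting) (h₁ : BPC S.X₁) (h₃ : BPC S.X₃) : BPC S.X₂ := by
  obtain ⟨r, s, fr, sg, hid⟩ : ∃ (r : ∀ p, S.X₂.X p ⟶ S.X₁.X p) (s : ∀ p, S.X₃.X p ⟶ S.X₂.X p),
      (∀ p, S.f.f p ≫ r p = 𝟙 (S.X₁.X p)) ∧ (∀ p, s p ≫ S.g.f p = 𝟙 (S.X₃.X p)) ∧
      (∀ p, r p ≫ S.f.f p + S.g.f p ≫ s p = 𝟙 (S.X₂.X p)) :=
    ⟨fun p => (σ p).r, fun p => (σ p).s, fun p => (σ p).f_r, fun p => (σ p).s_g,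
      fun p => (σ p).id⟩
  obtain ⟨⟨b₁, hb₁⟩, hp₁⟩ := h₁
  obtain ⟨⟨b₃, hb₃⟩, hp₃⟩ := h₃
  refine ⟨⟨max b₁ b₃, fun i hi => ?_⟩, fun i => ?_⟩
  · rw [IsZero.iff_id_eq_zero, ← hid i,
      (hb₁ i (lt_of_le_of_lt (le_max_left _ _) hi)).eq_of_tgt (r i) 0,
      (hb₃ i (lt_of_le_of_lt (le_max_right _ _) hi)).eq_of_tgt (S.g.f i) 0, zero_comp, zero_comp,
      add_zero]
  · have := hp₁ i
    have := hp₃ i
    refine Module.Projective.of_split (M := (S.X₁.X i) × (S.X₃.X i))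
      (LinearMap.prod (r i).hom (S.g.f i).hom) (LinearMap.coprod (S.f.f i).hom (s i).hom) ?_
    refine LinearMap.ext (fun x => ?_)
    have h := congrArg (fun g => g.hom x) (hid i)
    exact h


/-- A pair extending to a distinguished triangle with `BP` end terms is modelled by a
degreewise split short exact sequence of bounded above complexes of projectives. -/
lemma exists_model {a b c : Dual.D A} (p : a ⟶ b) (q : b ⟶ c) (h : DT p q) (ha : BP a)
    (hc : BP c) :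
    ∃ (S : ShortComplex (DRing.Cx A))
      (_ : ∀ n : ℤ, (S.map (HomologicalComplex.eval (ModuleCat.{u} A)
        (ComplexShape.up ℤ) n)).Splitting)
      (_ : BPC S.X₁) (_ : BPC S.X₂) (_ : BPC S.X₃)
      (e₁ : a ≅ Q.obj S.X₁) (e₂ : b ≅ Q.obj S.X₂) (e₃ : c ≅ Q.obj S.X₃),
      p ≫ e₂.hom = e₁.hom ≫ Q.map S.f ∧ q ≫ e₃.hom = e₂.hom ≫ Q.map S.g := by
  obtain ⟨r, hT⟩ := h
  obtain ⟨Y, hY, ⟨ea⟩⟩ := ha
  obtain ⟨X, hX, ⟨eX⟩⟩ := hc.shift (-1)
  have hT' := inv_rot_of_distTriang _ hT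
  haveI : X.IsKProjective := hX.isKProjective
  obtain ⟨f, hf⟩ := exists_Q_map_eq_of_isKProjective X Y
    (eX.inv ≫ (Triangle.mk p q r).invRotate.mor₁ ≫ ea.hom)
  have hT'' : Q.mapTriangle.obj (CochainComplex.mappingCone.triangle f) ∈ distTriang _ :=
    (DerivedCategory.mem_distTriang_iff _).2 ⟨X, Y, f, ⟨Iso.refl _⟩⟩
  let e := isoTriangleOfIso₁₂ _ _ hT' hT'' eX ea (by
    show (Triangle.mk p q r).invRotate.mor₁ ≫ ea.hom = eX.hom ≫ Q.map f
    rw [hf, Iso.hom_inv_id_assoc]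
    rfl)
  let e₁ : a ≅ Q.obj Y := Triangle.π₂.mapIso e
  let e₂ : b ≅ Q.obj (CochainComplex.mappingCone f) := Triangle.π₃.mapIso e
  let e₁' : c⟦(-1 : ℤ)⟧ ≅ Q.obj X := Triangle.π₁.mapIso e
  let e₃ : c ≅ Q.obj (X⟦(1 : ℤ)⟧) :=
    ((shiftEquiv (Dual.D A) (1 : ℤ)).counitIso.app c).symm ≪≫
      (shiftFunctor (Dual.D A) (1 : ℤ)).mapIso e₁' ≪≫
      ((Q.commShiftIso (1 : ℤ)).app X).symm
  have h₁ : BPC (CochainComplex.mappingCone.triangleRotateShortComplex f).X₁ := hY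
  have h₃ : BPC (CochainComplex.mappingCone.triangleRotateShortComplex f).X₃ := hX.shift 1
  refine ⟨CochainComplex.mappingCone.triangleRotateShortComplex f,
    CochainComplex.mappingCone.triangleRotateShortComplexSplitting f, h₁,
    BPC.X₂ _ (CochainComplex.mappingCone.triangleRotateShortComplexSplitting f) h₁ h₃, h₃,
    e₁, e₂, e₃, e.hom.comm₂, ?_⟩
  have c3 := e.hom.comm₃
  have c3' : (q ≫ (shiftEquiv (Dual.D A) (1 : ℤ)).counitIso.inv.app c) ≫
      (shiftFunctor (Dual.D A) (1 : ℤ)).map e₁'.hom =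
      e₂.hom ≫ Q.map (CochainComplex.mappingCone.triangle f).mor₃ ≫
        (Q.commShiftIso (1 : ℤ)).hom.app X := c3
  refine (Category.assoc _ _ _).symm.trans ((Category.assoc _ _ _).symm.trans
    ((congrArg (fun z => z ≫ (Q.commShiftIso (1 : ℤ)).inv.app X) c3').trans ?_))
  exact Groth.Agent.H35.DTenExact.comm_aux₂ _ _ ((Q.commShiftIso (1 : ℤ)).app X)

lemma BP.of_DT {a b c : Dual.D A} (p : a ⟶ b) (q : b ⟶ c) (h : DT p q) (ha : BP a)
    (hc : BP c) : BP b := by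
  obtain ⟨S, _, _, h₂, _, _, e₂, _, _, _⟩ := exists_model p q h ha hc
  exact ⟨S.X₂, h₂, ⟨e₂⟩⟩

variable [DTen.HasLTen A] [DTen.HasRHom A]

/-- `RHom(-, L)` sends pairs extending to distinguished triangles, with end terms represented by
bounded above complexes of projectives, to pairs extending to distinguished triangles. -/
theorem DT_RHomMap {a b c : Dual.D A} (p : a ⟶ b) (q : b ⟶ c) (h : DT p q) (ha : BP a)
    (hc : BP c) (L : Dual.D A) : DT (RHomMap q L) (RHomMap p L) := by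
  obtain ⟨S, σ, h₁, h₂, h₃, e₁, e₂, e₃, c1, c2⟩ := exists_model p q h ha hc
  have key := DT_RHomMap_of_ses S σ h₁.isKProjective h₂.isKProjective h₃.isKProjective
    h₁.isKFlat h₂.isKFlat h₃.isKFlat L
  refine DT.of_iso key (RHomIso e₃.symm L) (RHomIso e₂.symm L) (RHomIso e₁.symm L) ?_ ?_
  · show RHomMap q L ≫ RHomMap e₂.inv L = RHomMap e₃.inv L ≫ RHomMap (Q.map S.g) L
    rw [← RHomMap_comp, ← RHomMap_comp]
    congr 1
    rw [Iso.inv_comp_eq, ← Category.assoc, Iso.eq_comp_inv, c2]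
  · show RHomMap p L ≫ RHomMap e₁.inv L = RHomMap e₂.inv L ≫ RHomMap (Q.map S.f) L
    rw [← RHomMap_comp, ← RHomMap_comp]
    congr 1
    rw [Iso.inv_comp_eq, ← Category.assoc, Iso.eq_comp_inv, c1]

end Groth.Agent.H33.RHomExact
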