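import Groth.Agent.H33.TensorHom
import Groth.Agent.H33.ConjLoc
import Groth.Agent.S6996
import Groth.Agent.H53.DTenComp
import Groth.Agent.H31.KFlatBounded
import Groth.Agent.H35.DTenExact
import Groth.Prelude.Def_DTen3

/-!
# A chain model for `DTen.RHomR A (Q P)` when `P` is K-projective and K-flat (helper33)

For such `P`, `RHom(QP, QM) ≅ Q(Hom•(P, M))` compatibly with maps `P' ⟶ P`; consequently, for a
degreewise split short exact sequence `S` of such complexes, `RHom(Q S.g, L)`, `RHom(Q S.f, L)`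
extend to a distinguished triangle.
-/

set_option autoImplicit false
set_option linter.unusedSectionVars false
universe u
open CategoryTheory CategoryTheory.Limits MonoidalCategory Pretriangulated
attribute [local instance] HasDerivedCategory.standard

namespace Groth.Agent.H33.RHomModel
open DTen Groth.Agent.H33.TensorHom Groth.Agent.H35.TriChase

variable {A : Type u} [CommRing A]

lemma comm_of_iso_sq {C : Type*} [Category C] {X X' Y Y' : C} (i : X ≅ X') (j : Y ≅ Y')
    (a : X' ⟶ Y') (b : X ⟶ Y) (h : i.hom ≫ a = b ≫ j.hom) : a ≫ j.inv = i.inv ≫ b := by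
  rw [Iso.comp_inv_eq, Category.assoc, Iso.eq_inv_comp, h]

/-- `DT` is invariant under isomorphisms of composable pairs. -/
lemma DT.of_iso {C : Type*} [Category C] [Preadditive C] [HasZeroObject C] [HasShift C ℤ]
    [∀ n : ℤ, (shiftFunctor C n).Additive] [Pretriangulated C]
    {a b c a' b' c' : C} {p : a ⟶ b} {q : b ⟶ c} {p' : a' ⟶ b'}
    {q' : b' ⟶ c'} (h : DT p' q') (e₁ : a ≅ a') (e₂ : b ≅ b') (e₃ : c ≅ c')
    (c1 : p ≫ e₂.hom = e₁.hom ≫ p') (c2 : q ≫ e₃.hom = e₂.hom ≫ q') : DT p q := by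
  obtain ⟨r', hr'⟩ := h
  refine ⟨e₃.hom ≫ r' ≫ e₁.inv⟦(1 : ℤ)⟧', isomorphic_distinguished _ hr' _ ?_⟩
  refine Triangle.isoMk _ _ e₁ e₂ e₃ c1 c2 ?_
  exact Groth.Agent.H35.DTenExact.comm₃_aux _ _ _ _

/-- A complex which is both K-projective and K-flat. -/
structure GCx (A : Type u) [CommRing A] where
  P : DRing.Cx A
  kproj : P.IsKProjective
  kflat : DRing.IsKFlat A P

attribute [instance] GCx.kproj

/-- bounded above complexes of projective modules are K-projective and K-flat. -/
noncomputable def GCx.ofBoundedAbove (P : DRing.Cx A) (b : ℤ) (hb : DRing.VanishesAbove P b)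
    (hP : ∀ i : ℤ, Module.Projective A (P.X i)) : GCx A where
  P := P
  kproj := by
    have hLE : P.IsStrictlyLE b := by
      rw [CochainComplex.isStrictlyLE_iff]
      exact fun i hi => hb i hi
    have hproj : ∀ i : ℤ, Projective (P.X i) := fun i => by
      have := hP i
      exact ModuleCat.projective_of_categoryTheory_projective (P.X i)
    exact CochainComplex.isKProjective_of_projective P b
  kflat := Groth.Agent.H31.KFlatRing.isKFlat_of_bounded_above_flat P b hb (fun i => by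
    have := hP i
    infer_instance)

lemma hinv (G : GCx A) : (DTen.qis A).IsInvertedBy (DRing.homCxQ G.P) := by
  intro L₁ L₂ f hf
  have : QuasiIso f := (HomologicalComplex.mem_quasiIso_iff f).1 hf
  have hq : QuasiIso (DRing.homCxMap G.P f) := Groth.Agent.S6996.quasiIso_homCxMap G.P f
  exact (DerivedCategory.isIso_Q_map_iff_quasiIso (C := ModuleCat.{u} A) (DRing.homCxMap G.P f)).2 hq

/-- The functor induced by `Hom•(P, -)` on the derived category. -/
noncomputable def Hd (G : GCx A) : Dual.D A ⥤ Dual.D A :=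
  Localization.lift (DRing.homCxQ G.P) (hinv G) DerivedCategory.Q

/-- `Q ⋙ Hd G ≅ Hom•(P, -) ⋙ Q`. -/
noncomputable def HdFac (G : GCx A) : DerivedCategory.Q ⋙ Hd G ≅ DRing.homCxQ G.P :=
  Localization.fac (DRing.homCxQ G.P) (hinv G) DerivedCategory.Q

noncomputable instance (G : GCx A) :
    CatCommSq (DRing.homCxFunctor G.P) DerivedCategory.Q DerivedCategory.Q (Hd G) :=
  ⟨(HdFac G).symm⟩

variable [DTen.HasLTen A]

lemma isIso_εRight (G : GCx A) : IsIso (DTen.εRight A G.P) := by
  haveI : ∀ K, IsIso ((DTen.εRight A G.P).app K) := fun K =>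
    Groth.Agent.H53.DTenComp.isIso_ε_right A K G.P G.kflat
  exact NatIso.isIso_of_isIso_app _

/-- `Q ⋙ (- ⊗^L QP) ≅ (- ⊗ P) ⋙ Q`. -/
noncomputable def TdFac (G : GCx A) :
    DerivedCategory.Q ⋙ tensorRightD A (DerivedCategory.Q.obj G.P) ≅ DRing.tensorCxQ A G.P :=
  haveI := isIso_εRight G
  asIso (DTen.εRight A G.P)

lemma TdFac_hom_app (G : GCx A) (K : DRing.Cx A) : (TdFac G).hom.app K = (ε A).app (K, G.P) := rfl

noncomputable instance (G : GCx A) :
    CatCommSq (tensorRight G.P) DerivedCategory.Q DerivedCategory.Q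
      (tensorRightD A (DerivedCategory.Q.obj G.P)) :=
  ⟨(TdFac G).symm⟩

/-- The localized tensor–Hom adjunction. -/
noncomputable def adjD (G : GCx A) : tensorRightD A (DerivedCategory.Q.obj G.P) ⊣ Hd G :=
  (tensorHomAdj G.P).localization DerivedCategory.Q (DTen.qis A) DerivedCategory.Q (DTen.qis A)
    (tensorRightD A (DerivedCategory.Q.obj G.P)) (Hd G)

/-- compatibility of the localized adjunctions with conjugates. -/
lemma conj_adjD {G' G : GCx A} (f : G'.P ⟶ G.P) (M : DRing.Cx A) :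
    DerivedCategory.Q.map (homCxPre f M) ≫ (HdFac G').inv.app M =
      (HdFac G).inv.app M ≫ (conjugateEquiv (adjD G) (adjD G')
        ((LTen A).flip.map (DerivedCategory.Q.map f))).app (DerivedCategory.Q.obj M) := by
  have h := Groth.Agent.H33.ConjLoc.conj_localization (tensorHomAdj G.P) (tensorHomAdj G'.P)
    DerivedCategory.Q (DTen.qis A) DerivedCategory.Q (DTen.qis A)
    (tensorRightD A (DerivedCategory.Q.obj G.P)) (tensorRightD A (DerivedCategory.Q.obj G'.P))
    (Hd G) (Hd G') ((tensoringRight (DRing.Cx A)).map f)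
    ((LTen A).flip.map (DerivedCategory.Q.map f)) ?_ M
  · rw [conjugateEquiv_tensoringRight_map] at h
    exact h
  · intro K
    show DerivedCategory.Q.map (K ◁ f) ≫ (TdFac G).inv.app K =
      (TdFac G').inv.app K ≫ (LTen₂ A).map (Prod.mkHom (𝟙 (DerivedCategory.Q.obj K))
        (DerivedCategory.Q.map f))
    have nat := (ε A).naturality (X := (K, G'.P)) (Y := (K, G.P)) (Prod.mkHom (𝟙 K) f)
    dsimp at nat
    simp only [CategoryTheory.Functor.map_id, MonoidalCategory.id_whiskerRight,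
      Category.id_comp] at nat
    have key : (TdFac G').hom.app K ≫ DerivedCategory.Q.map (K ◁ f) =
        (LTen₂ A).map (Prod.mkHom (𝟙 (DerivedCategory.Q.obj K)) (DerivedCategory.Q.map f)) ≫
          (TdFac G).hom.app K := nat.symm
    exact comm_of_iso_sq ((TdFac G').app K) ((TdFac G).app K) _ _ key


/-! ### Comparison with the chosen internal hom -/

section RHom
variable [DTen.HasRHom A]

/-- `RHom(QP, -) ≅ Hd G` (uniqueness of right adjoints). -/
noncomputable def uIso (G : GCx A) : RHomR A (DerivedCategory.Q.obj G.P) ≅ Hd G :=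
  (rhomAdj A (DerivedCategory.Q.obj G.P)).rightAdjointUniq (adjD G)

/-- `RHom(QP, QM) ≅ Q(Hom•(P, M))`. -/
noncomputable def wIso (G : GCx A) (M : DRing.Cx A) :
    (RHomR A (DerivedCategory.Q.obj G.P)).obj (DerivedCategory.Q.obj M) ≅
      DerivedCategory.Q.obj (DRing.homCx G.P M) :=
  (uIso G).app (DerivedCategory.Q.obj M) ≪≫ (HdFac G).app M

lemma RHomMap_wIso {G' G : GCx A} (f : G'.P ⟶ G.P) (M : DRing.Cx A) :
    RHomMap (DerivedCategory.Q.map f) (DerivedCategory.Q.obj M) ≫ (wIso G' M).hom =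
      (wIso G M).hom ≫ DerivedCategory.Q.map (homCxPre f M) := by
  have h1 : (RHom A).map (DerivedCategory.Q.map f).op ≫ (uIso G').hom =
      (uIso G).hom ≫ conjugateEquiv (adjD G) (adjD G')
        ((LTen A).flip.map (DerivedCategory.Q.map f)) := by
    show conjugateEquiv (rhomAdj A (DerivedCategory.Q.obj G.P))
        (rhomAdj A (DerivedCategory.Q.obj G'.P)) ((LTen A).flip.map (DerivedCategory.Q.map f)) ≫
        conjugateEquiv (rhomAdj A (DerivedCategory.Q.obj G'.P)) (adjD G') (𝟙 _) =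
      conjugateEquiv (rhomAdj A (DerivedCategory.Q.obj G.P)) (adjD G) (𝟙 _) ≫
        conjugateEquiv (adjD G) (adjD G') ((LTen A).flip.map (DerivedCategory.Q.map f))
    rw [conjugateEquiv_comp, conjugateEquiv_comp, Category.id_comp, Category.comp_id]
  have h2 : RHomMap (DerivedCategory.Q.map f) (DerivedCategory.Q.obj M) ≫
      (uIso G').hom.app (DerivedCategory.Q.obj M) =
      (uIso G).hom.app (DerivedCategory.Q.obj M) ≫ (conjugateEquiv (adjD G) (adjD G')
        ((LTen A).flip.map (DerivedCategory.Q.map f))).app (DerivedCategory.Q.obj M) :=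
    congrArg (fun t => t.app (DerivedCategory.Q.obj M)) h1
  have h3 := conj_adjD f M
  have h4 : (HdFac G).hom.app M ≫ DerivedCategory.Q.map (homCxPre f M) =
      (conjugateEquiv (adjD G) (adjD G')
        ((LTen A).flip.map (DerivedCategory.Q.map f))).app (DerivedCategory.Q.obj M) ≫
        (HdFac G').hom.app M :=
    (comm_of_iso_sq ((HdFac G).app M).symm ((HdFac G').app M).symm _ _ h3.symm).symm
  show RHomMap (DerivedCategory.Q.map f) (DerivedCategory.Q.obj M) ≫
      ((uIso G').hom.app (DerivedCategory.Q.obj M) ≫ (HdFac G').hom.app M) =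
    ((uIso G).hom.app (DerivedCategory.Q.obj M) ≫ (HdFac G).hom.app M) ≫
      DerivedCategory.Q.map (homCxPre f M)
  rw [← Category.assoc, h2, Category.assoc, Category.assoc, h4]
  rfl

lemma RHomMap_comp {L L' L'' : Dual.D A} (g : L'' ⟶ L') (g' : L' ⟶ L) (M : Dual.D A) :
    RHomMap (g ≫ g') M = RHomMap g' M ≫ RHomMap g M := by
  show ((RHom A).map (g ≫ g').op).app M = _
  rw [op_comp, (RHom A).map_comp]
  rfl

/-- the isomorphism `RHom(b, L) ≅ RHom(a, L)` induced by `a ≅ b`. -/
noncomputable def RHomIso {a b : Dual.D A} (e : a ≅ b) (L : Dual.D A) :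
    (RHomR A b).obj L ≅ (RHomR A a).obj L :=
  ((RHom A).mapIso e.op).app L

lemma RHomIso_hom {a b : Dual.D A} (e : a ≅ b) (L : Dual.D A) :
    (RHomIso e L).hom = RHomMap e.hom L := rfl

/-- The key lemma, for a degreewise split short exact sequence of K-projective K-flat
complexes and `L = QM`. -/
theorem DT_RHomMap_of_ses_Q (S : ShortComplex (DRing.Cx A))
    (σ : ∀ n : ℤ, (S.map (HomologicalComplex.eval (ModuleCat.{u} A)
      (ComplexShape.up ℤ) n)).Splitting)
    (k₁ : S.X₁.IsKProjective) (k₂ : S.X₂.IsKProjective) (k₃ : S.X₃.IsKProjective)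
    (f₁ : DRing.IsKFlat A S.X₁) (f₂ : DRing.IsKFlat A S.X₂) (f₃ : DRing.IsKFlat A S.X₃)
    (M : DRing.Cx A) :
    DT (RHomMap (DerivedCategory.Q.map S.g) (DerivedCategory.Q.obj M))
      (RHomMap (DerivedCategory.Q.map S.f) (DerivedCategory.Q.obj M)) := by
  have hS := shortExact_homSC S σ M
  have hd := DerivedCategory.triangleOfSES_distinguished hS
  have hDT : DT (DerivedCategory.Q.map (homCxPre S.g M)) (DerivedCategory.Q.map (homCxPre S.f M)) :=
    ⟨DerivedCategory.triangleOfSESδ hS, hd⟩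
  exact DT.of_iso hDT (wIso ⟨S.X₃, k₃, f₃⟩ M) (wIso ⟨S.X₂, k₂, f₂⟩ M) (wIso ⟨S.X₁, k₁, f₁⟩ M)
    (RHomMap_wIso (G' := ⟨S.X₂, k₂, f₂⟩) (G := ⟨S.X₃, k₃, f₃⟩) S.g M)
    (RHomMap_wIso (G' := ⟨S.X₁, k₁, f₁⟩) (G := ⟨S.X₂, k₂, f₂⟩) S.f M)

theorem DT_RHomMap_of_ses (S : ShortComplex (DRing.Cx A))
    (σ : ∀ n : ℤ, (S.map (HomologicalComplex.eval (ModuleCat.{u} A)
      (ComplexShape.up ℤ) n)).Splitting)
    (k₁ : S.X₁.IsKProjective) (k₂ : S.X₂.IsKProjective) (k₃ : S.X₃.IsKProjective)
    (f₁ : DRing.IsKFlat A S.X₁) (f₂ : DRing.IsKFlat A S.X₂) (f₃ : DRing.IsKFlat A S.X₃)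
    (L : Dual.D A) :
    DT (RHomMap (DerivedCategory.Q.map S.g) L) (RHomMap (DerivedCategory.Q.map S.f) L) := by
  let M := DerivedCategory.Q.objPreimage L
  let e : DerivedCategory.Q.obj M ≅ L := DerivedCategory.Q.objObjPreimageIso L
  refine DT.of_iso (DT_RHomMap_of_ses_Q S σ k₁ k₂ k₃ f₁ f₂ f₃ M)
    ((RHomR A _).mapIso e.symm) ((RHomR A _).mapIso e.symm) ((RHomR A _).mapIso e.symm) ?_ ?_
  · exact (((RHom A).map (DerivedCategory.Q.map S.g).op).naturality e.inv).symm
  · exact (((RHom A).map (DerivedCategory.Q.map S.f).op).naturality e.inv).symm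

end RHom

end Groth.Agent.H33.RHomModel
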