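import Mathlib
import Groth.Prelude.Def_GrSeg

/-!
# Helper library (helper33, for helper98's S18663 squad): (PC) vanishing of a Segre piece.
-/

set_option autoImplicit false
universe u
open scoped TensorProduct

namespace Groth.Agent.H33.SegPC

/-- over a field a pure tensor vanishes only if one of its factors does -/
theorem tmul_eq_zero_field {k : Type u} [Field k] {X N : Type u} [AddCommGroup X] [Module k X]
    [AddCommGroup N] [Module k N] (x : X) (y : N) (h : x ⊗ₜ[k] y = 0) : x = 0 ∨ y = 0 := by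
  by_contra hne
  rw [not_or] at hne
  obtain ⟨hx, hy⟩ := hne
  have hxinj : Function.Injective (LinearMap.toSpanSingleton k X x) := by
    intro a b hab
    exact smul_left_injective k hx hab
  have hyinj : Function.Injective (LinearMap.toSpanSingleton k N y) := by
    intro a b hab
    exact smul_left_injective k hy hab
  obtain ⟨g, hg⟩ := LinearMap.exists_leftInverse_of_injective _ (LinearMap.ker_eq_bot.2 hxinj)
  obtain ⟨g', hg'⟩ := LinearMap.exists_leftInverse_of_injective _ (LinearMap.ker_eq_bot.2 hyinj)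
  have hgx : g x = 1 := by
    have := LinearMap.congr_fun hg 1
    simpa using this
  have hgy : g' y = 1 := by
    have := LinearMap.congr_fun hg' 1
    simpa using this
  have h1 := congrArg (fun z => TensorProduct.lid k k (TensorProduct.map g g' z)) h
  simp only [TensorProduct.map_tmul, hgx, hgy, TensorProduct.lid_tmul, map_zero] at h1
  simp at h1

theorem segrePiece_eq_bot_iff {k : Type u} [Field k] {X N : Type u} [AddCommGroup X] [Module k X]
    [AddCommGroup N] [Module k N] (𝒳 : ℤ → AddSubgroup X) (𝒩 : ℤ → AddSubgroup N) (n : ℤ) :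
    GrSeg.segrePiece k 𝒳 𝒩 n = ⊥ ↔ (𝒳 n = ⊥ ∨ 𝒩 n = ⊥) := by
  constructor
  · intro h
    by_contra hne
    rw [not_or] at hne
    obtain ⟨hX, hN⟩ := hne
    obtain ⟨⟨x, hx⟩, hx0'⟩ := (AddSubgroup.ne_bot_iff_exists_ne_zero).1 hX
    obtain ⟨⟨y, hy⟩, hy0'⟩ := (AddSubgroup.ne_bot_iff_exists_ne_zero).1 hN
    have hx0 : x ≠ 0 := fun h0 => hx0' (Subtype.ext h0)
    have hy0 : y ≠ 0 := fun h0 => hy0' (Subtype.ext h0)
    have hmem : x ⊗ₜ[k] y ∈ GrSeg.segrePiece k 𝒳 𝒩 n :=
      Submodule.subset_span ⟨x, hx, y, hy, rfl⟩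
    rw [h, Submodule.mem_bot] at hmem
    rcases tmul_eq_zero_field x y hmem with h0 | h0
    · exact hx0 h0
    · exact hy0 h0
  · intro h
    rw [eq_bot_iff]
    unfold GrSeg.segrePiece
    rw [Submodule.span_le]
    rintro _ ⟨a, ha, b, hb, rfl⟩
    rcases h with h | h
    · rw [h, AddSubgroup.mem_bot] at ha
      rw [ha, TensorProduct.zero_tmul]; exact Submodule.zero_mem _
    · rw [h, AddSubgroup.mem_bot] at hb
      rw [hb, TensorProduct.tmul_zero]; exact Submodule.zero_mem _

end Groth.Agent.H33.SegPC
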