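import Groth.Agent.H98.SegMod
import Groth.Agent.H98.TensRange

/-!
# Helper library (helper33, for helper98's S19758 squad): torsion in Segre products.
WP4 `mem_gam_of_sι_mem_tR`, WP5 `sι_mem_tR_ker`, `sι_mem_tR_gam`.
-/

set_option autoImplicit false
universe u
open scoped TensorProduct
open DirectSum
open Groth.Agent.H98.GrCat Groth.Agent.H98.GrConv Groth.Agent.H98.Seg Groth.Agent.H98.TensRange

namespace Groth.Agent.H33.SegTors

variable {k : Type u} [Field k]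
  {R : Type u} [CommRing R] [Algebra k R] (𝒜 : ℤ → Submodule k R) [GradedAlgebra 𝒜]
  {S : Type u} [CommRing S] [Algebra k S] (ℬ : ℤ → Submodule k S) [GradedAlgebra ℬ]
  {T : Type u} [CommRing T] [Algebra k T] (𝒯 : ℤ → Submodule k T) [GradedAlgebra 𝒯]
  (ψ : T →ₐ[k] R ⊗[k] S) (hT : GrSeg.IsSegreRing 𝒜 ℬ 𝒯 ψ)
  {X : Type u} [AddCommGroup X] [Module R X] [Module k X] [IsScalarTower k R X]
  (𝒳 : ℤ → AddSubgroup X) [Decomposition 𝒳] [SetLike.GradedSMul 𝒜 𝒳]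
  {N : Type u} [AddCommGroup N] [Module S N] [Module k N] [IsScalarTower k S N]
  (𝒩 : ℤ → AddSubgroup N) [Decomposition 𝒩] [SetLike.GradedSMul ℬ 𝒩]

section WP4

omit [GradedAlgebra 𝒜] [GradedAlgebra ℬ] in
/-- an element of the extended ideal `I ⊗ S` kills `x ⊗ y` when `I` kills `x`. -/
theorem act_eq_zero_of_mem_map (I : Ideal R) (x : X) (hx : ∀ r ∈ I, r • x = 0) (y : N)
    (u : R ⊗[k] S)
    (hu : u ∈ Ideal.map (Algebra.TensorProduct.includeLeft : R →ₐ[k] R ⊗[k] S) I) :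
    GrSeg.act k R S X N u (x ⊗ₜ[k] y) = 0 := by
  unfold Ideal.map at hu
  induction hu using Submodule.span_induction with
  | mem z hz =>
    obtain ⟨a, ha, rfl⟩ := hz
    show GrSeg.act k R S X N (a ⊗ₜ[k] (1 : S)) (x ⊗ₜ[k] y) = 0
    rw [GrSeg.act_tmul, hx a ha, TensorProduct.zero_tmul]
  | zero => rw [map_zero, LinearMap.zero_apply]
  | add z z' _ _ h h' => rw [map_add, LinearMap.add_apply, h, h', add_zero]
  | smul c z _ h =>
    rw [smul_eq_mul, Groth.Agent.H98.act_mul, h, map_zero]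

theorem mem_gam_of_sι_mem_tR (J : Ideal R) (a' : Ideal T)
    (hψ : ∀ t ∈ a', ψ t ∈ Ideal.map (Algebra.TensorProduct.includeLeft : R →ₐ[k] R ⊗[k] S) J)
    (v : (segG 𝒜 ℬ 𝒯 ψ hT 𝒳 𝒩).carrier)
    (hv : sι 𝒜 ℬ 𝒯 ψ hT 𝒳 𝒩 v ∈ tR N ((GrLC.gam J X).restrictScalars k)) :
    v ∈ GrLC.gam a' (segG 𝒜 ℬ 𝒯 ψ hT 𝒳 𝒩).carrier := by
  obtain ⟨l, hl, hsum⟩ := exists_list hv
  -- a common exponent
  have hex : ∃ L : ℕ, ∀ p ∈ l, ∀ r ∈ J ^ L, r • p.1 = 0 := by
    clear hsum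
    induction l with
    | nil => exact ⟨0, fun p hp => absurd hp (List.not_mem_nil)⟩
    | cons q l ih =>
      obtain ⟨L, hL⟩ := ih (fun p hp => hl p (List.mem_cons_of_mem _ hp))
      obtain ⟨n, hn⟩ := hl q List.mem_cons_self
      refine ⟨L + n, fun p hp r hr => ?_⟩
      rcases List.mem_cons.1 hp with rfl | hp
      · exact hn r (Ideal.pow_le_pow_right (Nat.le_add_left n L) hr)
      · exact hL p hp r (Ideal.pow_le_pow_right (Nat.le_add_right L n) hr)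
  obtain ⟨L, hL⟩ := hex
  refine ⟨L, fun t ht => ?_⟩
  have hψt : ψ t ∈ Ideal.map (Algebra.TensorProduct.includeLeft : R →ₐ[k] R ⊗[k] S) (J ^ L) := by
    rw [Ideal.map_pow]
    have h1 : a' ^ L ≤ (Ideal.map (Algebra.TensorProduct.includeLeft : R →ₐ[k] R ⊗[k] S) J ^ L).comap ψ := by
      have h2 : a' ≤ (Ideal.map (Algebra.TensorProduct.includeLeft : R →ₐ[k] R ⊗[k] S) J).comap ψ :=
        fun t ht => hψ t ht
      calc a' ^ L ≤ ((Ideal.map (Algebra.TensorProduct.includeLeft : R →ₐ[k] R ⊗[k] S) J).comap ψ) ^ L :=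
            Ideal.pow_right_mono h2 L
        _ ≤ _ := Ideal.le_comap_pow _ L
    exact h1 ht
  apply sι_injective 𝒜 ℬ 𝒯 ψ hT 𝒳 𝒩
  rw [sι_smul, map_zero, hsum]
  clear hsum hv
  induction l with
  | nil => simp
  | cons q l ih =>
    rw [List.map_cons, List.sum_cons, map_add,
      ih (fun p hp => hl p (List.mem_cons_of_mem _ hp)) (fun p hp => hL p (List.mem_cons_of_mem _ hp)),
      add_zero]
    exact act_eq_zero_of_mem_map (J ^ L) q.1 (hL q List.mem_cons_self) q.2 _ hψt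

end WP4

section WP5

omit [GradedAlgebra 𝒜] [GradedAlgebra ℬ] in
theorem act_tmul_eq (f : R) (s : S) (z : X ⊗[k] N) :
    GrSeg.act k R S X N (f ⊗ₜ[k] s) z =
      (Algebra.lsmul k k N s).lTensor X ((Algebra.lsmul k k X f).rTensor N z) := by
  induction z using TensorProduct.induction_on with
  | zero => simp
  | add z z' h h' => simp only [map_add, h, h']
  | tmul x y =>
    rw [GrSeg.act_tmul, LinearMap.rTensor_tmul, LinearMap.lTensor_tmul]
    rfl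

omit [Module k N] [IsScalarTower k S N] in
theorem pow_smul_injective (s : S) (hs : Function.Injective (fun y : N => s • y)) (n : ℕ) :
    Function.Injective (fun y : N => s ^ n • y) := by
  induction n with
  | zero =>
    intro a b h
    simpa using h
  | succ n ih =>
    intro a b h
    apply ih
    apply hs
    show s • s ^ n • a = s • s ^ n • b
    rw [← mul_smul, ← mul_smul, ← pow_succ']
    exact h

theorem sι_mem_tR_ker (t : T) (f : R) (s : S) (hψt : ψ t = f ⊗ₜ[k] s)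
    (hs : Function.Injective (fun y : N => s • y)) (L : ℕ)
    (v : (segG 𝒜 ℬ 𝒯 ψ hT 𝒳 𝒩).carrier) (hv : t ^ L • v = 0) :
    sι 𝒜 ℬ 𝒯 ψ hT 𝒳 𝒩 v ∈ tR N (LinearMap.ker (Algebra.lsmul k k X (f ^ L))) := by
  have h1 : sι 𝒜 ℬ 𝒯 ψ hT 𝒳 𝒩 (t ^ L • v) = 0 := by rw [hv, map_zero]
  rw [sι_smul, map_pow, hψt, Algebra.TensorProduct.tmul_pow, act_tmul_eq] at h1
  have hsL : Function.Injective (Algebra.lsmul k k N (s ^ L)) := pow_smul_injective s hs L
  have h2 : (Algebra.lsmul k k X (f ^ L)).rTensor N (sι 𝒜 ℬ 𝒯 ψ hT 𝒳 𝒩 v) = 0 :=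
    lTensor_injective (X := X) (Algebra.lsmul k k N (s ^ L)) hsL (h1.trans (map_zero _).symm)
  have h3 : sι 𝒜 ℬ 𝒯 ψ hT 𝒳 𝒩 v ∈ LinearMap.ker ((Algebra.lsmul k k X (f ^ L)).rTensor N) := h2
  rw [ker_rTensor] at h3
  exact h3

omit [Module k X] [IsScalarTower k R X] in
/-- if `f ^ L` kills `x` for all `f` in a list, then `x` is torsion for the ideal they span -/
theorem exists_pow_of_list (fs : List R) (L : ℕ) (x : X) (hx : ∀ f ∈ fs, f ^ L • x = 0) :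
    ∃ n : ℕ, ∀ r ∈ (Ideal.span {c | c ∈ fs}) ^ n, r • x = 0 := by
  induction fs with
  | nil =>
    refine ⟨1, fun r hr => ?_⟩
    have h0 : ({c | c ∈ ([] : List R)} : Set R) = ∅ := by ext; simp
    rw [pow_one, h0, Ideal.span_empty, Ideal.mem_bot] at hr
    rw [hr, zero_smul]
  | cons f fs ih =>
    obtain ⟨n, hn⟩ := ih (fun g hg => hx g (List.mem_cons_of_mem _ hg))
    refine ⟨L + n, fun r hr => ?_⟩
    have h0 : ({c | c ∈ f :: fs} : Set R) = {f} ∪ {c | c ∈ fs} := by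
      ext c; simp
    rw [h0, Ideal.span_union] at hr
    have hr' := Ideal.sup_pow_add_le_pow_sup_pow hr
    obtain ⟨a, ha, b, hb, rfl⟩ := Submodule.mem_sup.1 hr'
    rw [Ideal.span_singleton_pow, Ideal.mem_span_singleton'] at ha
    obtain ⟨c, rfl⟩ := ha
    rw [add_smul, mul_smul, hx f List.mem_cons_self, smul_zero, hn b hb, add_zero]

theorem sι_mem_tR_gam (l : List (T × R × S))
    (hl : ∀ p ∈ l, ψ p.1 = p.2.1 ⊗ₜ[k] p.2.2 ∧ Function.Injective (fun y : N => p.2.2 • y))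
    (v : (segG 𝒜 ℬ 𝒯 ψ hT 𝒳 𝒩).carrier)
    (hv : v ∈ GrLC.gam (Ideal.span {c | c ∈ l.map (fun p => p.1)}) (segG 𝒜 ℬ 𝒯 ψ hT 𝒳 𝒩).carrier) :
    sι 𝒜 ℬ 𝒯 ψ hT 𝒳 𝒩 v ∈
      tR N ((GrLC.gam (Ideal.span {c | c ∈ l.map (fun p => p.2.1)}) X).restrictScalars k) := by
  obtain ⟨L, hL⟩ := hv
  -- each `t_p ^ L` kills `v`
  have h1 : ∀ p ∈ l, sι 𝒜 ℬ 𝒯 ψ hT 𝒳 𝒩 v ∈
      tR N (LinearMap.ker (Algebra.lsmul k k X (p.2.1 ^ L))) := by
    intro p hp
    refine sι_mem_tR_ker 𝒜 ℬ 𝒯 ψ hT 𝒳 𝒩 p.1 p.2.1 p.2.2 (hl p hp).1 (hl p hp).2 L v ?_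
    apply hL
    apply Ideal.pow_mem_pow
    exact Ideal.subset_span (List.mem_map.2 ⟨p, hp, rfl⟩)
  -- the common kernel
  have h2 : ∀ l' : List (T × R × S), (∀ p ∈ l', p ∈ l) →
      ∃ K : Submodule k X, (∀ x ∈ K, ∀ p ∈ l', p.2.1 ^ L • x = 0) ∧
        sι 𝒜 ℬ 𝒯 ψ hT 𝒳 𝒩 v ∈ tR N K := by
    intro l'
    induction l' with
    | nil =>
      intro _
      exact ⟨⊤, fun x _ p hp => absurd hp List.not_mem_nil, by rw [tR_top]; trivial⟩
    | cons q l' ih =>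
      intro hsub
      obtain ⟨K, hK, hvK⟩ := ih (fun p hp => hsub p (List.mem_cons_of_mem _ hp))
      refine ⟨LinearMap.ker (Algebra.lsmul k k X (q.2.1 ^ L)) ⊓ K, ?_, ?_⟩
      · rintro x ⟨hx1, hx2⟩ p hp
        rcases List.mem_cons.1 hp with rfl | hp
        · exact hx1
        · exact hK x hx2 p hp
      · rw [← tR_inf]
        exact ⟨h1 q (hsub q List.mem_cons_self), hvK⟩
  obtain ⟨K, hK, hvK⟩ := h2 l (fun p hp => hp)
  refine tR_mono ?_ hvK
  intro x hx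
  have := exists_pow_of_list (l.map (fun p => p.2.1)) L x (by
    intro f hf
    obtain ⟨p, hp, rfl⟩ := List.mem_map.1 hf
    exact hK x hx p hp)
  exact this

end WP5

end Groth.Agent.H33.SegTors
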