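import Mathlib
import Groth.Prelude.Def_W4stkfunctorsequivSib
import Groth.Agent.H33.PCohFun

/-! Sibling functors on the bounded derived category (helper33): shifted comparison
isomorphisms and the stupid filtration of a bounded object. -/

set_option autoImplicit false
universe w v u v' u'

namespace Groth.Agent.H33.Sib

open CategoryTheory CategoryTheory.Category CategoryTheory.Limits CategoryTheory.Pretriangulated
open DerivedCategory

variable {A : Type u} [Category.{v} A] [Abelian A] [HasDerivedCategory.{w} A]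

/-- the property defining the bounded derived category -/
abbrev PB (A : Type u) [Category.{v} A] [Abelian A] [HasDerivedCategory.{w} A] :
    ObjectProperty (DerivedCategory A) := (DerivedCategory.TStructure.t).bounded

instance : (DEquiv.singleB A).Full := by unfold DEquiv.singleB; infer_instance
instance : (DEquiv.singleB A).Faithful := by unfold DEquiv.singleB; infer_instance

/-- the shifted single object, seen in `D(A)` -/
noncomputable def sιIso (Y : A) (n a : ℤ) (h : n + a = 0) :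
    (PB A).ι.obj (((DEquiv.singleB A).obj Y)⟦n⟧) ≅
      Q.obj ((CochainComplex.singleFunctor A a).obj Y) :=
  ((PB A).ι.commShiftIso n).app ((DEquiv.singleB A).obj Y) ≪≫
    ((DerivedCategory.singleFunctors A).shiftIso n a 0 h).app Y ≪≫
    (DerivedCategory.singleFunctorIsoCompQ A a).app Y

lemma isZero_of_isZero_obj {K : DerivedCategory.Bounded A} (h : IsZero K.obj) : IsZero K := by
  rw [IsZero.iff_id_eq_zero]
  apply (PB A).ι.map_injective
  exact h.eq_of_src _ _

lemma isZero_Q_obj (C : CochainComplex A ℤ) (hz : ∀ i, IsZero (C.X i)) : IsZero (Q.obj C) := by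
  rw [IsZero.iff_id_eq_zero, ← Q.map_id]
  have : 𝟙 C = 0 := HomologicalComplex.hom_ext _ _ (fun i => (hz i).eq_of_src _ _)
  rw [this, Functor.map_zero]

/-- object of the bounded derived category from a bounded complex -/
noncomputable def mkT (C : CochainComplex A ℤ) (a b : ℤ) (ha : ∀ i, i < a → IsZero (C.X i))
    (hb : ∀ i, b < i → IsZero (C.X i)) : DerivedCategory.Bounded A :=
  haveI : C.IsStrictlyGE a := (CochainComplex.isStrictlyGE_iff C a).2 ha
  haveI : C.IsStrictlyLE b := (CochainComplex.isStrictlyLE_iff C b).2 hb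
  ⟨Q.obj C, ⟨⟨a, inferInstance⟩, ⟨b, inferInstance⟩⟩⟩

section Tau

variable {D : Type u'} [Category.{v'} D] [Preadditive D] [HasZeroObject D] [HasShift D ℤ]
  [∀ n : ℤ, (shiftFunctor D n).Additive] [Pretriangulated D]
variable (G G' : DerivedCategory.Bounded A ⥤ D) [G.CommShift ℤ] [G'.CommShift ℤ]
variable (t : DEquiv.singleB A ⋙ G ≅ DEquiv.singleB A ⋙ G')

/-- the comparison isomorphism on shifted single objects -/
noncomputable def tau (n : ℤ) (Y : A) :
    G.obj (((DEquiv.singleB A).obj Y)⟦n⟧) ≅ G'.obj (((DEquiv.singleB A).obj Y)⟦n⟧) :=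
  (G.commShiftIso n).app ((DEquiv.singleB A).obj Y) ≪≫ (shiftFunctor D n).mapIso (t.app Y) ≪≫
    ((G'.commShiftIso n).app ((DEquiv.singleB A).obj Y)).symm

lemma tau_hom (n : ℤ) (Y : A) : (tau G G' t n Y).hom =
    (G.commShiftIso n).hom.app ((DEquiv.singleB A).obj Y) ≫ (t.hom.app Y)⟦n⟧' ≫
      (G'.commShiftIso n).inv.app ((DEquiv.singleB A).obj Y) := rfl

lemma tau_nat (n : ℤ) {Y Y' : A} (g : Y ⟶ Y') :
    (tau G G' t n Y).hom ≫ G'.map (((DEquiv.singleB A).map g)⟦n⟧') =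
      G.map (((DEquiv.singleB A).map g)⟦n⟧') ≫ (tau G G' t n Y').hom := by
  have h1 := G'.commShiftIso_inv_naturality ((DEquiv.singleB A).map g) n
  have h2 := G.commShiftIso_hom_naturality ((DEquiv.singleB A).map g) n
  have h3 : t.hom.app Y ≫ G'.map ((DEquiv.singleB A).map g) =
      G.map ((DEquiv.singleB A).map g) ≫ t.hom.app Y' := (t.hom.naturality g).symm
  simp only [tau_hom, assoc]
  rw [← h1, ← Functor.map_comp_assoc, h3, Functor.map_comp_assoc, reassoc_of% h2]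

lemma tau_nat_of_hom (n : ℤ) {Y Y' : A}
    (φ : ((DEquiv.singleB A).obj Y)⟦n⟧ ⟶ ((DEquiv.singleB A).obj Y')⟦n⟧) :
    (tau G G' t n Y).hom ≫ G'.map φ = G.map φ ≫ (tau G G' t n Y').hom := by
  obtain ⟨ψ, rfl⟩ := (shiftFunctor (DerivedCategory.Bounded A) n).map_surjective φ
  obtain ⟨g, rfl⟩ := (DEquiv.singleB A).map_surjective ψ
  exact tau_nat G G' t n g

/-- the comparison isomorphism on once more shifted single objects -/
noncomputable def tauP (n : ℤ) (Y : A) :
    G.obj ((((DEquiv.singleB A).obj Y)⟦n⟧)⟦(1 : ℤ)⟧) ≅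
      G'.obj ((((DEquiv.singleB A).obj Y)⟦n⟧)⟦(1 : ℤ)⟧) :=
  (G.commShiftIso (1 : ℤ)).app _ ≪≫ (shiftFunctor D (1 : ℤ)).mapIso (tau G G' t n Y) ≪≫
    ((G'.commShiftIso (1 : ℤ)).app _).symm

lemma tauP_hom (n : ℤ) (Y : A) : (tauP G G' t n Y).hom =
    (G.commShiftIso (1 : ℤ)).hom.app _ ≫ ((tau G G' t n Y).hom)⟦(1 : ℤ)⟧' ≫
      (G'.commShiftIso (1 : ℤ)).inv.app _ := rfl

lemma tau_shift (n : ℤ) (Y : A) :
    G.map ((shiftFunctorAdd' (DerivedCategory.Bounded A) n 1 (n + 1) rfl).hom.app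
        ((DEquiv.singleB A).obj Y)) ≫ (tauP G G' t n Y).hom =
      (tau G G' t (n + 1) Y).hom ≫
        G'.map ((shiftFunctorAdd' (DerivedCategory.Bounded A) n 1 (n + 1) rfl).hom.app
          ((DEquiv.singleB A).obj Y)) := by
  have eG := congrArg (fun e => e.hom.app ((DEquiv.singleB A).obj Y))
    (G.commShiftIso_add' (show n + 1 = n + 1 from rfl))
  have eG' := congrArg (fun e => e.inv.app ((DEquiv.singleB A).obj Y))
    (G'.commShiftIso_add' (show n + 1 = n + 1 from rfl))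
  simp only [Functor.CommShift.isoAdd'_hom_app, Functor.CommShift.isoAdd'_inv_app] at eG eG'
  rw [tauP_hom, tau_hom, tau_hom, eG, eG']
  simp only [Functor.map_comp, assoc]
  have hn := (shiftFunctorAdd' D n 1 (n + 1) rfl).inv.naturality (t.hom.app Y)
  simp only [Functor.comp_map] at hn
  rw [← reassoc_of% hn]
  simp [← Functor.map_comp]

lemma tau_nat_shift1 (n : ℤ) {Y Y' : A}
    (ψ : ((DEquiv.singleB A).obj Y')⟦n + 1⟧ ⟶ (((DEquiv.singleB A).obj Y)⟦n⟧)⟦(1 : ℤ)⟧) :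
    (tau G G' t (n + 1) Y').hom ≫ G'.map ψ = G.map ψ ≫ (tauP G G' t n Y).hom := by
  have h := tau_nat_of_hom G G' t (n + 1)
    (ψ ≫ (shiftFunctorAdd' (DerivedCategory.Bounded A) n 1 (n + 1) rfl).inv.app
      ((DEquiv.singleB A).obj Y))
  have hs := tau_shift G G' t n Y
  have e1 : ψ = (ψ ≫ (shiftFunctorAdd' (DerivedCategory.Bounded A) n 1 (n + 1) rfl).inv.app
      ((DEquiv.singleB A).obj Y)) ≫
      (shiftFunctorAdd' (DerivedCategory.Bounded A) n 1 (n + 1) rfl).hom.app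
        ((DEquiv.singleB A).obj Y) := by simp
  conv_lhs => rw [e1, Functor.map_comp, ← assoc, h, assoc, ← hs]
  conv_rhs => rw [e1, Functor.map_comp, assoc]

/-- vanishing of maps between shifts from vanishing of negative maps -/
lemma vanish_shift {X W : D} (q : ℤ) (h : ∀ f : X ⟶ W⟦q⟧, f = 0) (n s : ℤ) (hq : s + (-n) = q)
    (g : X⟦n⟧ ⟶ W⟦s⟧) : g = 0 := by
  have h0 := h ((shiftFunctorCompIsoId D n (-n) (by omega)).inv.app X ≫ g⟦-n⟧' ≫
    (shiftFunctorAdd' D s (-n) q hq).inv.app W)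
  have h1 : g⟦-n⟧' = 0 := by
    have := congrArg (fun z => (shiftFunctorCompIsoId D n (-n) (by omega)).hom.app X ≫ z ≫
      (shiftFunctorAdd' D s (-n) q hq).hom.app W) h0
    simpa using this
  apply (shiftFunctor D (-n)).map_injective
  rw [h1, Functor.map_zero]

end Tau

/-- the stupid filtration of a bounded object: `M` has top term `Y` in degree `-n` -/
inductive BT : (n : ℤ) → (Y : A) → (M : DerivedCategory.Bounded A) →
    ((((DEquiv.singleB A).obj Y)⟦n⟧ : DerivedCategory.Bounded A) ⟶ M) → Prop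
  | zero (n : ℤ) (Y : A) (M : DerivedCategory.Bounded A)
      (j : ((DEquiv.singleB A).obj Y)⟦n⟧ ⟶ M) (hM : IsZero M) : BT n Y M j
  | step (n : ℤ) (Y : A) (M : DerivedCategory.Bounded A)
      (j : ((DEquiv.singleB A).obj Y)⟦n⟧ ⟶ M)
      (M' : DerivedCategory.Bounded A) (π : M ⟶ M')
      (δ : M' ⟶ (((DEquiv.singleB A).obj Y)⟦n⟧)⟦(1 : ℤ)⟧)
      (hT : Triangle.mk j π δ ∈ distTriang (DerivedCategory.Bounded A))
      (Y' : A) (j' : ((DEquiv.singleB A).obj Y')⟦n + 1⟧ ⟶ M') (h' : BT (n + 1) Y' M' j') :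
      BT n Y M j

theorem exists_BT_aux : ∀ (ℓ : ℕ) (n : ℤ) (C : CochainComplex A ℤ)
    (_ : ∀ i, -n < i → IsZero (C.X i)) (_ : ∀ i, i ≤ -n - ℓ → IsZero (C.X i))
    (K : DerivedCategory.Bounded A) (_ : K.obj ≅ Q.obj C),
    ∃ (Y : A) (j : ((DEquiv.singleB A).obj Y)⟦n⟧ ⟶ K), BT n Y K j := by
  intro ℓ
  induction ℓ with
  | zero =>
    intro n C hb ha K e
    have hz : ∀ i, IsZero (C.X i) := fun i => by
      by_cases h : -n < i
      · exact hb i h
      · exact ha i (by simp only [Nat.cast_zero, sub_zero]; omega)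
    exact ⟨C.X (-n), 0, BT.zero _ _ _ _ (isZero_of_isZero_obj ((isZero_Q_obj C hz).of_iso e))⟩
  | succ ℓ ih =>
    intro n C hb ha K e
    obtain ⟨G, φ, π, w, hS, hGt, hπ⟩ := PCoh.exists_top_ses C (-n) hb
    have hGb : ∀ i, -(n + 1) < i → IsZero (G.X i) := fun i hi => by
      by_cases h : i = -n
      · rw [h]; exact hGt
      · haveI := hπ i h
        exact (hb i (by omega)).of_iso (asIso (π.f i)).symm
    have hGa : ∀ i, i ≤ -(n + 1) - ℓ → IsZero (G.X i) := fun i hi => by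
      haveI := hπ i (by omega)
      exact (ha i (by push_cast; omega)).of_iso (asIso (π.f i)).symm
    obtain ⟨M', eM, -⟩ : ∃ (M' : DerivedCategory.Bounded A) (_ : M'.obj ≅ Q.obj G), True :=
      ⟨mkT G (-(n + 1) - ℓ + 1) (-(n + 1)) (fun i hi => hGa i (by omega)) hGb, Iso.refl _, trivial⟩
    obtain ⟨Y', j', hBT'⟩ := ih (n + 1) G hGb hGa M' eM
    let sY := sιIso (C.X (-n)) n (-n) (by omega)
    obtain ⟨j, hj⟩ : ∃ j : ((DEquiv.singleB A).obj (C.X (-n)))⟦n⟧ ⟶ K,
        (PB A).ι.map j = sY.hom ≫ Q.map φ ≫ e.inv := ⟨ObjectProperty.homMk _, rfl⟩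
    obtain ⟨πT, hπT⟩ : ∃ p : K ⟶ M', (PB A).ι.map p = e.hom ≫ Q.map π ≫ eM.inv :=
      ⟨ObjectProperty.homMk (e.hom ≫ Q.map π ≫ eM.inv), rfl⟩
    obtain ⟨δT, hδT⟩ : ∃ d : M' ⟶ (((DEquiv.singleB A).obj (C.X (-n)))⟦n⟧)⟦(1 : ℤ)⟧,
        (PB A).ι.map d = eM.hom ≫ triangleOfSESδ hS ≫ (sY.inv)⟦(1 : ℤ)⟧' ≫
          ((PB A).ι.commShiftIso (1 : ℤ)).inv.app _ := ⟨ObjectProperty.homMk _, rfl⟩
    have hT : Triangle.mk j πT δT ∈ distTriang (DerivedCategory.Bounded A) := by
      change (PB A).ι.mapTriangle.obj (Triangle.mk j πT δT) ∈ distTriang (DerivedCategory A)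
      refine isomorphic_distinguished _ (triangleOfSES_distinguished hS) _ ?_
      refine Triangle.isoMk _ _ sY (show (PB A).ι.obj K ≅ Q.obj C from e)
        (show (PB A).ι.obj M' ≅ Q.obj G from eM) ?_ ?_ ?_
      · show (PB A).ι.map j ≫ e.hom = sY.hom ≫ Q.map φ
        rw [hj]
        simp
      · show (PB A).ι.map πT ≫ eM.hom = e.hom ≫ Q.map π
        rw [hπT]
        simp
      · show ((PB A).ι.map δT ≫ ((PB A).ι.commShiftIso (1 : ℤ)).hom.app _) ≫
          (sY.hom)⟦(1 : ℤ)⟧' = eM.hom ≫ triangleOfSESδ hS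
        rw [hδT]
        simp only [assoc, Iso.inv_hom_id_app_assoc]
        rw [← CategoryTheory.Functor.map_comp, Iso.inv_hom_id, CategoryTheory.Functor.map_id, comp_id]
    exact ⟨C.X (-n), j, BT.step n _ K j M' πT δT hT Y' j' hBT'⟩

theorem exists_BT (K : DerivedCategory.Bounded A) :
    ∃ (n : ℤ) (Y : A) (j : ((DEquiv.singleB A).obj Y)⟦n⟧ ⟶ K), BT n Y K j := by
  obtain ⟨⟨a, ha⟩, ⟨b, hb⟩⟩ := K.property
  haveI : K.obj.IsGE a := ha
  haveI : K.obj.IsLE b := hb
  obtain ⟨C, hCa, hCb, ⟨e⟩⟩ := DerivedCategory.exists_iso_Q_obj_of_isGE_of_isLE K.obj a b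
  obtain ⟨Y, j, h⟩ := exists_BT_aux (b - a + 1).toNat (-b) C
    (fun i hi => CochainComplex.isZero_of_isStrictlyLE C b i (by omega))
    (fun i hi => CochainComplex.isZero_of_isStrictlyGE C a i (by omega)) K e
  exact ⟨-b, Y, j, h⟩

end Groth.Agent.H33.Sib
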