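import Groth.Agent.H33.Sib
import Groth.Agent.S6707

/-! Sibling functors (helper33): amplitude ranges in the bounded derived category and
negative presentations. -/

set_option autoImplicit false
universe w v u

namespace Groth.Agent.H33.Sib

open CategoryTheory CategoryTheory.Category CategoryTheory.Limits CategoryTheory.Pretriangulated
open DerivedCategory ZeroObject

variable {A : Type u} [Category.{v} A] [Abelian A] [HasDerivedCategory.{w} A]

/-- the canonical t-structure -/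
noncomputable abbrev tS (A : Type u) [Category.{v} A] [Abelian A] [HasDerivedCategory.{w} A] :
    Triangulated.TStructure (DerivedCategory A) := DerivedCategory.TStructure.t

/-- the shifted single object, seen in `D(A)` -/
noncomputable def sιIso' (Y : A) (n a : ℤ) (h : n + a = 0) :
    (PB A).ι.obj (((DEquiv.singleB A).obj Y)⟦n⟧) ≅ (DerivedCategory.singleFunctor A a).obj Y :=
  ((PB A).ι.commShiftIso n).app ((DEquiv.singleB A).obj Y) ≪≫
    ((DerivedCategory.singleFunctors A).shiftIso n a 0 h).app Y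

/-- amplitude in `[a, a + m]` -/
def InR (a : ℤ) (m : ℕ) (K : DerivedCategory.Bounded A) : Prop :=
  K.obj.IsGE a ∧ K.obj.IsLE (a + m)

lemma InR.mono' {a a' : ℤ} {m m' : ℕ} {K : DerivedCategory.Bounded A} (h : InR a m K)
    (h1 : a' ≤ a) (h2 : a + m ≤ a' + m') : InR a' m' K := by
  haveI := h.1
  haveI := h.2
  exact ⟨(tS A).isGE_of_ge K.obj a' a h1, (tS A).isLE_of_le K.obj (a + m) (a' + m') h2⟩

lemma InR.succ {a : ℤ} {m : ℕ} {K : DerivedCategory.Bounded A} (h : InR a m K) :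
    InR a (m + 1) K := h.mono' le_rfl (by push_cast; omega)

lemma InR.of_iso {a : ℤ} {m : ℕ} {K K' : DerivedCategory.Bounded A} (e : K ≅ K')
    (h : InR a m K) : InR a m K' := by
  haveI := h.1
  haveI := h.2
  exact ⟨(tS A).isGE_of_iso (X := K.obj) (Y := K'.obj) ((PB A).ι.mapIso e) a,
    (tS A).isLE_of_iso (X := K.obj) (Y := K'.obj) ((PB A).ι.mapIso e) _⟩

lemma inR_single (a : ℤ) (m : ℕ) (Y : A) (n : ℤ) (h1 : a ≤ -n) (h2 : -n ≤ a + m) :
    InR a m (((DEquiv.singleB A).obj Y)⟦n⟧) := by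
  have e := sιIso' Y n (-n) (by omega)
  haveI : (tS A).IsGE (((DEquiv.singleB A).obj Y)⟦n⟧).obj (-n) :=
    (tS A).isGE_of_iso e.symm (-n)
  haveI : (tS A).IsLE (((DEquiv.singleB A).obj Y)⟦n⟧).obj (-n) :=
    (tS A).isLE_of_iso e.symm (-n)
  exact ⟨(tS A).isGE_of_ge (((DEquiv.singleB A).obj Y)⟦n⟧).obj a (-n) h1,
    (tS A).isLE_of_le (((DEquiv.singleB A).obj Y)⟦n⟧).obj (-n) (a + m) h2⟩

lemma inR_single_shift1 (a : ℤ) (m : ℕ) (Y : A) (n : ℤ) (h1 : a ≤ -(n + 1))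
    (h2 : -(n + 1) ≤ a + m) :
    InR a m ((((DEquiv.singleB A).obj Y)⟦n⟧)⟦(1 : ℤ)⟧) :=
  (inR_single a m Y (n + 1) h1 h2).of_iso
    ((shiftFunctorAdd' (DerivedCategory.Bounded A) n 1 (n + 1) rfl).app _)

lemma inR_zero (a : ℤ) (m : ℕ) : InR a m (0 : DerivedCategory.Bounded A) := by
  have hz : IsZero (0 : DerivedCategory.Bounded A).obj :=
    (PB A).ι.map_isZero (isZero_zero _)
  exact ⟨(tS A).isGE_of_isZero hz _, (tS A).isLE_of_isZero hz _⟩

lemma inR_biprod {a : ℤ} {m : ℕ} {L₁ L₂ : DerivedCategory.Bounded A} (h₁ : InR a m L₁)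
    (h₂ : InR a m L₂) : InR a m (L₁ ⊞ L₂) := by
  have hT := (PB A).ι.map_distinguished _ (binaryBiproductTriangle_distinguished L₁ L₂)
  exact ⟨(tS A).isGE₂ _ hT a h₁.1 h₂.1, (tS A).isLE₂ _ hT _ h₁.2 h₂.2⟩

lemma exists_iso_single {a : ℤ} {K : DerivedCategory.Bounded A} (hK : InR a 0 K) (n : ℤ)
    (hn : n + a = 0) : ∃ Y : A, Nonempty (K ≅ ((DEquiv.singleB A).obj Y)⟦n⟧) := by
  haveI := hK.1
  haveI : K.obj.IsLE a := by
    haveI := hK.2
    exact (tS A).isLE_of_le K.obj (a + ((0 : ℕ) : ℤ)) a (by simp)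
  obtain ⟨Y, ⟨e⟩⟩ := exists_iso_singleFunctor_obj_of_isGE_of_isLE K.obj a
  exact ⟨Y, ⟨(PB A).isoMk (e ≪≫ (sιIso' Y n a hn).symm)⟩⟩

lemma hom_to_top_single_eq_zero {a : ℤ} {m : ℕ} {L : DerivedCategory.Bounded A}
    (hL : InR a m L) (Y : A) (n : ℤ) (hn : n + (a + m + 1) = 0)
    (f : L ⟶ ((DEquiv.singleB A).obj Y)⟦n⟧) : f = 0 := by
  apply (PB A).ι.map_injective
  rw [CategoryTheory.Functor.map_zero]
  have e := sιIso' Y n (a + m + 1) hn
  exact (tS A).zero_of_isLE_of_isGE ((PB A).ι.map f) (a + m) (a + m + 1) (by omega) hL.2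
    ((tS A).isGE_of_iso e.symm _)

lemma epi_homology_truncGEπ (X : DerivedCategory A) (b : ℤ) :
    Epi ((homologyFunctor A b).map (((tS A).truncGEπ b).app X)) := by
  have hT := (tS A).triangleLTGE_distinguished b X
  refine (HomologySequence.epi_homologyMap_mor₂_iff _ hT b (b + 1) rfl).2 ?_
  apply IsZero.eq_of_tgt
  haveI : (((tS A).triangleLTGE b).obj X).obj₁.IsLE (b - 1) := inferInstance
  exact isZero_of_isLE _ (b - 1) (b + 1) (by omega)

lemma hom_to_single_eq_zero (X : DerivedCategory A) (b : ℤ) [X.IsLE b] (N : A)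
    (hφ : ∀ φ : (homologyFunctor A b).obj X ⟶ N, φ = 0)
    (f : X ⟶ (singleFunctor A b).obj N) : f = 0 := by
  haveI : (tS A).IsGE ((singleFunctor A b).obj N) b :=
    (inferInstance : ((singleFunctor A b).obj N).IsGE b)
  have hf₁ := (tS A).π_descTruncGE f b
  obtain ⟨Y, ⟨e⟩⟩ :=
    exists_iso_singleFunctor_obj_of_isGE_of_isLE (((tS A).truncGE b).obj X) b
  obtain ⟨ψ, hψ⟩ := (singleFunctor A b).map_surjective (e.inv ≫ (tS A).descTruncGE f b)
  haveI := epi_homology_truncGEπ X b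
  have hz : ψ = 0 := by
    have h0 := hφ ((homologyFunctor A b).map (((tS A).truncGEπ b).app X) ≫
      (homologyFunctor A b).map e.hom ≫
      (singleFunctorCompHomologyFunctorIso A b).hom.app Y ≫ ψ)
    have hE : Epi ((homologyFunctor A b).map (((tS A).truncGEπ b).app X) ≫
        (homologyFunctor A b).map e.hom ≫
        (singleFunctorCompHomologyFunctorIso A b).hom.app Y) := by
      infer_instance
    rw [← cancel_epi ((homologyFunctor A b).map (((tS A).truncGEπ b).app X) ≫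
        (homologyFunctor A b).map e.hom ≫
        (singleFunctorCompHomologyFunctorIso A b).hom.app Y), comp_zero]
    simpa only [assoc] using h0
  have h1 : (tS A).descTruncGE f b = 0 := by
    rw [← cancel_epi e.inv, ← hψ, hz, CategoryTheory.Functor.map_zero, comp_zero]
  rw [← hf₁, h1, comp_zero]

lemma cone_amplitude (Tr : Triangle (DerivedCategory A)) (hTr : Tr ∈ distTriang _) (a b : ℤ)
    (hab : a < b) (h1a : Tr.obj₁.IsGE b) (h1b : Tr.obj₁.IsLE b) (h2a : Tr.obj₂.IsGE a)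
    (h2b : Tr.obj₂.IsLE b) (hepi : Epi ((homologyFunctor A b).map Tr.mor₁)) :
    Tr.obj₃.IsGE a ∧ Tr.obj₃.IsLE (b - 1) := by
  have key : ∀ i : ℤ, (i < a ∨ b ≤ i) → IsZero ((homologyFunctor A i).obj Tr.obj₃) := by
    intro i hi
    refine (HomologySequence.exact₃ Tr hTr i (i + 1) rfl).isZero_X₂ ?_ ?_
    · show (homologyFunctor A i).map Tr.mor₂ = 0
      rcases hi with hi | hi
      · exact (isZero_of_isGE Tr.obj₂ a i hi).eq_of_src _ _
      · rcases hi.eq_or_lt with h | h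
        · subst h
          exact (HomologySequence.epi_homologyMap_mor₁_iff Tr hTr b).1 hepi
        · exact (isZero_of_isLE Tr.obj₂ b i h).eq_of_src _ _
    · show HomologySequence.δ Tr i (i + 1) rfl = 0
      apply IsZero.eq_of_tgt
      rcases hi with hi | hi
      · exact isZero_of_isGE Tr.obj₁ b (i + 1) (by omega)
      · exact isZero_of_isLE Tr.obj₁ b (i + 1) (by omega)
  exact ⟨(isGE_iff _ a).2 (fun i hi => key i (Or.inl hi)),
    (isLE_iff _ (b - 1)).2 (fun i hi => key i (Or.inr (by omega)))⟩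

/-- a negative presentation of `K` with top single object in shift `n` -/
structure Pres (n : ℤ) (K : DerivedCategory.Bounded A) where
  /-- the negative object -/
  N : A
  /-- the cone -/
  L : DerivedCategory.Bounded A
  /-- the map from the shifted negative object -/
  g : ((DEquiv.singleB A).obj N)⟦n⟧ ⟶ K
  /-- the projection to the cone -/
  π : K ⟶ L
  /-- the connecting map -/
  δ : L ⟶ (((DEquiv.singleB A).obj N)⟦n⟧)⟦(1 : ℤ)⟧
  dist : Triangle.mk g π δ ∈ distTriang (DerivedCategory.Bounded A)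
  neg : ∀ f : K ⟶ ((DEquiv.singleB A).obj N)⟦n⟧, f = 0

lemma hom_to_sB_eq_zero (b n : ℤ) (hn : n + b = 0) (K₁ : DerivedCategory.Bounded A)
    (h₁ : K₁.obj.IsLE b) (N : A) (hφ : ∀ φ : (homologyFunctor A b).obj K₁.obj ⟶ N, φ = 0)
    (f : K₁ ⟶ ((DEquiv.singleB A).obj N)⟦n⟧) : f = 0 := by
  apply (PB A).ι.map_injective
  have := hom_to_single_eq_zero K₁.obj b N hφ ((PB A).ι.map f ≫ (sιIso' N n b hn).hom)
  rw [← cancel_mono (sιIso' N n b hn).hom, this, CategoryTheory.Functor.map_zero, zero_comp]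

lemma exists_pres_of_epi (a b : ℤ) (hab : a < b) (n : ℤ) (hn : n + b = 0)
    (K : DerivedCategory.Bounded A) (hKa : K.obj.IsGE a) (hKb : K.obj.IsLE b) (N : A)
    (g₁ : (singleFunctor A b).obj N ⟶ K.obj) (hepi : Epi ((homologyFunctor A b).map g₁)) :
    ∃ (g : ((DEquiv.singleB A).obj N)⟦n⟧ ⟶ K) (L : DerivedCategory.Bounded A) (π : K ⟶ L)
      (δ : L ⟶ (((DEquiv.singleB A).obj N)⟦n⟧)⟦(1 : ℤ)⟧),
      Triangle.mk g π δ ∈ distTriang (DerivedCategory.Bounded A) ∧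
      (PB A).ι.map g = (sιIso' N n b hn).hom ≫ g₁ ∧ L.obj.IsGE a ∧ L.obj.IsLE (b - 1) := by
  obtain ⟨g, hg⟩ : ∃ g : ((DEquiv.singleB A).obj N)⟦n⟧ ⟶ K,
      (PB A).ι.map g = (sιIso' N n b hn).hom ≫ g₁ := ⟨ObjectProperty.homMk _, rfl⟩
  obtain ⟨L, π, δ, hT⟩ := distinguished_cocone_triangle g
  have hTr := (PB A).ι.map_distinguished _ hT
  have e := sιIso' N n b hn
  have h1a : (tS A).IsGE ((PB A).ι.obj (((DEquiv.singleB A).obj N)⟦n⟧)) b :=
    (tS A).isGE_of_iso e.symm b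
  have h1b : (tS A).IsLE ((PB A).ι.obj (((DEquiv.singleB A).obj N)⟦n⟧)) b :=
    (tS A).isLE_of_iso e.symm b
  have hepi' : Epi ((homologyFunctor A b).map ((PB A).ι.map g)) := by
    rw [hg, CategoryTheory.Functor.map_comp]
    infer_instance
  obtain ⟨h3a, h3b⟩ := cone_amplitude _ hTr a b hab h1a h1b hKa hKb hepi'
  exact ⟨g, L, π, δ, hT, hg, h3a, h3b⟩

lemma epi_homology_map_fst (K K₀ : DerivedCategory.Bounded A) (b : ℤ) :
    Epi ((homologyFunctor A b).map ((PB A).ι.map (biprod.fst : K ⊞ K₀ ⟶ K))) := by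
  have : IsSplitEpi ((homologyFunctor A b).map ((PB A).ι.map (biprod.fst : K ⊞ K₀ ⟶ K))) :=
    IsSplitEpi.mk' ⟨(homologyFunctor A b).map ((PB A).ι.map biprod.inl), by
      rw [← CategoryTheory.Functor.map_comp, ← CategoryTheory.Functor.map_comp, biprod.inl_fst,
        CategoryTheory.Functor.map_id, CategoryTheory.Functor.map_id]⟩
  infer_instance

lemma epi_homology_map_snd (K K₀ : DerivedCategory.Bounded A) (b : ℤ) :
    Epi ((homologyFunctor A b).map ((PB A).ι.map (biprod.snd : K ⊞ K₀ ⟶ K₀))) := by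
  have : IsSplitEpi ((homologyFunctor A b).map ((PB A).ι.map (biprod.snd : K ⊞ K₀ ⟶ K₀))) :=
    IsSplitEpi.mk' ⟨(homologyFunctor A b).map ((PB A).ι.map biprod.inr), by
      rw [← CategoryTheory.Functor.map_comp, ← CategoryTheory.Functor.map_comp, biprod.inr_snd,
        CategoryTheory.Functor.map_id, CategoryTheory.Functor.map_id]⟩
  infer_instance

theorem exists_pres (hneg : ∀ X : A, ∃ (N : A) (p : N ⟶ X), Epi p ∧ ∀ f : X ⟶ N, f = 0)
    (a : ℤ) (m : ℕ) (n : ℤ) (hn : n + (a + m + 1) = 0)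
    (K K₀ L₀ : DerivedCategory.Bounded A) (hK : InR a (m + 1) K) (hK₀ : InR a (m + 1) K₀)
    (hL₀ : InR a m L₀) (h : K ⟶ L₀) :
    ∃ P : Pres n K, InR a m P.L ∧ P.g ≫ h = 0 ∧
      ∀ f : K₀ ⟶ ((DEquiv.singleB A).obj P.N)⟦n⟧, f = 0 := by
  have hX := inR_biprod hK hK₀
  haveI : (K ⊞ K₀).obj.IsGE a := hX.1
  haveI : (K ⊞ K₀).obj.IsLE (a + m + 1) := by
    haveI := hX.2
    exact (tS A).isLE_of_le _ (a + ((m + 1 : ℕ) : ℤ)) (a + m + 1) (by push_cast; omega)
  haveI : L₀.obj.IsGE a := hL₀.1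
  haveI : L₀.obj.IsLE (a + m + 1 - 1) := by
    haveI := hL₀.2
    exact (tS A).isLE_of_le _ (a + (m : ℤ)) (a + m + 1 - 1) (by omega)
  obtain ⟨N, g₀, hepi, hφ, hgf⟩ := Groth.Agent.S6707.result hneg (K ⊞ K₀).obj L₀.obj
    ((PB A).ι.map (biprod.fst ≫ h)) a (a + m + 1) a
  haveI := hepi
  haveI := epi_homology_map_fst K K₀ (a + m + 1)
  haveI := epi_homology_map_snd K K₀ (a + m + 1)
  have hepi₁ : Epi ((homologyFunctor A (a + m + 1)).map
      (g₀ ≫ (PB A).ι.map (biprod.fst : K ⊞ K₀ ⟶ K))) := by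
    rw [CategoryTheory.Functor.map_comp]
    infer_instance
  have hφK : ∀ φ : (homologyFunctor A (a + m + 1)).obj K.obj ⟶ N, φ = 0 := fun φ => by
    have h0 := hφ ((homologyFunctor A (a + m + 1)).map
      ((PB A).ι.map (biprod.fst : K ⊞ K₀ ⟶ K)) ≫ φ)
    rw [← cancel_epi ((homologyFunctor A (a + m + 1)).map
      ((PB A).ι.map (biprod.fst : K ⊞ K₀ ⟶ K))), h0, comp_zero]
  have hφK₀ : ∀ φ : (homologyFunctor A (a + m + 1)).obj K₀.obj ⟶ N, φ = 0 := fun φ => by
    have h0 := hφ ((homologyFunctor A (a + m + 1)).map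
      ((PB A).ι.map (biprod.snd : K ⊞ K₀ ⟶ K₀)) ≫ φ)
    rw [← cancel_epi ((homologyFunctor A (a + m + 1)).map
      ((PB A).ι.map (biprod.snd : K ⊞ K₀ ⟶ K₀))), h0, comp_zero]
  have hKb : K.obj.IsLE (a + m + 1) := by
    haveI := hK.2
    exact (tS A).isLE_of_le _ (a + ((m + 1 : ℕ) : ℤ)) (a + m + 1) (by push_cast; omega)
  have hK₀b : K₀.obj.IsLE (a + m + 1) := by
    haveI := hK₀.2
    exact (tS A).isLE_of_le _ (a + ((m + 1 : ℕ) : ℤ)) (a + m + 1) (by push_cast; omega)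
  obtain ⟨g, L, π, δ, hT, hg, hLa, hLb⟩ := exists_pres_of_epi a (a + m + 1) (by omega) n hn K
    hK.1 hKb N (g₀ ≫ (PB A).ι.map (biprod.fst : K ⊞ K₀ ⟶ K)) hepi₁
  refine ⟨{ N := N, L := L, g := g, π := π, δ := δ, dist := hT
            neg := hom_to_sB_eq_zero (a + m + 1) n hn K hKb N hφK }, ⟨hLa, ?_⟩, ?_, ?_⟩
  · haveI := hLb
    exact (tS A).isLE_of_le _ (a + m + 1 - 1) (a + m) (by omega)
  · apply (PB A).ι.map_injective
    rw [CategoryTheory.Functor.map_comp, hg, CategoryTheory.Functor.map_zero, assoc, assoc,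
      ← CategoryTheory.Functor.map_comp, hgf, comp_zero]
  · exact hom_to_sB_eq_zero (a + m + 1) n hn K₀ hK₀b N hφK₀

end Groth.Agent.H33.Sib
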