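import Groth.Agent.H33.Sib2

/-! Sibling functors (helper33): a fully faithful exact functor on the bounded derived category of
an abelian category with enough negative objects is determined by its restriction to the heart. -/

set_option autoImplicit false
universe w v u v' u'

namespace Groth.Agent.H33.Sib

open CategoryTheory CategoryTheory.Category CategoryTheory.Limits CategoryTheory.Pretriangulated
open DerivedCategory ZeroObject

variable {A : Type u} [Category.{v} A] [Abelian A] [HasDerivedCategory.{w} A]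
variable {D : Type u'} [Category.{v'} D] [Preadditive D] [HasZeroObject D] [HasShift D ℤ]
  [∀ n : ℤ, (shiftFunctor D n).Additive] [Pretriangulated D]
variable (G G' : DerivedCategory.Bounded A ⥤ D) [G.CommShift ℤ] [G.IsTriangulated]
  [G'.CommShift ℤ] [G'.IsTriangulated]
variable (t : DEquiv.singleB A ⋙ G ≅ DEquiv.singleB A ⋙ G')

lemma comm₃_of_tauP {N : A} {n : ℤ} {K L : DerivedCategory.Bounded A}
    (g : ((DEquiv.singleB A).obj N)⟦n⟧ ⟶ K) (π : K ⟶ L)
    (δ : L ⟶ (((DEquiv.singleB A).obj N)⟦n⟧)⟦(1 : ℤ)⟧) (σ : G.obj L ⟶ G'.obj L)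
    (key : G.map δ ≫ (tauP G G' t n N).hom = σ ≫ G'.map δ) :
    (G.mapTriangle.obj (Triangle.mk g π δ)).mor₃ ≫ ((tau G G' t n N).hom)⟦(1 : ℤ)⟧' =
      σ ≫ (G'.mapTriangle.obj (Triangle.mk g π δ)).mor₃ := by
  rw [tauP_hom] at key
  show (G.map δ ≫ (G.commShiftIso (1 : ℤ)).hom.app _) ≫ ((tau G G' t n N).hom)⟦(1 : ℤ)⟧' =
    σ ≫ G'.map δ ≫ (G'.commShiftIso (1 : ℤ)).hom.app _
  rw [← reassoc_of% key]
  simp

lemma tauP_of_nat (s : ∀ K : DerivedCategory.Bounded A, G.obj K ⟶ G'.obj K) (N : A) (n : ℤ)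
    (h1 : s (((DEquiv.singleB A).obj N)⟦n + 1⟧) = (tau G G' t (n + 1) N).hom)
    (h2 : s (((DEquiv.singleB A).obj N)⟦n + 1⟧) ≫
        G'.map ((shiftFunctorAdd' (DerivedCategory.Bounded A) n 1 (n + 1) rfl).hom.app
          ((DEquiv.singleB A).obj N)) =
      G.map ((shiftFunctorAdd' (DerivedCategory.Bounded A) n 1 (n + 1) rfl).hom.app
          ((DEquiv.singleB A).obj N)) ≫
        s ((((DEquiv.singleB A).obj N)⟦n⟧)⟦(1 : ℤ)⟧)) :
    s ((((DEquiv.singleB A).obj N)⟦n⟧)⟦(1 : ℤ)⟧) = (tauP G G' t n N).hom := by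
  have hs := tau_shift G G' t n N
  rw [← cancel_epi (G.map ((shiftFunctorAdd' (DerivedCategory.Bounded A) n 1 (n + 1) rfl).hom.app
    ((DEquiv.singleB A).obj N))), ← h2, h1, hs]

lemma conj_tau_nat (n : ℤ) {K K' : DerivedCategory.Bounded A} {Y Y' : A}
    (e : K ≅ ((DEquiv.singleB A).obj Y)⟦n⟧) (e' : K' ≅ ((DEquiv.singleB A).obj Y')⟦n⟧)
    (f : K ⟶ K') :
    (G.map e.hom ≫ (tau G G' t n Y).hom ≫ G'.map e.inv) ≫ G'.map f =
      G.map f ≫ (G.map e'.hom ≫ (tau G G' t n Y').hom ≫ G'.map e'.inv) := by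
  have h := tau_nat_of_hom G G' t n (e.inv ≫ f ≫ e'.hom)
  have e1 : G'.map e.inv ≫ G'.map f = G'.map (e.inv ≫ f ≫ e'.hom) ≫ G'.map e'.inv := by
    rw [← G'.map_comp, ← G'.map_comp]
    congr 1
    simp
  have e2 : G.map e.hom ≫ G.map (e.inv ≫ f ≫ e'.hom) = G.map f ≫ G.map e'.hom := by
    rw [← G.map_comp, ← G.map_comp]
    congr 1
    simp
  calc (G.map e.hom ≫ (tau G G' t n Y).hom ≫ G'.map e.inv) ≫ G'.map f
      = G.map e.hom ≫ (tau G G' t n Y).hom ≫ (G'.map e.inv ≫ G'.map f) := by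
        simp only [assoc]
    _ = G.map e.hom ≫ ((tau G G' t n Y).hom ≫ G'.map (e.inv ≫ f ≫ e'.hom)) ≫
          G'.map e'.inv := by
        rw [e1]
        simp only [assoc]
    _ = (G.map e.hom ≫ G.map (e.inv ≫ f ≫ e'.hom)) ≫ (tau G G' t n Y').hom ≫
          G'.map e'.inv := by
        rw [h]
        simp only [assoc]
    _ = G.map f ≫ (G.map e'.hom ≫ (tau G G' t n Y').hom ≫ G'.map e'.inv) := by
        rw [e2]
        simp only [assoc]

lemma isIso_of_BT (s : ∀ K : DerivedCategory.Bounded A, G.obj K ⟶ G'.obj K)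
    (hnat : ∀ (K K' : DerivedCategory.Bounded A) (f : K ⟶ K'),
      s K ≫ G'.map f = G.map f ≫ s K')
    (htau : ∀ (Y : A) (n : ℤ), s (((DEquiv.singleB A).obj Y)⟦n⟧) = (tau G G' t n Y).hom)
    {n : ℤ} {Y : A} {M : DerivedCategory.Bounded A} {j : ((DEquiv.singleB A).obj Y)⟦n⟧ ⟶ M}
    (hM : BT n Y M j) : IsIso (s M) := by
  induction hM with
  | zero n Y M j hM =>
    exact ⟨⟨0, (G.map_isZero hM).eq_of_src _ _, (G'.map_isZero hM).eq_of_src _ _⟩⟩
  | step n Y M j M' π δ hT Y' j' h' ih =>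
    have hS1 := tauP_of_nat G G' t s Y n (htau Y (n + 1)) (hnat _ _ _)
    have key : G.map δ ≫ (tauP G G' t n Y).hom = s M' ≫ G'.map δ := by
      rw [← hS1, hnat]
    have hcomm := comm₃_of_tauP G G' t j π δ (s M') key
    let ψ : G.mapTriangle.obj (Triangle.mk j π δ) ⟶ G'.mapTriangle.obj (Triangle.mk j π δ) :=
      { hom₁ := (tau G G' t n Y).hom
        hom₂ := s M
        hom₃ := s M'
        comm₁ := by
          show G.map j ≫ s M = (tau G G' t n Y).hom ≫ G'.map j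
          rw [← htau, hnat]
        comm₂ := by
          show G.map π ≫ s M' = s M ≫ G'.map π
          rw [hnat]
        comm₃ := hcomm }
    exact isIso₂_of_isIso₁₃ ψ (G.map_distinguished _ hT) (G'.map_distinguished _ hT)
      (show IsIso (tau G G' t n Y).hom from inferInstance) (show IsIso (s M') from ih)

/-- a compatible family of comparison maps on the range `[a, a + m]` -/
structure IsSys (a : ℤ) (m : ℕ)
    (s : ∀ K : DerivedCategory.Bounded A, G.obj K ⟶ G'.obj K) : Prop where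
  hnat : ∀ (K K' : DerivedCategory.Bounded A), InR a m K → InR a m K' → ∀ f : K ⟶ K',
    s K ≫ G'.map f = G.map f ≫ s K'
  htau : ∀ (Y : A) (n : ℤ), a ≤ -n → -n ≤ a + m →
    s (((DEquiv.singleB A).obj Y)⟦n⟧) = (tau G G' t n Y).hom

variable {G G' t} in
lemma IsSys.mono {a a' : ℤ} {m m' : ℕ}
    {s : ∀ K : DerivedCategory.Bounded A, G.obj K ⟶ G'.obj K} (h : IsSys G G' t a' m' s)
    (h1 : a' ≤ a) (h2 : a + m ≤ a' + m') : IsSys G G' t a m s :=
  ⟨fun K K' hK hK' f => h.hnat K K' (hK.mono' h1 h2) (hK'.mono' h1 h2) f,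
   fun Y n h3 h4 => h.htau Y n (by omega) (by omega)⟩

variable {G G' t} in
lemma IsSys.tauP {a : ℤ} {m : ℕ} {s : ∀ K : DerivedCategory.Bounded A, G.obj K ⟶ G'.obj K}
    (hs : IsSys G G' t a m s) (N : A) (n : ℤ) (h1 : a ≤ -(n + 1)) (h2 : -(n + 1) ≤ a + m) :
    s ((((DEquiv.singleB A).obj N)⟦n⟧)⟦(1 : ℤ)⟧) = (tauP G G' t n N).hom :=
  tauP_of_nat G G' t s N n (hs.htau N (n + 1) h1 h2)
    (hs.hnat _ _ (inR_single a m N (n + 1) h1 h2) (inR_single_shift1 a m N n h1 h2) _)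

section FF

variable [G.Full] [G.Faithful]

include t

lemma hom_G_G'_eq_zero {K : DerivedCategory.Bounded A} {N : A} {n : ℤ}
    (hneg : ∀ f : K ⟶ ((DEquiv.singleB A).obj N)⟦n⟧, f = 0)
    (α : G.obj K ⟶ G'.obj (((DEquiv.singleB A).obj N)⟦n⟧)) : α = 0 := by
  obtain ⟨f, hf⟩ := G.map_surjective (α ≫ (tau G G' t n N).inv)
  rw [hneg f, G.map_zero] at hf
  rw [← cancel_mono (tau G G' t n N).inv, ← hf, zero_comp]

lemma inj_of_pres {K₀ K : DerivedCategory.Bounded A} {n : ℤ} (P : Pres n K)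
    (hneg : ∀ f : K₀ ⟶ ((DEquiv.singleB A).obj P.N)⟦n⟧, f = 0)
    (α β : G.obj K₀ ⟶ G'.obj K) (h : α ≫ G'.map P.π = β ≫ G'.map P.π) : α = β := by
  rw [← sub_eq_zero]
  obtain ⟨γ, hγ⟩ := Triangle.coyoneda_exact₂ _ (G'.map_distinguished _ P.dist) (α - β) (by
    show (α - β) ≫ G'.map P.π = 0
    rw [Preadditive.sub_comp, h, sub_self])
  rw [hγ, hom_G_G'_eq_zero G G' t hneg γ]
  exact zero_comp

theorem sys_unique (hneg : ∀ X : A, ∃ (N : A) (p : N ⟶ X), Epi p ∧ ∀ f : X ⟶ N, f = 0)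
    (a : ℤ) : ∀ (m : ℕ) (s s' : ∀ K : DerivedCategory.Bounded A, G.obj K ⟶ G'.obj K),
    IsSys G G' t a m s → IsSys G G' t a m s' → ∀ K, InR a m K → s K = s' K := by
  intro m
  induction m with
  | zero =>
    intro s s' hs hs' K hK
    obtain ⟨Y, ⟨e⟩⟩ := exists_iso_single hK (-a) (by omega)
    have hS : InR a 0 (((DEquiv.singleB A).obj Y)⟦-a⟧) :=
      inR_single a 0 Y (-a) (by omega) (by simp)
    have h1 := hs.hnat K _ hK hS e.hom
    have h2 := hs'.hnat K _ hK hS e.hom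
    rw [hs.htau Y (-a) (by omega) (by simp)] at h1
    rw [hs'.htau Y (-a) (by omega) (by simp)] at h2
    rw [← cancel_mono (G'.map e.hom), h1, h2]
  | succ m ih =>
    intro s s' hs hs' K hK
    have hr := ih s s' (hs.mono le_rfl (by push_cast; omega))
      (hs'.mono le_rfl (by push_cast; omega))
    obtain ⟨P, hPL, -, -⟩ := exists_pres hneg a m (-(a + m + 1)) (by omega) K K 0 hK hK
      (inR_zero a m) 0
    apply inj_of_pres G G' t P P.neg
    rw [hs.hnat K P.L hK hPL.succ P.π, hs'.hnat K P.L hK hPL.succ P.π, hr P.L hPL]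

theorem sys_exists (hneg : ∀ X : A, ∃ (N : A) (p : N ⟶ X), Epi p ∧ ∀ f : X ⟶ N, f = 0)
    (a : ℤ) : ∀ m : ℕ, ∃ s : ∀ K : DerivedCategory.Bounded A, G.obj K ⟶ G'.obj K,
      IsSys G G' t a m s := by
  intro m
  induction m with
  | zero =>
    classical
    have hex : ∀ K : DerivedCategory.Bounded A, InR a 0 K →
        ∃ Y : A, Nonempty (K ≅ ((DEquiv.singleB A).obj Y)⟦-a⟧) :=
      fun K hK => exists_iso_single hK (-a) (by omega)
    choose Y e using hex
    refine ⟨fun K => if hK : InR a 0 K then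
      G.map (e K hK).some.hom ≫ (tau G G' t (-a) (Y K hK)).hom ≫ G'.map (e K hK).some.inv
      else 0, ?_, ?_⟩
    · intro K K' hK hK' f
      simp only [dif_pos hK, dif_pos hK']
      exact conj_tau_nat G G' t (-a) (e K hK).some (e K' hK').some f
    · intro Y₁ n₁ h1 h2
      have hn : n₁ = -a := by
        simp only [Nat.cast_zero, add_zero] at h2
        omega
      subst hn
      have hK : InR a 0 (((DEquiv.singleB A).obj Y₁)⟦-a⟧) := inR_single a 0 Y₁ (-a) h1 h2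
      simp only [dif_pos hK]
      have := conj_tau_nat G G' t (-a) (e _ hK).some (Iso.refl _) (𝟙 _)
      simpa using this
  | succ m ih =>
    classical
    obtain ⟨s, hs⟩ := ih
    obtain ⟨n, hn⟩ : ∃ n : ℤ, n + (a + m + 1) = 0 := ⟨-(a + m + 1), by omega⟩
    have C0 : ∀ (K : DerivedCategory.Bounded A) (P : Pres n K), InR a m P.L →
        ∃ σ : G.obj K ⟶ G'.obj K, σ ≫ G'.map P.π = G.map P.π ≫ s P.L := by
      intro K P hL
      have hnat := hs.hnat P.L _ hL (inR_single_shift1 a m P.N n (by omega) (by omega)) P.δ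
      have hπδ : P.π ≫ P.δ = 0 := comp_distTriang_mor_zero₂₃ _ P.dist
      have h0 : (G.map P.π ≫ s P.L) ≫
          (G'.mapTriangle.obj (Triangle.mk P.g P.π P.δ)).mor₃ = 0 := by
        show (G.map P.π ≫ s P.L) ≫ G'.map P.δ ≫ (G'.commShiftIso (1 : ℤ)).hom.app _ = 0
        rw [assoc, reassoc_of% hnat, ← G.map_comp_assoc, hπδ, G.map_zero, zero_comp]
      obtain ⟨σ, hσ⟩ := Triangle.coyoneda_exact₃ _ (G'.map_distinguished _ P.dist) _ h0
      exact ⟨σ, hσ.symm⟩
    have nat_adapted : ∀ (K : DerivedCategory.Bounded A) (P : Pres n K), InR a m P.L →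
        ∀ σ : G.obj K ⟶ G'.obj K, σ ≫ G'.map P.π = G.map P.π ≫ s P.L →
        ∀ L₀ : DerivedCategory.Bounded A, InR a m L₀ → ∀ h : K ⟶ L₀, P.g ≫ h = 0 →
          σ ≫ G'.map h = G.map h ≫ s L₀ := by
      intro K P hL σ hσ L₀ hL₀ h hgh
      obtain ⟨h', hh'⟩ := Triangle.yoneda_exact₂ _ P.dist h hgh
      have hh'' : h = P.π ≫ h' := hh'
      rw [hh'', G'.map_comp, reassoc_of% hσ, hs.hnat P.L L₀ hL hL₀ h', G.map_comp, assoc]
    have indep : ∀ (K : DerivedCategory.Bounded A), InR a (m + 1) K → ∀ (P₁ P₂ : Pres n K),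
        InR a m P₁.L → InR a m P₂.L → ∀ σ₁ σ₂ : G.obj K ⟶ G'.obj K,
        σ₁ ≫ G'.map P₁.π = G.map P₁.π ≫ s P₁.L → σ₂ ≫ G'.map P₂.π = G.map P₂.π ≫ s P₂.L →
        σ₁ = σ₂ := by
      intro K hK P₁ P₂ hL₁ hL₂ σ₁ σ₂ hσ₁ hσ₂
      obtain ⟨P₃, hL₃, hg₃, -⟩ := exists_pres hneg a m n hn K K (P₁.L ⊞ P₂.L) hK hK
        (inR_biprod hL₁ hL₂) (biprod.lift P₁.π P₂.π)
      obtain ⟨σ₃, hσ₃⟩ := C0 K P₃ hL₃
      have e1 := nat_adapted K P₃ hL₃ σ₃ hσ₃ P₁.L hL₁ P₁.π (by
        rw [← biprod.lift_fst P₁.π P₂.π, ← assoc, hg₃, zero_comp])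
      have e2 := nat_adapted K P₃ hL₃ σ₃ hσ₃ P₂.L hL₂ P₂.π (by
        rw [← biprod.lift_snd P₁.π P₂.π, ← assoc, hg₃, zero_comp])
      rw [inj_of_pres G G' t P₁ P₁.neg σ₁ σ₃ (hσ₁.trans e1.symm),
        inj_of_pres G G' t P₂ P₂.neg σ₂ σ₃ (hσ₂.trans e2.symm)]
    have C1 : ∀ (K : DerivedCategory.Bounded A), InR a (m + 1) K →
        ∃ σ : G.obj K ⟶ G'.obj K, ∀ P : Pres n K, InR a m P.L →
          σ ≫ G'.map P.π = G.map P.π ≫ s P.L := by
      intro K hK
      obtain ⟨P₀, hL₀, -, -⟩ := exists_pres hneg a m n hn K K 0 hK hK (inR_zero a m) 0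
      obtain ⟨σ, hσ⟩ := C0 K P₀ hL₀
      refine ⟨σ, fun P hL => ?_⟩
      obtain ⟨σ', hσ'⟩ := C0 K P hL
      rw [indep K hK P₀ P hL₀ hL σ σ' hσ hσ']
      exact hσ'
    choose σ hσ using C1
    have hs' : ∀ (K : DerivedCategory.Bounded A) (hK : InR a (m + 1) K) (P : Pres n K),
        InR a m P.L → (if hK : InR a (m + 1) K then σ K hK else 0) ≫ G'.map P.π =
          G.map P.π ≫ s P.L := by
      intro K hK P hL
      rw [dif_pos hK]
      exact hσ K hK P hL
    have restr : ∀ K : DerivedCategory.Bounded A, InR a m K →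
        (if hK : InR a (m + 1) K then σ K hK else 0) = s K := by
      intro K hK
      obtain ⟨P, hL, -, -⟩ := exists_pres hneg a m n hn K K 0 hK.succ hK.succ (inR_zero a m) 0
      apply inj_of_pres G G' t P P.neg
      rw [hs' K hK.succ P hL, hs.hnat K P.L hK hL P.π]
    have top : ∀ Y₁ : A, (if hK : InR a (m + 1) (((DEquiv.singleB A).obj Y₁)⟦n⟧) then
        σ _ hK else 0) = (tau G G' t n Y₁).hom := by
      intro Y₁
      have hK : InR a (m + 1) (((DEquiv.singleB A).obj Y₁)⟦n⟧) :=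
        inR_single a (m + 1) Y₁ n (by omega) (by push_cast; omega)
      obtain ⟨P, hL, -, -⟩ := exists_pres hneg a m n hn _ _ 0 hK hK (inR_zero a m) 0
      apply inj_of_pres G G' t P P.neg
      rw [hs' _ hK P hL]
      have hS1 := hs.tauP P.N n (by omega) (by omega)
      have hnat := hs.hnat P.L _ hL (inR_single_shift1 a m P.N n (by omega) (by omega)) P.δ
      have key : G.map P.δ ≫ (tauP G G' t n P.N).hom = s P.L ≫ G'.map P.δ := by
        rw [← hS1, hnat]
      have hcomm := comm₃_of_tauP G G' t P.g P.π P.δ (s P.L) key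
      obtain ⟨b, hb1', hb2'⟩ : ∃ b : G.obj (((DEquiv.singleB A).obj Y₁)⟦n⟧) ⟶
          G'.obj (((DEquiv.singleB A).obj Y₁)⟦n⟧),
          G.map P.g ≫ b = (tau G G' t n P.N).hom ≫ G'.map P.g ∧
          G.map P.π ≫ s P.L = b ≫ G'.map P.π :=
        complete_distinguished_triangle_morphism₂ _ _
          (G.map_distinguished _ P.dist) (G'.map_distinguished _ P.dist)
          (tau G G' t n P.N).hom (s P.L) hcomm
      have hb : b = (tau G G' t n Y₁).hom := by
        rw [← sub_eq_zero]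
        have h0 : G.map P.g ≫ (b - (tau G G' t n Y₁).hom) = 0 := by
          rw [Preadditive.comp_sub, hb1', tau_nat_of_hom G G' t n P.g, sub_self]
        obtain ⟨ε, hε⟩ : ∃ ε : G.obj P.L ⟶ G'.obj (((DEquiv.singleB A).obj Y₁)⟦n⟧),
            b - (tau G G' t n Y₁).hom = G.map P.π ≫ ε :=
          Triangle.yoneda_exact₂ _ (G.map_distinguished _ P.dist)
            (b - (tau G G' t n Y₁).hom) h0
        obtain ⟨ε₀, hε₀⟩ := G.map_surjective (ε ≫ (tau G G' t n Y₁).inv)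
        have hz : ε₀ = 0 := hom_to_top_single_eq_zero hL Y₁ n hn ε₀
        have hε0 : ε = 0 := by
          rw [← cancel_mono (tau G G' t n Y₁).inv, ← hε₀, hz, G.map_zero, zero_comp]
        rw [hε, hε0]
        exact comp_zero
      rw [← hb]
      exact hb2'
    refine ⟨fun K => if hK : InR a (m + 1) K then σ K hK else 0, ?_, ?_⟩
    · intro K K' hK hK' f
      obtain ⟨P', hL', -, hneg'⟩ := exists_pres hneg a m n hn K' K 0 hK' hK (inR_zero a m) 0
      obtain ⟨P, hL, hg, -⟩ := exists_pres hneg a m n hn K K P'.L hK hK hL' (f ≫ P'.π)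
      apply inj_of_pres G G' t P' hneg'
      have e1 := nat_adapted K P hL _ (hs' K hK P hL) P'.L hL' (f ≫ P'.π) hg
      rw [assoc, ← G'.map_comp, e1, G.map_comp, assoc, assoc, hs' K' hK' P' hL']
    · intro Y₁ n₁ h1 h2
      by_cases hcase : -n₁ ≤ a + m
      · show (if hK : InR a (m + 1) (((DEquiv.singleB A).obj Y₁)⟦n₁⟧) then σ _ hK else 0) = _
        rw [restr _ (inR_single a m Y₁ n₁ h1 hcase)]
        exact hs.htau Y₁ n₁ h1 hcase
      · have hn₁ : n₁ = n := by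
          push_cast at h2
          omega
        subst hn₁
        exact top Y₁

theorem exists_natIso (hneg : ∀ X : A, ∃ (N : A) (p : N ⟶ X), Epi p ∧ ∀ f : X ⟶ N, f = 0) :
    Nonempty (G ≅ G') := by
  classical
  have hS : ∀ k : ℕ, ∃ s : ∀ K : DerivedCategory.Bounded A, G.obj K ⟶ G'.obj K,
      IsSys G G' t (-(k : ℤ)) (2 * k) s := fun k => sys_exists G G' t hneg _ _
  choose S hS using hS
  have cover : ∀ K : DerivedCategory.Bounded A, ∃ k : ℕ, InR (-(k : ℤ)) (2 * k) K := by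
    intro K
    obtain ⟨⟨a, ha⟩, ⟨b, hb⟩⟩ := K.property
    haveI : K.obj.IsGE a := ha
    haveI : K.obj.IsLE b := hb
    have h1 := neg_abs_le a
    have h2 := le_abs_self b
    have h3 := abs_nonneg a
    have h4 := abs_nonneg b
    exact ⟨a.natAbs + b.natAbs, (tS A).isGE_of_ge K.obj _ a (by push_cast; omega),
      (tS A).isLE_of_le K.obj b _ (by push_cast; omega)⟩
  choose kK hkK using cover
  have agree : ∀ (k k' : ℕ), k ≤ k' → ∀ K, InR (-(k : ℤ)) (2 * k) K → S k K = S k' K := by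
    intro k k' hkk K hK
    exact sys_unique G G' t hneg _ _ (S k) (S k') (hS k)
      ((hS k').mono (by omega) (by push_cast; omega)) K hK
  have hnat : ∀ (K K' : DerivedCategory.Bounded A) (f : K ⟶ K'),
      S (kK K) K ≫ G'.map f = G.map f ≫ S (kK K') K' := by
    intro K K' f
    have h1 : S (kK K) K = S (kK K + kK K') K := agree _ _ (Nat.le_add_right _ _) K (hkK K)
    have h2 : S (kK K') K' = S (kK K + kK K') K' :=
      agree _ _ (Nat.le_add_left _ _) K' (hkK K')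
    rw [h1, h2]
    exact (hS _).hnat K K' ((hkK K).mono' (by push_cast; omega) (by push_cast; omega))
      ((hkK K').mono' (by push_cast; omega) (by push_cast; omega)) f
  have htau : ∀ (Y : A) (n : ℤ), S (kK (((DEquiv.singleB A).obj Y)⟦n⟧))
      (((DEquiv.singleB A).obj Y)⟦n⟧) = (tau G G' t n Y).hom := by
    intro Y n
    have h1 : S (kK (((DEquiv.singleB A).obj Y)⟦n⟧)) (((DEquiv.singleB A).obj Y)⟦n⟧) =
        S (kK (((DEquiv.singleB A).obj Y)⟦n⟧) + n.natAbs) (((DEquiv.singleB A).obj Y)⟦n⟧) :=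
      agree _ _ (Nat.le_add_right _ _) _ (hkK _)
    rw [h1]
    have h3 := neg_abs_le n
    have h4 := le_abs_self n
    exact (hS _).htau Y n (by push_cast; omega) (by push_cast; omega)
  have hiso : ∀ K : DerivedCategory.Bounded A, IsIso (S (kK K) K) := fun K => by
    obtain ⟨n, Y, j, hBT⟩ := exists_BT K
    exact isIso_of_BT G G' t (fun K => S (kK K) K) hnat htau hBT
  exact ⟨NatIso.ofComponents (fun K => @asIso _ _ _ _ (S (kK K) K) (hiso K))
    (fun f => (hnat _ _ f).symm)⟩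

end FF

end Groth.Agent.H33.Sib
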