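import Mathlib

/-! Full faithfulness of a triangulated functor by dévissage (helper33): four lemma chases on
distinguished triangles, in both variables, and invariance under shifts. -/

set_option autoImplicit false
universe v u v' u'

namespace Groth.Agent.H33.TriFF

open CategoryTheory CategoryTheory.Category CategoryTheory.Limits CategoryTheory.Pretriangulated

variable {C : Type u} [Category.{v} C] [Preadditive C] [HasZeroObject C] [HasShift C ℤ]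
  [∀ n : ℤ, (shiftFunctor C n).Additive] [Pretriangulated C]
variable {D : Type u'} [Category.{v'} D] [Preadditive D] [HasZeroObject D] [HasShift D ℤ]
  [∀ n : ℤ, (shiftFunctor D n).Additive] [Pretriangulated D]
variable (H : C ⥤ D)

/-- `H` has trivial kernel on `Hom(K, L)` -/
def Inj (K L : C) : Prop := ∀ f : K ⟶ L, H.map f = 0 → f = 0

/-- `H` is surjective on `Hom(K, L)` -/
def Surj (K L : C) : Prop := ∀ g : H.obj K ⟶ H.obj L, ∃ f : K ⟶ L, H.map f = g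

/-- `H` is bijective on `Hom(K, L)` -/
def FF (K L : C) : Prop := Inj H K L ∧ Surj H K L

variable [H.CommShift ℤ] [H.IsTriangulated]

variable {H} in
lemma Inj.of_iso {K K' L L' : C} (e : K ≅ K') (e' : L ≅ L') (h : Inj H K L) : Inj H K' L' := by
  intro f hf
  have := h (e.hom ≫ f ≫ e'.inv) (by rw [H.map_comp, H.map_comp, hf, zero_comp, comp_zero])
  have h2 : f = e.inv ≫ (e.hom ≫ f ≫ e'.inv) ≫ e'.hom := by simp
  rw [h2, this, zero_comp, comp_zero]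

variable {H} in
lemma Surj.of_iso {K K' L L' : C} (e : K ≅ K') (e' : L ≅ L') (h : Surj H K L) :
    Surj H K' L' := by
  intro g
  obtain ⟨f, hf⟩ := h (H.map e.hom ≫ g ≫ H.map e'.inv)
  refine ⟨e.inv ≫ f ≫ e'.hom, ?_⟩
  rw [H.map_comp, H.map_comp, hf]
  simp only [assoc, ← H.map_comp, Iso.inv_hom_id, H.map_id, comp_id]
  rw [← H.map_comp_assoc, Iso.inv_hom_id, H.map_id, id_comp]

variable {H} in
lemma FF.of_iso {K K' L L' : C} (e : K ≅ K') (e' : L ≅ L') (h : FF H K L) : FF H K' L' :=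
  ⟨h.1.of_iso e e', h.2.of_iso e e'⟩

variable {H} in
lemma Inj.shift {K L : C} (h : Inj H K L) (i : ℤ) : Inj H (K⟦i⟧) (L⟦i⟧) := by
  intro g hg
  obtain ⟨f, rfl⟩ := (shiftFunctor C i).map_surjective g
  have hnat := H.commShiftIso_hom_naturality f i
  have h1 : (H.map f)⟦i⟧' = 0 := by
    rw [hg, zero_comp] at hnat
    rw [← cancel_epi ((H.commShiftIso i).hom.app K), ← hnat, comp_zero]
  have h0 : H.map f = 0 :=
    (shiftFunctor D i).map_injective (by rw [h1, CategoryTheory.Functor.map_zero])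
  rw [h f h0, CategoryTheory.Functor.map_zero]

variable {H} in
lemma Surj.shift {K L : C} (h : Surj H K L) (i : ℤ) : Surj H (K⟦i⟧) (L⟦i⟧) := by
  intro γ
  obtain ⟨β, hβ⟩ := (shiftFunctor D i).map_surjective
    ((H.commShiftIso i).inv.app K ≫ γ ≫ (H.commShiftIso i).hom.app L)
  obtain ⟨f, rfl⟩ := h β
  refine ⟨f⟦i⟧', ?_⟩
  have hnat := H.commShiftIso_hom_naturality f i
  rw [← cancel_mono ((H.commShiftIso i).hom.app L), hnat, hβ]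
  simp

variable {H} in
lemma FF.shift {K L : C} (h : FF H K L) (i : ℤ) : FF H (K⟦i⟧) (L⟦i⟧) :=
  ⟨h.1.shift i, h.2.shift i⟩

lemma FF.of_isZero_left {K L : C} (hK : IsZero K) : FF H K L :=
  ⟨fun _ _ => hK.eq_of_src _ _, fun _ => ⟨0, (H.map_isZero hK).eq_of_src _ _⟩⟩

lemma FF.of_isZero_right {K L : C} (hL : IsZero L) : FF H K L :=
  ⟨fun _ _ => hL.eq_of_tgt _ _, fun _ => ⟨0, (H.map_isZero hL).eq_of_tgt _ _⟩⟩

/-- first variable: trivial kernel at `obj₃` -/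
lemma inj₃_of_comp_zero (Tr : Triangle C) (hTr : Tr ∈ distTriang C) (Z : C) (ξ : Tr.obj₃ ⟶ Z)
    (hv : Tr.mor₂ ≫ ξ = 0) (hξ : H.map ξ = 0) (hI : Inj H (Tr.obj₁⟦(1 : ℤ)⟧) Z)
    (hS : Surj H (Tr.obj₂⟦(1 : ℤ)⟧) Z) : ξ = 0 := by
  obtain ⟨ξ', rfl⟩ := Triangle.yoneda_exact₃ _ hTr ξ hv
  have hrot := rot_of_distTriang _ (H.map_distinguished _ hTr)
  obtain ⟨g, hg⟩ : ∃ g : (H.obj Tr.obj₂)⟦(1 : ℤ)⟧ ⟶ H.obj Z,
      (H.commShiftIso (1 : ℤ)).inv.app Tr.obj₁ ≫ H.map ξ' =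
        (-(H.map Tr.mor₁)⟦(1 : ℤ)⟧') ≫ g :=
    Triangle.yoneda_exact₃ _ hrot ((H.commShiftIso (1 : ℤ)).inv.app Tr.obj₁ ≫ H.map ξ') (by
      show (H.map Tr.mor₃ ≫ (H.commShiftIso (1 : ℤ)).hom.app Tr.obj₁) ≫
        (H.commShiftIso (1 : ℤ)).inv.app Tr.obj₁ ≫ H.map ξ' = 0
      rw [assoc, Iso.hom_inv_id_app_assoc, ← H.map_comp]
      exact hξ)
  obtain ⟨η₀, hη₀⟩ := hS ((H.commShiftIso (1 : ℤ)).hom.app Tr.obj₂ ≫ g)
  have hnat := H.commShiftIso_hom_naturality Tr.mor₁ (1 : ℤ)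
  have h2 : H.map (ξ' + Tr.mor₁⟦(1 : ℤ)⟧' ≫ η₀) = 0 := by
    have e1 : H.map ξ' = (H.commShiftIso (1 : ℤ)).hom.app Tr.obj₁ ≫
        ((-(H.map Tr.mor₁)⟦(1 : ℤ)⟧') ≫ g) := by
      rw [← hg, Iso.hom_inv_id_app_assoc]
    rw [H.map_add, H.map_comp, hη₀, reassoc_of% hnat, e1]
    simp
  have h3 := hI _ h2
  have h4 : ξ' = -(Tr.mor₁⟦(1 : ℤ)⟧' ≫ η₀) := eq_neg_of_add_eq_zero_left h3
  rw [h4, Preadditive.comp_neg, ← assoc, comp_distTriang_mor_zero₃₁ _ hTr, zero_comp, neg_zero]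

/-- first variable: surjectivity at `obj₃` -/
lemma surj₃_of_comp_zero (Tr : Triangle C) (hTr : Tr ∈ distTriang C) (Z : C)
    (ζ : H.obj Tr.obj₃ ⟶ H.obj Z) (hv : H.map Tr.mor₂ ≫ ζ = 0)
    (hS : Surj H (Tr.obj₁⟦(1 : ℤ)⟧) Z) : ∃ ξ : Tr.obj₃ ⟶ Z, H.map ξ = ζ := by
  obtain ⟨ζ', hζ'⟩ : ∃ ζ' : (H.obj Tr.obj₁)⟦(1 : ℤ)⟧ ⟶ H.obj Z,
      ζ = (H.map Tr.mor₃ ≫ (H.commShiftIso (1 : ℤ)).hom.app Tr.obj₁) ≫ ζ' :=
    Triangle.yoneda_exact₃ _ (H.map_distinguished _ hTr) ζ hv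
  obtain ⟨ξ', hξ'⟩ := hS ((H.commShiftIso (1 : ℤ)).hom.app Tr.obj₁ ≫ ζ')
  exact ⟨Tr.mor₃ ≫ ξ', by rw [H.map_comp, hξ', hζ', assoc]⟩

lemma inj₃ (Tr : Triangle C) (hTr : Tr ∈ distTriang C) (Z : C)
    (hI1 : Inj H (Tr.obj₁⟦(1 : ℤ)⟧) Z) (hS2 : Surj H (Tr.obj₂⟦(1 : ℤ)⟧) Z)
    (hI2 : Inj H Tr.obj₂ Z) : Inj H Tr.obj₃ Z := by
  intro ξ hξ
  exact inj₃_of_comp_zero H Tr hTr Z ξ (hI2 _ (by rw [H.map_comp, hξ, comp_zero])) hξ hI1 hS2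

lemma surj₃ (Tr : Triangle C) (hTr : Tr ∈ distTriang C) (Z : C)
    (hS1 : Surj H (Tr.obj₁⟦(1 : ℤ)⟧) Z) (hS2 : Surj H Tr.obj₂ Z) (hI1 : Inj H Tr.obj₁ Z) :
    Surj H Tr.obj₃ Z := by
  intro ζ
  obtain ⟨θ, hθ⟩ := hS2 (H.map Tr.mor₂ ≫ ζ)
  have h1 : Tr.mor₁ ≫ θ = 0 := hI1 _ (by
    rw [H.map_comp, hθ, ← H.map_comp_assoc, comp_distTriang_mor_zero₁₂ _ hTr, H.map_zero,
      zero_comp])
  obtain ⟨θ', rfl⟩ := Triangle.yoneda_exact₂ _ hTr θ h1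
  obtain ⟨ξ, hξ⟩ := surj₃_of_comp_zero H Tr hTr Z (ζ - H.map θ') (by
    rw [Preadditive.comp_sub, ← hθ, H.map_comp, sub_self]) hS1
  exact ⟨ξ + θ', by rw [H.map_add, hξ, sub_add_cancel]⟩

/-- second variable: trivial kernel at `obj₃` -/
lemma inj₃' (K : C) (Tr : Triangle C) (hTr : Tr ∈ distTriang C)
    (hI1 : Inj H K (Tr.obj₁⟦(1 : ℤ)⟧)) (hS1 : Surj H K Tr.obj₁) (hI2 : Inj H K Tr.obj₂) :
    Inj H K Tr.obj₃ := by
  intro ξ hξ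
  have h1 : ξ ≫ Tr.mor₃ = 0 := hI1 _ (by rw [H.map_comp, hξ, zero_comp])
  obtain ⟨θ, rfl⟩ := Triangle.coyoneda_exact₃ _ hTr ξ h1
  obtain ⟨ρ, hρ⟩ : ∃ ρ : H.obj K ⟶ H.obj Tr.obj₁, H.map θ = ρ ≫ H.map Tr.mor₁ :=
    Triangle.coyoneda_exact₂ _ (H.map_distinguished _ hTr) (H.map θ) (by
      show H.map θ ≫ H.map Tr.mor₂ = 0
      rw [← H.map_comp]
      exact hξ)
  obtain ⟨ρ₀, rfl⟩ := hS1 ρ
  have h3 : θ - ρ₀ ≫ Tr.mor₁ = 0 := hI2 _ (by rw [H.map_sub, H.map_comp, hρ, sub_self])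
  rw [sub_eq_zero] at h3
  rw [h3, assoc, comp_distTriang_mor_zero₁₂ _ hTr, comp_zero]

/-- second variable: surjectivity at `obj₃` -/
lemma surj₃' (K : C) (Tr : Triangle C) (hTr : Tr ∈ distTriang C)
    (hS1 : Surj H K (Tr.obj₁⟦(1 : ℤ)⟧)) (hI2 : Inj H K (Tr.obj₂⟦(1 : ℤ)⟧))
    (hS2 : Surj H K Tr.obj₂) : Surj H K Tr.obj₃ := by
  intro ζ
  obtain ⟨θ, hθ⟩ := hS1 (ζ ≫ H.map Tr.mor₃)
  have h1 : θ ≫ Tr.mor₁⟦(1 : ℤ)⟧' = 0 := hI2 _ (by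
    rw [H.map_comp, hθ, assoc, ← H.map_comp, comp_distTriang_mor_zero₃₁ _ hTr, H.map_zero,
      comp_zero])
  obtain ⟨θ', rfl⟩ := Triangle.coyoneda_exact₁ _ hTr θ h1
  obtain ⟨ρ, hρ⟩ : ∃ ρ : H.obj K ⟶ H.obj Tr.obj₂, ζ - H.map θ' = ρ ≫ H.map Tr.mor₂ :=
    Triangle.coyoneda_exact₃ _ (H.map_distinguished _ hTr) (ζ - H.map θ') (by
      show (ζ - H.map θ') ≫ H.map Tr.mor₃ ≫ (H.commShiftIso (1 : ℤ)).hom.app _ = 0
      rw [← assoc, Preadditive.sub_comp, ← H.map_comp, hθ, sub_self, zero_comp])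
  obtain ⟨ρ₀, rfl⟩ := hS2 ρ
  exact ⟨θ' + ρ₀ ≫ Tr.mor₂, by rw [H.map_add, H.map_comp, ← hρ, add_sub_cancel]⟩

/-- bijectivity on all shifts of the first variable -/
def P₁ (L K : C) : Prop := ∀ i : ℤ, FF H (K⟦i⟧) L

/-- bijectivity on all shifts of the second variable -/
def P₂ (K L : C) : Prop := ∀ i : ℤ, FF H K (L⟦i⟧)

lemma P₁.shift_iff (L K : C) : P₁ H L K ↔ P₁ H L (K⟦(1 : ℤ)⟧) := by
  constructor
  · intro h i
    exact (h (1 + i)).of_iso ((shiftFunctorAdd' C 1 i (1 + i) rfl).app K) (Iso.refl L)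
  · intro h i
    exact (h (i - 1)).of_iso ((shiftFunctorAdd' C 1 (i - 1) i (by omega)).app K).symm
      (Iso.refl L)

lemma P₂.shift_iff (K L : C) : P₂ H K L ↔ P₂ H K (L⟦(1 : ℤ)⟧) := by
  constructor
  · intro h i
    exact (h (1 + i)).of_iso (Iso.refl K) ((shiftFunctorAdd' C 1 i (1 + i) rfl).app L)
  · intro h i
    exact (h (i - 1)).of_iso (Iso.refl K)
      ((shiftFunctorAdd' C 1 (i - 1) i (by omega)).app L).symm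

lemma P₁.obj₃ (L : C) (Tr : Triangle C) (hTr : Tr ∈ distTriang C) (h₁ : P₁ H L Tr.obj₁)
    (h₂ : P₁ H L Tr.obj₂) : P₁ H L Tr.obj₃ := by
  intro i
  have hTi : (Triangle.shiftFunctor C i).obj Tr ∈ distTriang C :=
    Triangle.shift_distinguished Tr hTr i
  have a1 : FF H ((Tr.obj₁⟦i⟧)⟦(1 : ℤ)⟧) L :=
    (h₁ (i + 1)).of_iso ((shiftFunctorAdd' C i 1 (i + 1) rfl).app _) (Iso.refl L)
  have a2 : FF H ((Tr.obj₂⟦i⟧)⟦(1 : ℤ)⟧) L :=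
    (h₂ (i + 1)).of_iso ((shiftFunctorAdd' C i 1 (i + 1) rfl).app _) (Iso.refl L)
  exact ⟨inj₃ H _ hTi L a1.1 a2.2 (h₂ i).1, surj₃ H _ hTi L a1.2 (h₂ i).2 (h₁ i).1⟩

lemma P₁.obj₂ (L : C) (Tr : Triangle C) (hTr : Tr ∈ distTriang C) (h₁ : P₁ H L Tr.obj₁)
    (h₃ : P₁ H L Tr.obj₃) : P₁ H L Tr.obj₂ := by
  have hr := rot_of_distTriang _ (rot_of_distTriang _ hTr)
  have := P₁.obj₃ H L Tr.rotate.rotate hr h₃ ((P₁.shift_iff H L _).1 h₁)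
  exact (P₁.shift_iff H L _).2 this

lemma P₂.obj₃ (K : C) (Tr : Triangle C) (hTr : Tr ∈ distTriang C) (h₁ : P₂ H K Tr.obj₁)
    (h₂ : P₂ H K Tr.obj₂) : P₂ H K Tr.obj₃ := by
  intro i
  have hTi : (Triangle.shiftFunctor C i).obj Tr ∈ distTriang C :=
    Triangle.shift_distinguished Tr hTr i
  have a1 : FF H K ((Tr.obj₁⟦i⟧)⟦(1 : ℤ)⟧) :=
    (h₁ (i + 1)).of_iso (Iso.refl K) ((shiftFunctorAdd' C i 1 (i + 1) rfl).app _)
  have a2 : FF H K ((Tr.obj₂⟦i⟧)⟦(1 : ℤ)⟧) :=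
    (h₂ (i + 1)).of_iso (Iso.refl K) ((shiftFunctorAdd' C i 1 (i + 1) rfl).app _)
  exact ⟨inj₃' H K _ hTi a1.1 (h₁ i).2 (h₂ i).1, surj₃' H K _ hTi a1.2 a2.1 (h₂ i).2⟩

lemma P₂.obj₂ (K : C) (Tr : Triangle C) (hTr : Tr ∈ distTriang C) (h₁ : P₂ H K Tr.obj₁)
    (h₃ : P₂ H K Tr.obj₃) : P₂ H K Tr.obj₂ := by
  have hr := rot_of_distTriang _ (rot_of_distTriang _ hTr)
  have := P₂.obj₃ H K Tr.rotate.rotate hr h₃ ((P₂.shift_iff H K _).1 h₁)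
  exact (P₂.shift_iff H K _).2 this

end Groth.Agent.H33.TriFF
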