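import Groth.Agent.H33.Sib2
import Groth.Agent.H33.TriFF

/-! Sibling functors (helper33): a sibling of a fully faithful exact functor on the bounded derived
category is fully faithful (universal delta functor argument plus dévissage). -/

set_option autoImplicit false
universe w v u v' u'

namespace Groth.Agent.H33.Sib

open CategoryTheory CategoryTheory.Category CategoryTheory.Limits CategoryTheory.Pretriangulated
open DerivedCategory ZeroObject
open Groth.Agent.H33.TriFF

variable {A : Type u} [Category.{v} A] [Abelian A] [HasDerivedCategory.{w} A]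

theorem BT_induction (P : DerivedCategory.Bounded A → Prop)
    (hzero : ∀ K, IsZero K → P K)
    (hsingle : ∀ (Y : A) (n : ℤ), P (((DEquiv.singleB A).obj Y)⟦n⟧))
    (h2 : ∀ Tr ∈ distTriang (DerivedCategory.Bounded A), P Tr.obj₁ → P Tr.obj₃ → P Tr.obj₂) :
    ∀ K, P K := by
  intro K
  obtain ⟨n, Y, j, h⟩ := exists_BT K
  induction h with
  | zero n Y M j hM => exact hzero M hM
  | step n Y M j M' π δ hT Y' j' h' ih => exact h2 _ hT (hsingle Y n) ih

lemma efface' (X Y : A) (c : ℤ) (hc : c < 0)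
    (ξ : Q.obj ((HomologicalComplex.single A (ComplexShape.up ℤ) 0).obj X) ⟶
      Q.obj ((HomologicalComplex.single A (ComplexShape.up ℤ) c).obj Y)) :
    ∃ (X' : A) (p : X' ⟶ X), Epi p ∧
      Q.map ((HomologicalComplex.single A (ComplexShape.up ℤ) 0).map p) ≫ ξ = 0 := by
  haveI : CochainComplex.IsStrictlyLE
      ((HomologicalComplex.single A (ComplexShape.up ℤ) 0).obj X) 0 :=
    (inferInstance : ((CochainComplex.singleFunctor A 0).obj X).IsStrictlyLE 0)
  obtain ⟨C', hC', s, hs, g, hfac⟩ := right_fac_of_isStrictlyLE ξ 0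
  have hz : IsZero (C'.X (0 + 1)) := CochainComplex.isZero_of_isStrictlyLE C' 0 _ (by omega)
  obtain ⟨j, hj⟩ := Groth.Agent.S6707.exists_topCell C' 0 hz
  obtain ⟨p, hp⟩ :=
    (HomologicalComplex.single A (ComplexShape.up ℤ) 0).map_surjective (j ≫ s)
  haveI : IsIso (Q.map s) := hs
  refine ⟨C'.X 0, p, ?_, ?_⟩
  · haveI : Epi ((homologyFunctor A 0).map (Q.map j)) :=
      Groth.Agent.S6707.epi_H_Q_map j 0
        (Groth.Agent.S6707.epi_homologyMap_topCell C' 0 hz j hj)
    haveI : Epi ((homologyFunctor A 0).map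
        (Q.map ((HomologicalComplex.single A (ComplexShape.up ℤ) 0).map p))) := by
      rw [hp, CategoryTheory.Functor.map_comp, CategoryTheory.Functor.map_comp]
      infer_instance
    have hnat : (homologyFunctor A 0).map
        (Q.map ((HomologicalComplex.single A (ComplexShape.up ℤ) 0).map p)) ≫
        (singleFunctorCompHomologyFunctorIso A 0).hom.app X =
        (singleFunctorCompHomologyFunctorIso A 0).hom.app (C'.X 0) ≫ p :=
      (singleFunctorCompHomologyFunctorIso A 0).hom.naturality p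
    have hI : IsIso ((singleFunctorCompHomologyFunctorIso A 0).hom.app X) :=
      ((singleFunctorCompHomologyFunctorIso A 0).app X).isIso_hom
    have hE1 : Epi ((singleFunctorCompHomologyFunctorIso A 0).hom.app X) :=
      @IsIso.epi_of_iso _ _ _ _ _ hI
    have hE0 : Epi ((homologyFunctor A 0).map
        (Q.map ((HomologicalComplex.single A (ComplexShape.up ℤ) 0).map p))) := this
    have hE : Epi ((homologyFunctor A 0).map
        (Q.map ((HomologicalComplex.single A (ComplexShape.up ℤ) 0).map p)) ≫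
        (singleFunctorCompHomologyFunctorIso A 0).hom.app X) :=
      @epi_comp _ _ _ _ _ _ hE0 _ hE1
    exact @epi_of_epi_fac _ _ _ _ _ _ _ _ hE hnat.symm
  · have hjg : j ≫ g = 0 := HomologicalComplex.from_single_hom_ext (by
      apply IsZero.eq_of_tgt
      exact HomologicalComplex.isZero_single_obj_X (ComplexShape.up ℤ) c Y 0 (by omega))
    rw [hp, hfac, CategoryTheory.Functor.map_comp, assoc, IsIso.hom_inv_id_assoc,
      ← CategoryTheory.Functor.map_comp, hjg, CategoryTheory.Functor.map_zero]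

lemma efface (X Y : A) (c : ℤ) (hc : c < 0)
    (ξ : (singleFunctor A 0).obj X ⟶ (singleFunctor A c).obj Y) :
    ∃ (X' : A) (p : X' ⟶ X), Epi p ∧ (singleFunctor A 0).map p ≫ ξ = 0 :=
  efface' X Y c hc ξ

lemma efface_T (X Y : A) (q : ℤ) (hq : 0 < q)
    (ξ : (DEquiv.singleB A).obj X ⟶ ((DEquiv.singleB A).obj Y)⟦q⟧) :
    ∃ (X' : A) (p : X' ⟶ X), Epi p ∧ (DEquiv.singleB A).map p ≫ ξ = 0 := by
  obtain ⟨X', p, hp, h⟩ := efface X Y (-q) (by omega)
    ((PB A).ι.map ξ ≫ (sιIso' Y q (-q) (by omega)).hom)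
  refine ⟨X', p, hp, ?_⟩
  apply (PB A).ι.map_injective
  rw [CategoryTheory.Functor.map_comp, CategoryTheory.Functor.map_zero,
    ← cancel_mono (sιIso' Y q (-q) (by omega)).hom, zero_comp, assoc]
  exact h

/-- the single object in degree `0`, seen in `D(A)` -/
noncomputable def sBι (Y : A) :
    (PB A).ι.obj ((DEquiv.singleB A).obj Y) ≅ (singleFunctor A 0).obj Y := Iso.refl _

lemma sBι_naturality {Y Y' : A} (g : Y ⟶ Y') :
    (PB A).ι.map ((DEquiv.singleB A).map g) ≫ (sBι Y').hom =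
      (sBι Y).hom ≫ (singleFunctor A 0).map g :=
  (comp_id _).trans (id_comp _).symm

lemma exists_ses_triangle {X' X : A} (p : X' ⟶ X) [Epi p] :
    ∃ (X'' : A) (i : X'' ⟶ X')
      (d : (DEquiv.singleB A).obj X ⟶ ((DEquiv.singleB A).obj X'')⟦(1 : ℤ)⟧),
      Triangle.mk ((DEquiv.singleB A).map i) ((DEquiv.singleB A).map p) d ∈
        distTriang (DerivedCategory.Bounded A) := by
  have hS : (ShortComplex.mk (kernel.ι p) p (kernel.condition p)).ShortExact :=
    ShortComplex.ShortExact.mk' (ShortComplex.exact_of_f_is_kernel _ (kernelIsKernel p))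
      (by dsimp; infer_instance) (by dsimp; infer_instance)
  obtain ⟨d, hd⟩ : ∃ d : (DEquiv.singleB A).obj X ⟶
      ((DEquiv.singleB A).obj (kernel p))⟦(1 : ℤ)⟧,
      (PB A).ι.map d = (sBι X).hom ≫ hS.singleδ ≫ ((sBι (kernel p)).inv)⟦(1 : ℤ)⟧' ≫
        ((PB A).ι.commShiftIso (1 : ℤ)).inv.app
        ((DEquiv.singleB A).obj (kernel p)) := ⟨ObjectProperty.homMk _, rfl⟩
  refine ⟨kernel p, kernel.ι p, d, ?_⟩
  change (PB A).ι.mapTriangle.obj _ ∈ distTriang (DerivedCategory A)
  refine isomorphic_distinguished _ hS.singleTriangle_distinguished _ ?_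
  refine Triangle.isoMk _ _ (sBι (kernel p)) (sBι X') (sBι X) ?_ ?_ ?_
  · exact sBι_naturality (kernel.ι p)
  · exact sBι_naturality p
  · show ((PB A).ι.map d ≫ ((PB A).ι.commShiftIso (1 : ℤ)).hom.app _) ≫
      ((sBι (kernel p)).hom)⟦(1 : ℤ)⟧' = (sBι X).hom ≫ hS.singleδ
    rw [hd]
    simp only [assoc, Iso.inv_hom_id_app_assoc]
    rw [← CategoryTheory.Functor.map_comp, Iso.inv_hom_id, CategoryTheory.Functor.map_id, comp_id]

lemma inR_sB (X : A) (m : ℕ) : InR 0 m ((DEquiv.singleB A).obj X) := by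
  haveI : ((DEquiv.singleB A).obj X).obj.IsGE 0 :=
    (inferInstance : ((singleFunctor A 0).obj X).IsGE 0)
  haveI : ((DEquiv.singleB A).obj X).obj.IsLE 0 :=
    (inferInstance : ((singleFunctor A 0).obj X).IsLE 0)
  exact ⟨inferInstance, (tS A).isLE_of_le _ 0 _ (by omega)⟩

lemma hom_sB_shift_neg_eq_zero (X Y : A) (q : ℤ) (hq : q < 0)
    (f : (DEquiv.singleB A).obj X ⟶ ((DEquiv.singleB A).obj Y)⟦q⟧) : f = 0 :=
  hom_to_top_single_eq_zero (inR_sB X (-q - 1).toNat) Y q (by
    rw [Int.toNat_of_nonneg (by omega)]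
    ring) f

section Main

variable {D : Type u'} [Category.{v'} D] [Preadditive D] [HasZeroObject D] [HasShift D ℤ]
  [∀ n : ℤ, (shiftFunctor D n).Additive] [Pretriangulated D]
variable (F F' : DerivedCategory.Bounded A ⥤ D) [F.CommShift ℤ] [F.IsTriangulated]
  [F'.CommShift ℤ] [F'.IsTriangulated]
variable (t : DEquiv.singleB A ⋙ F ≅ DEquiv.singleB A ⋙ F')
  (h2 : ∀ K : DerivedCategory.Bounded A, Nonempty (F.obj K ≅ F'.obj K)) [F.Full] [F.Faithful]

include t h2

lemma ff_sB_sB (X Y : A) :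
    FF F' ((DEquiv.singleB A).obj X) ((DEquiv.singleB A).obj Y) := by
  constructor
  · intro f hf
    obtain ⟨g, rfl⟩ := (DEquiv.singleB A).map_surjective f
    have hnat : F.map ((DEquiv.singleB A).map g) ≫ t.hom.app Y =
        t.hom.app X ≫ F'.map ((DEquiv.singleB A).map g) := t.hom.naturality g
    have h0 : F.map ((DEquiv.singleB A).map g) = 0 := by
      rw [← cancel_mono (t.hom.app Y), hnat, hf, comp_zero, zero_comp]
    exact F.map_injective (by rw [h0, F.map_zero])
  · intro γ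
    obtain ⟨f, hf⟩ := F.map_surjective (t.hom.app X ≫ γ ≫ t.inv.app Y)
    obtain ⟨g, rfl⟩ := (DEquiv.singleB A).map_surjective f
    have hnat : F.map ((DEquiv.singleB A).map g) ≫ t.hom.app Y =
        t.hom.app X ≫ F'.map ((DEquiv.singleB A).map g) := t.hom.naturality g
    refine ⟨(DEquiv.singleB A).map g, ?_⟩
    rw [← cancel_epi (t.hom.app X), ← hnat, hf]
    simp

lemma ff_neg (X Y : A) (q : ℤ) (hq : q < 0) :
    FF F' ((DEquiv.singleB A).obj X) (((DEquiv.singleB A).obj Y)⟦q⟧) := by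
  constructor
  · intro f _
    exact hom_sB_shift_neg_eq_zero X Y q hq f
  · intro γ
    refine ⟨0, ?_⟩
    obtain ⟨θ⟩ := h2 (((DEquiv.singleB A).obj Y)⟦q⟧)
    obtain ⟨f, hf⟩ := F.map_surjective (t.hom.app X ≫ γ ≫ θ.inv)
    rw [hom_sB_shift_neg_eq_zero X Y q hq f, F.map_zero] at hf
    rw [F'.map_zero]
    have e1 : γ = t.inv.app X ≫ (t.hom.app X ≫ γ ≫ θ.inv) ≫ θ.hom := by simp
    rw [e1, ← hf]
    simp

lemma ff_step (q : ℕ)
    (hq : ∀ X Y : A, FF F' ((DEquiv.singleB A).obj X) (((DEquiv.singleB A).obj Y)⟦(q : ℤ)⟧))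
    (X Y : A) :
    FF F' ((DEquiv.singleB A).obj X) (((DEquiv.singleB A).obj Y)⟦(q : ℤ) + 1⟧) := by
  have C1 : ∀ X₁ : A, FF F' (((DEquiv.singleB A).obj X₁)⟦(1 : ℤ)⟧)
      (((DEquiv.singleB A).obj Y)⟦(q : ℤ) + 1⟧) := fun X₁ =>
    ((hq X₁ Y).shift 1).of_iso (Iso.refl _)
      ((shiftFunctorAdd' (DerivedCategory.Bounded A) (q : ℤ) 1 ((q : ℤ) + 1) rfl).app _).symm
  constructor
  · intro ξ hξ
    obtain ⟨X', p, hp, hpξ⟩ := efface_T X Y ((q : ℤ) + 1) (by omega) ξ
    obtain ⟨X'', i, d, hT⟩ := exists_ses_triangle p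
    exact inj₃_of_comp_zero F' _ hT _ ξ hpξ hξ (C1 X'').1 (C1 X').2
  · intro ζ
    obtain ⟨θ⟩ := h2 (((DEquiv.singleB A).obj Y)⟦(q : ℤ) + 1⟧)
    obtain ⟨ξ₀, hξ₀⟩ := F.map_surjective (t.hom.app X ≫ ζ ≫ θ.inv)
    obtain ⟨X', p, hp, hpξ⟩ := efface_T X Y ((q : ℤ) + 1) (by omega) ξ₀
    obtain ⟨X'', i, d, hT⟩ := exists_ses_triangle p
    have hnat : F.map ((DEquiv.singleB A).map p) ≫ t.hom.app X =
        t.hom.app X' ≫ F'.map ((DEquiv.singleB A).map p) := t.hom.naturality p
    have hv : F'.map ((DEquiv.singleB A).map p) ≫ ζ = 0 := by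
      have e1 : ζ = t.inv.app X ≫ F.map ξ₀ ≫ θ.hom := by
        rw [hξ₀]
        simp
      rw [← cancel_epi (t.hom.app X'), ← reassoc_of% hnat, e1, Iso.hom_inv_id_app_assoc,
        ← F.map_comp_assoc, hpξ, F.map_zero, zero_comp, comp_zero]
    exact surj₃_of_comp_zero F' _ hT _ ζ hv (C1 X'').2

lemma ff_all (X Y : A) (q : ℤ) :
    FF F' ((DEquiv.singleB A).obj X) (((DEquiv.singleB A).obj Y)⟦q⟧) := by
  by_cases hq : q < 0
  · exact ff_neg F F' t h2 X Y q hq
  · have key : ∀ k : ℕ, ∀ q : ℤ, q = k → ∀ X Y : A,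
        FF F' ((DEquiv.singleB A).obj X) (((DEquiv.singleB A).obj Y)⟦q⟧) := by
      intro k
      induction k with
      | zero =>
        intro q hq X Y
        obtain rfl : q = 0 := by simpa using hq
        exact (ff_sB_sB F F' t h2 X Y).of_iso (Iso.refl _)
          ((shiftFunctorZero (DerivedCategory.Bounded A) ℤ).app _).symm
      | succ k ih =>
        intro q hq X Y
        obtain rfl : q = (k : ℤ) + 1 := by
          rw [hq]
          push_cast
          rfl
        exact ff_step F F' t h2 k (fun X Y => ih (k : ℤ) rfl X Y) X Y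
    exact key q.toNat q (by omega) X Y

lemma ff_single (X Y : A) (n n' : ℤ) :
    FF F' (((DEquiv.singleB A).obj X)⟦n⟧) (((DEquiv.singleB A).obj Y)⟦n'⟧) :=
  ((ff_all F F' t h2 X Y (n' - n)).shift n).of_iso (Iso.refl _)
    ((shiftFunctorAdd' (DerivedCategory.Bounded A) (n' - n) n n' (by omega)).app _).symm

lemma ff_left (K : DerivedCategory.Bounded A) (Y : A) (n' : ℤ) :
    FF F' K (((DEquiv.singleB A).obj Y)⟦n'⟧) := by
  have hP : ∀ K : DerivedCategory.Bounded A, P₁ F' (((DEquiv.singleB A).obj Y)⟦n'⟧) K := by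
    refine BT_induction (fun K => P₁ F' (((DEquiv.singleB A).obj Y)⟦n'⟧) K) ?_ ?_ ?_
    · intro K hK i
      exact FF.of_isZero_left F'
        ((shiftFunctor (DerivedCategory.Bounded A) i).map_isZero hK)
    · intro X n i
      exact (ff_single F F' t h2 X Y (n + i) n').of_iso
        ((shiftFunctorAdd' (DerivedCategory.Bounded A) n i (n + i) rfl).app _) (Iso.refl _)
    · intro Tr hTr h₁ h₃
      exact P₁.obj₂ F' _ Tr hTr h₁ h₃
  exact (hP K 0).of_iso ((shiftFunctorZero (DerivedCategory.Bounded A) ℤ).app K) (Iso.refl _)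

theorem ff_total (K L : DerivedCategory.Bounded A) : FF F' K L := by
  have hP : ∀ L : DerivedCategory.Bounded A, P₂ F' K L := by
    refine BT_induction (fun L => P₂ F' K L) ?_ ?_ ?_
    · intro L hL i
      exact FF.of_isZero_right F'
        ((shiftFunctor (DerivedCategory.Bounded A) i).map_isZero hL)
    · intro Y n i
      exact (ff_left F F' t h2 K Y (n + i)).of_iso (Iso.refl _)
        ((shiftFunctorAdd' (DerivedCategory.Bounded A) n i (n + i) rfl).app _)
    · intro Tr hTr h₁ h₃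
      exact P₂.obj₂ F' K Tr hTr h₁ h₃
  exact (hP L 0).of_iso (Iso.refl _) ((shiftFunctorZero (DerivedCategory.Bounded A) ℤ).app L)

theorem full_faithful_of_sibling : F'.Full ∧ F'.Faithful := by
  constructor
  · exact ⟨fun g => (ff_total F F' t h2 _ _).2 g⟩
  · refine ⟨?_⟩
    intro K L f₁ f₂ h
    have := (ff_total F F' t h2 K L).1 (f₁ - f₂) (by rw [F'.map_sub, h, sub_self])
    exact sub_eq_zero.1 this

end Main

end Groth.Agent.H33.Sib
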