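import Groth.Agent.H33.LeftRes
import Mathlib.Algebra.Homology.HomotopyCategory.Pretriangulated
import Mathlib.Algebra.Homology.HomotopyCategory.MappingCone

/-! Factorization of a morphism of bounded below complexes as a termwise injective
quasi-isomorphism followed by a termwise split epimorphism with kernel in a class (helper33). -/

set_option autoImplicit false
universe v u

namespace Groth.Agent.H33.SplitFactor

open CategoryTheory CategoryTheory.Limits HomologicalComplex CochainComplex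

variable {A : Type u} [Category.{v} A] [Abelian A]

section Basics

lemma isStrictlyGE_biprod (K L : CochainComplex A ℤ) (c : ℤ) [K.IsStrictlyGE c]
    [L.IsStrictlyGE c] : (K ⊞ L).IsStrictlyGE c := by
  rw [CochainComplex.isStrictlyGE_iff]
  intro i hi
  refine IsZero.of_iso ?_ ((HomologicalComplex.eval A (ComplexShape.up ℤ) i).mapBiprod _ _)
  simp only [HomologicalComplex.eval_obj, biprod_isZero_iff]
  exact ⟨K.isZero_of_isStrictlyGE c i hi, L.isZero_of_isStrictlyGE c i hi⟩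

lemma isStrictlyGE_of_mono {K L : CochainComplex A ℤ} (p : K ⟶ L) [Mono p] (n : ℤ)
    [L.IsStrictlyGE n] : K.IsStrictlyGE n := by
  rw [CochainComplex.isStrictlyGE_iff]
  intro i hi
  rw [IsZero.iff_id_eq_zero, ← cancel_mono (p.f i)]
  exact (L.isZero_of_isStrictlyGE n i hi).eq_of_tgt _ _

lemma isStrictlyGE_pushout {X Y I : CochainComplex A ℤ} (f : X ⟶ Y) (α : X ⟶ I) (n : ℤ)
    [Y.IsStrictlyGE n] [I.IsStrictlyGE n] : (pushout f α).IsStrictlyGE n := by
  rw [CochainComplex.isStrictlyGE_iff]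
  intro i hi
  have sq := (IsPushout.of_hasPushout f α).map (HomologicalComplex.eval A (ComplexShape.up ℤ) i)
  rw [IsZero.iff_id_eq_zero]
  apply sq.hom_ext
  · exact (Y.isZero_of_isStrictlyGE n i hi).eq_of_src _ _
  · exact (I.isZero_of_isStrictlyGE n i hi).eq_of_src _ _

/-- pushing out `0 → ker r → Y → C → 0` along `α : ker r ⟶ N` -/
lemma pushout_shortExact_inr {𝒞 : Type*} [Category 𝒞] [Abelian 𝒞] {Y C N : 𝒞} (r : Y ⟶ C)
    [Epi r] (α : kernel r ⟶ N) (p : pushout (kernel.ι r) α ⟶ C)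
    (hp1 : pushout.inl (kernel.ι r) α ≫ p = r) (hp2 : pushout.inr (kernel.ι r) α ≫ p = 0) :
    (ShortComplex.mk (pushout.inr (kernel.ι r) α) p hp2).ShortExact := by
  have hc : IsColimit (CokernelCofork.ofπ r (kernel.condition r)) :=
    Abelian.epiIsCokernelOfKernel _ (limit.isLimit _)
  have hepi : Epi p := epi_of_epi_fac hp1
  have key : ∀ {W : 𝒞} (t : pushout (kernel.ι r) α ⟶ W),
      pushout.inr (kernel.ι r) α ≫ t = 0 →
      ∃ l : C ⟶ W, r ≫ l = pushout.inl (kernel.ι r) α ≫ t := by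
    intro W t ht
    have h : kernel.ι r ≫ pushout.inl (kernel.ι r) α ≫ t = 0 := by
      rw [pushout.condition_assoc, ht, comp_zero]
    exact ⟨hc.desc (CokernelCofork.ofπ _ h),
      hc.fac (CokernelCofork.ofπ _ h) WalkingParallelPair.one⟩
  refine ShortComplex.ShortExact.mk' ?_ (by dsimp; infer_instance) hepi
  apply ShortComplex.exact_of_g_is_cokernel
  refine CokernelCofork.IsColimit.ofπ _ _
    (fun {W} t ht => (key t ht).choose) ?_ ?_
  · intro W t ht
    dsimp
    apply pushout.hom_ext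
    · rw [← Category.assoc, hp1]
      exact (key t ht).choose_spec
    · rw [← Category.assoc, hp2, zero_comp, ht]
  · intro W t ht m hm
    dsimp at hm ⊢
    rw [← cancel_epi p, hm]
    apply pushout.hom_ext
    · rw [← Category.assoc, hp1]
      exact (key t ht).choose_spec.symm
    · rw [← Category.assoc, hp2, zero_comp, ht]

lemma exists_truncGE_map (K : CochainComplex A ℤ) (a b : ℤ) (hab : a ≤ b) :
    ∃ t : K.truncGE a ⟶ K.truncGE b, K.πTruncGE a ≫ t = K.πTruncGE b := by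
  have : (K.truncGE b).IsStrictlyGE a := (K.truncGE b).isStrictlyGE_of_ge a b hab
  refine ⟨CochainComplex.truncGEMap (K.πTruncGE b) a ≫ inv ((K.truncGE b).πTruncGE a), ?_⟩
  rw [← Category.assoc, CochainComplex.πTruncGE_naturality, Category.assoc, IsIso.hom_inv_id,
    Category.comp_id]

end Basics

section Path

set_option backward.isDefEq.respectTransparency false in
/-- an acyclic bounded below complex with a termwise split epimorphism onto `Q` -/
lemma exists_path (Q : CochainComplex A ℤ) (c : ℤ) [Q.IsStrictlyGE c] :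
    ∃ (D : CochainComplex A ℤ) (pr : D ⟶ Q), D.Acyclic ∧ D.IsStrictlyGE c ∧
      ∀ i, ∃ s : Q.X i ⟶ D.X i, s ≫ pr.f i = 𝟙 _ := by
  obtain ⟨E, hE⟩ : ∃ E : CochainComplex A ℤ,
      E = (CategoryTheory.shiftFunctor (CochainComplex A ℤ) (-1 : ℤ)).obj Q := ⟨_, rfl⟩
  obtain ⟨e⟩ : Nonempty ((CategoryTheory.shiftFunctor (CochainComplex A ℤ) (1 : ℤ)).obj E ≅ Q) := by
    rw [hE]
    exact ⟨(shiftFunctorCompIsoId (CochainComplex A ℤ) (-1 : ℤ) 1 (by omega)).app Q⟩
  have hEz : ∀ i : ℤ, i < c + 1 → IsZero (E.X i) := by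
    intro i hi
    rw [hE]
    exact Q.isZero_of_isStrictlyGE c (i + (-1)) (by omega)
  refine ⟨mappingCone (𝟙 E), (mappingCone.triangle (𝟙 E)).mor₃ ≫ e.hom, ?_, ?_, ?_⟩
  · have h₀ : Homotopy (𝟙 (mappingCone (𝟙 E))) 0 :=
      mappingCone.liftHomotopy _ _ _ (mappingCone.snd _) 0 (by simp) (by simp)
    intro i
    rw [HomologicalComplex.exactAt_iff_isZero_homology, IsZero.iff_id_eq_zero,
      ← HomologicalComplex.homologyMap_id, h₀.homologyMap_eq i,
      HomologicalComplex.homologyMap_zero]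
  · rw [CochainComplex.isStrictlyGE_iff]
    intro i hi
    rw [mappingCone.isZero_X_iff]
    exact ⟨hEz _ (by omega), hEz _ (by omega)⟩
  · intro i
    refine ⟨-(e.inv.f i ≫ (E.shiftFunctorObjXIso 1 i (i + 1) rfl).hom ≫
      (mappingCone.inl (𝟙 E)).v (i + 1) i (by omega)), ?_⟩
    rw [HomologicalComplex.comp_f, Preadditive.neg_comp, Category.assoc, Category.assoc,
      mappingCone.inl_v_triangle_mor₃_f_assoc, Preadditive.neg_comp, Preadditive.comp_neg,
      Preadditive.comp_neg, neg_neg, Iso.hom_inv_id_assoc,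
      ← HomologicalComplex.comp_f, e.inv_hom_id, HomologicalComplex.id_f]

end Path

section Factor

variable {I : A → Prop} (hI : ∀ X : A, ∃ (Y : A) (ι : X ⟶ Y), I Y ∧ Mono ι)

include hI in
lemma exists_factorization (hI0 : ∃ Z : A, IsZero Z ∧ I Z)
    (hiso : ∀ X Y : A, (X ≅ Y) → I X → I Y) (hprod : ∀ X Y : A, I X → I Y → I (X ⊞ Y))
    {M Q : CochainComplex A ℤ} (g : M ⟶ Q) (c : ℤ)
    [M.IsStrictlyGE c] [Q.IsStrictlyGE c] (hQ : ∀ i, I (Q.X i)) :
    ∃ (Q' : CochainComplex A ℤ) (π' : M ⟶ Q') (p : Q' ⟶ Q), Q'.IsStrictlyGE c ∧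
      (∀ i, I (Q'.X i)) ∧ QuasiIso π' ∧ (∀ i, Mono (π'.f i)) ∧
      (∀ i, (∃ s : Q.X i ⟶ Q'.X i, s ≫ p.f i = 𝟙 _) ∧ I (kernel (p.f i))) ∧ π' ≫ p = g := by
  obtain ⟨D, pr, hDac, hDge, hDs⟩ := exists_path Q c
  have hWge : (M ⊞ D).IsStrictlyGE c := isStrictlyGE_biprod M D c
  obtain ⟨r, hr⟩ : ∃ r : M ⊞ D ⟶ Q, r = biprod.desc g pr := ⟨_, rfl⟩
  have hr1 : biprod.inl ≫ r = g := by rw [hr, biprod.inl_desc]
  have hr2 : biprod.inr ≫ r = pr := by rw [hr, biprod.inr_desc]
  have hrs : ∀ i, ∃ s : Q.X i ⟶ (M ⊞ D).X i, s ≫ r.f i = 𝟙 _ := by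
    intro i
    obtain ⟨s, hs⟩ := hDs i
    refine ⟨s ≫ (biprod.inr : D ⟶ M ⊞ D).f i, ?_⟩
    rw [Category.assoc, ← HomologicalComplex.comp_f, hr2, hs]
  have hrepi : Epi r := HomologicalComplex.epi_of_epi_f r (fun i => by
    obtain ⟨s, hs⟩ := hrs i
    have : Epi (s ≫ r.f i) := by rw [hs]; infer_instance
    exact epi_of_epi s (r.f i))
  have hinlq : QuasiIso (biprod.inl : M ⟶ M ⊞ D) := by
    have hS : (ShortComplex.mk (biprod.inl : M ⟶ M ⊞ D) (biprod.snd : M ⊞ D ⟶ D)
        (by simp)).ShortExact :=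
      (ShortComplex.Splitting.ofHasBinaryBiproduct M D).shortExact
    exact LeftRes.quasiIso_f_of_acyclic hS hDac
  have hN₀ge : (kernel r).IsStrictlyGE c := isStrictlyGE_of_mono (kernel.ι r) c
  obtain ⟨J, j, hJge, hJI, hjmono, hjq⟩ := RightRes.exists_resolution_int hI hI0 (kernel r) c
  have hjm : Mono j := HomologicalComplex.mono_of_mono_f j hjmono
  have hW'ge : (pushout (kernel.ι r) j).IsStrictlyGE c := isStrictlyGE_pushout _ _ c
  have hinl : QuasiIso (pushout.inl (kernel.ι r) j) := by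
    have h1 := LeftRes.pushout_shortExact (kernel.ι r) j
    have h2 : (cokernel j).Acyclic := by
      have h3 : (ShortComplex.mk j (cokernel.π j) (cokernel.condition j)).ShortExact :=
        ShortComplex.ShortExact.mk'
          (ShortComplex.exact_of_g_is_cokernel _ (cokernelIsCokernel j))
          (by dsimp; infer_instance) (by dsimp; infer_instance)
      exact h3.acyclic_X₃ hjq
    exact LeftRes.quasiIso_f_of_acyclic h1 h2
  obtain ⟨p, hp1, hp2⟩ : ∃ p : pushout (kernel.ι r) j ⟶ Q,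
      pushout.inl (kernel.ι r) j ≫ p = r ∧ pushout.inr (kernel.ι r) j ≫ p = 0 :=
    ⟨pushout.desc r 0 (by rw [kernel.condition, comp_zero]), pushout.inl_desc _ _ _,
      pushout.inr_desc _ _ _⟩
  have hSE : (ShortComplex.mk (pushout.inr (kernel.ι r) j) p hp2).ShortExact :=
    pushout_shortExact_inr r j p hp1 hp2
  have hterm : ∀ i, I ((pushout (kernel.ι r) j).X i) ∧ I (kernel (p.f i)) ∧
      ∃ s : Q.X i ⟶ (pushout (kernel.ι r) j).X i, s ≫ p.f i = 𝟙 _ := by
    intro i
    have hk : ((ShortComplex.mk (pushout.inr (kernel.ι r) j) p hp2).map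
        (HomologicalComplex.eval A (ComplexShape.up ℤ) i)).ShortExact := hSE.map_of_exact _
    obtain ⟨s₀, hs₀⟩ := hrs i
    have hs : (s₀ ≫ (pushout.inl (kernel.ι r) j).f i) ≫ p.f i = 𝟙 _ := by
      rw [Category.assoc, ← HomologicalComplex.comp_f, hp1, hs₀]
    have sp := ShortComplex.Splitting.ofExactOfSection _ hk.exact
      (s₀ ≫ (pushout.inl (kernel.ι r) j).f i) hs hk.mono_f
    refine ⟨?_, ?_, ⟨_, hs⟩⟩
    · exact hiso _ _ sp.isoBinaryBiproduct.symm (hprod _ _ (hJI i) (hQ i))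
    · exact hiso _ _ (IsLimit.conePointUniqueUpToIso hk.fIsKernel (limit.isLimit _))
        (hJI i)
  have hm2 : Mono (pushout.inl (kernel.ι r) j) := inferInstance
  refine ⟨pushout (kernel.ι r) j, biprod.inl ≫ pushout.inl _ _, p, hW'ge,
    fun i => (hterm i).1, ?_, ?_, fun i => ⟨(hterm i).2.2, (hterm i).2.1⟩, ?_⟩
  · exact quasiIso_comp (hφ := hinlq) (hφ' := hinl) _ _
  · intro i
    have : Mono (biprod.inl ≫ pushout.inl (kernel.ι r) j : M ⟶ _) := mono_comp _ _
    infer_instance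
  · rw [Category.assoc, hp1, hr1]

end Factor

end Groth.Agent.H33.SplitFactor
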