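import Mathlib
import Groth.Prelude.Def_RedSub
import Groth.Prelude.Def_AlgGrp
import Groth.Agent.H33.TQ_QU

/-!
# Squad lemmas (T4-DESC), (T4-MONO) for helper43 (S16612): descending a homomorphism killing `H`
to the fppf quotient `G/H`, and injectivity of the descended map when `H` is the kernel.
-/

set_option autoImplicit false
universe u
open CategoryTheory Limits MonoidalCategory CartesianMonoidalCategory MonObj GrpObj
  AlgebraicGeometry

namespace Groth.Agent.H33.T4_DESC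

open Groth.Agent.H33.TQ_QU

/-- the action map `(g, h) ↦ g h` as a product of points. -/
lemma act_eq_mul {S : Scheme.{u}} {G H : Over S} [GrpObj G] (i : H ⟶ G) :
    (G ◁ i) ≫ μ[G] = fst G H * (snd G H ≫ i) := by
  rw [Hom.mul_def]
  congr 1

/-- a quotient map factors through any map coequalising the projection and the action. -/
lemma exists_desc_of_coeq {S : Scheme.{u}} {G H Q Z : Over S} [GrpObj G] [GrpObj H]
    (i : H ⟶ G) (q : G ⟶ Q) (m : G ⟶ Z)
    (hq : RedSub.IsQuotient i q) (w : fst G H ≫ m = ((G ◁ i) ≫ μ[G]) ≫ m) :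
    ∃ e : Q ⟶ Z, q ≫ e = m := by
  obtain ⟨hs, hf, hp, sq⟩ := hq
  haveI := hs
  haveI := hf
  haveI := hp
  haveI : EffectiveEpi q.left := inferInstance
  haveI : Epi q.left := inferInstance
  have sqL : IsPullback (fst G H).left ((G ◁ i) ≫ μ[G]).left q.left q.left :=
    sq.map (Over.forget S)
  have w' : (fst G H).left ≫ m.left = ((G ◁ i) ≫ μ[G]).left ≫ m.left :=
    congrArg (fun f => f.left) w
  let e₁ : Q.left ⟶ Z.left := EffectiveEpi.desc q.left m.left (by
    intro T g₁ g₂ h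
    calc g₁ ≫ m.left = (sqL.lift g₁ g₂ h ≫ (fst G H).left) ≫ m.left := by
          rw [sqL.lift_fst]
      _ = sqL.lift g₁ g₂ h ≫ ((G ◁ i) ≫ μ[G]).left ≫ m.left := by
          rw [Category.assoc, w']
      _ = g₂ ≫ m.left := by rw [← Category.assoc, sqL.lift_snd])
  have he₁ : q.left ≫ e₁ = m.left := EffectiveEpi.fac _ _ _
  refine ⟨Over.homMk e₁ ?_, ?_⟩
  · rw [← cancel_epi q.left, ← Category.assoc, he₁, Over.w, Over.w]
  · ext
    exact he₁

/-- (T4-DESC) -/
theorem exists_desc_hom {S : Scheme.{u}} {G H Q Z : Over S} [GrpObj G] [GrpObj H] [GrpObj Q]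
    [GrpObj Z] (i : H ⟶ G) (q : G ⟶ Q) [IsMonHom q] (hq : RedSub.IsQuotient i q) (m : G ⟶ Z)
    [IsMonHom m] (hm : i ≫ m = 1) : ∃ j₃ : Q ⟶ Z, IsMonHom j₃ ∧ q ≫ j₃ = m := by
  have w : fst G H ≫ m = ((G ◁ i) ≫ μ[G]) ≫ m := by
    rw [act_eq_mul, MonObj.mul_comp, Category.assoc, hm, MonObj.comp_one, _root_.mul_one]
  obtain ⟨e, he⟩ := exists_desc_of_coeq i q m hq w
  haveI : Epi q := epi_of_fppf q hq.1 hq.2.1 hq.2.2.1
  haveI : Epi (q ⊗ₘ q) := epi_tensorHom q hq.1 hq.2.1 hq.2.2.1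
  refine ⟨e, ?_, he⟩
  constructor
  · show η[Q] ≫ e = η[Z]
    rw [← IsMonHom.one_hom q, Category.assoc, he, IsMonHom.one_hom m]
  · show μ[Q] ≫ e = (e ⊗ₘ e) ≫ μ[Z]
    rw [← cancel_epi (q ⊗ₘ q)]
    calc (q ⊗ₘ q) ≫ μ[Q] ≫ e = μ[G] ≫ q ≫ e := by
          rw [← Category.assoc, ← IsMonHom.mul_hom q, Category.assoc]
      _ = μ[G] ≫ m := by rw [he]
      _ = (m ⊗ₘ m) ≫ μ[Z] := IsMonHom.mul_hom m
      _ = ((q ≫ e) ⊗ₘ (q ≫ e)) ≫ μ[Z] := by rw [he]
      _ = (q ⊗ₘ q) ≫ (e ⊗ₘ e) ≫ μ[Z] := by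
          rw [← tensorHom_comp_tensorHom, Category.assoc]

/-- the subgroup maps to the unit section of the quotient. -/
lemma comp_quotient_eq_one {S : Scheme.{u}} {G H Q : Over S} [GrpObj G] [GrpObj H] [GrpObj Q]
    (i : H ⟶ G) (q : G ⟶ Q) [IsMonHom q] (hq : RedSub.IsQuotient i q) : i ≫ q = 1 := by
  have hw := hq.2.2.2.w
  rw [act_eq_mul] at hw
  have h1 : lift (1 : H ⟶ G) (𝟙 H) ≫ fst G H ≫ q =
      lift (1 : H ⟶ G) (𝟙 H) ≫ (fst G H * (snd G H ≫ i)) ≫ q := by rw [hw]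
  rw [← Category.assoc, lift_fst, MonObj.one_comp, MonObj.mul_comp, MonObj.comp_mul,
    ← Category.assoc, lift_fst, MonObj.one_comp, _root_.one_mul, ← Category.assoc,
    ← Category.assoc, lift_snd, Category.id_comp] at h1
  exact h1.symm

/-- (T4-MONO) -/
theorem mono_desc {S : Scheme.{u}} {G H Q Z : Over S} [GrpObj G] [GrpObj H] [GrpObj Q]
    [GrpObj Z] (i : H ⟶ G) [IsMonHom i] (q : G ⟶ Q) [IsMonHom q]
    (hq : RedSub.IsQuotient i q) (m : G ⟶ Z) [IsMonHom m] (hk : AlgGrp.IsKernel i m)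
    (j₃ : Q ⟶ Z) [IsMonHom j₃] (h : q ≫ j₃ = m) : Mono j₃ := by
  have hiq : i ≫ q = 1 := comp_quotient_eq_one i q hq
  have key : ∀ (X : Over S) (x : X ⟶ Q), x ≫ j₃ = 1 → x = 1 := by
    intro X x hx
    have sqP : IsPullback (pullback.fst x q) (pullback.snd x q) x q := IsPullback.of_hasPullback x q
    have sqL : IsPullback (pullback.snd x q).left (pullback.fst x q).left q.left x.left :=
      (sqP.map (Over.forget S)).flip
    obtain ⟨hs, hf, hp, -⟩ := hq
    haveI : Epi (pullback.fst x q) :=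
      epi_of_fppf _ (MorphismProperty.of_isPullback (P := @Surjective.{u}) sqL hs)
        (MorphismProperty.of_isPullback (P := @Flat.{u}) sqL hf)
        (MorphismProperty.of_isPullback (P := @LocallyOfFinitePresentation.{u}) sqL hp)
    have h1 : pullback.snd x q ≫ m = toUnit (pullback x q) ≫ η[Z] := by
      rw [← h, ← Category.assoc, ← pullback.condition, Category.assoc, hx, MonObj.comp_one,
        Hom.one_def]
    have h2 : hk.lift (pullback.snd x q) (toUnit (pullback x q)) h1 ≫ i = pullback.snd x q :=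
      hk.lift_fst _ _ _
    rw [← cancel_epi (pullback.fst x q), pullback.condition, ← h2, Category.assoc, hiq,
      MonObj.comp_one, MonObj.comp_one]
  constructor
  intro X a b hab
  have h1 : (a * b⁻¹) ≫ j₃ = 1 := by
    rw [MonObj.mul_comp, GrpObj.inv_comp, hab, _root_.mul_inv_cancel]
  exact _root_.mul_inv_eq_one.mp (key X (a * b⁻¹) h1)

end Groth.Agent.H33.T4_DESC
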