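import Mathlib

/-!
# Squad lemma (T4-FREE) for helper43 (S16612): a subgroup of `ℤ^{r₁} × ℤ^{r₂}` is free of finite
rank.
-/

set_option autoImplicit false
universe u

namespace Groth.Agent.H33.T4_FREE

theorem exists_fin_addEquiv (r₁ r₂ : ℕ) (N : AddSubgroup ((Fin r₁ → ℤ) × (Fin r₂ → ℤ))) :
    ∃ r' : ℕ, Nonempty (N ≃+ (Fin r' → ℤ)) := by
  let N' : Submodule ℤ ((Fin r₁ → ℤ) × (Fin r₂ → ℤ)) := AddSubgroup.toIntSubmodule N
  haveI : Module.Free ℤ N' := inferInstance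
  haveI : Module.Finite ℤ N' := inferInstance
  let e : N ≃+ N' :=
    { toFun := fun x => ⟨x.1, x.2⟩
      invFun := fun x => ⟨x.1, x.2⟩
      left_inv := fun _ => rfl
      right_inv := fun _ => rfl
      map_add' := fun _ _ => rfl }
  exact ⟨Module.finrank ℤ N', ⟨e.trans (Module.finBasis ℤ N').equivFun.toAddEquiv⟩⟩

end Groth.Agent.H33.T4_FREE
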