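import Mathlib
import Groth.Prelude.Def_RedSub

/-!
# (TQ-BC) for helper43's S16615 squad: base change of fppf quotients `G/H`
-/

set_option autoImplicit false
universe u
open CategoryTheory Limits MonoidalCategory CartesianMonoidalCategory MonObj GrpObj AlgebraicGeometry

namespace Groth.Agent.H33.TQ_BC

theorem isQuotient_bc {S S' : Scheme.{u}} (g : S' ⟶ S) {G H Q : Over S} [GrpObj G] [GrpObj H]
    (i : H ⟶ G) (q : G ⟶ Q) (hq : RedSub.IsQuotient i q) :
    RedSub.IsQuotient ((Over.pullback g).map i) ((Over.pullback g).map q) := by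
  obtain ⟨hs, hf, hp, sq⟩ := hq
  refine ⟨MorphismProperty.overPullbackMap (P := @Surjective.{u}) g q hs,
    MorphismProperty.overPullbackMap (P := @Flat.{u}) g q hf,
    MorphismProperty.overPullbackMap (P := @LocallyOfFinitePresentation.{u}) g q hp, ?_⟩
  have h := sq.map (Over.pullback g)
  refine IsPullback.of_iso h (Functor.Monoidal.μIso (Over.pullback g) G H).symm (Iso.refl _)
    (Iso.refl _) (Iso.refl _) ?_ ?_ ?_ ?_
  · simp
  · rw [Functor.obj.μ_def]
    simp
  · simp
  · simp

end Groth.Agent.H33.TQ_BC
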