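import Mathlib

/-!
# Helper library (helper33, for helper34's S12646 squad): (R5), (R6).
-/

set_option autoImplicit false
universe u
open IsLocalRing Polynomial

namespace Groth.Agent.H33.TameR56

/-- (R5) the integral closure is a Dedekind domain when it is module-finite. -/
theorem isDedekindDomain_integralClosure (A : Type u) [CommRing A] [IsDomain A]
    [IsDedekindDomain A] (E : Type u) [Field E] [Algebra A E] [IsFractionRing A E]
    (F : Type u) [Field F] [Algebra E F] [FiniteDimensional E F] [Algebra A F]
    [IsScalarTower A E F] [Module.Finite A (integralClosure A F)] :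
    IsDedekindDomain (integralClosure A F) := by
  haveI : IsNoetherian A (integralClosure A F) := isNoetherian_of_isNoetherianRing_of_finite A _
  haveI : IsNoetherianRing (integralClosure A F) :=
    isNoetherianRing_iff.mpr (isNoetherian_of_tower A inferInstance)
  haveI : Algebra.IsIntegral A (integralClosure A F) := inferInstance
  haveI : Ring.DimensionLEOne (integralClosure A F) :=
    Ring.DimensionLEOne.of_isIntegral A (integralClosure A F)
  haveI : IsIntegrallyClosed (integralClosure A F) :=
    integralClosure.isIntegrallyClosedOfFiniteExtension E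
  exact { }

/-- A ring finite over a local ring has finitely many maximal ideals (copy of helper15's
`H15.ComFac.finite_setOf_isMaximal_of_finite`). -/
theorem finite_setOf_isMaximal_of_finite (R B : Type*) [CommRing R] [IsLocalRing R] [CommRing B]
    [Algebra R B] [Module.Finite R B] : {I : Ideal B | I.IsMaximal}.Finite := by
  set m := maximalIdeal R with hm
  set mB := m.map (algebraMap R B) with hmB
  haveI : IsArtinianRing (B ⧸ mB) := by
    letI : Field (R ⧸ m) := Ideal.Quotient.field m
    haveI : Module.Finite (R ⧸ m) (B ⧸ mB) := Module.Finite.of_restrictScalars_finite R _ _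
    exact IsArtinianRing.of_finite (R ⧸ m) (B ⧸ mB)
  have hfin := IsArtinianRing.setOfPred_isMaximal_finite (B ⧸ mB)
  refine (hfin.image (Ideal.comap (Ideal.Quotient.mk mB))).subset ?_
  intro M hM
  haveI : M.IsMaximal := hM
  haveI : Algebra.IsIntegral R B := Algebra.IsIntegral.of_finite R B
  have hcomap : M.comap (algebraMap R B) = m :=
    eq_maximalIdeal (Ideal.isMaximal_comap_of_isIntegral_of_isMaximal (R := R) M)
  have hle : mB ≤ M := Ideal.map_le_iff_le_comap.mpr hcomap.ge
  refine ⟨M.map (Ideal.Quotient.mk mB), ?_, ?_⟩
  · exact Ideal.IsMaximal.map_of_surjective_of_ker_le Ideal.Quotient.mk_surjective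
      (by rwa [Ideal.mk_ker])
  · rw [Ideal.comap_map_of_surjective _ Ideal.Quotient.mk_surjective, ← RingHom.ker_eq_comap_bot,
      Ideal.mk_ker, sup_eq_left.mpr hle]

/-- (R6) a Dedekind domain finite over a local ring is a PID. -/
theorem isPrincipalIdealRing_of_finite (A B : Type u) [CommRing A] [IsLocalRing A] [CommRing B]
    [IsDomain B] [IsDedekindDomain B] [Algebra A B] [Module.Finite A B] :
    IsPrincipalIdealRing B :=
  IsPrincipalIdealRing.of_finite_maximals (finite_setOf_isMaximal_of_finite A B)

end Groth.Agent.H33.TameR56
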