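import Groth.Agent.H58.TensorCone
import Groth.Prelude.Def_DRing4

/-!
# The tensor–Hom adjunction on cochain complexes of modules (helper33)

`tensorHomAdj P : tensorRight P ⊣ DRing.homCxFunctor P` on `DRing.Cx A`, with no sign twist:
the map `φ : K ⊗ P ⟶ L` corresponds to `s ↦ (x ↦ φ (s ⊗ x))`.
Also the contravariant functoriality `homCxPre f` of the Hom complex in its first variable, its
identification with the conjugate of `- ◁ f`, and exactness of `Hom•(-, M)` on degreewise split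
short exact sequences.
-/

set_option autoImplicit false
universe u
open CategoryTheory CategoryTheory.Limits MonoidalCategory HomologicalComplex CochainComplex
open CochainComplex.HomComplex

namespace Groth.Agent.H33.TensorHom

open Groth.Agent.H58.TensorCone

variable {A : Type u} [CommRing A]

/-- evaluation of a cochain on an element -/
noncomputable def evc {P L : DRing.Cx A} {n : ℤ} (z : Cochain P L n) (p q : ℤ) (h : p + n = q)
    (x : P.X p) : L.X q := (z.v p q h).hom x

lemma evc_add {P L : DRing.Cx A} {n : ℤ} (z z' : Cochain P L n) (p q : ℤ) (h : p + n = q)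
    (x : P.X p) : evc (z + z') p q h x = evc z p q h x + evc z' p q h x := rfl

lemma evc_smul {P L : DRing.Cx A} {n : ℤ} (a : A) (z : Cochain P L n) (p q : ℤ) (h : p + n = q)
    (x : P.X p) : evc (a • z) p q h x = a • evc z p q h x := rfl

lemma cochain_ext_elem {P L : DRing.Cx A} {n : ℤ} (z z' : Cochain P L n)
    (h : ∀ (p q : ℤ) (hpq : p + n = q) (x : P.X p), evc z p q hpq x = evc z' p q hpq x) :
    z = z' :=
  Cochain.ext _ _ (fun p q hpq => ModuleCat.hom_ext (LinearMap.ext (fun x => h p q hpq x)))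

/-! ### currying -/

/-- `s ⊗ x ↦ φ (s ⊗ x)` on the summand `K^n ⊗ P^p`. -/
noncomputable def comp₂ {K P L : DRing.Cx A} (φ : K ⊗ P ⟶ L) (n p q : ℤ) (h : n + p = q) :
    K.X n ⊗ P.X p ⟶ L.X q :=
  ιTensorObj K P n p q h ≫ φ.f q

/-- the value of `φ` on `s ⊗ x`. -/
noncomputable def val {K P L : DRing.Cx A} (φ : K ⊗ P ⟶ L) (n p q : ℤ) (h : n + p = q)
    (s : K.X n) (x : P.X p) : L.X q :=
  (comp₂ φ n p q h).hom (s ⊗ₜ[A] x)

lemma val_add_left {K P L : DRing.Cx A} (φ : K ⊗ P ⟶ L) (n p q : ℤ) (h : n + p = q)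
    (s s' : K.X n) (x : P.X p) : val φ n p q h (s + s') x = val φ n p q h s x + val φ n p q h s' x := by
  unfold val
  rw [TensorProduct.add_tmul, map_add]

lemma val_smul_left {K P L : DRing.Cx A} (φ : K ⊗ P ⟶ L) (n p q : ℤ) (h : n + p = q)
    (a : A) (s : K.X n) (x : P.X p) : val φ n p q h (a • s) x = a • val φ n p q h s x := by
  unfold val
  rw [← TensorProduct.smul_tmul', map_smul]

lemma val_add_right {K P L : DRing.Cx A} (φ : K ⊗ P ⟶ L) (n p q : ℤ) (h : n + p = q)
    (s : K.X n) (x x' : P.X p) : val φ n p q h s (x + x') = val φ n p q h s x + val φ n p q h s x' := by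
  unfold val
  rw [TensorProduct.tmul_add, map_add]

lemma val_smul_right {K P L : DRing.Cx A} (φ : K ⊗ P ⟶ L) (n p q : ℤ) (h : n + p = q)
    (a : A) (s : K.X n) (x : P.X p) : val φ n p q h s (a • x) = a • val φ n p q h s x := by
  unfold val
  rw [TensorProduct.tmul_smul, map_smul]

/-- the cochain `x ↦ φ (s ⊗ x)` -/
noncomputable def curCochain {K P L : DRing.Cx A} (φ : K ⊗ P ⟶ L) (n : ℤ) (s : K.X n) :
    Cochain P L n :=
  Cochain.mk (fun p q hpq => ModuleCat.ofHom
    { toFun := fun x => val φ n p q (by omega) s x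
      map_add' := fun x x' => val_add_right φ n p q _ s x x'
      map_smul' := fun a x => val_smul_right φ n p q _ a s x })

lemma evc_curCochain {K P L : DRing.Cx A} (φ : K ⊗ P ⟶ L) (n : ℤ) (s : K.X n) (p q : ℤ)
    (h : p + n = q) (x : P.X p) :
    evc (curCochain φ n s) p q h x = val φ n p q (by omega) s x := rfl

/-- `s ↦ (x ↦ φ (s ⊗ x))` as a linear map. -/
noncomputable def curLin {K P L : DRing.Cx A} (φ : K ⊗ P ⟶ L) (n : ℤ) :
    K.X n →ₗ[A] Cochain P L n where
  toFun s := curCochain φ n s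
  map_add' s s' := cochain_ext_elem _ _ (fun p q hpq x => by
    rw [evc_add, evc_curCochain, evc_curCochain, evc_curCochain, val_add_left])
  map_smul' a s := cochain_ext_elem _ _ (fun p q hpq x => by
    rw [RingHom.id_apply, evc_smul, evc_curCochain, evc_curCochain, val_smul_left])


/-- the chain-map property of `φ`, on elements of a summand. -/
lemma d_val {K P L : DRing.Cx A} (φ : K ⊗ P ⟶ L) (n p q₁ q n' p' : ℤ) (h : n + p = q₁)
    (hq : q₁ + 1 = q) (hn : n + 1 = n') (hp : p + 1 = p') (s : K.X n) (x : P.X p) :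
    (L.d q₁ q).hom (val φ n p q₁ h s x) =
      val φ n' p q (by omega) ((K.d n n').hom s) x +
        n.negOnePow • val φ n p' q (by omega) s ((P.d p p').hom x) := by
  have key : comp₂ φ n p q₁ h ≫ L.d q₁ q =
      (K.d n n' ▷ P.X p) ≫ comp₂ φ n' p q (by omega) +
        n.negOnePow • ((K.X n ◁ P.d p p') ≫ comp₂ φ n p' q (by omega)) := by
    unfold comp₂
    rw [Category.assoc, φ.comm q₁ q, ι_d_assoc P n p q₁ q n' p' h hq hn hp, Preadditive.add_comp,
      Category.assoc, Linear.units_smul_comp, Category.assoc]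
  exact congrArg (fun g => g.hom (s ⊗ₜ[A] x)) key

/-- currying: `K ⊗ P ⟶ L` gives `K ⟶ Hom•(P, L)`. -/
noncomputable def cur {K P L : DRing.Cx A} (φ : K ⊗ P ⟶ L) : K ⟶ DRing.homCx P L where
  f n := ModuleCat.ofHom (curLin φ n)
  comm' n m hnm := by
    have hnm' : n + 1 = m := hnm
    refine ModuleCat.hom_ext (LinearMap.ext (fun s => ?_))
    show δ n m (curCochain φ n s) = curCochain φ m ((K.d n m).hom s)
    refine cochain_ext_elem _ _ (fun p q hpq x => ?_)
    rw [evc_curCochain]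
    unfold evc
    rw [δ_v n m hnm' _ p q hpq (p + n) (p + 1) (by omega) rfl]
    show (L.d (p + n) q).hom (val φ n p (p + n) (by omega) s x) +
      m.negOnePow • val φ n (p + 1) q (by omega) s ((P.d p (p + 1)).hom x) = _
    have hs : m.negOnePow = -n.negOnePow := by rw [← hnm', Int.negOnePow_succ]
    rw [d_val φ n p (p + n) q m (p + 1) (by omega) (by omega) hnm' rfl s x, hs,
      Units.neg_smul, add_neg_cancel_right]


lemma cur_f_apply {K P L : DRing.Cx A} (φ : K ⊗ P ⟶ L) (n : ℤ) (s : K.X n) (p q : ℤ)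
    (h : p + n = q) (x : P.X p) :
    evc (P := P) (L := L) (n := n) (((cur φ).f n).hom s) p q h x =
      val φ n p q (by omega) s x := rfl

/-! ### uncurrying -/

/-- an element of `Hom•(P, L)^n` as a cochain (the identity function). -/
def toC {P L : DRing.Cx A} {n : ℤ} (z : (DRing.homCx P L).X n) : Cochain P L n := z

lemma evc_δ {P L : DRing.Cx A} {n m : ℤ} (hnm : n + 1 = m) (z : Cochain P L n) (p q q₁ p' : ℤ)
    (hpq : p + m = q) (hq₁ : p + n = q₁) (hp' : p + 1 = p') (x : P.X p) :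
    evc (δ n m z) p q hpq x =
      (L.d q₁ q).hom (evc z p q₁ hq₁ x) +
        m.negOnePow • evc z p' q (by omega) ((P.d p p').hom x) := by
  unfold evc
  rw [δ_v n m hnm _ p q hpq q₁ p' (by omega) hp']
  rfl

/-- the value `ψ(s)(x)` -/
noncomputable def uval {K P L : DRing.Cx A} (ψ : K ⟶ DRing.homCx P L) (n p q : ℤ) (h : n + p = q)
    (s : K.X n) (x : P.X p) : L.X q :=
  evc (toC ((ψ.f n).hom s)) p q (by omega) x

/-- `s ⊗ x ↦ ψ(s)(x)` on the summand `K^n ⊗ P^p`. -/
noncomputable def uncComp {K P L : DRing.Cx A} (ψ : K ⟶ DRing.homCx P L) (n p q : ℤ)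
    (h : n + p = q) : K.X n ⊗ P.X p ⟶ L.X q :=
  ModuleCat.MonoidalCategory.tensorLift (fun s x => uval ψ n p q h s x)
    (fun s s' x => by unfold uval; rw [map_add]; rfl)
    (fun a s x => by unfold uval; rw [map_smul]; rfl)
    (fun s x x' => by unfold uval evc; rw [map_add])
    (fun a s x => by unfold uval evc; rw [map_smul])

lemma uncComp_tmul {K P L : DRing.Cx A} (ψ : K ⟶ DRing.homCx P L) (n p q : ℤ)
    (h : n + p = q) (s : K.X n) (x : P.X p) :
    (uncComp ψ n p q h).hom (s ⊗ₜ[A] x) = uval ψ n p q h s x := rfl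

/-- the chain map property of `ψ`, on elements. -/
lemma d_uval {K P L : DRing.Cx A} (ψ : K ⟶ DRing.homCx P L) (n p q₁ q n' p' : ℤ) (h : n + p = q₁)
    (hq : q₁ + 1 = q) (hn : n + 1 = n') (hp : p + 1 = p') (s : K.X n) (x : P.X p) :
    (L.d q₁ q).hom (uval ψ n p q₁ h s x) =
      uval ψ n' p q (by omega) ((K.d n n').hom s) x +
        n.negOnePow • uval ψ n p' q (by omega) s ((P.d p p').hom x) := by
  have h1 : toC ((ψ.f n').hom ((K.d n n').hom s)) = δ n n' (toC ((ψ.f n).hom s)) :=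
    (congrArg (fun g => g.hom s) (ψ.comm n n')).symm
  unfold uval
  rw [h1, evc_δ hn _ p q q₁ p' (by omega) (by omega) hp x]
  have hs : n'.negOnePow = -n.negOnePow := by rw [← hn, Int.negOnePow_succ]
  rw [hs, Units.neg_smul, neg_add_cancel_right]


/-- the degree `m` component of the uncurried map. -/
noncomputable def uncF {K P L : DRing.Cx A} (ψ : K ⟶ DRing.homCx P L) (m : ℤ) :
    (K ⊗ P).X m ⟶ L.X m :=
  mapBifunctorDesc (K₁ := K) (K₂ := P) (F := curriedTensor (ModuleCat.{u} A))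
    (c := ComplexShape.up ℤ) (fun p q hpq => uncComp ψ p q m hpq)

@[reassoc]
lemma ι_uncF {K P L : DRing.Cx A} (ψ : K ⟶ DRing.homCx P L) (p q m : ℤ) (h : p + q = m) :
    ιTensorObj K P p q m h ≫ uncF ψ m = uncComp ψ p q m h :=
  ι_mapBifunctorDesc (K₁ := K) (K₂ := P) (F := curriedTensor (ModuleCat.{u} A))
    (c := ComplexShape.up ℤ) _ p q h

/-- uncurrying: `K ⟶ Hom•(P, L)` gives `K ⊗ P ⟶ L`. -/
noncomputable def unc {K P L : DRing.Cx A} (ψ : K ⟶ DRing.homCx P L) : K ⊗ P ⟶ L where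
  f m := uncF ψ m
  comm' m m' hmm' := by
    have hmm'' : m + 1 = m' := hmm'
    apply tensor_hom_ext
    intro p q hpq
    rw [ι_uncF_assoc, ι_d_assoc P p q m m' (p + 1) (q + 1) hpq hmm'' rfl rfl, Preadditive.add_comp,
      Category.assoc, Linear.units_smul_comp, Category.assoc, ι_uncF, ι_uncF]
    refine ModuleCat.MonoidalCategory.tensor_ext (fun s x => ?_)
    exact d_uval ψ p q m m' (p + 1) (q + 1) hpq hmm'' rfl rfl s x

lemma val_unc {K P L : DRing.Cx A} (ψ : K ⟶ DRing.homCx P L) (n p q : ℤ) (h : n + p = q)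
    (s : K.X n) (x : P.X p) : val (unc ψ) n p q h s x = uval ψ n p q h s x := by
  unfold val comp₂
  show (ιTensorObj K P n p q h ≫ uncF ψ q).hom (s ⊗ₜ[A] x) = _
  rw [ι_uncF]
  rfl

lemma uval_cur {K P L : DRing.Cx A} (φ : K ⊗ P ⟶ L) (n p q : ℤ) (h : n + p = q)
    (s : K.X n) (x : P.X p) : uval (cur φ) n p q h s x = val φ n p q h s x := rfl

/-- extensionality for maps out of a tensor product of complexes, on elements. -/
lemma tensor_hom_ext_val {K P L : DRing.Cx A} (φ φ' : K ⊗ P ⟶ L)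
    (h : ∀ (n p q : ℤ) (hq : n + p = q) (s : K.X n) (x : P.X p),
      val φ n p q hq s x = val φ' n p q hq s x) : φ = φ' := by
  refine HomologicalComplex.hom_ext _ _ (fun q => ?_)
  apply tensor_hom_ext
  intro n p hq
  exact ModuleCat.MonoidalCategory.tensor_ext (fun s x => h n p q hq s x)

/-- extensionality for maps into a Hom complex, on elements. -/
lemma hom_ext_uval {K P L : DRing.Cx A} (ψ ψ' : K ⟶ DRing.homCx P L)
    (h : ∀ (n p q : ℤ) (hq : n + p = q) (s : K.X n) (x : P.X p),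
      uval ψ n p q hq s x = uval ψ' n p q hq s x) : ψ = ψ' := by
  refine HomologicalComplex.hom_ext _ _ (fun n => ?_)
  refine ModuleCat.hom_ext (LinearMap.ext (fun s => ?_))
  exact cochain_ext_elem (toC ((ψ.f n).hom s)) (toC ((ψ'.f n).hom s))
    (fun p q hpq x => h n p q (by omega) s x)

/-- The tensor–Hom bijection. -/
noncomputable def curEquiv (K P L : DRing.Cx A) : (K ⊗ P ⟶ L) ≃ (K ⟶ DRing.homCx P L) where
  toFun := cur
  invFun := unc
  left_inv φ := tensor_hom_ext_val _ _ (fun n p q hq s x => by rw [val_unc, uval_cur])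
  right_inv ψ := hom_ext_uval _ _ (fun n p q hq s x => by rw [uval_cur, val_unc])

lemma val_whiskerRight_comp {K K' P L : DRing.Cx A} (f : K ⟶ K') (φ : K' ⊗ P ⟶ L) (n p q : ℤ)
    (h : n + p = q) (s : K.X n) (x : P.X p) :
    val ((f ▷ P) ≫ φ) n p q h s x = val φ n p q h ((f.f n).hom s) x := by
  unfold val comp₂
  rw [HomologicalComplex.comp_f, ι_whiskerRight_assoc]
  rfl

lemma val_comp {K P L L' : DRing.Cx A} (φ : K ⊗ P ⟶ L) (g : L ⟶ L') (n p q : ℤ)
    (h : n + p = q) (s : K.X n) (x : P.X p) :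
    val (φ ≫ g) n p q h s x = (g.f q).hom (val φ n p q h s x) := by
  unfold val comp₂
  rw [HomologicalComplex.comp_f, ← Category.assoc]
  rfl

lemma uval_comp_left {K K' P L : DRing.Cx A} (f : K ⟶ K') (ψ : K' ⟶ DRing.homCx P L) (n p q : ℤ)
    (h : n + p = q) (s : K.X n) (x : P.X p) :
    uval (f ≫ ψ) n p q h s x = uval ψ n p q h ((f.f n).hom s) x := rfl

lemma uval_comp_homCxMap {K P L L' : DRing.Cx A} (ψ : K ⟶ DRing.homCx P L) (g : L ⟶ L')
    (n p q : ℤ) (h : n + p = q) (s : K.X n) (x : P.X p) :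
    uval (ψ ≫ DRing.homCxMap P g) n p q h s x = (g.f q).hom (uval ψ n p q h s x) := by
  unfold uval evc
  show ((Cochain.comp (toC ((ψ.f n).hom s)) (Cochain.ofHom g) (add_zero n)).v p q _).hom x = _
  rw [Cochain.comp_zero_cochain_v, Cochain.ofHom_v]
  rfl

lemma unc_comp_left {K K' P L : DRing.Cx A} (f : K' ⟶ K) (ψ : K ⟶ DRing.homCx P L) :
    unc (f ≫ ψ) = (f ▷ P) ≫ unc ψ := by
  refine tensor_hom_ext_val _ _ (fun n p q hq s x => ?_)
  rw [val_unc, val_whiskerRight_comp, val_unc, uval_comp_left]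

lemma cur_comp_right {K P L L' : DRing.Cx A} (φ : K ⊗ P ⟶ L) (g : L ⟶ L') :
    cur (φ ≫ g) = cur φ ≫ DRing.homCxMap P g := by
  refine hom_ext_uval _ _ (fun n p q hq s x => ?_)
  rw [uval_cur, val_comp, uval_comp_homCxMap, uval_cur]

/-- The tensor–Hom adjunction `- ⊗ P ⊣ Hom•(P, -)` on cochain complexes of modules. -/
noncomputable def tensorHomAdj (P : DRing.Cx A) :
    tensorRight P ⊣ DRing.homCxFunctor P :=
  Adjunction.mkOfHomEquiv
    { homEquiv := fun K L => curEquiv K P L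
      homEquiv_naturality_left_symm := fun {K' K L} f ψ => unc_comp_left f ψ
      homEquiv_naturality_right := fun {K L L'} φ g => cur_comp_right φ g }

lemma tensorHomAdj_homEquiv {K P L : DRing.Cx A} (φ : K ⊗ P ⟶ L) :
    (tensorHomAdj P).homEquiv K L φ = cur φ := by
  unfold tensorHomAdj
  rw [Adjunction.mkOfHomEquiv_homEquiv]
  rfl

lemma tensorHomAdj_homEquiv_symm {K P L : DRing.Cx A} (ψ : K ⟶ DRing.homCx P L) :
    ((tensorHomAdj P).homEquiv K L).symm ψ = unc ψ := by
  unfold tensorHomAdj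
  rw [Adjunction.mkOfHomEquiv_homEquiv]
  rfl


/-! ### Contravariant functoriality of the Hom complex -/

/-- precomposition with `f` as a linear map on cochains -/
noncomputable def precompLin {P' P : DRing.Cx A} (f : P' ⟶ P) (L : DRing.Cx A) (i : ℤ) :
    Cochain P L i →ₗ[A] Cochain P' L i where
  toFun z := (Cochain.ofHom f).comp z (zero_add i)
  map_add' z z' := by simp
  map_smul' a z := by simp

/-- Functoriality of `Hom•(-, L)` in the first variable. -/
noncomputable def homCxPre {P' P : DRing.Cx A} (f : P' ⟶ P) (L : DRing.Cx A) :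
    DRing.homCx P L ⟶ DRing.homCx P' L where
  f i := ModuleCat.ofHom (precompLin f L i)
  comm' i j _ := by
    ext z
    change δ i j ((Cochain.ofHom f).comp z (zero_add i)) =
      (Cochain.ofHom f).comp (δ i j z) (zero_add j)
    exact δ_ofHom_comp f z j

lemma uval_comp {K K' P L : DRing.Cx A} (χ : K ⟶ K') (ψ : K' ⟶ DRing.homCx P L) (n p q : ℤ)
    (h : n + p = q) (s : K.X n) (x : P.X p) :
    uval (χ ≫ ψ) n p q h s x = uval ψ n p q h ((χ.f n).hom s) x := rfl

lemma uval_homCxPre {P' P : DRing.Cx A} (f : P' ⟶ P) (L : DRing.Cx A) (n p q : ℤ)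
    (h : n + p = q) (z : (DRing.homCx P L).X n) (x : P'.X p) :
    uval (homCxPre f L) n p q h z x = evc (toC z) p q (by omega) ((f.f p).hom x) := by
  unfold uval evc
  show ((Cochain.comp (Cochain.ofHom f) (toC z) (zero_add n)).v p q _).hom x = _
  rw [Cochain.zero_cochain_comp_v, Cochain.ofHom_v]
  rfl

lemma uval_homCxMap (P : DRing.Cx A) {L L' : DRing.Cx A} (g : L ⟶ L') (n p q : ℤ)
    (h : n + p = q) (z : (DRing.homCx P L).X n) (x : P.X p) :
    uval (DRing.homCxMap P g) n p q h z x = (g.f q).hom (evc (toC z) p q (by omega) x) := by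
  unfold uval evc
  show ((Cochain.comp (toC z) (Cochain.ofHom g) (add_zero n)).v p q _).hom x = _
  rw [Cochain.comp_zero_cochain_v, Cochain.ofHom_v]
  rfl

lemma uval_id {P L : DRing.Cx A} (n p q : ℤ) (h : n + p = q) (z : (DRing.homCx P L).X n)
    (x : P.X p) : uval (𝟙 (DRing.homCx P L)) n p q h z x = evc (toC z) p q (by omega) x := rfl

/-- `Hom•(f, -)` as a natural transformation. -/
noncomputable def homCxPreNat {P' P : DRing.Cx A} (f : P' ⟶ P) :
    DRing.homCxFunctor P ⟶ DRing.homCxFunctor P' where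
  app L := homCxPre f L
  naturality L L' g := by
    show DRing.homCxMap P g ≫ homCxPre f L' = homCxPre f L ≫ DRing.homCxMap P' g
    refine hom_ext_uval _ _ (fun n p q hq z x => ?_)
    rw [uval_comp, uval_homCxPre, uval_comp, uval_homCxMap]
    exact (uval_homCxMap P g n p q hq z ((f.f p).hom x)).trans
      (congrArg (g.f q).hom (uval_homCxPre f L n p q hq z x).symm)


@[reassoc]
lemma ι_whiskerLeft (K : DRing.Cx A) {P' P : DRing.Cx A} (f : P' ⟶ P) (n p q : ℤ) (h : n + p = q) :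
    ιTensorObj K P' n p q h ≫ (K ◁ f).f q = (K.X n ◁ f.f p) ≫ ιTensorObj K P n p q h :=
  (ι_mapBifunctorMap (𝟙 K) f (curriedTensor (ModuleCat.{u} A)) (ComplexShape.up ℤ) n p q h).trans
    (by simp)

lemma val_whiskerLeft_comp {K P' P L : DRing.Cx A} (f : P' ⟶ P) (φ : K ⊗ P ⟶ L) (n p q : ℤ)
    (h : n + p = q) (s : K.X n) (x : P'.X p) :
    val ((K ◁ f) ≫ φ) n p q h s x = val φ n p q h s ((f.f p).hom x) := by
  unfold val comp₂
  rw [HomologicalComplex.comp_f, ι_whiskerLeft_assoc]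
  rfl

/-- `Hom•(f, -)` is the conjugate of `- ◁ f`. -/
lemma conjugateEquiv_tensoringRight_map {P' P : DRing.Cx A} (f : P' ⟶ P) :
    conjugateEquiv (tensorHomAdj P) (tensorHomAdj P') ((tensoringRight (DRing.Cx A)).map f) =
      homCxPreNat f := by
  ext L : 2
  rw [conjugateEquiv_apply_app, ← Functor.map_comp, ← Adjunction.homEquiv_unit,
    ← Adjunction.homEquiv_symm_id]
  show (tensorHomAdj P').homEquiv _ _ ((DRing.homCx P L ◁ f) ≫
    ((tensorHomAdj P).homEquiv _ _).symm (𝟙 (DRing.homCx P L))) = homCxPre f L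
  rw [tensorHomAdj_homEquiv_symm, tensorHomAdj_homEquiv]
  refine hom_ext_uval _ _ (fun n p q hq z x => ?_)
  rw [uval_cur, val_whiskerLeft_comp, val_unc, uval_id, uval_homCxPre]

/-! ### Exactness of `Hom•(-, M)` on degreewise split short exact sequences -/

lemma homCxPre_comp {P'' P' P : DRing.Cx A} (f : P'' ⟶ P') (g : P' ⟶ P) (L : DRing.Cx A) :
    homCxPre (f ≫ g) L = homCxPre g L ≫ homCxPre f L := by
  refine hom_ext_uval _ _ (fun n p q hq z x => ?_)
  rw [uval_homCxPre, uval_comp, uval_homCxPre]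
  exact (uval_homCxPre g L n p q hq z ((f.f p).hom x)).symm

lemma homCxPre_zero {P' P : DRing.Cx A} (L : DRing.Cx A) :
    homCxPre (0 : P' ⟶ P) L = 0 := by
  refine hom_ext_uval _ _ (fun n p q hq z x => ?_)
  rw [uval_homCxPre]
  show evc (toC z) p q _ 0 = 0
  unfold evc
  rw [map_zero]

/-- the short complex `Hom•(S.X₃, M) ⟶ Hom•(S.X₂, M) ⟶ Hom•(S.X₁, M)`. -/
noncomputable def homSC (S : ShortComplex (DRing.Cx A)) (M : DRing.Cx A) :
    ShortComplex (DRing.Cx A) :=
  ShortComplex.mk (homCxPre S.g M) (homCxPre S.f M)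
    (by rw [← homCxPre_comp, S.zero, homCxPre_zero])

lemma homCxPre_f_apply {P' P : DRing.Cx A} (f : P' ⟶ P) (L : DRing.Cx A) (n : ℤ)
    (z : Cochain P L n) :
    toC (((homCxPre f L).f n).hom z) = (Cochain.ofHom f).comp z (zero_add n) := rfl

theorem shortExact_homSC (S : ShortComplex (DRing.Cx A))
    (σ : ∀ n : ℤ, (S.map (HomologicalComplex.eval (ModuleCat.{u} A)
      (ComplexShape.up ℤ) n)).Splitting) (M : DRing.Cx A) : (homSC S M).ShortExact := by
  obtain ⟨r, s, fr, sg, hid⟩ : ∃ (r : ∀ p, S.X₂.X p ⟶ S.X₁.X p) (s : ∀ p, S.X₃.X p ⟶ S.X₂.X p),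
      (∀ p, S.f.f p ≫ r p = 𝟙 (S.X₁.X p)) ∧ (∀ p, s p ≫ S.g.f p = 𝟙 (S.X₃.X p)) ∧
      (∀ p, r p ≫ S.f.f p + S.g.f p ≫ s p = 𝟙 (S.X₂.X p)) :=
    ⟨fun p => (σ p).r, fun p => (σ p).s, fun p => (σ p).f_r, fun p => (σ p).s_g,
      fun p => (σ p).id⟩
  rw [HomologicalComplex.shortExact_iff_degreewise_shortExact]
  intro n
  have hmono : Mono ((homSC S M).map (HomologicalComplex.eval (ModuleCat.{u} A)
      (ComplexShape.up ℤ) n)).f := by
    rw [ModuleCat.mono_iff_injective]
    intro (z : Cochain S.X₃ M n) (z' : Cochain S.X₃ M n) hz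
    have hz' : (Cochain.ofHom S.g).comp z (zero_add n) = (Cochain.ofHom S.g).comp z' (zero_add n) :=
      hz
    refine Cochain.ext _ _ (fun p q hpq => ?_)
    have h1 := Cochain.congr_v hz' p q hpq
    rw [Cochain.zero_cochain_comp_v, Cochain.zero_cochain_comp_v, Cochain.ofHom_v] at h1
    have h2 : s p ≫ S.g.f p ≫ z.v p q hpq = s p ≫ S.g.f p ≫ z'.v p q hpq := by rw [h1]
    rwa [← Category.assoc, ← Category.assoc, sg, Category.id_comp, Category.id_comp] at h2
  have hepi : Epi ((homSC S M).map (HomologicalComplex.eval (ModuleCat.{u} A)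
      (ComplexShape.up ℤ) n)).g := by
    rw [ModuleCat.epi_iff_surjective]
    intro (w : Cochain S.X₁ M n)
    refine ⟨(Cochain.mk (fun p q hpq => r p ≫ w.v p q hpq) : Cochain S.X₂ M n), ?_⟩
    show (Cochain.ofHom S.f).comp (Cochain.mk (fun p q hpq => r p ≫ w.v p q hpq))
      (zero_add n) = w
    refine Cochain.ext _ _ (fun p q hpq => ?_)
    rw [Cochain.zero_cochain_comp_v, Cochain.ofHom_v, Cochain.mk_v, ← Category.assoc, fr,
      Category.id_comp]
  have hex : ((homSC S M).map (HomologicalComplex.eval (ModuleCat.{u} A)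
      (ComplexShape.up ℤ) n)).Exact := by
    rw [ShortComplex.moduleCat_exact_iff]
    intro (z : Cochain S.X₂ M n) hz
    have hz' : (Cochain.ofHom S.f).comp z (zero_add n) = 0 := hz
    refine ⟨(Cochain.mk (fun p q hpq => s p ≫ z.v p q hpq) : Cochain S.X₃ M n), ?_⟩
    show (Cochain.ofHom S.g).comp (Cochain.mk (fun p q hpq => s p ≫ z.v p q hpq))
      (zero_add n) = z
    refine Cochain.ext _ _ (fun p q hpq => ?_)
    have h1 := Cochain.congr_v hz' p q hpq
    rw [Cochain.zero_cochain_comp_v, Cochain.ofHom_v, Cochain.zero_v] at h1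
    rw [Cochain.zero_cochain_comp_v, Cochain.ofHom_v, Cochain.mk_v, ← Category.assoc]
    have h2 : S.g.f p ≫ s p = 𝟙 _ - r p ≫ S.f.f p := by
      rw [← hid p, add_sub_cancel_left]
    rw [h2, Preadditive.sub_comp, Category.id_comp, Category.assoc, h1, comp_zero, sub_zero]
  exact ShortComplex.ShortExact.mk' hex hmono hepi

end Groth.Agent.H33.TensorHom
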