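import Mathlib.CategoryTheory.Triangulated.Pretriangulated

set_option autoImplicit false
universe v u
open CategoryTheory CategoryTheory.Limits CategoryTheory.Pretriangulated

namespace Groth.Agent.H33

variable {D : Type u} [Category.{v} D] [Preadditive D] [HasZeroObject D] [HasShift D ℤ]
    [∀ n : ℤ, (shiftFunctor D n).Additive] [Pretriangulated D]

set_option backward.defeqAttrib.useBackward true in
set_option backward.isDefEq.respectTransparency false in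
/-- five lemma variant: comparison from a Hom-exact triangle to a distinguished one -/
lemma isIso_of_exact {X Y Z Q : D} (f : X ⟶ Y) (g : Y ⟶ Z) (h : Z ⟶ X⟦(1 : ℤ)⟧)
    (g₂ : Y ⟶ Q) (h₂ : Q ⟶ X⟦(1 : ℤ)⟧)
    (hT₂ : Triangle.mk f g₂ h₂ ∈ distTriang D) (c : Z ⟶ Q) (hc₁ : g ≫ c = g₂) (hc₂ : c ≫ h₂ = h)
    (z12 : f ≫ g = 0)
    (e3 : ∀ {A : D} (x : A ⟶ Z), x ≫ h = 0 → ∃ y : A ⟶ Y, x = y ≫ g)
    (e1 : ∀ {A : D} (x : A ⟶ X⟦(1 : ℤ)⟧), x ≫ f⟦(1 : ℤ)⟧' = 0 → ∃ y : A ⟶ Z, x = y ≫ h) :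
    IsIso c := by
  refine isIso_of_yoneda_map_bijective _ (fun A => ⟨?_, ?_⟩)
  · suffices Mono c by
      intro a₁ a₂ ha
      exact (cancel_mono c).1 ha
    rw [Preadditive.mono_iff_cancel_zero]
    intro A x hx
    have hx' : x ≫ h = 0 := by rw [← hc₂, ← Category.assoc, hx, zero_comp]
    obtain ⟨y, hy⟩ := e3 x hx'
    have hy' : y ≫ g₂ = 0 := by rw [← hc₁, ← Category.assoc, ← hy, hx]
    obtain ⟨z, hz⟩ := Triangle.coyoneda_exact₂ _ hT₂ y hy'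
    change y = z ≫ f at hz
    rw [hy, hz, Category.assoc, z12, comp_zero]
  · intro a
    have h0 : h₂ ≫ f⟦(1 : ℤ)⟧' = 0 := comp_distTriang_mor_zero₃₁ _ hT₂
    have h1 : (a ≫ h₂) ≫ f⟦(1 : ℤ)⟧' = 0 := by
      rw [Category.assoc, h0, comp_zero]
    obtain ⟨a', ha'⟩ := e1 (a ≫ h₂) h1
    have h2 : (a - a' ≫ c) ≫ h₂ = 0 := by
      rw [Preadditive.sub_comp, Category.assoc, hc₂, ← ha', sub_self]
    obtain ⟨b, hb⟩ := Triangle.coyoneda_exact₃ _ hT₂ (a - a' ≫ c) h2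
    change a - a' ≫ c = b ≫ g₂ at hb
    refine ⟨a' + b ≫ g, ?_⟩
    change (a' + b ≫ g) ≫ c = a
    rw [Preadditive.add_comp, Category.assoc, hc₁, ← hb]
    abel

set_option backward.defeqAttrib.useBackward true in
set_option backward.isDefEq.respectTransparency false in
/-- a triangle which is Hom-exact and admits a comparison to a distinguished triangle on the
same first map is distinguished -/
lemma distinguished_of_exact {X Y Z Q : D} (f : X ⟶ Y) (g : Y ⟶ Z) (h : Z ⟶ X⟦(1 : ℤ)⟧)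
    (g₂ : Y ⟶ Q) (h₂ : Q ⟶ X⟦(1 : ℤ)⟧)
    (hT₂ : Triangle.mk f g₂ h₂ ∈ distTriang D) (c : Z ⟶ Q) (hc₁ : g ≫ c = g₂) (hc₂ : c ≫ h₂ = h)
    (z12 : f ≫ g = 0)
    (e3 : ∀ {A : D} (x : A ⟶ Z), x ≫ h = 0 → ∃ y : A ⟶ Y, x = y ≫ g)
    (e1 : ∀ {A : D} (x : A ⟶ X⟦(1 : ℤ)⟧), x ≫ f⟦(1 : ℤ)⟧' = 0 → ∃ y : A ⟶ Z, x = y ≫ h) :
    Triangle.mk f g h ∈ distTriang D := by
  have : IsIso c := isIso_of_exact f g h g₂ h₂ hT₂ c hc₁ hc₂ z12 e3 e1
  refine isomorphic_distinguished _ hT₂ _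
    (Triangle.isoMk _ _ (Iso.refl _) (Iso.refl _) (asIso c) ?_ ?_ ?_)
  · simp
  · simp [hc₁]
  · simp [hc₂]

set_option backward.defeqAttrib.useBackward true in
set_option backward.isDefEq.respectTransparency false in
/-- a retract of a distinguished triangle is distinguished -/
lemma distinguished_of_retract (T S : Triangle D) (hS : S ∈ distTriang D)
    (i : T ⟶ S) (p : S ⟶ T) (h₁ : i.hom₁ ≫ p.hom₁ = 𝟙 _) (h₂ : i.hom₂ ≫ p.hom₂ = 𝟙 _)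
    (h₃ : i.hom₃ ≫ p.hom₃ = 𝟙 _) : T ∈ distTriang D := by
  obtain ⟨Q, g₂, k₂, hT₂⟩ := distinguished_cocone_triangle T.mor₁
  obtain ⟨c', hc', hc''⟩ := complete_distinguished_triangle_morphism S _ hS hT₂ p.hom₁ p.hom₂
    p.comm₁
  change S.mor₂ ≫ c' = p.hom₂ ≫ g₂ at hc'
  change S.mor₃ ≫ p.hom₁⟦(1 : ℤ)⟧' = c' ≫ k₂ at hc''
  have h₁' : i.hom₁⟦(1 : ℤ)⟧' ≫ p.hom₁⟦(1 : ℤ)⟧' = 𝟙 _ := by
    rw [← Functor.map_comp, h₁, CategoryTheory.Functor.map_id]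
  refine distinguished_of_exact T.mor₁ T.mor₂ T.mor₃ g₂ k₂ hT₂ (i.hom₃ ≫ c') ?_ ?_ ?_ ?_ ?_
  · rw [← Category.assoc, i.comm₂, Category.assoc, hc', ← Category.assoc, h₂, Category.id_comp]
  · rw [Category.assoc, ← hc'', ← Category.assoc, ← i.comm₃, Category.assoc, h₁', Category.comp_id]
  · have : T.mor₁ ≫ T.mor₂ = T.mor₁ ≫ T.mor₂ ≫ i.hom₃ ≫ p.hom₃ := by
      rw [h₃, Category.comp_id]
    rw [this, ← Category.assoc T.mor₂, i.comm₂, Category.assoc, ← Category.assoc T.mor₁,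
      i.comm₁, Category.assoc, ← Category.assoc S.mor₁, comp_distTriang_mor_zero₁₂ _ hS,
      zero_comp, comp_zero]
  · intro A x hx
    have hx' : (x ≫ i.hom₃) ≫ S.mor₃ = 0 := by
      rw [Category.assoc, ← i.comm₃, ← Category.assoc, hx, zero_comp]
    obtain ⟨y, hy⟩ := Triangle.coyoneda_exact₃ _ hS _ hx'
    refine ⟨y ≫ p.hom₂, ?_⟩
    have : x = (x ≫ i.hom₃) ≫ p.hom₃ := by rw [Category.assoc, h₃, Category.comp_id]
    rw [this, hy, Category.assoc, Category.assoc, p.comm₂]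
  · intro A x hx
    have hx' : (x ≫ i.hom₁⟦(1 : ℤ)⟧') ≫ S.mor₁⟦(1 : ℤ)⟧' = 0 := by
      rw [Category.assoc, ← Functor.map_comp, ← i.comm₁, Functor.map_comp, ← Category.assoc, hx,
        zero_comp]
    obtain ⟨y, hy⟩ := Triangle.coyoneda_exact₁ _ hS _ hx'
    refine ⟨y ≫ p.hom₃, ?_⟩
    have : x = (x ≫ i.hom₁⟦(1 : ℤ)⟧') ≫ p.hom₁⟦(1 : ℤ)⟧' := by
      rw [Category.assoc, h₁', Category.comp_id]
    rw [this, hy, Category.assoc, Category.assoc, p.comm₃]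

end Groth.Agent.H33
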