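import Mathlib
import Groth.Agent.H33.PTower

/-! Stable isomorphism of quasi-isomorphic bounded above complexes of projectives (helper33). -/

set_option autoImplicit false
universe v u

namespace Groth.Agent.H33.TrivCx

open CategoryTheory CategoryTheory.Limits HomologicalComplex

variable {A : Type u} [Category.{v} A] [Abelian A]

/-- the cokernel of a quasi-isomorphic monomorphism is acyclic -/
lemma acyclic_X₃_of_quasiIso {S : ShortComplex (CochainComplex A ℤ)} (hS : S.ShortExact)
    (h : QuasiIso S.f) : S.X₃.Acyclic := by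
  intro i
  rw [HomologicalComplex.exactAt_iff_isZero_homology]
  have hδ : hS.δ i (i + 1) (by simp) = 0 := by
    have : Mono (HomologicalComplex.homologyMap S.f (i + 1)) := inferInstance
    rw [← cancel_mono (HomologicalComplex.homologyMap S.f (i + 1)), zero_comp]
    exact hS.δ_comp _ _ _
  have ex3 := hS.homology_exact₃ i (i + 1) (by simp)
  have hepi : Epi (HomologicalComplex.homologyMap S.g i) := ex3.epi_f hδ
  have hzero : HomologicalComplex.homologyMap S.g i = 0 := by
    have : Epi (HomologicalComplex.homologyMap S.f i) := inferInstance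
    rw [← cancel_epi (HomologicalComplex.homologyMap S.f i), comp_zero,
      ← HomologicalComplex.homologyMap_comp, S.zero, HomologicalComplex.homologyMap_zero]
  rw [IsZero.iff_id_eq_zero, ← cancel_epi (HomologicalComplex.homologyMap S.g i), hzero,
    zero_comp, zero_comp]

section Section

variable {X C : CochainComplex A ℤ} (p : X ⟶ C) (σ : ∀ i, C.X i ⟶ X.X i) (h : Homotopy (𝟙 C) 0)

lemma sec_aux (k i : ℤ) (hk : k + 1 = i) :
    h.hom i (i - 1) ≫ σ (i - 1) ≫ X.d (i - 1) i = h.hom i k ≫ σ k ≫ X.d k i := by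
  obtain rfl : k = i - 1 := by omega
  rfl

/-- a chain-level section of a degreewise split epimorphism onto a contractible complex -/
noncomputable def sec : C ⟶ X where
  f i := h.hom i (i - 1) ≫ σ (i - 1) ≫ X.d (i - 1) i + C.d i (i + 1) ≫ h.hom (i + 1) i ≫ σ i
  comm' := by
    rintro i j (rfl : i + 1 = j)
    rw [sec_aux σ h i (i + 1) rfl]
    simp only [Preadditive.add_comp, Preadditive.comp_add, Category.assoc,
      HomologicalComplex.d_comp_d, comp_zero, zero_add, HomologicalComplex.d_comp_d_assoc,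
      zero_comp, add_zero]

include p in
lemma sec_comp (hσ : ∀ i, σ i ≫ p.f i = 𝟙 _) : sec σ h ≫ p = 𝟙 C := by
  ext i
  have hc := h.comm i
  rw [dNext_eq h.hom (show (ComplexShape.up ℤ).Rel i (i + 1) from rfl),
    prevD_eq h.hom (show (ComplexShape.up ℤ).Rel (i - 1) i by simp),
    HomologicalComplex.zero_f, add_zero] at hc
  rw [HomologicalComplex.comp_f, hc]
  dsimp only [sec]
  rw [Preadditive.add_comp]
  simp only [Category.assoc]
  rw [← p.comm (i - 1) i, ← Category.assoc (σ (i - 1)), hσ (i - 1), Category.id_comp, hσ i,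
    Category.comp_id, add_comm]

end Section

/-- the canonical contractible complex containing `M` -/
noncomputable abbrev JM (M : CochainComplex A ℤ) : CochainComplex A ℤ :=
  UnbRes.JJ (fun i => M.X i)

lemma isStrictlyLE_JM (M : CochainComplex A ℤ) (b : ℤ) [M.IsStrictlyLE b] :
    (JM M).IsStrictlyLE b := by
  rw [CochainComplex.isStrictlyLE_iff]
  intro i hi
  exact PTower.isZero_biprod (M.isZero_of_isStrictlyLE b i hi)
    (M.isZero_of_isStrictlyLE b (i + 1) (by omega))

lemma projective_biprod_X (K L : CochainComplex A ℤ) (i : ℤ) [Projective (K.X i)]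
    [Projective (L.X i)] : Projective ((K ⊞ L).X i) := by
  refine Retract.projective (Y := K.X i ⊞ L.X i)
    { i := biprod.lift ((biprod.fst : K ⊞ L ⟶ K).f i) ((biprod.snd : K ⊞ L ⟶ L).f i)
      r := biprod.desc ((biprod.inl : K ⟶ K ⊞ L).f i) ((biprod.inr : L ⟶ K ⊞ L).f i)
      retract := ?_ }
  rw [biprod.lift_desc, ← HomologicalComplex.comp_f, ← HomologicalComplex.comp_f,
    ← HomologicalComplex.add_f_apply, biprod.total, HomologicalComplex.id_f]

theorem exists_iso (M N : CochainComplex A ℤ) (b : ℤ) [M.IsStrictlyLE b] [N.IsStrictlyLE b]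
    (hM : ∀ i, Projective (M.X i)) (hN : ∀ i, Projective (N.X i)) (α : M ⟶ N) [QuasiIso α] :
    ∃ (C : CochainComplex A ℤ) (p : JM M ⊞ N ⟶ C) (s : C ⟶ JM M ⊞ N), s ≫ p = 𝟙 C ∧
      Nonempty (Homotopy (𝟙 C) 0) ∧ Nonempty (JM M ⊞ N ≅ M ⊞ C) := by
  have hD : (JM M).Acyclic := UnbRes.JJ_acyclic _
  have : (JM M).IsStrictlyLE b := isStrictlyLE_JM M b
  have : (JM M ⊞ N).IsStrictlyLE b := PTower.isStrictlyLE_biprod _ _ b
  have hDproj : ∀ i, Projective ((JM M).X i) := fun i =>
    show Projective (M.X i ⊞ M.X (i + 1)) from inferInstance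
  have hXproj : ∀ i, Projective ((JM M ⊞ N).X i) := fun i => projective_biprod_X _ _ i
  let j : M ⟶ JM M := UnbRes.toJJ M (fun i => M.X i) (fun i => 𝟙 _)
  have hjr : ∀ i, j.f i ≫ (biprod.fst : M.X i ⊞ M.X (i + 1) ⟶ M.X i) = 𝟙 _ :=
    fun i => biprod.lift_fst _ _
  have : Mono j := HomologicalComplex.mono_of_mono_f j (fun i => mono_of_mono_fac (hjr i))
  have : Mono (biprod.lift j α) := mono_of_mono_fac (biprod.lift_fst j α)
  have hB : (ShortComplex.mk (biprod.inl : JM M ⟶ JM M ⊞ N) biprod.snd (by simp)).ShortExact :=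
    (ShortComplex.Splitting.ofHasBinaryBiproduct (JM M) N).shortExact
  have hsnd : QuasiIso (biprod.snd : JM M ⊞ N ⟶ N) := LeftRes.quasiIso_g_of_acyclic hB hD
  have hu : QuasiIso (biprod.lift j α) := by
    have : QuasiIso (biprod.lift j α ≫ (biprod.snd : JM M ⊞ N ⟶ N)) := by
      rw [biprod.lift_snd]
      infer_instance
    exact quasiIso_of_comp_right (biprod.lift j α) (biprod.snd : JM M ⊞ N ⟶ N)
  have hS₀ : (ShortComplex.mk (biprod.lift j α) (cokernel.π (biprod.lift j α))
      (cokernel.condition _)).ShortExact :=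
    ShortComplex.ShortExact.mk' (ShortComplex.exact_of_g_is_cokernel _ (cokernelIsCokernel _))
      (by dsimp; infer_instance) (by dsimp; infer_instance)
  have hCac : (cokernel (biprod.lift j α)).Acyclic := acyclic_X₃_of_quasiIso hS₀ hu
  have hpf : ∀ i, Epi ((cokernel.π (biprod.lift j α)).f i) :=
    fun i => (UnbRes.termwise hS₀ i).epi_g
  have : (cokernel (biprod.lift j α)).IsStrictlyLE b :=
    PTower.isStrictlyLE_of_epi (cokernel.π (biprod.lift j α)) hpf b
  -- termwise splitting
  have hsplit : ∀ i, ∃ t : (cokernel (biprod.lift j α)).X i ⟶ (JM M ⊞ N).X i,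
      t ≫ (cokernel.π (biprod.lift j α)).f i = 𝟙 _ := by
    intro i
    have hT := UnbRes.termwise hS₀ i
    have hr : (biprod.lift j α).f i ≫ ((biprod.fst : JM M ⊞ N ⟶ JM M).f i ≫
        (biprod.fst : M.X i ⊞ M.X (i + 1) ⟶ M.X i)) = 𝟙 _ := by
      have h1 : (biprod.lift j α).f i ≫ (biprod.fst : JM M ⊞ N ⟶ JM M).f i = j.f i := by
        rw [← HomologicalComplex.comp_f, biprod.lift_fst]
      exact (Category.assoc _ _ _).symm.trans
        ((congrArg (· ≫ (biprod.fst : M.X i ⊞ M.X (i + 1) ⟶ M.X i)) h1).trans (hjr i))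
    let sp := ShortComplex.Splitting.ofExactOfRetraction _ hT.exact _ hr hT.epi_g
    exact ⟨sp.s, sp.s_g⟩
  have hCproj : ∀ i, Projective ((cokernel (biprod.lift j α)).X i) := by
    intro i
    obtain ⟨t, ht⟩ := hsplit i
    have := hXproj i
    exact Retract.projective (Y := (JM M ⊞ N).X i) { i := t, r := _, retract := ht }
  have : (cokernel (biprod.lift j α)).IsKProjective :=
    CochainComplex.isKProjective_of_projective _ b
  let h : Homotopy (𝟙 (cokernel (biprod.lift j α))) 0 :=
    CochainComplex.IsKProjective.homotopyZero _ hCac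
  choose σ hσ using hsplit
  have hs := sec_comp (cokernel.π (biprod.lift j α)) σ h hσ
  let sp := ShortComplex.Splitting.ofExactOfSection _ hS₀.exact (sec σ h) hs hS₀.mono_f
  exact ⟨cokernel (biprod.lift j α), cokernel.π _, sec σ h, hs, ⟨h⟩, ⟨sp.isoBinaryBiproduct⟩⟩

end Groth.Agent.H33.TrivCx
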