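import Mathlib
import Groth.Prelude.Def_DRing2
import Groth.Agent.H33.TrivCx
import Groth.Agent.H33.BrownD

/-! Quasi-isomorphic bounded complexes of finite projective modules are locally stably isomorphic
(helper33). -/

set_option autoImplicit false
universe u

namespace Groth.Agent.H33.TrivCxMod

open CategoryTheory CategoryTheory.Limits TensorProduct

attribute [local instance] HasDerivedCategory.standard

section extend

variable {A : Type u} [CommRing A] (B : Type u) [CommRing B] [Algebra A B]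

/-- `B` with the `A`-module structure through restriction of scalars. -/
abbrev B' : Type u := (ModuleCat.restrictScalars (algebraMap A B)).obj (ModuleCat.of B B)

instance : IsScalarTower A B (B' (A := A) B) where
  smul_assoc a b x := by
    show (a • b) • x = algebraMap A B a • (b • x)
    rw [Algebra.smul_def, mul_smul]

/-- The identity `B' ≃ B` as a `B`-linear equivalence. -/
noncomputable def B'equiv : B' (A := A) B ≃ₗ[B] B where
  toFun b := b
  invFun b := b
  map_add' _ _ := rfl
  map_smul' _ _ := rfl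
  left_inv _ := rfl
  right_inv _ := rfl

/-- Extension of scalars is the usual tensor product. -/
noncomputable def extendScalarsEquiv (M : ModuleCat.{u} A) :
    ((ModuleCat.extendScalars (algebraMap A B)).obj M) ≃ₗ[B] B ⊗[A] M :=
  TensorProduct.AlgebraTensorModule.congr (B'equiv (A := A) B) (LinearEquiv.refl A M)

instance extendScalars_additive :
    (ModuleCat.extendScalars (algebraMap A B) : ModuleCat.{u} A ⥤ ModuleCat.{u} B).Additive :=
  (ModuleCat.extendRestrictScalarsAdj (algebraMap A B)).left_adjoint_additive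

end extend

variable {R : Type u} [CommRing R]

/-- base change functor to `R_t` -/
noncomputable abbrev Fm (t : R) : ModuleCat.{u} R ⥤ ModuleCat.{u} (Localization.Away t) :=
  ModuleCat.extendScalars (algebraMap R (Localization.Away t))

/-- base change of a module to `R_t` -/
noncomputable abbrev Fobj (t : R) (V : ModuleCat.{u} R) : ModuleCat.{u} (Localization.Away t) :=
  (ModuleCat.extendScalars (algebraMap R (Localization.Away t))).obj V

/-- base change of a complex to `R_t` -/
noncomputable abbrev FC (t : R) : DRing.Cx R ⥤ DRing.Cx (Localization.Away t) :=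
  (ModuleCat.extendScalars (algebraMap R (Localization.Away t))).mapHomologicalComplex
    (ComplexShape.up ℤ)

theorem exists_free_away (p : Ideal R) [p.IsPrime] (V : ModuleCat.{u} R) [Module.Finite R V]
    [Module.Projective R V] :
    ∃ r : R, r ∉ p ∧ ∀ t : R, r ∣ t → Module.Free (Localization.Away t) (Fobj t V) := by
  have : Module.FinitePresentation R V := Module.finitePresentation_of_projective R V
  have : Module.Free (Localization.AtPrime p) (LocalizedModule p.primeCompl V) :=
    Module.free_of_flat_of_isLocalRing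
  obtain ⟨r, hr, hfree, -⟩ := Module.FinitePresentation.exists_free_localizedModule_powers
    p.primeCompl (LocalizedModule.mkLinearMap p.primeCompl V) (Localization.AtPrime p)
  refine ⟨r, hr, fun t ht => ?_⟩
  have hu : IsUnit (algebraMap R (Localization.Away t) r) := by
    obtain ⟨c, rfl⟩ := ht
    have := IsLocalization.Away.algebraMap_isUnit (S := Localization.Away (r * c)) (r * c)
    rw [map_mul] at this
    exact isUnit_of_mul_isUnit_left this
  letI : Algebra (Localization.Away r) (Localization.Away t) :=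
    (IsLocalization.Away.lift r hu).toAlgebra
  have : IsScalarTower R (Localization.Away r) (Localization.Away t) :=
    IsScalarTower.of_algebraMap_eq (fun x => by
      rw [RingHom.algebraMap_toAlgebra]
      exact (IsLocalization.Away.lift_eq r hu x).symm)
  have e1 := (IsLocalizedModule.isBaseChange (Submonoid.powers r) (Localization.Away r)
    (LocalizedModule.mkLinearMap (Submonoid.powers r) V)).equiv
  have : Module.Free (Localization.Away r) (Localization.Away r ⊗[R] V) :=
    Module.Free.of_equiv e1.symm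
  have e2 := TensorProduct.AlgebraTensorModule.cancelBaseChange R (Localization.Away r)
    (Localization.Away t) (Localization.Away t) V
  have : Module.Free (Localization.Away t) (Localization.Away t ⊗[R] V) := Module.Free.of_equiv e2
  exact Module.Free.of_equiv (extendScalarsEquiv (Localization.Away t) V).symm

theorem exists_free_away_family (p : Ideal R) [p.IsPrime] (V : ℤ → ModuleCat.{u} R)
    (hV : ∀ i, Module.Finite R (V i) ∧ Module.Projective R (V i)) (s : Finset ℤ)
    (hs : ∀ i, i ∉ s → IsZero (V i)) :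
    ∃ r : R, r ∉ p ∧ ∀ t : R, r ∣ t → ∀ i, Module.Free (Localization.Away t) (Fobj t (V i)) := by
  have key : ∀ s' : Finset ℤ, ∃ r : R, r ∉ p ∧ ∀ t : R, r ∣ t → ∀ i ∈ s',
      Module.Free (Localization.Away t) (Fobj t (V i)) := by
    intro s'
    induction s' using Finset.induction_on with
    | empty =>
      exact ⟨1, (Ideal.ne_top_iff_one p).1 (Ideal.IsPrime.ne_top ‹_›),
        fun t _ i hi => absurd hi (Finset.notMem_empty i)⟩
    | insert k s' hk ih =>
      obtain ⟨r₁, hr₁, h₁⟩ := ih
      have := (hV k).1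
      have := (hV k).2
      obtain ⟨r₂, hr₂, h₂⟩ := exists_free_away p (V k)
      refine ⟨r₁ * r₂, fun h => (Ideal.IsPrime.mem_or_mem ‹_› h).elim hr₁ hr₂,
        fun t ht i hi => ?_⟩
      rcases Finset.mem_insert.1 hi with rfl | hi'
      · exact h₂ t (dvd_of_mul_left_dvd ht)
      · exact h₁ t (dvd_of_mul_right_dvd ht) i hi'
  obtain ⟨r, hr, h⟩ := key s
  refine ⟨r, hr, fun t ht i => ?_⟩
  by_cases hi : i ∈ s
  · exact h t ht i hi
  · have hz : IsZero (Fobj t (V i)) :=
      (ModuleCat.extendScalars (algebraMap R (Localization.Away t))).map_isZero (hs i hi)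
    have : Subsingleton (Fobj t (V i)) := ModuleCat.subsingleton_of_isZero hz
    exact Module.Free.of_subsingleton _ _

lemma fp_of_retract {X Y : ModuleCat.{u} R} (i : X ⟶ Y) (r : Y ⟶ X) (h : i ≫ r = 𝟙 X)
    (hY : Module.Finite R Y ∧ Module.Projective R Y) :
    Module.Finite R X ∧ Module.Projective R X := by
  obtain ⟨h1, h2⟩ := hY
  have hri : r.hom ∘ₗ i.hom = LinearMap.id := by
    rw [← ModuleCat.hom_comp, h, ModuleCat.hom_id]
  exact ⟨Module.Finite.of_surjective r.hom (fun x => ⟨i.hom x, LinearMap.congr_fun hri x⟩),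
    Module.Projective.of_split i.hom r.hom hri⟩

lemma fp_biprod (X Y : ModuleCat.{u} R) (hX : Module.Finite R X ∧ Module.Projective R X)
    (hY : Module.Finite R Y ∧ Module.Projective R Y) :
    Module.Finite R ↑(X ⊞ Y) ∧ Module.Projective R ↑(X ⊞ Y) := by
  obtain ⟨_, _⟩ := hX
  obtain ⟨_, _⟩ := hY
  have e := (ModuleCat.biprodIsoProd X Y).toLinearEquiv
  exact ⟨Module.Finite.equiv e.symm, Module.Projective.of_equiv e.symm⟩

lemma fp_biprod_X (K L : DRing.Cx R) (i : ℤ)
    (hK : Module.Finite R (K.X i) ∧ Module.Projective R (K.X i))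
    (hL : Module.Finite R (L.X i) ∧ Module.Projective R (L.X i)) :
    Module.Finite R ↑((K ⊞ L).X i) ∧ Module.Projective R ↑((K ⊞ L).X i) := by
  refine fp_of_retract
    (biprod.lift ((biprod.fst : K ⊞ L ⟶ K).f i) ((biprod.snd : K ⊞ L ⟶ L).f i))
    (biprod.desc ((biprod.inl : K ⟶ K ⊞ L).f i) ((biprod.inr : L ⟶ K ⊞ L).f i)) ?_
    (fp_biprod _ _ hK hL)
  rw [biprod.lift_desc, ← HomologicalComplex.comp_f, ← HomologicalComplex.comp_f,
    ← HomologicalComplex.add_f_apply, biprod.total, HomologicalComplex.id_f]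

lemma isZero_biprod_X (K L : DRing.Cx R) (i : ℤ) (hK : IsZero (K.X i)) (hL : IsZero (L.X i)) :
    IsZero ((K ⊞ L).X i) := by
  rw [IsZero.iff_id_eq_zero, ← HomologicalComplex.id_f, ← biprod.total,
    HomologicalComplex.add_f_apply, HomologicalComplex.comp_f, HomologicalComplex.comp_f,
    hK.eq_of_tgt ((biprod.fst : K ⊞ L ⟶ K).f i) 0, hL.eq_of_tgt ((biprod.snd : K ⊞ L ⟶ L).f i) 0,
    zero_comp, zero_comp, add_zero]

theorem contractible_free (p : Ideal R) [p.IsPrime] (W : DRing.Cx R) (a b : ℤ)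
    (hb : DRing.VanishesOutside W a b) (hfp : DRing.TermwiseFiniteProjective W)
    (h : Homotopy (𝟙 W) 0) :
    ∃ r : R, r ∉ p ∧ ∀ t : R, r ∣ t → DRing.TermwiseFiniteFree ((FC t).obj W) ∧
      ∀ i : ℤ, Module.Free (Localization.Away t)
        (LinearMap.range (((FC t).obj W).d i (i + 1)).hom) := by
  let Bd : ℤ → ModuleCat.{u} R := fun i => ModuleCat.of R (LinearMap.range (W.d i (i + 1)).hom)
  let π : ∀ i, W.X i ⟶ Bd i := fun i => ModuleCat.ofHom (W.d i (i + 1)).hom.rangeRestrict
  let ι : ∀ i, Bd i ⟶ W.X (i + 1) := fun i =>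
    ModuleCat.ofHom (LinearMap.range (W.d i (i + 1)).hom).subtype
  have hπι : ∀ i, π i ≫ ι i = W.d i (i + 1) := fun i => rfl
  have hc : ∀ i, 𝟙 (W.X (i + 1)) = W.d (i + 1) (i + 1 + 1) ≫ h.hom (i + 1 + 1) (i + 1) +
      h.hom (i + 1) i ≫ W.d i (i + 1) := by
    intro i
    have hc := h.comm (i + 1)
    rw [dNext_eq h.hom (show (ComplexShape.up ℤ).Rel (i + 1) (i + 1 + 1) from rfl),
      prevD_eq h.hom (show (ComplexShape.up ℤ).Rel i (i + 1) from rfl),
      HomologicalComplex.zero_f, add_zero] at hc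
    exact hc
  have key : ∀ i (y : W.X i), (W.d i (i + 1)).hom ((h.hom (i + 1) i).hom
      ((W.d i (i + 1)).hom y)) = (W.d i (i + 1)).hom y := by
    intro i y
    have := congrArg (fun φ => φ.hom ((W.d i (i + 1)).hom y)) (hc i)
    simp only [ModuleCat.hom_id, LinearMap.id_coe, id_eq, ModuleCat.hom_add, ModuleCat.hom_comp,
      LinearMap.add_apply, LinearMap.comp_apply] at this
    have hdd : (W.d (i + 1) (i + 1 + 1)).hom ((W.d i (i + 1)).hom y) = 0 := by
      rw [← LinearMap.comp_apply, ← ModuleCat.hom_comp, W.d_comp_d]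
      rfl
    rw [hdd, map_zero, zero_add] at this
    exact this.symm
  -- `ι ≫ (h ≫ π) = 𝟙`
  have hιρ : ∀ i, ι i ≫ (h.hom (i + 1) i ≫ π i) = 𝟙 (Bd i) := by
    intro i
    ext ⟨x, y, rfl⟩
    exact key i y
  have hBfp : ∀ i, Module.Finite R (Bd i) ∧ Module.Projective R (Bd i) := fun i =>
    fp_of_retract (ι i) (h.hom (i + 1) i ≫ π i) (hιρ i) (hfp (i + 1))
  have hBz : ∀ i, i ∉ Finset.Icc (a - 1) b → IsZero (Bd i) := by
    intro i hi
    have hz : IsZero (W.X (i + 1)) := by
      apply hb
      rw [Finset.mem_Icc] at hi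
      omega
    have : Subsingleton (W.X (i + 1)) := ModuleCat.subsingleton_of_isZero hz
    have : Subsingleton (Bd i) :=
      ⟨fun x y => Subtype.ext (Subsingleton.elim (x : W.X (i + 1)) y)⟩
    exact ModuleCat.isZero_of_subsingleton _
  have hWz : ∀ i, i ∉ Finset.Icc a b → IsZero (W.X i) := by
    intro i hi
    apply hb
    rw [Finset.mem_Icc] at hi
    omega
  obtain ⟨r₁, hr₁, H₁⟩ := exists_free_away_family p (fun i => W.X i) hfp _ hWz
  obtain ⟨r₂, hr₂, H₂⟩ := exists_free_away_family p Bd hBfp _ hBz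
  refine ⟨r₁ * r₂, fun h => (Ideal.IsPrime.mem_or_mem ‹_› h).elim hr₁ hr₂, fun t ht => ⟨?_, ?_⟩⟩
  · intro i
    have := (hfp i).1
    exact ⟨Module.Finite.equiv (extendScalarsEquiv (Localization.Away t) (W.X i)).symm,
      H₁ t (dvd_of_mul_right_dvd ht) i⟩
  · intro i
    have hfree := H₂ t (dvd_of_mul_left_dvd ht) i
    have hd : ((FC t).obj W).d i (i + 1) = (Fm t).map (π i) ≫ (Fm t).map (ι i) := by
      rw [← (Fm t).map_comp, hπι]
      rfl
    have h1 : (Fm t).map (ι i ≫ h.hom (i + 1) i) ≫ (Fm t).map (π i) = 𝟙 _ := by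
      rw [← (Fm t).map_comp, Category.assoc, hιρ, (Fm t).map_id]
    have h2 : (Fm t).map (ι i) ≫ (Fm t).map (h.hom (i + 1) i ≫ π i) = 𝟙 _ := by
      rw [← (Fm t).map_comp, hιρ, (Fm t).map_id]
    have hsurj : Function.Surjective ((Fm t).map (π i)).hom := fun y =>
      ⟨((Fm t).map (ι i ≫ h.hom (i + 1) i)).hom y, by
        have := congrArg (fun φ => φ.hom y) h1
        simpa using this⟩
    have hinj : Function.Injective ((Fm t).map (ι i)).hom := by
      apply Function.LeftInverse.injective (g := ((Fm t).map (h.hom (i + 1) i ≫ π i)).hom)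
      intro y
      have := congrArg (fun φ => φ.hom y) h2
      simpa using this
    have hrange : LinearMap.range (((FC t).obj W).d i (i + 1)).hom =
        LinearMap.range ((Fm t).map (ι i)).hom := by
      rw [hd]
      show LinearMap.range (((Fm t).map (ι i)).hom ∘ₗ ((Fm t).map (π i)).hom) = _
      exact LinearMap.range_comp_of_range_eq_top _ (LinearMap.range_eq_top.2 hsurj)
    have hfree : Module.Free (Localization.Away t) ((Fm t).obj (Bd i)) := hfree
    exact Module.Free.of_equiv ((LinearEquiv.ofInjective ((Fm t).map (ι i)).hom hinj).trans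
      (LinearEquiv.ofEq _ _ hrange.symm))

theorem main (p : Ideal R) [p.IsPrime]
    (M N : DRing.Cx R) (a b : ℤ) (hM : DRing.VanishesOutside M a b)
    (hN : DRing.VanishesOutside N a b)
    (hMp : DRing.TermwiseFiniteProjective M) (hNp : DRing.TermwiseFiniteProjective N)
    (h : Nonempty (DRing.toD M ≅ DRing.toD N)) :
    ∃ f : R, f ∉ p ∧ ∃ P Q : DRing.Cx (Localization.Away f),
      ((∃ a' b' : ℤ, DRing.VanishesOutside P a' b') ∧ DRing.TermwiseFiniteFree P ∧
          (∀ i : ℤ, Module.Free (Localization.Away f) (LinearMap.range (P.d i (i + 1)).hom)) ∧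
          Nonempty (Homotopy (𝟙 P) 0)) ∧
      ((∃ a' b' : ℤ, DRing.VanishesOutside Q a' b') ∧ DRing.TermwiseFiniteFree Q ∧
          (∀ i : ℤ, Module.Free (Localization.Away f) (LinearMap.range (Q.d i (i + 1)).hom)) ∧
          Nonempty (Homotopy (𝟙 Q) 0)) ∧
      Nonempty ((FC f).obj M ⊞ P ≅ (FC f).obj N ⊞ Q) := by
  obtain ⟨e⟩ := h
  have hMle : M.IsStrictlyLE b := (M.isStrictlyLE_iff b).2 (fun i hi => hM i (Or.inr hi))
  have hNle : N.IsStrictlyLE b := (N.isStrictlyLE_iff b).2 (fun i hi => hN i (Or.inr hi))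
  have hMproj : ∀ i, Projective (M.X i) := fun i => by
    have := (hMp i).2
    infer_instance
  have hNproj : ∀ i, Projective (N.X i) := fun i => by
    have := (hNp i).2
    infer_instance
  have : M.IsKProjective := CochainComplex.isKProjective_of_projective M b
  obtain ⟨α, hα⟩ := BrownD.exists_Q_map_eq_of_isKProjective M N e.hom
  have : QuasiIso α := by
    rw [← DerivedCategory.isIso_Q_map_iff_quasiIso, hα]
    infer_instance
  obtain ⟨C, pC, s, hs, ⟨hC⟩, ⟨e₁⟩⟩ := TrivCx.exists_iso M N b hMproj hNproj α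
  -- the complex `D`
  have hDproj : ∀ i, Projective ((TrivCx.JM M).X i) := fun i =>
    show Projective (M.X i ⊞ M.X (i + 1)) from inferInstance
  have hDle : (TrivCx.JM M).IsStrictlyLE b := TrivCx.isStrictlyLE_JM M b
  have : (TrivCx.JM M).IsKProjective := CochainComplex.isKProjective_of_projective _ b
  let hD : Homotopy (𝟙 (TrivCx.JM M)) 0 :=
    CochainComplex.IsKProjective.homotopyZero _ (UnbRes.JJ_acyclic _)
  have hDfp : DRing.TermwiseFiniteProjective (TrivCx.JM M) := fun i =>
    fp_biprod (M.X i) (M.X (i + 1)) (hMp i) (hMp (i + 1))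
  have hDv : DRing.VanishesOutside (TrivCx.JM M) (a - 1) b := fun i hi =>
    PTower.isZero_biprod (hM i (hi.elim (fun h => Or.inl (by omega)) Or.inr))
      (hM (i + 1) (hi.elim (fun h => Or.inl (by omega)) (fun h => Or.inr (by omega))))
  have hNv : DRing.VanishesOutside N (a - 1) b := fun i hi =>
    hN i (hi.elim (fun h => Or.inl (by omega)) Or.inr)
  have hCfp : DRing.TermwiseFiniteProjective C := fun i =>
    fp_of_retract (s.f i) (pC.f i)
      (by rw [← HomologicalComplex.comp_f, hs, HomologicalComplex.id_f])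
      (fp_biprod_X _ _ i (hDfp i) (hNp i))
  have hCv : DRing.VanishesOutside C (a - 1) b := fun i hi => by
    have hz : IsZero ((TrivCx.JM M ⊞ N).X i) := isZero_biprod_X _ _ i (hDv i hi) (hNv i hi)
    rw [IsZero.iff_id_eq_zero, ← HomologicalComplex.id_f, ← hs, HomologicalComplex.comp_f,
      hz.eq_of_tgt (s.f i) 0, zero_comp]
  obtain ⟨r₁, hr₁, H₁⟩ := contractible_free p C (a - 1) b hCv hCfp hC
  obtain ⟨r₂, hr₂, H₂⟩ := contractible_free p (TrivCx.JM M) (a - 1) b hDv hDfp hD
  have hvan : ∀ (W : DRing.Cx R), DRing.VanishesOutside W (a - 1) b →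
      DRing.VanishesOutside ((FC (r₁ * r₂)).obj W) (a - 1) b := fun W hW i hi =>
    (Fm (r₁ * r₂)).map_isZero (hW i hi)
  have hhtp : ∀ (W : DRing.Cx R), Homotopy (𝟙 W) 0 →
      Nonempty (Homotopy (𝟙 ((FC (r₁ * r₂)).obj W)) 0) := fun W hW =>
    ⟨(Homotopy.ofEq ((FC (r₁ * r₂)).map_id W).symm).trans
      (((Fm (r₁ * r₂)).mapHomotopy hW).trans (Homotopy.ofEq ((FC (r₁ * r₂)).map_zero _ _)))⟩
  refine ⟨r₁ * r₂, fun h => (Ideal.IsPrime.mem_or_mem ‹_› h).elim hr₁ hr₂,
    (FC (r₁ * r₂)).obj C, (FC (r₁ * r₂)).obj (TrivCx.JM M),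
    ⟨⟨a - 1, b, hvan C hCv⟩, (H₁ _ (dvd_mul_right _ _)).1, (H₁ _ (dvd_mul_right _ _)).2,
      hhtp C hC⟩,
    ⟨⟨a - 1, b, hvan _ hDv⟩, (H₂ _ (dvd_mul_left _ _)).1, (H₂ _ (dvd_mul_left _ _)).2,
      hhtp _ hD⟩, ?_⟩
  have : PreservesBinaryBiproducts (FC (r₁ * r₂)) :=
    preservesBinaryBiproducts_of_preservesBiproducts (FC (r₁ * r₂))
  exact ⟨((FC (r₁ * r₂)).mapBiprod M C).symm ≪≫ (FC (r₁ * r₂)).mapIso e₁.symm ≪≫
    (FC (r₁ * r₂)).mapBiprod (TrivCx.JM M) N ≪≫ biprod.braiding _ _⟩

end Groth.Agent.H33.TrivCxMod
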