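import Mathlib
import Groth.Prelude.Def_EtModW
import Groth.Prelude.Def_ARSys
import Groth.Agent.H38.Adic_B

set_option autoImplicit false
universe u v w u₁ v₁ u₂ v₂
open CategoryTheory CategoryTheory.Limits AlgebraicGeometry Opposite

namespace Groth.Agent.H33.UM_ASM11

section general

variable {A : Type w} [CommRing A] {D : Type u₂} [Category.{v₂} D] [Preadditive D] [Linear A D]

theorem cancel_of_isQuot {X Q Y : D} {J : Ideal A} {p : X ⟶ Q} (hp : ARSys.IsQuot J p)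
    (ψ ψ' : Q ⟶ Y) (h : p ≫ ψ = p ≫ ψ') : ψ = ψ' := by
  have hψ : ∀ a ∈ J, a • ψ = 0 := fun a ha => by
    have h1 : a • ψ = (a • 𝟙 Q) ≫ ψ := by rw [Linear.smul_comp, Category.id_comp]
    rw [h1, hp.1 a ha, zero_comp]
  have hφ : ARSys.HomKilledBy J (p ≫ ψ) := fun a ha => by
    rw [← Linear.comp_smul, hψ a ha, comp_zero]
  exact (hp.2 Y (p ≫ ψ) hφ).unique rfl h.symm

theorem homKilledBy_of_target {X Y : D} {J : Ideal A} (hY : ARSys.KilledBy J Y) (φ : X ⟶ Y) :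
    ARSys.HomKilledBy J φ := fun a ha => by
  have h1 : a • φ = φ ≫ (a • 𝟙 Y) := by rw [Linear.comp_smul, Category.comp_id]
  rw [h1, hY a ha, comp_zero]

variable {C : Type u₁} [Category.{v₁} C] [Preadditive C] [Linear A C] [HasLimitsOfShape ℕᵒᵖ D]

theorem full_faithful_of (I : Ideal A) (L : C ⥤ D) [L.Full] [L.Faithful]
    (hK : ∀ G : ARSys.PS C, ARSys.IsAdic I G → ∀ n : ℕ,
      ARSys.KilledBy (I ^ (n + 1)) (L.obj (G.obj (op n))))
    (hQ : ∀ G : ARSys.PS C, ARSys.IsAdic I G → ∀ n : ℕ,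
      ARSys.IsQuot (I ^ (n + 1)) (limit.π (G ⋙ L) (op n))) :
    (ObjectProperty.ι (fun G : ARSys.PS C => ARSys.IsAdic I G) ⋙
      ((Functor.whiskeringRight ℕᵒᵖ C D).obj L ⋙ lim)).Full ∧
    (ObjectProperty.ι (fun G : ARSys.PS C => ARSys.IsAdic I G) ⋙
      ((Functor.whiskeringRight ℕᵒᵖ C D).obj L ⋙ lim)).Faithful := by
  have hQ' : ∀ (G : ObjectProperty.FullSubcategory (fun G : ARSys.PS C => ARSys.IsAdic I G))
      (j : ℕᵒᵖ), ARSys.IsQuot (I ^ (j.unop + 1)) (limit.π (G.obj ⋙ L) j) :=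
    fun G j => hQ G.obj G.property j.unop
  have hK' : ∀ (G : ObjectProperty.FullSubcategory (fun G : ARSys.PS C => ARSys.IsAdic I G))
      (j : ℕᵒᵖ), ARSys.KilledBy (I ^ (j.unop + 1)) (L.obj (G.obj.obj j)) :=
    fun G j => hK G.obj G.property j.unop
  have key : ∀ {G G' : ObjectProperty.FullSubcategory (fun G : ARSys.PS C => ARSys.IsAdic I G)}
      (α : G ⟶ G') (j : ℕᵒᵖ),
      (ObjectProperty.ι (fun G : ARSys.PS C => ARSys.IsAdic I G) ⋙
        ((Functor.whiskeringRight ℕᵒᵖ C D).obj L ⋙ lim)).map α ≫ limit.π (G'.obj ⋙ L) j =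
      limit.π (G.obj ⋙ L) j ≫ L.map (α.hom.app j) := by
    intro G G' α j
    exact limMap_π (Functor.whiskerRight α.hom L) j
  refine ⟨⟨?_⟩, ⟨?_⟩⟩
  · intro G G' f
    have hex : ∀ j : ℕᵒᵖ, ∃! ψ : L.obj (G.obj.obj j) ⟶ L.obj (G'.obj.obj j),
        limit.π (G.obj ⋙ L) j ≫ ψ = f ≫ limit.π (G'.obj ⋙ L) j := fun j =>
      (hQ' G j).2 _ _ (homKilledBy_of_target (hK' G' j) _)
    choose ψ hψ _ using hex
    have hnat : ∀ {j j' : ℕᵒᵖ} (φ : j ⟶ j'),
        G.obj.map φ ≫ L.preimage (ψ j') = L.preimage (ψ j) ≫ G'.obj.map φ := by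
      intro j j' φ
      apply L.map_injective
      rw [L.map_comp, L.map_comp, L.map_preimage, L.map_preimage]
      apply cancel_of_isQuot (hQ' G j)
      have w1 : limit.π (G.obj ⋙ L) j ≫ L.map (G.obj.map φ) = limit.π (G.obj ⋙ L) j' :=
        limit.w (G.obj ⋙ L) φ
      have w2 : limit.π (G'.obj ⋙ L) j ≫ L.map (G'.obj.map φ) = limit.π (G'.obj ⋙ L) j' :=
        limit.w (G'.obj ⋙ L) φ
      rw [← Category.assoc, w1, hψ j', ← Category.assoc, hψ j, Category.assoc, w2]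
    refine ⟨ObjectProperty.homMk
      { app := fun j => L.preimage (ψ j), naturality := fun _ _ φ => hnat φ }, ?_⟩
    refine limit.hom_ext (F := G'.obj ⋙ L) (fun j => ?_)
    rw [key]
    show limit.π (G.obj ⋙ L) j ≫ L.map (L.preimage (ψ j)) = _
    rw [L.map_preimage, hψ j]
  · intro G G' α β h
    apply ObjectProperty.hom_ext
    ext j
    apply L.map_injective
    apply cancel_of_isQuot (hQ' G j)
    rw [← key α j, ← key β j, h]

end general

theorem s14011_of (Λ : Type (u + 1)) [CommRing Λ] (I : Ideal Λ) (X : Scheme.{u}) [ProEtS.EpsCont X]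
    (hQ : ∀ G : ARSys.PS (EtModW.Mod Λ X), ARSys.IsAdic I G → ∀ n : ℕ,
      ARSys.IsQuot (I ^ (n + 1)) (limit.π (G ⋙ EtModW.epsPullMod Λ X) (op n)))
    (hfull : (EtModW.epsPullMod Λ X).Full) (hfaith : (EtModW.epsPullMod Λ X).Faithful) :
    (ObjectProperty.ι (fun G : ARSys.PS (EtModW.Mod Λ X) => ARSys.IsAdic I G) ⋙
      ((Functor.whiskeringRight ℕᵒᵖ (EtModW.Mod Λ X) (EtModW.ModP Λ X)).obj
        (EtModW.epsPullMod Λ X) ⋙ lim)).Full ∧
    (ObjectProperty.ι (fun G : ARSys.PS (EtModW.Mod Λ X) => ARSys.IsAdic I G) ⋙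
      ((Functor.whiskeringRight ℕᵒᵖ (EtModW.Mod Λ X) (EtModW.ModP Λ X)).obj
        (EtModW.epsPullMod Λ X) ⋙ lim)).Faithful := by
  haveI := hfull
  haveI := hfaith
  exact full_faithful_of I (EtModW.epsPullMod Λ X)
    (fun G hG n => (Groth.Agent.H38.Adic_B.isAdic_epsPullMod Λ I G hG).1 n) hQ

end Groth.Agent.H33.UM_ASM11
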