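import Mathlib
import Groth.Prelude.Def_PBC
import Groth.Prelude.Def_ProEtS

/-!
# (E3a) for helper23's S0732 squad: a finite jointly surjective family of quasi-compact
morphisms in the small pro-étale site generates a covering sieve.
-/

set_option autoImplicit false
set_option backward.isDefEq.respectTransparency.types false
universe u
open CategoryTheory CategoryTheory.Limits AlgebraicGeometry Opposite

namespace Groth.Agent.H33.WC_E3a

theorem generate_mem_of_finite {X : Scheme.{u}} (V : X.ProEt) {ι : Type} [Finite ι]
    (Z : ι → X.ProEt) (g : ∀ k, Z k ⟶ V) (hqc : ∀ k, QuasiCompact (g k).left)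
    (hsurj : ∀ v : ↥V.left, ∃ k, v ∈ Set.range (g k).left) :
    Sieve.generate (Presieve.ofArrows Z g) ∈ Scheme.ProEt.topology X V := by
  have hwe : ∀ k, WeaklyEtale (g k).left := fun k => by
    haveI : WeaklyEtale ((g k).left ≫ V.hom) := by
      rw [MorphismProperty.Over.w (g k)]
      infer_instance
    exact WeaklyEtale.of_comp (g k).left V.hom
  let E0 : Scheme.Cover (Scheme.precoverage @WeaklyEtale) V.left :=
    Scheme.Cover.mkOfCovers ι (fun k => (Z k).left) (fun k => (g k).left)
      (fun v => by
        obtain ⟨k, y, hy⟩ := hsurj v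
        exact ⟨k, y, hy⟩) hwe
  haveI : Finite E0.I₀ := ‹Finite ι›
  haveI : ∀ i, QuasiCompact (E0.f i) := hqc
  haveI : QuasiCompactCover E0.toPreZeroHypercover := QuasiCompactCover.of_finite
  let E : Scheme.Cover Scheme.proetalePrecoverage V.left :=
    Scheme.Cover.ofQuasiCompactCover E0
  have hR : Presieve.ofArrows Z g ∈ Scheme.ProEt.precoverage X V := by
    simp only [Scheme.ProEt.precoverage, Precoverage.mem_comap_iff, Presieve.map_ofArrows]
    exact E.mem₀
  exact Precoverage.generate_mem_toGrothendieck hR

end Groth.Agent.H33.WC_E3a
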