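import Mathlib
import Groth.Prelude.Def_PBC
import Groth.Prelude.Def_ProEtS
import Groth.Agent.H23.WCDefs

/-!
# Helper library (helper33, for helper23's S0715 squad): (L8) sections from weak contractibility.
-/

set_option autoImplicit false
universe u v
open CategoryTheory CategoryTheory.Limits AlgebraicGeometry Opposite
open Groth.Agent.H23.WCDefs

set_option backward.isDefEq.respectTransparency.types false

namespace Groth.Agent.H33.WC_L8

theorem exists_section_of_isWC {X : Scheme.{u}} (U : X.ProEt) (hU : ProEtS.IsWC U)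
    (Y : Scheme.{u}) [IsAffine Y] (q : Y ⟶ U.left) [WeaklyEtale q] [Surjective q]
    [QuasiCompact q] : ∃ σ : U.left ⟶ Y, σ ≫ q = 𝟙 U.left := by
  haveI hqU : WeaklyEtale (q ≫ U.hom) := inferInstance
  let V : X.ProEt := Scheme.ProEt.mk (q ≫ U.hom)
  let π : V ⟶ U := MorphismProperty.Over.homMk (A := V) (B := U) q rfl trivial
  let J := Scheme.ProEt.topology X
  let F : Sheaf J (Type (u + 1)) := (GrothendieckTopology.uliftYoneda.{u + 1} J).obj V
  let G : Sheaf J (Type (u + 1)) := (GrothendieckTopology.uliftYoneda.{u + 1} J).obj U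
  let φ : F ⟶ G := (GrothendieckTopology.uliftYoneda.{u + 1} J).map π
  -- the singleton `π` is covering
  have hcov : Sieve.generate (Presieve.singleton π) ∈ J U := by
    apply Precoverage.generate_mem_toGrothendieck
    simp only [Scheme.ProEt.precoverage, Precoverage.mem_comap_iff, Presieve.map_singleton]
    exact Scheme.Hom.singleton_mem_propQCPrecoverage (P := @WeaklyEtale) (f := q) inferInstance
  haveI hls : Sheaf.IsLocallySurjective φ := by
    refine ⟨fun {W} s => ?_⟩
    have hpb : Sieve.pullback s.down (Sieve.generate (Presieve.singleton π)) ∈ J W :=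
      J.pullback_stable s.down hcov
    refine J.superset_covering ?_ hpb
    rintro Z g ⟨Z', a, b, hb, hab⟩
    obtain ⟨⟩ := hb
    exact ⟨ULift.up a, by
      apply ULift.ext
      exact hab⟩
  haveI : Epi φ := inferInstance
  obtain ⟨t, ht⟩ := hU F G φ inferInstance (ULift.up (𝟙 U))
  have ht' : t.down ≫ π = 𝟙 U := congrArg ULift.down ht
  refine ⟨t.down.left, ?_⟩
  have := congrArg (fun f => f.left) ht'
  exact this

end Groth.Agent.H33.WC_L8
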