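import Mathlib
import Groth.Agent.H65.DetExp

/-!
# Squad lemma (ALG) for helper74 (S15452/S15453): the zeta function as an alternating product of
reversed characteristic polynomials, from the trace formula for the point counts.
-/

set_option autoImplicit false
universe u v w
open CategoryTheory CategoryTheory.Limits AlgebraicGeometry

namespace Groth.Agent.H33.ZF_ALG

open PowerSeries

section
variable {K : Type*} [Field K] [CharZero K]

theorem logDeriv_prod {ι : Type*} (s : Finset ι) (y w : ι → PowerSeries K)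
    (h : ∀ i ∈ s, d⁄dX K (y i) = y i * w i) :
    d⁄dX K (∏ i ∈ s, y i) = (∏ i ∈ s, y i) * ∑ i ∈ s, w i := by
  classical
  induction s using Finset.induction_on with
  | empty =>
    rw [Finset.prod_empty, Finset.sum_empty, mul_zero]
    exact PowerSeries.derivative_one
  | insert a s ha ih =>
    rw [Finset.prod_insert ha, Finset.sum_insert ha, Derivation.leibniz,
      ih (fun i hi => h i (Finset.mem_insert_of_mem hi)), h a (Finset.mem_insert_self a s)]
    simp only [smul_eq_mul]
    ring

theorem constantCoeff_prod_eq_one {ι : Type*} (s : Finset ι) (y : ι → PowerSeries K)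
    (h : ∀ i ∈ s, constantCoeff (y i) = 1) : constantCoeff (∏ i ∈ s, y i) = 1 := by
  rw [map_prod]
  exact Finset.prod_eq_one h

theorem sum_range_even_odd {M : Type*} [AddCommMonoid M] (f : ℕ → M) (n : ℕ) :
    ∑ j ∈ Finset.range (2 * n + 1), f j =
      ∑ i ∈ Finset.range (n + 1), f (2 * i) + ∑ i ∈ Finset.range n, f (2 * i + 1) := by
  induction n with
  | zero => simp
  | succ n ih =>
    have h1 : 2 * (n + 1) + 1 = (2 * n + 1) + 1 + 1 := by ring
    have h2 : 2 * (n + 1) = 2 * n + 1 + 1 := by ring
    rw [h1, Finset.sum_range_succ, Finset.sum_range_succ, ih,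
      Finset.sum_range_succ (fun i => f (2 * i)) (n + 1),
      Finset.sum_range_succ (fun i => f (2 * i + 1)) n, h2]
    abel

/-- the series `∑ tr(φ^(m+1)) t^m` -/
noncomputable def trSer {V : Type*} [AddCommGroup V] [Module K V] (φ : V →ₗ[K] V) :
    PowerSeries K :=
  PowerSeries.mk fun m => LinearMap.trace K V (φ ^ (m + 1))

theorem charpoly_reverse_data {V : Type*} [AddCommGroup V] [Module K V] [Module.Finite K V]
    (φ : V →ₗ[K] V) :
    d⁄dX K (((φ.charpoly.reverse : Polynomial K)) : PowerSeries K) =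
      ((φ.charpoly.reverse : Polynomial K) : PowerSeries K) * (-(trSer φ)) ∧
    constantCoeff ((φ.charpoly.reverse : Polynomial K) : PowerSeries K) = 1 := by
  have h1 : φ.charpoly.reverse =
      (LinearMap.toMatrix (Module.Free.chooseBasis K V) (Module.Free.chooseBasis K V)
        φ).charpolyRev := by
    rw [LinearMap.charpoly_def, ← Matrix.reverse_charpoly]
  have h2 : ∀ m, LinearMap.trace K V (φ ^ m) =
      Matrix.trace ((LinearMap.toMatrix (Module.Free.chooseBasis K V)
        (Module.Free.chooseBasis K V) φ) ^ m) := by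
    intro m
    rw [LinearMap.trace_eq_matrix_trace K (Module.Free.chooseBasis K V), LinearMap.toMatrix_pow]
  constructor
  · rw [h1, PowerSeries.derivative_coe, Groth.Agent.H65.coe_derivative_charpolyRev, trSer]
    simp only [h2]
    ring
  · rw [h1, ← PowerSeries.coeff_zero_eq_constantCoeff_apply, Polynomial.coeff_coe,
      Polynomial.coeff_zero_eq_eval_zero, Matrix.eval_charpolyRev]

theorem constantCoeff_exp_subst' {A : Type*} [CommRing A] [Algebra ℚ A] {u : PowerSeries A}
    (hu : constantCoeff u = 0) :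
    constantCoeff (PowerSeries.subst u (PowerSeries.exp A)) = 1 := by
  have hs : HasSubst u := HasSubst.of_constantCoeff_zero' hu
  have h1 : PowerSeries.subst u (PowerSeries.exp A) =
      PowerSeries.subst u (PowerSeries.exp A - 1) + 1 := by
    have : PowerSeries.subst u (1 : PowerSeries A) = 1 := by
      rw [← coe_substAlgHom hs, map_one]
    rw [subst_sub hs, this, sub_add_cancel]
  have h2 : constantCoeff (PowerSeries.subst u (PowerSeries.exp A - 1) : PowerSeries A) = 0 :=
    constantCoeff_subst_eq_zero hu _ (by simp)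
  rw [h1, map_add, h2, map_one, zero_add]

theorem zeta_data (N : ℕ → ℕ) :
    d⁄dX K (PowerSeries.map (algebraMap ℚ K)
        (PowerSeries.subst (PowerSeries.mk fun m => (N m : ℚ) / m) (PowerSeries.exp ℚ))) =
      (PowerSeries.map (algebraMap ℚ K)
        (PowerSeries.subst (PowerSeries.mk fun m => (N m : ℚ) / m) (PowerSeries.exp ℚ))) *
        (PowerSeries.mk fun m => (N (m + 1) : K)) ∧
    constantCoeff (PowerSeries.map (algebraMap ℚ K)
        (PowerSeries.subst (PowerSeries.mk fun m => (N m : ℚ) / m) (PowerSeries.exp ℚ))) = 1 := by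
  have hu : constantCoeff (PowerSeries.mk fun m : ℕ => (N m : ℚ) / m) = 0 := by
    rw [← PowerSeries.coeff_zero_eq_constantCoeff_apply, PowerSeries.coeff_mk]
    simp
  have hs : HasSubst (PowerSeries.mk fun m : ℕ => (N m : ℚ) / m) :=
    HasSubst.of_constantCoeff_zero' hu
  have hd : d⁄dX ℚ (PowerSeries.mk fun m : ℕ => (N m : ℚ) / m) =
      PowerSeries.mk fun m => (N (m + 1) : ℚ) := by
    ext m
    rw [PowerSeries.coeff_derivative, PowerSeries.coeff_mk, PowerSeries.coeff_mk]
    have hm : ((m + 1 : ℕ) : ℚ) ≠ 0 := Nat.cast_ne_zero.mpr (Nat.succ_ne_zero m)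
    push_cast at hm ⊢
    field_simp
  have hdZ : d⁄dX ℚ (PowerSeries.subst (PowerSeries.mk fun m : ℕ => (N m : ℚ) / m)
      (PowerSeries.exp ℚ)) =
      PowerSeries.subst (PowerSeries.mk fun m : ℕ => (N m : ℚ) / m) (PowerSeries.exp ℚ) *
        PowerSeries.mk fun m => (N (m + 1) : ℚ) := by
    rw [PowerSeries.derivative_subst hs, PowerSeries.derivative_exp, hd]
  have hmapd : ∀ y : PowerSeries ℚ, d⁄dX K (PowerSeries.map (algebraMap ℚ K) y) =
      PowerSeries.map (algebraMap ℚ K) (d⁄dX ℚ y) := by
    intro y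
    ext m
    rw [PowerSeries.coeff_derivative, PowerSeries.coeff_map, PowerSeries.coeff_map,
      PowerSeries.coeff_derivative, map_mul, map_add, map_natCast, map_one]
  constructor
  · rw [hmapd, hdZ, map_mul]
    congr 1
    ext m
    rw [PowerSeries.coeff_map, PowerSeries.coeff_mk, PowerSeries.coeff_mk, map_natCast]
  · rw [← PowerSeries.coeff_zero_eq_constantCoeff_apply, PowerSeries.coeff_map,
      PowerSeries.coeff_zero_eq_constantCoeff_apply, constantCoeff_exp_subst' hu,
      map_one]

end

/-- (ALG) -/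
theorem alg_zeta {K : Type v} [Field K] [CharZero K] (n : ℕ) (V : ℕ → Type w)
    [∀ i, AddCommGroup (V i)] [∀ i, Module K (V i)] [∀ i, Module.Finite K (V i)]
    (φ : ∀ i, V i →ₗ[K] V i) (N : ℕ → ℕ)
    (hN : ∀ m, 1 ≤ m → (N m : K) = ∑ i ∈ Finset.range (2 * n + 1),
      (-1 : K) ^ i * LinearMap.trace K (V i) ((φ i) ^ m)) :
    PowerSeries.map (algebraMap ℚ K)
        (PowerSeries.subst (PowerSeries.mk fun m => (N m : ℚ) / m) (PowerSeries.exp ℚ)) *
      ∏ i ∈ Finset.range (n + 1),
        (((φ (2 * i)).charpoly.reverse : Polynomial K) : PowerSeries K) =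
    ∏ i ∈ Finset.range n,
      (((φ (2 * i + 1)).charpoly.reverse : Polynomial K) : PowerSeries K) := by
  obtain ⟨hZd, hZ0⟩ := zeta_data (K := K) N
  have hE : d⁄dX K (∏ i ∈ Finset.range (n + 1),
        (((φ (2 * i)).charpoly.reverse : Polynomial K) : PowerSeries K)) =
      (∏ i ∈ Finset.range (n + 1),
        (((φ (2 * i)).charpoly.reverse : Polynomial K) : PowerSeries K)) *
        ∑ i ∈ Finset.range (n + 1), -(trSer (φ (2 * i))) :=
    logDeriv_prod _ _ _ (fun i _ => (charpoly_reverse_data (φ (2 * i))).1)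
  have hO : d⁄dX K (∏ i ∈ Finset.range n,
        (((φ (2 * i + 1)).charpoly.reverse : Polynomial K) : PowerSeries K)) =
      (∏ i ∈ Finset.range n,
        (((φ (2 * i + 1)).charpoly.reverse : Polynomial K) : PowerSeries K)) *
        ∑ i ∈ Finset.range n, -(trSer (φ (2 * i + 1))) :=
    logDeriv_prod _ _ _ (fun i _ => (charpoly_reverse_data (φ (2 * i + 1))).1)
  have hE0 : constantCoeff (∏ i ∈ Finset.range (n + 1),
        (((φ (2 * i)).charpoly.reverse : Polynomial K) : PowerSeries K)) = 1 :=
    constantCoeff_prod_eq_one _ _ (fun i _ => (charpoly_reverse_data (φ (2 * i))).2)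
  have hO0 : constantCoeff (∏ i ∈ Finset.range n,
        (((φ (2 * i + 1)).charpoly.reverse : Polynomial K) : PowerSeries K)) = 1 :=
    constantCoeff_prod_eq_one _ _ (fun i _ => (charpoly_reverse_data (φ (2 * i + 1))).2)
  have hU : (PowerSeries.mk fun m => (N (m + 1) : K)) =
      ∑ i ∈ Finset.range (n + 1), trSer (φ (2 * i)) +
        ∑ i ∈ Finset.range n, -(trSer (φ (2 * i + 1))) := by
    ext m
    rw [PowerSeries.coeff_mk, map_add, map_sum, map_sum, hN (m + 1) (by omega),
      sum_range_even_odd]
    congr 1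
    · refine Finset.sum_congr rfl fun i _ => ?_
      rw [trSer, PowerSeries.coeff_mk, pow_mul, neg_one_sq, one_pow, one_mul]
    · refine Finset.sum_congr rfl fun i _ => ?_
      rw [map_neg, trSer, PowerSeries.coeff_mk, pow_succ, pow_mul, neg_one_sq, one_pow, one_mul,
        neg_one_mul]
  apply Groth.Agent.H65.ode_unique' (w := ∑ i ∈ Finset.range n, -(trSer (φ (2 * i + 1))))
  · rw [Derivation.leibniz, hE, hZd, hU]
    simp only [smul_eq_mul, Finset.sum_neg_distrib]
    ring
  · exact hO
  · rw [map_mul, hZ0, hE0, one_mul]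
  · exact hO0

end Groth.Agent.H33.ZF_ALG
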